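import Cfsg.Agent.Lib.PLocal.JZMinimal
import Cfsg.Agent.Lib.FusionControl.NPC

/-!
Thompson's normal `p`-complement criterion for the centre and the abelian Thompson subgroup.
-/

set_option autoImplicit false
set_option linter.unusedSectionVars false
set_option linter.style.haveILetI false

universe u

namespace Cfsg.Agent.Lib.PLocal

open Cfsg.Agent.Lib.FusionControl
open Cfsg.Agent.Lib.Transfer (hasNormalPComplement_iff_coprime hasNormalPComplement_congr
  hasNormalPComplement_of_le hasNormalPComplement_of_surjective)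

variable {p : ℕ} [Fact p.Prime]

theorem map_thompsonSubgroupAOf {G H : Type*} [Group G] [Group H] (f : G →* H)
    (hf : Function.Injective f) (S : Subgroup G) :
    (Cfsg.thompsonSubgroupAOf S).map f = Cfsg.thompsonSubgroupAOf (S.map f) := by
  rw [FusionNpc.thompsonSubgroupAOf_eq_sSup, FusionNpc.thompsonSubgroupAOf_eq_sSup,
    (Subgroup.gc_map_comap f).l_sSup]
  refine le_antisymm (iSup₂_le fun A hA => le_sSup (maxIn_map f hf hA)) (sSup_le fun A hA => ?_)
  have hAr : A ≤ f.range := hA.1.trans fun y ⟨s, _, hs⟩ => ⟨s, hs⟩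
  have hA' : (A.comap f).map f = A := Subgroup.map_comap_eq_self hAr
  refine le_iSup₂_of_le (A.comap f) ⟨fun y hy => ?_, elemAb_of_map hf (by rw [hA']; exact hA.2.1),
    fun B hB hBe => ?_⟩ hA'.ge
  · obtain ⟨s, hs, hse⟩ := hA.1 hy
    exact hf hse ▸ hs
  · have h2 := hA.2.2 (B.map f) (Subgroup.map_mono hB) (elemAb_map hBe f)
    rwa [← hA', Subgroup.card_map_of_injective hf, Subgroup.card_map_of_injective hf] at h2

theorem inducedFunctor_center {G : Type u} [Group G] (P : Subgroup G) :
    Cfsg.inducedFunctor (fun Q [Group Q] => Subgroup.center Q) P =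
      P ⊓ Subgroup.centralizer (P : Set G) := by
  ext x
  constructor
  · rintro ⟨⟨y, hy⟩, hc, rfl⟩
    exact ⟨hy, fun s hs => congrArg Subtype.val (Subgroup.mem_center_iff.1 hc ⟨s, hs⟩)⟩
  · rintro ⟨hx, hc⟩
    exact ⟨⟨x, hx⟩, Subgroup.mem_center_iff.2 fun s => Subtype.ext (hc s s.2), rfl⟩

theorem isCharPFunctor_center :
    Cfsg.IsCharPFunctor.{u} p (fun Q [Group Q] => Subgroup.center Q) := by
  refine ⟨fun Q _ _ hQ hnt h => ?_, fun Q R _ _ _ _ φ => ?_⟩
  · exact (Subgroup.nontrivial_iff_ne_bot _).1 hQ.center_nontrivial h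
  · ext x
    simp only [Subgroup.mem_center_iff, Subgroup.mem_map]
    constructor
    · rintro ⟨y, hy, rfl⟩ g
      obtain ⟨g, rfl⟩ := φ.surjective g
      show φ g * φ y = φ y * φ g
      rw [← map_mul, ← map_mul, hy g]
    · intro h
      exact ⟨φ.symm x, fun g => φ.injective (by simpa using h (φ g)), φ.apply_symm_apply x⟩

theorem isCharPFunctor_thompsonA :
    Cfsg.IsCharPFunctor.{u} p (fun Q [Group Q] => Cfsg.thompsonSubgroupA Q) := by
  refine ⟨fun Q _ _ hQ hnt h => ?_, fun Q R _ _ _ _ φ => ?_⟩
  · obtain ⟨A, hA⟩ := exists_maxIn 0 (⊤ : Subgroup Q)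
    have h1 : A ≤ Cfsg.thompsonSubgroupA Q :=
      le_sSup ⟨hA.2.1.1, fun B hB => hA.2.2 B le_top (elemAb_zero hB)⟩
    replace h : Cfsg.thompsonSubgroupA Q = ⊥ := h
    rw [h, le_bot_iff] at h1
    have h2 := hA.2.2 (Subgroup.center Q) le_top (elemAb_zero inferInstance)
    rw [h1, Subgroup.card_bot] at h2
    exact not_le_of_gt (Subgroup.one_lt_card_iff_ne_bot _ |>.2
      ((Subgroup.nontrivial_iff_ne_bot _).1 hQ.center_nontrivial)) h2
  · have key : ∀ {X Y : Type u} [Group X] [Group Y] (e : X ≃* Y) (A : Subgroup X),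
        A ∈ Cfsg.maxAbelianSubgroups X → A.map e.toMonoidHom ∈ Cfsg.maxAbelianSubgroups Y := by
      intro X Y _ _ e A hA
      refine ⟨(elemAb_map (elemAb_zero hA.1) e.toMonoidHom).1, fun B hB => ?_⟩
      rw [Subgroup.card_map_of_injective e.injective]
      have h2 := hA.2 (B.map e.symm.toMonoidHom) (elemAb_map (elemAb_zero hB) e.symm.toMonoidHom).1
      rwa [Subgroup.card_map_of_injective e.symm.injective] at h2
    show (sSup (Cfsg.maxAbelianSubgroups Q)).map φ.toMonoidHom = sSup (Cfsg.maxAbelianSubgroups R)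
    rw [(Subgroup.gc_map_comap φ.toMonoidHom).l_sSup]
    refine le_antisymm (iSup₂_le fun A hA => le_sSup (key φ A hA)) (sSup_le fun B hB => ?_)
    refine le_iSup₂_of_le (B.map φ.symm.toMonoidHom) (key φ.symm B hB) (fun b hb => ?_)
    exact ⟨φ.symm b, ⟨b, hb, rfl⟩, φ.apply_symm_apply b⟩

/-- both local subgroups of a Sylow subgroup, inside `H` -/
theorem npc_center_of_injective {X H : Type u} [Group X] [Finite X] [Group H] [Finite H] (f : H →* X)
    (hf : Function.Injective f) (T : Subgroup H)
    (h : Cfsg.HasNormalPComplement p ↥(Subgroup.centralizer ((T.map f ⊓ Subgroup.centralizer ((T.map f : Subgroup X) : Set X) : Subgroup X) : Set X))) :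
    Cfsg.HasNormalPComplement p ↥(Subgroup.centralizer ((T ⊓ Subgroup.centralizer (T : Set H) : Subgroup H) : Set H)) := by
  refine (hasNormalPComplement_congr (Subgroup.equivMapOfInjective _ f hf)).2 ?_
  refine hasNormalPComplement_of_le ?_ h
  rintro _ ⟨x, hx, rfl⟩
  rw [Subgroup.mem_centralizer_iff]
  rintro _ ⟨⟨z, hz, rfl⟩, hc⟩
  rw [← map_mul, ← map_mul, hx z ⟨hz, fun t ht => hf (by rw [map_mul, map_mul]; exact hc (f t) ⟨t, ht, rfl⟩)⟩]

theorem npc_thompson_of_injective {X H : Type u} [Group X] [Finite X] [Group H] [Finite H] (f : H →* X)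
    (hf : Function.Injective f) (T : Subgroup H)
    (h : Cfsg.HasNormalPComplement p ↥(Subgroup.normalizer (Cfsg.thompsonSubgroupAOf (T.map f) : Set X))) :
    Cfsg.HasNormalPComplement p ↥(Subgroup.normalizer (Cfsg.thompsonSubgroupAOf T : Set H)) := by
  refine (hasNormalPComplement_congr (Subgroup.equivMapOfInjective _ f hf)).2 ?_
  refine hasNormalPComplement_of_le ?_ h
  rw [← map_thompsonSubgroupAOf f hf]
  exact Subgroup.le_normalizer_map f

theorem involves_four_of_involves {G L : Type*} [Group G] [Group L] (hL : Cfsg.Involves L G)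
    (h : Cfsg.Involves (Equiv.Perm (Fin 4)) L) : Cfsg.Involves (Equiv.Perm (Fin 4)) G := by
  obtain ⟨K, f, hf⟩ := Fusion.exists_surjective_of_involves hL
  obtain ⟨K', f', hf'⟩ := Fusion.exists_surjective_of_involves h
  let e := (K'.comap f).equivMapOfInjective K.subtype K.subtype_injective
  exact Fusion.involves_of_surjective _ ((f'.comp (f.subgroupComap K')).comp e.symm.toMonoidHom)
    ((hf'.comp (MonoidHom.subgroupComap_surjective_of_surjective f K' hf)).comp e.symm.surjective)

theorem centralizer_le_normalizer' {X : Type*} [Group X] (U : Subgroup X) :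
    Subgroup.centralizer (U : Set X) ≤ Subgroup.normalizer (U : Set X) := fun x hx => by
  rw [Subgroup.mem_normalizer_iff]
  intro u
  constructor
  · intro hu; rwa [← hx u hu, mul_inv_cancel_right]
  · intro hu
    have h2 := hx _ hu
    have h3 : x * u * x⁻¹ = u := by
      calc x * u * x⁻¹ = x⁻¹ * (x * (x * u * x⁻¹)) := by group
        _ = x⁻¹ * ((x * u * x⁻¹) * x) := by rw [← h2]
        _ = u := by group
    rwa [h3] at hu

/-- with trivial `p'`-core, a `p`-nilpotent top gives a self-centralizing core -/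
theorem charPType_of_npc {Y : Type u} [Group Y] [Finite Y] (hO : Cfsg.pPrimeCore p Y = ⊥)
    (hnpcQ : Cfsg.HasNormalPComplement p (Y ⧸ Cfsg.pCore p Y)) : CharPType p Y := by
  obtain ⟨S⟩ : Nonempty (Sylow p Y) := inferInstance
  set Q := Cfsg.pCore p Y with hQdef
  set f := QuotientGroup.mk' Q with hf
  set C := Subgroup.centralizer (Q : Set Y) with hCdef
  set M := (Cfsg.pResidual p (Y ⧸ Q)).comap f with hM
  have hcop := hasNormalPComplement_iff_coprime.1 hnpcQ
  set CM := C ⊓ M with hCM
  have hQn : Q.Normal := by rw [hQdef]; infer_instance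
  have hCn : C.Normal := by rw [hCdef]; infer_instance
  have hMn : M.Normal := by rw [hM]; infer_instance
  have hi : ¬ p ∣ ((S : Subgroup Y) ⊓ CM).relIndex CM :=
    not_dvd_relIndex_inf le_top S.2 (sylow_relIndex_top S) le_top (by rw [Subgroup.normalizer_eq_top])
  let P : Sylow p CM := ((S.2.to_le inf_le_left).comap_of_injective CM.subtype CM.subtype_injective :
    IsPGroup p (((S : Subgroup Y) ⊓ CM).subgroupOf CM)).toSylow hi
  have hPQ : ∀ z : CM, z ∈ (P : Subgroup CM) → (z : Y) ∈ Q := by
    intro z hz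
    have hzS : (z : Y) ∈ (S : Subgroup Y) := (Subgroup.mem_inf.1 (Subgroup.mem_subgroupOf.1 hz)).1
    have : f z = 1 := Cfsg.Agent.Lib.Transfer.eq_one_of_isPGroup_of_coprime (S.2.map f) ⟨_, hzS, rfl⟩
      (Cfsg.Agent.Lib.Transfer.coprime_orderOf_of_mem hcop (Subgroup.mem_inf.1 z.2).2)
    exact (QuotientGroup.eq_one_iff _).1 this
  have hcent : Subgroup.normalizer ((P : Subgroup CM) : Set CM) ≤ Subgroup.centralizer ((P : Subgroup CM) : Set CM) := by
    intro c _
    rw [Subgroup.mem_centralizer_iff]
    intro z hz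
    exact Subtype.ext (Subgroup.mem_centralizer_iff.1 (Subgroup.mem_inf.1 c.2).1 _ (hPQ z hz))
  have hnpc := Cfsg.Agent.Lib.Transfer.hasNormalPComplement_of_normalizer_le_centralizer P hcent
  rw [hasNormalPComplement_iff_coprime] at hnpc
  have hbot : Cfsg.pResidual p CM = ⊥ := by
    rw [← Subgroup.map_eq_bot_iff_of_injective _ CM.subtype_injective, eq_bot_iff, ← hO]
    refine Cfsg.Agent.Lib.Cores.le_pPrimeCore inferInstance ?_
    rwa [Subgroup.card_map_of_injective CM.subtype_injective]
  have htop := Cfsg.Agent.Lib.Transfer.sylow_sup_pResidual P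
  rw [hbot, sup_bot_eq] at htop
  have hCMQ : ∀ c ∈ C, c ∈ M → c ∈ Q := fun c h1 h2 =>
    hPQ ⟨c, Subgroup.mem_inf.2 ⟨h1, h2⟩⟩ (htop ▸ Subgroup.mem_top _)
  intro c hc
  have hCp : IsPGroup p C := by
    intro ⟨c, hc⟩
    obtain ⟨j, hj⟩ := Cfsg.Agent.Lib.Transfer.isPGroup_quotient_pResidual (G := Y ⧸ Q) (p := p) (QuotientGroup.mk (f c))
    rw [← QuotientGroup.mk_pow, QuotientGroup.eq_one_iff, ← map_pow] at hj
    have hq := hCMQ _ (pow_mem hc (p ^ j)) hj
    obtain ⟨i, hi⟩ := Cfsg.Agent.Lib.Cores.pCore_isPGroup p Y ⟨_, hq⟩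
    exact ⟨j + i, Subtype.ext (by have := congrArg Subtype.val hi; simpa [pow_add, pow_mul] using this)⟩
  exact Cfsg.Agent.Lib.Cores.le_pCore hCn hCp hc

/-- Thompson's criterion for the pair, by induction -/
theorem npc_of_pair {G : Type u} [Group G] [Finite G]
    (hp : p ≠ 2 ∨ ¬ Cfsg.Involves (Equiv.Perm (Fin 4)) G) :
    ∀ (n : ℕ) (Y : Type u) [Group Y] [Finite Y], Nat.card Y = n → Cfsg.Involves Y G → ∀ S : Sylow p Y,
      Cfsg.HasNormalPComplement p ↥(Subgroup.centralizer (((S : Subgroup Y) ⊓ Subgroup.centralizer ((S : Subgroup Y) : Set Y) : Subgroup Y) : Set Y)) →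
      Cfsg.HasNormalPComplement p ↥(Subgroup.normalizer (Cfsg.thompsonSubgroupAOf (S : Subgroup Y) : Set Y)) →
      Cfsg.HasNormalPComplement p Y := by
  intro n
  induction n using Nat.strong_induction_on with
  | _ n ih =>
    intro Y _ _ hn hY S hZ hJ
    have hsub : ∀ H : Subgroup Y, H ≠ ⊤ → (S : Subgroup Y) ≤ H → Cfsg.HasNormalPComplement p H := by
      intro H hne hle
      have hS : ((S.subtype hle : Sylow p H) : Subgroup H).map H.subtype = (S : Subgroup Y) := by
        rw [Sylow.coe_subtype, Subgroup.subgroupOf_map_subtype, inf_eq_left.2 hle]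
      exact ih _ (hn ▸ card_lt_of_ne_top hne) H rfl (involves_subgroup hY H) (S.subtype hle)
        (npc_center_of_injective H.subtype H.subtype_injective _ (by rw [hS]; exact hZ))
        (npc_thompson_of_injective H.subtype H.subtype_injective _ (by rw [hS]; exact hJ))
    by_cases hS : (S : Subgroup Y) = ⊥
    · refine Cfsg.Agent.Lib.Transfer.hasNormalPComplement_of_normalizer_le_centralizer S ?_
      intro g _
      rw [Subgroup.mem_centralizer_iff]
      intro s hs
      rw [Subgroup.mem_bot.1 (hS ▸ hs : s ∈ (⊥ : Subgroup Y))]; simp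
    have hWc := isCharPFunctor_center.{u} (p := p)
    have hWj := isCharPFunctor_thompsonA.{u} (p := p)
    by_cases hQ : Cfsg.pCore p Y = ⊥
    · -- all local subgroups are proper
      have hprop : ∀ U : Subgroup Y, U ≤ (S : Subgroup Y) → U ≠ ⊥ → Subgroup.normalizer (U : Set Y) ≠ ⊤ := by
        intro U hU hne h
        apply hne
        rw [eq_bot_iff, ← hQ]
        exact Cfsg.Agent.Lib.Cores.le_pCore (Subgroup.normalizer_eq_top_iff.1 h) (S.2.to_le hU)
      suffices main : ∀ (k : ℕ) (U : Subgroup Y), Nat.card (S : Subgroup Y) - Nat.card (nS (S : Subgroup Y) U) = k →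
          U ≤ (S : Subgroup Y) → U ≠ ⊥ → Cfsg.HasNormalPComplement p ↥(Subgroup.normalizer (U : Set Y)) by
        refine Cfsg.Agent.Lib.Transfer.hasNormalPComplement_of_local fun U hU hne => ?_
        obtain ⟨g, -, hg⟩ := exists_cj_le_of_not_dvd le_top S.2 (sylow_relIndex_top S) (le_top : U ≤ ⊤) hU
        have := main _ (cj g U) rfl hg (fun h => hne (by rw [← cj_inv_cj g U, h, cj, Subgroup.map_bot]))
        rw [← cj_normalizer] at this
        exact (hasNormalPComplement_congr ((Subgroup.normalizer (U : Set Y)).equivMapOfInjective _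
          (MulAut.conj g).injective)).2 this
      intro k
      induction k using Nat.strong_induction_on with
      | _ k ih2 =>
        intro U hk hU hne
        obtain ⟨g, hg, hext⟩ := exists_extr_cj S hU
        set U0 := cj g U with hU0
        have hle := Subgroup.card_le_of_le (cj_nS_le hg)
        rw [card_cj, ← hU0] at hle
        have hne0 : U0 ≠ ⊥ := fun h => hne (by rw [← cj_inv_cj g U, ← hU0, h, cj, Subgroup.map_bot])
        suffices h0 : Cfsg.HasNormalPComplement p ↥(Subgroup.normalizer (U0 : Set Y)) by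
          rw [hU0, ← cj_normalizer] at h0
          exact (hasNormalPComplement_congr ((Subgroup.normalizer (U : Set Y)).equivMapOfInjective _
            (MulAut.conj g).injective)).2 h0
        set N := Subgroup.normalizer (U0 : Set Y) with hNdef
        set T := nS (S : Subgroup Y) U0 with hT
        have hTN : T ≤ N := inf_le_right
        have hTp : IsPGroup p T := S.2.to_le inf_le_left
        let TN : Sylow p N := ((hTp.comap_of_injective N.subtype N.subtype_injective :
          IsPGroup p (T.subgroupOf N))).toSylow hext.2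
        have hTmap : (TN : Subgroup N).map N.subtype = T := by
          show (T.subgroupOf N).map N.subtype = T
          rw [Subgroup.subgroupOf_map_subtype, inf_eq_left.2 hTN]
        suffices h : Cfsg.HasNormalPComplement p ↥(Subgroup.centralizer ((T ⊓ Subgroup.centralizer (T : Set Y) : Subgroup Y) : Set Y)) ∧
            Cfsg.HasNormalPComplement p ↥(Subgroup.normalizer (Cfsg.thompsonSubgroupAOf T : Set Y)) from
          ih _ (hn ▸ card_lt_of_ne_top (hprop U0 hext.1 hne0)) N rfl (involves_subgroup hY N) TN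
            (npc_center_of_injective N.subtype N.subtype_injective _ (by rw [hTmap]; exact h.1))
            (npc_thompson_of_injective N.subtype N.subtype_injective _ (by rw [hTmap]; exact h.2))
        by_cases hTS : T = (S : Subgroup Y)
        · rw [hTS]; exact ⟨hZ, hJ⟩
        have hTne : T ≠ ⊥ := fun h => hne0 (le_bot_iff.1 (h ▸ le_nS hext.1))
        have h1 : T < nS (S : Subgroup Y) T := lt_nS S.2 (lt_of_le_of_ne inf_le_left hTS)
        have key : ∀ W : ∀ (Q : Type u) [Group Q], Subgroup Q, Cfsg.IsCharPFunctor.{u} p W →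
            Cfsg.HasNormalPComplement p ↥(Subgroup.normalizer ((Cfsg.inducedFunctor W T : Subgroup Y) : Set Y)) := by
          intro W hW
          obtain ⟨hWle, hWne, -⟩ := isConjugacyFunctor_inducedFunctor hW T hTp
          have h2 : nS (S : Subgroup Y) T ≤ nS (S : Subgroup Y) (Cfsg.inducedFunctor W T) :=
            inf_le_inf_left _ (normalizer_le_normalizer_functor (isConjugacyFunctor_inducedFunctor hW) hTp)
          have h3 := lt_of_lt_of_le (card_lt_of_lt h1) (Subgroup.card_le_of_le h2)
          have h4 : Nat.card (nS (S : Subgroup Y) (Cfsg.inducedFunctor W T)) ≤ Nat.card (S : Subgroup Y) :=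
            Subgroup.card_le_of_le inf_le_left
          exact ih2 _ (by omega) _ rfl (hWle.trans inf_le_left) (hWne hTne)
        refine ⟨hasNormalPComplement_of_le (centralizer_le_normalizer' _) ?_, key _ hWj⟩
        rw [← inducedFunctor_center]
        exact key _ hWc
    -- the core is nontrivial
    by_cases hSQ : Cfsg.pCore p Y = (S : Subgroup Y)
    · have h2 : Subgroup.normalizer (Cfsg.thompsonSubgroupAOf (S : Subgroup Y) : Set Y) = ⊤ :=
        not_pCore_top_normalizer hWj S hSQ
      rw [h2] at hJ
      exact (hasNormalPComplement_congr Subgroup.topEquiv).1 hJ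
    have hquot : ∀ N : Subgroup Y, [N.Normal] → N ≠ ⊥ →
        Cfsg.HasNormalPComplement p ↥(Subgroup.centralizer (((S : Subgroup Y).map (QuotientGroup.mk' N) ⊓
          Subgroup.centralizer (((S : Subgroup Y).map (QuotientGroup.mk' N) : Subgroup (Y ⧸ N)) : Set (Y ⧸ N)) : Subgroup (Y ⧸ N)) : Set (Y ⧸ N))) →
        Cfsg.HasNormalPComplement p ↥(Subgroup.normalizer
          (Cfsg.thompsonSubgroupAOf ((S : Subgroup Y).map (QuotientGroup.mk' N)) : Set (Y ⧸ N))) →
        Cfsg.HasNormalPComplement p (Y ⧸ N) := by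
      intro N _ hne h h'
      have hlt : Nat.card (Y ⧸ N) < n := by
        rw [← hn, Subgroup.card_eq_card_quotient_mul_card_subgroup N]
        exact lt_mul_of_one_lt_right Nat.card_pos (Subgroup.one_lt_card_iff_ne_bot N |>.2 hne)
      refine ih _ hlt (Y ⧸ N) rfl (involves_surjective hY _ (QuotientGroup.mk'_surjective N))
        (S.mapSurjective (QuotientGroup.mk'_surjective N)) ?_ ?_
      · rw [Sylow.coe_mapSurjective]; exact h
      · rw [Sylow.coe_mapSurjective]; exact h'
    by_cases hO : Cfsg.pPrimeCore p Y = ⊥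
    swap
    · set O := Cfsg.pPrimeCore p Y with hOdef
      have hnpc : Cfsg.HasNormalPComplement p (Y ⧸ O) := by
        refine hquot O hO ?_ ?_
        · refine hasNormalPComplement_of_le (K := (Subgroup.centralizer (((S : Subgroup Y) ⊓
            Subgroup.centralizer ((S : Subgroup Y) : Set Y) : Subgroup Y) : Set Y)).map (QuotientGroup.mk' O)) ?_
            (hasNormalPComplement_of_surjective _ ((QuotientGroup.mk' O).subgroupMap_surjective _) hZ)
          intro x hx
          have hx' : x ∈ Subgroup.normalizer ((Cfsg.inducedFunctor (fun Q [Group Q] => Subgroup.center Q)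
              ((S : Subgroup Y).map (QuotientGroup.mk' O)) : Subgroup (Y ⧸ O)) : Set (Y ⧸ O)) := by
            rw [inducedFunctor_center]
            exact centralizer_le_normalizer' _ hx
          obtain ⟨m, hm, rfl⟩ := exists_lift_step hWc S hx'
          rw [inducedFunctor_center] at hm
          refine ⟨m, Subgroup.mem_centralizer_iff.2 fun z hz => ?_, rfl⟩
          have hz' := (Subgroup.mem_normalizer_iff.1 hm z).1 hz
          have hzc : (QuotientGroup.mk' O) z ∈ (S : Subgroup Y).map (QuotientGroup.mk' O) ⊓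
              Subgroup.centralizer (((S : Subgroup Y).map (QuotientGroup.mk' O) : Subgroup (Y ⧸ O)) : Set (Y ⧸ O)) := by
            refine ⟨⟨z, hz.1, rfl⟩, ?_⟩
            rintro _ ⟨s, hs, rfl⟩
            rw [← map_mul, ← map_mul, hz.2 s hs]
          have h2 := hx _ hzc
          have h3 : z⁻¹ * (m * z * m⁻¹) ∈ O := by
            refine (QuotientGroup.eq_one_iff _).1 ?_
            show (QuotientGroup.mk' O) (z⁻¹ * (m * z * m⁻¹)) = 1
            change (QuotientGroup.mk' O) z * (QuotientGroup.mk' O) m = (QuotientGroup.mk' O) m * (QuotientGroup.mk' O) z at h2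
            rw [map_mul, map_mul, map_mul, map_inv, map_inv, ← h2]
            group
          have h4 := eq_one_of_mem_pPrimeCore S.2 (mul_mem (inv_mem hz.1) hz'.1) h3
          rw [inv_mul_eq_one, eq_mul_inv_iff_mul_eq] at h4
          exact h4
        · refine hasNormalPComplement_of_le (K := (Subgroup.normalizer (Cfsg.thompsonSubgroupAOf
            (S : Subgroup Y) : Set Y)).map (QuotientGroup.mk' O)) ?_
            (hasNormalPComplement_of_surjective _ ((QuotientGroup.mk' O).subgroupMap_surjective _) hJ)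
          intro x hx
          obtain ⟨m, hm, rfl⟩ := exists_lift_step hWj S hx
          exact ⟨m, hm, rfl⟩
      rw [hasNormalPComplement_iff_coprime] at hnpc ⊢
      rw [← Cfsg.Agent.Lib.Transfer.pResidual_map_of_surjective _ (QuotientGroup.mk'_surjective O)] at hnpc
      have h1 : Cfsg.pResidual p Y ≤ ((Cfsg.pResidual p Y).map (QuotientGroup.mk' O)).comap (QuotientGroup.mk' O) :=
        Subgroup.le_comap_map _ _
      refine Nat.Coprime.coprime_dvd_left (Subgroup.card_dvd_of_le h1) ?_
      rw [Cfsg.Agent.Lib.Cores.card_comap_mk']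
      exact Nat.Coprime.mul_left (Cfsg.Agent.Lib.Cores.pPrimeCore_coprime p Y) hnpc
    set Q := Cfsg.pCore p Y with hQdef
    have hQS : Q ≤ (S : Subgroup Y) := pCore_le_S S
    set f := QuotientGroup.mk' Q with hf
    have hcomapS : ((S : Subgroup Y).map f).comap f = (S : Subgroup Y) := by
      rw [Subgroup.comap_map_eq, QuotientGroup.ker_mk', sup_eq_left.2 hQS]
    have hnpcQ : Cfsg.HasNormalPComplement p (Y ⧸ Q) := by
      have key : ∀ W : ∀ (Q : Type u) [Group Q], Subgroup Q, Cfsg.IsCharPFunctor.{u} p W →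
          Cfsg.HasNormalPComplement p ↥(Subgroup.normalizer
            ((Cfsg.inducedFunctor W ((S : Subgroup Y).map f) : Subgroup (Y ⧸ Q)) : Set (Y ⧸ Q))) := by
        intro W hW
        have hcj : IsPGroup p ((S : Subgroup Y).map f) := S.2.map f
        obtain ⟨hle, hne, -⟩ := isConjugacyFunctor_inducedFunctor hW ((S : Subgroup Y).map f) hcj
        set Z := Cfsg.inducedFunctor W ((S : Subgroup Y).map f) with hZdef
        set XW := Z.comap f with hXW
        have hXWS : XW ≤ (S : Subgroup Y) := by rw [← hcomapS]; exact Subgroup.comap_mono hle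
        have hprop : Subgroup.normalizer (XW : Set Y) ≠ ⊤ := by
          refine normalizer_ne_top_of_pCore (S.2.to_le hXWS) fun hc => hne ?_ ?_
          · intro hb
            rw [Subgroup.map_eq_bot_iff, QuotientGroup.ker_mk'] at hb
            exact hSQ (le_antisymm hQS hb)
          · rw [eq_bot_iff]
            intro z hz
            obtain ⟨w, rfl⟩ := QuotientGroup.mk'_surjective Q z
            exact Subgroup.mem_bot.2 ((QuotientGroup.eq_one_iff w).2 (hc hz))
        have hnorm : ∀ y : Y, f y ∈ Subgroup.normalizer (Z : Set (Y ⧸ Q)) →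
            y ∈ Subgroup.normalizer (XW : Set Y) := by
          intro y hy
          rw [Subgroup.mem_normalizer_iff]
          intro z
          show f z ∈ Z ↔ f (y * z * y⁻¹) ∈ Z
          rw [map_mul, map_mul, map_inv]
          exact Subgroup.mem_normalizer_iff.1 hy (f z)
        have hSN : (S : Subgroup Y) ≤ Subgroup.normalizer (XW : Set Y) := fun s hs =>
          hnorm s (le_normalizer_inducedFunctor hW hcj ⟨s, hs, rfl⟩)
        refine hasNormalPComplement_of_le (K := (Subgroup.normalizer (XW : Set Y)).map f) ?_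
          (hasNormalPComplement_of_surjective _ (f.subgroupMap_surjective _) (hsub _ hprop hSN))
        intro x hx
        obtain ⟨m, rfl⟩ := QuotientGroup.mk'_surjective Q x
        exact ⟨m, hnorm m hx, rfl⟩
      refine hquot Q hQ ?_ (key _ hWj)
      refine hasNormalPComplement_of_le (centralizer_le_normalizer' _) ?_
      rw [← inducedFunctor_center]
      exact key _ hWc
    -- the group has a self-centralizing core
    have hC : CharPType p Y := charPType_of_npc hO hnpcQ
    -- `S` is maximal
    have hco : IsCoatom (S : Subgroup Y) := by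
      refine ⟨fun h => hSQ ?_, fun H hH => ?_⟩
      · refine le_antisymm hQS (Cfsg.Agent.Lib.Cores.le_pCore ?_ S.2)
        rw [h]; infer_instance
      · by_contra hne
        have hQH : Q ≤ H := hQS.trans hH.le
        have hCH : CharPType p H := by
          have h1 : Q.subgroupOf H ≤ Cfsg.pCore p H := Cfsg.Agent.Lib.Cores.le_pCore inferInstance
            ((Cfsg.Agent.Lib.Cores.pCore_isPGroup p Y).of_equiv (Subgroup.subgroupOfEquivOfLe hQH).symm)
          intro x hx
          refine h1 (Subgroup.mem_subgroupOf.2 (hC fun z hz => ?_))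
          exact congrArg Subtype.val (hx ⟨z, hQH hz⟩ (h1 hz))
        exact hH.ne (S.3 (isPGroup_of_npc_charP hCH (hsub H hne hH.le)) hH.le).symm
    have hp' : p ≠ 2 ∨ ¬ Cfsg.Involves (Equiv.Perm (Fin 4)) Y :=
      hp.imp id fun h h' => h (involves_four_of_involves hY h')
    have hSZ : (S : Subgroup Y) ≤ Subgroup.centralizer (((S : Subgroup Y) ⊓
        Subgroup.centralizer ((S : Subgroup Y) : Set Y) : Subgroup Y) : Set Y) :=
      fun s hs z hz => (hz.2 s hs).symm
    have hSJ : (S : Subgroup Y) ≤ Subgroup.normalizer (Cfsg.thompsonSubgroupAOf (S : Subgroup Y) : Set Y) :=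
      le_normalizer_inducedFunctor hWj S.2
    by_contra hnot
    have key : ∀ H : Subgroup Y, (S : Subgroup Y) ≤ H → Cfsg.HasNormalPComplement p H → H ≤ (S : Subgroup Y) := by
      intro H hle h
      rcases hle.eq_or_lt with e | hlt
      · exact e.ge
      · rw [hco.2 _ hlt] at h
        exact absurd ((hasNormalPComplement_congr Subgroup.topEquiv).1 h) hnot
    exact false_of_minimal hC hnpcQ hp' S hco (key _ hSZ hZ) (key _ hSJ hJ)

end Cfsg.Agent.Lib.PLocal
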