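import Cfsg.Prelude.Def_PLocal
import Mathlib

/-!
Power maps in groups of nilpotency class at most three.
-/

set_option autoImplicit false

namespace Cfsg.Agent.Lib.PLocal

open scoped commutatorElement

variable {G : Type*} [Group G]

/-- Sum of the squares below `n`. -/
def sqSum : ℕ → ℕ
  | 0 => 0
  | n + 1 => sqSum n + n * n

lemma six_mul_sqSum : ∀ n : ℕ, 6 * sqSum n + 3 * (n * n) = 2 * (n * n * n) + n
  | 0 => by simp [sqSum]
  | n + 1 => by
    have := six_mul_sqSum n
    simp only [sqSum]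
    ring_nf at this ⊢
    omega

lemma dvd_sqSum {p : ℕ} (hp : p.Prime) (h3 : 3 < p) : p ∣ sqSum p := by
  have h := six_mul_sqSum p
  have h6 : p ∣ 6 * sqSum p := by
    have h1 : p ∣ 2 * (p * p * p) + p := ⟨2 * (p * p) + 1, by ring⟩
    rw [← h] at h1
    exact (Nat.dvd_add_left ⟨3 * p, by ring⟩).mp h1
  rcases hp.dvd_mul.mp h6 with h' | h'
  · exfalso
    have := Nat.le_of_dvd (by norm_num) h'
    interval_cases p <;> simp_all (config := { decide := true })
  · exact h'

/-- Conjugation iterates: `y x^n = x^n y c^n d^(n choose 2)`. -/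
lemma mul_pow_eq {x y c d : G} (hyx : y * x = x * y * c) (hcx : c * x = x * c * d)
    (hdc : ∀ g, Commute d g) (n : ℕ) :
    c * x ^ n = x ^ n * c * d ^ n ∧ y * x ^ n = x ^ n * y * c ^ n * d ^ (n.choose 2) := by
  have hcn : ∀ m : ℕ, c ^ m * x = x * c ^ m * d ^ m := by
    intro m
    induction m with
    | zero => simp
    | succ m ih =>
      calc c ^ (m + 1) * x = c ^ m * (c * x) := by rw [pow_succ, mul_assoc]
        _ = (c ^ m * x) * (c * d) := by rw [hcx]; group
        _ = x * c ^ m * (d ^ m * c) * d := by rw [ih]; group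
        _ = x * c ^ m * (c * d ^ m) * d := by rw [((hdc c).pow_left m).eq]
        _ = x * c ^ (m + 1) * d ^ (m + 1) := by rw [pow_succ c m, pow_succ d m]; group
  induction n with
  | zero => simp
  | succ n ih =>
    refine ⟨?_, ?_⟩
    · calc c * x ^ (n + 1) = (c * x ^ n) * x := by rw [pow_succ]; group
        _ = x ^ n * c * (d ^ n * x) := by rw [ih.1]; group
        _ = x ^ n * (c * x) * d ^ n := by rw [((hdc x).pow_left n).eq]; group
        _ = x ^ n * x * c * (d * d ^ n) := by rw [hcx]; group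
        _ = x ^ (n + 1) * c * d ^ (n + 1) := by rw [← pow_succ, ← pow_succ']
    · calc y * x ^ (n + 1) = (y * x ^ n) * x := by rw [pow_succ]; group
        _ = x ^ n * y * c ^ n * (d ^ n.choose 2 * x) := by rw [ih.2]; group
        _ = x ^ n * y * (c ^ n * x) * d ^ n.choose 2 := by
            rw [((hdc x).pow_left _).eq]; group
        _ = x ^ n * (y * x) * c ^ n * (d ^ n * d ^ n.choose 2) := by rw [hcn n]; group
        _ = x ^ n * x * y * (c * c ^ n) * (d ^ n * d ^ n.choose 2) := by rw [hyx]; group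
        _ = x ^ (n + 1) * y * c ^ (n + 1) * d ^ ((n + 1).choose 2) := by
            rw [← pow_succ, ← pow_succ', ← pow_add, Nat.choose_succ_succ', Nat.choose_one_right]

/-- The Hall formula in class three: `(xy)^n = x^n y^n c^(n choose 2) e^(Σ k²) d^(n choose 3)`. -/
lemma mul_pow_formula {x y c d e : G} (hyx : y * x = x * y * c) (hcx : c * x = x * c * d)
    (hcy : c * y = y * c * e) (hdc : ∀ g, Commute d g) (hec : ∀ g, Commute e g) (n : ℕ) :
    (x * y) ^ n = x ^ n * y ^ n * c ^ (n.choose 2) * e ^ sqSum n * d ^ (n.choose 3) := by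
  have hcyn : ∀ m k : ℕ, c ^ m * y ^ k = y ^ k * c ^ m * e ^ (m * k) := by
    have h1 : ∀ k : ℕ, c * y ^ k = y ^ k * c * e ^ k := fun k =>
      ((mul_pow_eq (y := c) (c := e) (d := 1) hcy (by simpa using (hec y).eq)
        (fun g => Commute.one_left g) k).2).trans (by simp)
    intro m k
    induction m with
    | zero => simp
    | succ m ih =>
      calc c ^ (m + 1) * y ^ k = c ^ m * (c * y ^ k) := by rw [pow_succ, mul_assoc]
        _ = (c ^ m * y ^ k) * (c * e ^ k) := by rw [h1]; group
        _ = y ^ k * c ^ m * (e ^ (m * k) * c) * e ^ k := by rw [ih]; group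
        _ = y ^ k * c ^ m * (c * e ^ (m * k)) * e ^ k := by rw [((hec c).pow_left _).eq]
        _ = y ^ k * c ^ (m + 1) * e ^ ((m + 1) * k) := by
            rw [pow_succ, add_mul, one_mul, pow_add]; group
  induction n with
  | zero => simp [sqSum]
  | succ n ih =>
    set Z := e ^ sqSum n * d ^ n.choose 3 with hZ
    calc (x * y) ^ (n + 1) = x * y * (x ^ n * y ^ n * c ^ n.choose 2 * Z) := by
          rw [pow_succ', ih, hZ]; group
      _ = x * (y * x ^ n) * (y ^ n * c ^ n.choose 2 * Z) := by group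
      _ = x * x ^ n * y * c ^ n * (d ^ n.choose 2 * y ^ n) * (c ^ n.choose 2 * Z) := by
          rw [(mul_pow_eq hyx hcx hdc n).2]; group
      _ = x * x ^ n * y * (c ^ n * y ^ n) * d ^ n.choose 2 * (c ^ n.choose 2 * Z) := by
          rw [((hdc (y ^ n)).pow_left _).eq]; group
      _ = x * x ^ n * (y * y ^ n) * c ^ n * e ^ (n * n) * (d ^ n.choose 2 * c ^ n.choose 2) * Z := by
          rw [hcyn n n]; group
      _ = x * x ^ n * (y * y ^ n) * c ^ n * (e ^ (n * n) * c ^ n.choose 2) * d ^ n.choose 2 * Z := by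
          rw [((hdc (c ^ n.choose 2)).pow_left _).eq]; group
      _ = x * x ^ n * (y * y ^ n) * (c ^ n * c ^ n.choose 2) * e ^ (n * n) *
            (d ^ n.choose 2 * e ^ sqSum n) * d ^ n.choose 3 := by
          rw [((hec (c ^ n.choose 2)).pow_left _).eq, hZ]; group
      _ = x * x ^ n * (y * y ^ n) * (c ^ n * c ^ n.choose 2) * (e ^ sqSum n * e ^ (n * n)) *
            (d ^ n.choose 2 * d ^ n.choose 3) := by
          rw [((hdc (e ^ sqSum n)).pow_left _).eq,
            ((Commute.refl e).pow_pow (sqSum n) (n * n)).eq]; group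
      _ = _ := by
          rw [← pow_succ', ← pow_succ', ← pow_add, ← pow_add, ← pow_add,
            Nat.choose_succ_succ' n 1, Nat.choose_succ_succ' n 2, Nat.choose_one_right]
          rfl

/-- The hypothesis on class and prime under which `p`-th powers behave like in an abelian group. -/
def SmallClass (p : ℕ) (G : Type*) [Group G] : Prop :=
  (p ≠ 2 ∧ ⁅commutator G, (⊤ : Subgroup G)⁆ = ⊥) ∨
    (3 < p ∧ ⁅⁅commutator G, (⊤ : Subgroup G)⁆, (⊤ : Subgroup G)⁆ = ⊥)

variable {p : ℕ} [hp : Fact p.Prime]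

omit hp in
lemma smallClass_central (h : SmallClass p G) :
    ∀ u ∈ ⁅commutator G, (⊤ : Subgroup G)⁆, ∀ g, Commute u g := by
  intro u hu g
  rcases h with ⟨_, h⟩ | ⟨_, h⟩
  · rw [h, Subgroup.mem_bot] at hu
    exact hu ▸ Commute.one_left g
  · exact (commutatorElement_eq_one_iff_commute.mp
      (Subgroup.mem_bot.mp (h ▸ Subgroup.commutator_mem_commutator hu (Subgroup.mem_top g))))

/-- Structure of the commutator `c = [y, x]`, and the formula at `n = p`. -/
lemma smallClass_formula (h : SmallClass p G) (x y : G) :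
    ∃ c d e : G, y * x = x * y * c ∧ c * x = x * c * d ∧ c * y = y * c * e ∧
      c ∈ commutator G ∧ (∀ g, Commute d g) ∧ (∀ g, Commute e g) ∧
      (x * y) ^ p = x ^ p * y ^ p * c ^ p.choose 2 * e ^ sqSum p * d ^ p.choose 3 ∧
      ((c ^ p = 1) → (x * y) ^ p = x ^ p * y ^ p) := by
  have hpp : p.Prime := hp.out
  refine ⟨⁅y⁻¹, x⁻¹⁆, ⁅⁅y⁻¹, x⁻¹⁆⁻¹, x⁻¹⁆, ⁅⁅y⁻¹, x⁻¹⁆⁻¹, y⁻¹⁆, ?_⟩
  set c := ⁅y⁻¹, x⁻¹⁆ with hc
  set d := ⁅c⁻¹, x⁻¹⁆ with hd
  set e := ⁅c⁻¹, y⁻¹⁆ with he
  have h1 : y * x = x * y * c := by simp only [hc, commutatorElement_def]; group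
  have h2 : c * x = x * c * d := by simp only [hd, commutatorElement_def]; group
  have h3 : c * y = y * c * e := by simp only [he, commutatorElement_def]; group
  have hcm : c ∈ commutator G :=
    Subgroup.commutator_mem_commutator (Subgroup.mem_top _) (Subgroup.mem_top _)
  have hdm : d ∈ ⁅commutator G, (⊤ : Subgroup G)⁆ :=
    Subgroup.commutator_mem_commutator (inv_mem hcm) (Subgroup.mem_top _)
  have hem : e ∈ ⁅commutator G, (⊤ : Subgroup G)⁆ :=
    Subgroup.commutator_mem_commutator (inv_mem hcm) (Subgroup.mem_top _)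
  have hdc := smallClass_central h d hdm
  have hec := smallClass_central h e hem
  have hf := mul_pow_formula h1 h2 h3 hdc hec p
  refine ⟨h1, h2, h3, hcm, hdc, hec, hf, fun hcp => ?_⟩
  have hp2 : 2 < p := by
    have := hpp.two_le
    rcases h with ⟨h, _⟩ | ⟨h, _⟩ <;> omega
  have hc2 : c ^ p.choose 2 = 1 := by
    obtain ⟨k, hk⟩ := hpp.dvd_choose_self (k := 2) (by omega) hp2
    rw [hk, pow_mul, hcp, one_pow]
  have hde : e ^ sqSum p = 1 ∧ d ^ p.choose 3 = 1 := by
    rcases h with ⟨_, h⟩ | ⟨h3, _⟩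
    · rw [h, Subgroup.mem_bot] at hdm hem
      simp [hdm, hem]
    · have key : ∀ z w : G, c * z = z * c * w → (∀ g, Commute w g) → w ^ p = 1 := by
        intro z w hz hw
        have hconj : z⁻¹ * c * z = c * w := by rw [mul_assoc, hz]; group
        have := congrArg (· ^ p) hconj
        have : (z⁻¹ * c * z) ^ p = (c * w) ^ p := by rw [hconj]
        have h' := conj_pow (a := z⁻¹) (b := c) (i := p)
        rw [inv_inv] at h'
        rw [h', hcp] at this
        rw [(hw c).symm.mul_pow, hcp] at this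
        simpa using this.symm
      obtain ⟨k, hk⟩ := hpp.dvd_choose_self (k := 3) (by omega) h3
      obtain ⟨j, hj⟩ := dvd_sqSum hpp h3
      rw [hk, hj, pow_mul, pow_mul, key y e ‹c * y = y * c * e› hec, key x d h2 hdc]
      exact ⟨one_pow j, one_pow k⟩
  rw [hf, hc2, hde.1, hde.2]; simp

/-- In small class, the elements with `g ^ p = 1` are closed under products. -/
lemma smallClass_mul_pow_eq_one (h : SmallClass p G) {x y : G} (hx : x ^ p = 1) (hy : y ^ p = 1) :
    (x * y) ^ p = 1 := by
  have hpp : p.Prime := hp.out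
  have hp2 : 2 < p := by
    have := hpp.two_le
    rcases h with ⟨h, _⟩ | ⟨h, _⟩ <;> omega
  obtain ⟨c, d, e, h1, h2, h3, -, hdc, -, -, hpow⟩ := smallClass_formula h x y
  have hdp : d ^ p = 1 := by
    have hk := (mul_pow_eq h1 h2 hdc p).1
    rw [hx, mul_one, one_mul] at hk
    exact mul_left_cancel (a := c) (by rw [mul_one, ← hk])
  have hcp : c ^ p = 1 := by
    have hk := (mul_pow_eq h1 h2 hdc p).2
    rw [hx, mul_one, one_mul] at hk
    obtain ⟨k, hk'⟩ := hpp.dvd_choose_self (k := 2) (by omega) hp2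
    rw [hk', pow_mul, hdp, one_pow, mul_one] at hk
    exact mul_left_cancel (a := y) (by rw [mul_one, ← hk])
  rw [hpow hcp, hx, hy, one_mul]

lemma smallClass_closure_pow (h : SmallClass p G) {g : G}
    (hg : g ∈ Subgroup.closure {x : G | x ^ p = 1}) : g ^ p = 1 := by
  induction hg using Subgroup.closure_induction with
  | mem x hx => exact hx
  | one => exact one_pow p
  | mul x y _ _ hx hy => exact smallClass_mul_pow_eq_one h hx hy
  | inv x _ hx => rw [inv_pow, hx, inv_one]

/-- In small class, if all commutators lie in the subgroup generated by elements of order `p`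
then `x ↦ x ^ p` is multiplicative. -/
lemma smallClass_mul_pow (h : SmallClass p G)
    (hder : commutator G ≤ Subgroup.closure {x : G | x ^ p = 1}) (x y : G) :
    (x * y) ^ p = x ^ p * y ^ p := by
  obtain ⟨c, d, e, -, -, -, hc, -, -, -, hpow⟩ := smallClass_formula h x y
  exact hpow (smallClass_closure_pow h (hder hc))

end Cfsg.Agent.Lib.PLocal
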