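import Cfsg.Prelude.Def_PLocal
import Cfsg.Agent.Lib.PLocal.SmallClass

/-!
Elementary facts on finite `p`-groups: central elements in normal subgroups, normal series,
counting homomorphisms, self-centralizing normal abelian subgroups, cyclic maximal subgroups.
-/

set_option autoImplicit false
set_option linter.style.haveILetI false

namespace Cfsg.Agent.Lib.PLocal

open scoped commutatorElement

variable {G : Type*} [Group G] [Finite G] {p : ℕ} [hp : Fact p.Prime]

/-- A nontrivial normal subgroup of a finite `p`-group contains a central element of order `p`. -/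
lemma exists_central_prime_mem (hG : IsPGroup p G) {N : Subgroup G} [N.Normal] (hN : N ≠ ⊥) :
    ∃ z ∈ N, orderOf z = p ∧ z ∈ Subgroup.center G := by
  classical
  haveI := Fintype.ofFinite G
  have hdvd : p ∣ Nat.card N := by
    obtain ⟨n, hn⟩ := IsPGroup.iff_card.mp (hG.to_subgroup N)
    rcases n with _ | n
    · exact absurd (Subgroup.card_eq_one.mp (by simpa using hn)) hN
    · exact hn ▸ dvd_pow_self p n.succ_ne_zero
  let φ : MulAction (ConjAct G) N := inferInstance
  have hfix := (hG.of_equiv ConjAct.toConjAct).exists_fixed_point_of_prime_dvd_card_of_fixed_point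
    N hdvd (a := 1) (by intro g; exact smul_one g)
  obtain ⟨⟨z, hz⟩, hzfix, hz1⟩ := hfix
  have hzc : z ∈ Subgroup.center G := Subgroup.mem_center_iff.mpr fun g => by
    have h := congrArg Subtype.val (hzfix (ConjAct.toConjAct g))
    rw [ConjAct.Subgroup.val_conj_smul, ConjAct.smul_def, ConjAct.ofConjAct_toConjAct] at h
    exact mul_inv_eq_iff_eq_mul.mp h
  have hz1' : z ≠ 1 := fun h => hz1 (Subtype.ext h.symm)
  obtain ⟨n, hn⟩ := IsPGroup.iff_orderOf.mp hG z
  rcases n with _ | n
  · exact absurd (orderOf_eq_one_iff.mp (by simpa using hn)) hz1'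
  refine ⟨z ^ p ^ n, pow_mem hz _, ?_, pow_mem hzc _⟩
  rw [orderOf_pow' z (pow_ne_zero _ hp.out.ne_zero), hn,
    Nat.gcd_eq_right (pow_dvd_pow p n.le_succ), pow_succ',
    Nat.mul_div_cancel _ (pow_pos hp.out.pos n)]

/-- Below a nontrivial normal subgroup `N` of a `p`-group there is a normal subgroup of index `p`
in it. -/
lemma exists_normal_index_prime (hG : IsPGroup p G) {N : Subgroup G} [N.Normal] (hN : N ≠ ⊥) :
    ∃ M : Subgroup G, M.Normal ∧ M < N ∧ Nat.card N = p * Nat.card M := by
  classical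
  haveI := Fintype.ofFinite (Subgroup G)
  obtain ⟨M, hM⟩ := Set.Finite.exists_maximal (s := {M : Subgroup G | M.Normal ∧ M < N})
    (Set.toFinite _) ⟨⊥, inferInstance, bot_lt_iff_ne_bot.mpr hN⟩
  obtain ⟨hMn, hMN⟩ := hM.prop
  haveI := hMn
  set π := QuotientGroup.mk' M with hπ
  haveI : (N.map π).Normal := Subgroup.Normal.map inferInstance _ (QuotientGroup.mk'_surjective M)
  have hne : N.map π ≠ ⊥ := fun h => hMN.not_ge (by
    rw [Subgroup.map_eq_bot_iff, QuotientGroup.ker_mk'] at h; exact h)
  obtain ⟨z, hzN, hzo, hzc⟩ := exists_central_prime_mem (hG.to_quotient M) hne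
  haveI : (Subgroup.zpowers z).Normal := ⟨fun a ha g => by
    have hac : a ∈ Subgroup.center (G ⧸ M) := (Subgroup.zpowers_le.mpr hzc) ha
    rwa [(Subgroup.mem_center_iff.mp hac g), mul_inv_cancel_right]⟩
  set M' := (Subgroup.zpowers z).comap π with hM'
  have hle : M' ≤ N := by
    refine le_trans (Subgroup.comap_mono (Subgroup.zpowers_le.mpr hzN)) ?_
    rw [Subgroup.comap_map_eq, QuotientGroup.ker_mk']
    exact sup_le le_rfl hMN.le
  have hMM' : M ≤ M' := fun m hm => by
    rw [hM', Subgroup.mem_comap, hπ, QuotientGroup.mk'_apply, (QuotientGroup.eq_one_iff m).mpr hm]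
    exact one_mem _
  have hzne : z ≠ 1 := fun h => by
    rw [h, orderOf_one] at hzo; exact hp.out.one_lt.ne hzo
  rcases hle.lt_or_eq with hlt | heq
  · exfalso
    have hge : M' ≤ M := hM.le_of_ge ⟨inferInstance, hlt⟩ hMM'
    obtain ⟨g, rfl⟩ := QuotientGroup.mk'_surjective M z
    have : g ∈ M' := Subgroup.mem_zpowers _
    exact hzne ((QuotientGroup.eq_one_iff g).mpr (hge this))
  · refine ⟨M, hMn, hMN, ?_⟩
    have h1 : Nat.card (N.map π) = p := by
      rw [← heq, hM', Subgroup.map_comap_eq_self_of_surjective (QuotientGroup.mk'_surjective M),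
        Nat.card_zpowers, hzo]
    have h2 : (M.subgroupOf N).index = p := by
      rw [← h1, ← Subgroup.relIndex_bot_left, ← Subgroup.relIndex_comap, MonoidHom.comap_bot,
        QuotientGroup.ker_mk']
      rfl
    rw [← Subgroup.card_mul_index (M.subgroupOf N), h2, mul_comm,
      Nat.card_congr (Subgroup.subgroupOfEquivOfLe hMN.le).toEquiv]

/-- Counting homomorphisms out of a finite `p`-group with prescribed kernel. -/
lemma card_hom_le {Z : Type*} [Group Z] [Finite Z] (hG : IsPGroup p G) (H : Subgroup G) (m : ℕ)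
    (hm : Nat.card G ≤ p ^ m * Nat.card H) :
    Nat.card {f : G →* Z // H ≤ f.ker} ≤ Nat.card Z ^ m := by
  classical
  have key : ∀ H : Subgroup G, ∃ S : Finset G,
      H ⊔ Subgroup.closure (S : Set G) = ⊤ ∧ p ^ S.card * Nat.card H ≤ Nat.card G := by
    intro H
    induction H using WellFoundedGT.induction with
    | _ H ih =>
      by_cases hH : H = ⊤
      · exact ⟨∅, by simp [hH], by simp [hH]⟩
      obtain ⟨x, hx⟩ : ∃ x, x ∉ H := by
        by_contra! h; exact hH (eq_top_iff.mpr fun g _ => h g)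
      have hlt : H < H ⊔ Subgroup.zpowers x :=
        lt_of_le_of_ne le_sup_left fun h => hx (h.symm ▸ Subgroup.mem_sup_right (Subgroup.mem_zpowers x))
      obtain ⟨S, hS, hc⟩ := ih _ hlt
      refine ⟨insert x S, ?_, ?_⟩
      · rw [Finset.coe_insert, Set.insert_eq, Subgroup.closure_union,
          ← Subgroup.zpowers_eq_closure, ← sup_assoc]
        exact hS
      · obtain ⟨i, hi⟩ := IsPGroup.iff_card.mp (hG.to_subgroup H)
        obtain ⟨j, hj⟩ := IsPGroup.iff_card.mp (hG.to_subgroup (H ⊔ Subgroup.zpowers x))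
        have hlt' : Nat.card H < Nat.card ↥(H ⊔ Subgroup.zpowers x) := by
          by_contra! hge
          exact hlt.ne (Subgroup.eq_of_le_of_card_ge hlt.le hge)
        have hij : i < j := by
          rw [hi, hj] at hlt'
          exact (Nat.pow_lt_pow_iff_right hp.out.one_lt).mp hlt'
        refine le_trans ?_ hc
        rw [hi, hj, ← pow_add, ← pow_add]
        exact Nat.pow_le_pow_right hp.out.pos (by
          have := Finset.card_insert_le x S; omega)
  obtain ⟨S, hS, hc⟩ := key H
  have hSm : S.card ≤ m :=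
    (Nat.pow_le_pow_iff_right hp.out.one_lt).mp
      (Nat.le_of_mul_le_mul_right (hc.trans hm) Nat.card_pos)
  have hinj : Function.Injective
      (fun f : {f : G →* Z // H ≤ f.ker} => fun s : ↥S => f.1 s) := by
    intro f g hfg
    have heq : H ⊔ Subgroup.closure (S : Set G) ≤ f.1.eqLocus g.1 := sup_le
      (fun h hh => (f.2 hh).trans (g.2 hh).symm)
      ((Subgroup.closure_le _).mpr fun s hs => congrFun hfg ⟨s, hs⟩)
    rw [hS] at heq
    exact Subtype.ext (MonoidHom.ext fun x => heq (Subgroup.mem_top x))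
  calc Nat.card {f : G →* Z // H ≤ f.ker} ≤ Nat.card (↥S → Z) :=
        Nat.card_le_card_of_injective (fun f (s : ↥S) => f.1 s) hinj
    _ = Nat.card Z ^ S.card := by rw [Nat.card_fun]; simp
    _ ≤ Nat.card Z ^ m := Nat.pow_le_pow_right Nat.card_pos hSm

omit [Finite G] in
/-- Commutation with a fixed element, as a homomorphism into a central subgroup. -/
lemma commutator_mul_of_central {g a b : G} (h : ⁅g, b⁆ ∈ Subgroup.center G) :
    ⁅g, a * b⁆ = ⁅g, a⁆ * ⁅g, b⁆ := by
  have h1 : ⁅g, a * b⁆ = ⁅g, a⁆ * (a * ⁅g, b⁆ * a⁻¹) := by simp [commutatorElement_def, mul_assoc]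
  rw [h1, Subgroup.mem_center_iff.mp h a, mul_inv_cancel_right]

/-- A `p`-group acting on a normal subgroup `N` of order `p ^ a` does so through a group of order
at most `p ^ (a (a - 1) / 2)`. -/
theorem index_centralizer_le : ∀ (a : ℕ) {G : Type*} [Group G] [Finite G], IsPGroup p G →
    ∀ (N : Subgroup G) [N.Normal], Nat.card N = p ^ a →
      (Subgroup.centralizer (N : Set G)).index ≤ p ^ (a * (a - 1) / 2) := by
  intro a
  induction a with
  | zero =>
    intro G _ _ _ N _ hN
    rw [pow_zero, Subgroup.card_eq_one] at hN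
    subst hN
    have : Subgroup.centralizer ((⊥ : Subgroup G) : Set G) = ⊤ := by
      rw [eq_top_iff]; intro g _ n hn
      rw [Subgroup.mem_bot.mp hn, one_mul, mul_one]
    rw [this, Subgroup.index_top]
    exact Nat.one_le_pow _ _ hp.out.pos
  | succ a ih =>
    intro G _ _ hG N _ hN
    have hNne : N ≠ ⊥ := by
      intro h; subst h
      rw [Subgroup.card_bot] at hN
      exact absurd hN.symm (Nat.one_lt_pow a.succ_ne_zero hp.out.one_lt).ne'
    obtain ⟨z, hzN, hzo, hzc⟩ := exists_central_prime_mem hG hNne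
    set Z := Subgroup.zpowers z with hZ
    have hZc : Z ≤ Subgroup.center G := Subgroup.zpowers_le.mpr hzc
    have hZN : Z ≤ N := Subgroup.zpowers_le.mpr hzN
    haveI : Z.Normal := ⟨fun x hx g => by
      rwa [(Subgroup.mem_center_iff.mp (hZc hx) g), mul_inv_cancel_right]⟩
    set π := QuotientGroup.mk' Z with hπ
    haveI : (N.map π).Normal := Subgroup.Normal.map inferInstance _ (QuotientGroup.mk'_surjective Z)
    have hcard : Nat.card (N.map π) = p ^ a := by
      have h1 := Subgroup.card_mul_index (Z.subgroupOf N)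
      rw [Nat.card_congr (Subgroup.subgroupOfEquivOfLe hZN).toEquiv, hZ, Nat.card_zpowers, hzo,
        hN, pow_succ'] at h1
      have h2 : Nat.card (N.map π) = (Z.subgroupOf N).index := by
        rw [← Subgroup.relIndex_bot_left, ← Subgroup.relIndex_comap, MonoidHom.comap_bot,
          QuotientGroup.ker_mk']
        rfl
      rw [h2]
      exact mul_left_cancel₀ hp.out.ne_zero h1
    have hq := ih (hG.to_quotient Z) (N.map π) hcard
    set K := (Subgroup.centralizer (N.map π : Set (G ⧸ Z))).comap π with hK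
    have hKidx : K.index ≤ p ^ (a * (a - 1) / 2) := by
      rwa [hK, Subgroup.index_comap_of_surjective _ (QuotientGroup.mk'_surjective Z)]
    have hCK : Subgroup.centralizer (N : Set G) ≤ K := by
      intro g hg
      rw [hK, Subgroup.mem_comap]
      rintro _ ⟨n, hn, rfl⟩
      rw [← map_mul, ← map_mul, hg n hn]
    have hcomm : ∀ g ∈ K, ∀ n ∈ N, ⁅g, n⁆ ∈ Z := by
      intro g hg n hn
      have h1 : π n * π g = π g * π n := (Subgroup.mem_comap.mp hg) _ ⟨n, hn, rfl⟩
      have h2 : π ⁅g, n⁆ = 1 := by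
        rw [map_commutatorElement]; exact commutatorElement_eq_one_iff_commute.mpr h1.symm
      exact (QuotientGroup.eq_one_iff _).mp h2
    let ψ : K → {f : N →* Z // Z.subgroupOf N ≤ f.ker} := fun g =>
      ⟨MonoidHom.mk' (fun n => ⟨⁅(g : G), (n : G)⁆, hcomm g g.2 n n.2⟩) fun a b => Subtype.ext (by
          simpa using commutator_mul_of_central (a := (a : G)) (hZc (hcomm g g.2 b b.2))),
        fun n hn => Subtype.ext (commutatorElement_eq_one_iff_commute.mpr
          (Subgroup.mem_center_iff.mp (hZc hn) g))⟩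
    have hfib : ∀ g h : K, ψ g = ψ h → (h : G)⁻¹ * g ∈ Subgroup.centralizer (N : Set G) := by
      intro g h hgh n hn
      have h0 := congrArg Subtype.val (DFunLike.congr_fun (congrArg Subtype.val hgh) ⟨n, hn⟩)
      have h1 : ⁅(g : G), n⁆ = ⁅(h : G), n⁆ := by simpa [ψ] using h0
      rw [commutatorElement_def, commutatorElement_def] at h1
      have h2 : (g : G) * n * (g : G)⁻¹ = h * n * (h : G)⁻¹ := mul_right_cancel h1
      calc n * ((h : G)⁻¹ * g) = (h : G)⁻¹ * (h * n * (h : G)⁻¹) * g := by group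
        _ = (h : G)⁻¹ * g * n := by rw [← h2]; group
    haveI : Finite (N →* Z) := Finite.of_injective _ DFunLike.coe_injective
    have hrel : (Subgroup.centralizer (N : Set G)).relIndex K ≤ p ^ a := by
      have hcnt : Nat.card {f : N →* Z // Z.subgroupOf N ≤ f.ker} ≤ p ^ a := by
        refine le_trans (card_hom_le (hG.to_subgroup N) _ a ?_) ?_
        · rw [Nat.card_congr (Subgroup.subgroupOfEquivOfLe hZN).toEquiv, hN, hZ,
            Nat.card_zpowers, hzo, pow_succ]
        · rw [hZ, Nat.card_zpowers, hzo]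
      rw [Subgroup.relIndex, Subgroup.index_eq_card]
      refine le_trans (Nat.card_le_card_of_injective (fun q => ψ q.out) ?_) hcnt
      intro q r hqr
      rw [← Quotient.out_eq q, ← Quotient.out_eq r]
      exact Quotient.sound' (QuotientGroup.leftRel_apply.mpr (by
        simpa [Subgroup.mem_subgroupOf] using hfib _ _ hqr.symm))
    calc (Subgroup.centralizer (N : Set G)).index
        = (Subgroup.centralizer (N : Set G)).relIndex K * K.index :=
          (Subgroup.relIndex_mul_index hCK).symm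
      _ ≤ p ^ a * p ^ (a * (a - 1) / 2) := Nat.mul_le_mul hrel hKidx
      _ = p ^ ((a + 1) * (a + 1 - 1) / 2) := by
          rw [← pow_add]; congr 1
          cases a with
          | zero => rfl
          | succ b =>
            simp only [Nat.add_sub_cancel]
            rw [show (b + 1 + 1) * (b + 1) = (b + 1) * b + (b + 1) * 2 by ring,
              Nat.add_mul_div_right _ _ (by norm_num : 0 < 2), add_comm]

/-- A maximal normal abelian subgroup of a finite `p`-group is self-centralizing. -/
theorem centralizer_le_of_max (hG : IsPGroup p G) (A : Subgroup G) [A.Normal]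
    (hA : IsMulCommutative A)
    (hmax : ∀ B : Subgroup G, B.Normal → IsMulCommutative B → A ≤ B → B = A) :
    Subgroup.centralizer (A : Set G) ≤ A := by
  by_contra hne
  set C := Subgroup.centralizer (A : Set G)
  set π := QuotientGroup.mk' A with hπ
  haveI : (C.map π).Normal := Subgroup.Normal.map inferInstance _ (QuotientGroup.mk'_surjective A)
  have hbot : C.map π ≠ ⊥ := fun h => hne (by
    rw [Subgroup.map_eq_bot_iff, QuotientGroup.ker_mk'] at h; exact h)
  obtain ⟨z, ⟨x, hx, rfl⟩, hzo, hzc⟩ := exists_central_prime_mem (hG.to_quotient A) hbot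
  set B := A ⊔ Subgroup.zpowers x with hB
  have hBn : B.Normal := by
    have : B = (Subgroup.zpowers (π x)).comap π := by
      rw [← MonoidHom.map_zpowers, Subgroup.comap_map_eq, QuotientGroup.ker_mk', sup_comm]
    rw [this]
    haveI : (Subgroup.zpowers (π x)).Normal := ⟨fun a ha g => by
      rwa [(Subgroup.mem_center_iff.mp ((Subgroup.zpowers_le.mpr hzc) ha) g), mul_inv_cancel_right]⟩
    infer_instance
  have hBab : IsMulCommutative B := by
    have hBC : B = Subgroup.closure ((A : Set G) ∪ {x}) := by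
      rw [Subgroup.closure_union, Subgroup.closure_eq, ← Subgroup.zpowers_eq_closure]
    rw [hBC]
    refine Subgroup.isMulCommutative_closure ?_
    rintro a (ha | rfl) b (hb | rfl)
    · exact congrArg Subtype.val (hA.is_comm.comm ⟨a, ha⟩ ⟨b, hb⟩)
    · exact hx a ha
    · exact (hx b hb).symm
    · rfl
  have hEq := hmax B hBn hBab le_sup_left
  have hxA : x ∈ A := hEq ▸ Subgroup.mem_sup_right (Subgroup.mem_zpowers x)
  rw [show π x = 1 from (QuotientGroup.eq_one_iff x).mpr hxA, orderOf_one] at hzo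
  exact hp.out.one_lt.ne hzo

/-- For `p` odd, a noncyclic `p`-group with a cyclic subgroup of index `p` has `{x | x^p = 1}`
elementary abelian of order `p ^ 2`. -/
theorem cyclic_index_prime (hp2 : p ≠ 2) (hG : IsPGroup p G) (hnc : ¬ IsCyclic G)
    (C : Subgroup G) (hC : IsCyclic C) (hCi : C.index = p) :
    Cfsg.IsElementaryAbelian p (Subgroup.closure {x : G | x ^ p = 1}) ∧
      Nat.card (Subgroup.closure {x : G | x ^ p = 1}) = p ^ 2 := by
  haveI := hG.isNilpotent
  haveI hCn : C.Normal := by
    obtain ⟨n, hn⟩ := IsPGroup.iff_card.mp hG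
    refine Subgroup.normal_of_index_eq_minFac_card ?_
    rcases n with _ | n
    · have := C.index_dvd_card
      rw [hn, hCi, pow_zero, Nat.dvd_one] at this
      exact absurd this hp.out.one_lt.ne'
    · rw [hn, hCi, Nat.pow_minFac n.succ_ne_zero, hp.out.minFac_eq]
  obtain ⟨a, ha⟩ := isCyclic_iff_exists_zpowers_eq_top.mp hC
  obtain ⟨a', ha'⟩ : ∃ a' : G, C = Subgroup.zpowers a' := ⟨(a : G), by
    have := congrArg (Subgroup.map C.subtype) ha
    rw [MonoidHom.map_zpowers, ← MonoidHom.range_eq_map, Subgroup.range_subtype] at this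
    exact this.symm⟩
  obtain ⟨x, hx⟩ : ∃ x, x ∉ C := by
    by_contra! h
    have : C = ⊤ := eq_top_iff.mpr fun g _ => h g
    rw [this, Subgroup.index_top] at hCi
    exact hp.out.one_lt.ne hCi
  obtain ⟨k, hk⟩ := IsPGroup.iff_orderOf.mp hG a'
  have hxC : C ⊔ Subgroup.zpowers x = ⊤ := by
    have hlt : C < C ⊔ Subgroup.zpowers x :=
      lt_of_le_of_ne le_sup_left fun h => hx (h.symm ▸ Subgroup.mem_sup_right (Subgroup.mem_zpowers x))
    have hd := Subgroup.relIndex_mul_index hlt.le
    rw [hCi] at hd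
    rcases (Nat.dvd_prime hp.out).mp ⟨_, hd.symm⟩ with h | h
    · exact absurd (Subgroup.relIndex_eq_one.mp h) hlt.not_ge
    · rw [h] at hd
      exact Subgroup.index_eq_one.mp (Nat.eq_of_mul_eq_mul_left hp.out.pos (by rw [hd, mul_one]))
  obtain ⟨r, hr⟩ : ∃ r : ℤ, x * a' * x⁻¹ = a' ^ r := by
    have : x * a' * x⁻¹ ∈ C := hCn.conj_mem a' (ha' ▸ Subgroup.mem_zpowers a') x
    rw [ha'] at this
    obtain ⟨r, hr⟩ := Subgroup.mem_zpowers_iff.mp this
    exact ⟨r, hr.symm⟩
  have hpow : ∀ n : ℕ, x ^ n * a' * (x ^ n)⁻¹ = a' ^ (r ^ n) := by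
    intro n
    induction n with
    | zero => simp
    | succ n ih =>
      calc x ^ (n + 1) * a' * (x ^ (n + 1))⁻¹ = x * (x ^ n * a' * (x ^ n)⁻¹) * x⁻¹ := by
            rw [pow_succ']; group
        _ = (x * a' * x⁻¹) ^ (r ^ n) := by rw [ih, conj_zpow]
        _ = a' ^ (r ^ (n + 1)) := by rw [hr, ← zpow_mul, pow_succ', mul_comm]
  have hxp : x ^ p ∈ C := by
    have h1 := Subgroup.pow_index_mem C x
    rwa [hCi] at h1
  have hrp : (p ^ k : ℕ) ∣ ((r ^ p - 1 : ℤ)).natAbs := by
    have hcomm : x ^ p * a' * (x ^ p)⁻¹ = a' := by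
      rw [ha'] at hxp
      obtain ⟨j, hj⟩ := Subgroup.mem_zpowers_iff.mp hxp
      rw [← hj]; group
    rw [hpow p] at hcomm
    have h1 : a' ^ (r ^ p - 1) = 1 := by rw [zpow_sub, zpow_one, hcomm, mul_inv_cancel]
    rw [← hk]
    exact Int.natCast_dvd.mp (orderOf_dvd_iff_zpow_eq_one.mpr h1)
  -- the commutator `z = a' ^ (r - 1)` is central of exponent `p`
  have hz : ((p ^ k : ℕ) : ℤ) ∣ (p : ℤ) * (r - 1) ∧ ((p ^ k : ℕ) : ℤ) ∣ (r - 1) * (r - 1) := by
    rcases k with _ | k
    · simp
    have h1 : ((p ^ (k + 1) : ℕ) : ℤ) ∣ r ^ p - 1 := Int.natCast_dvd.mpr hrp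
    have hp1 : (p : ℤ) ∣ r ^ p - 1 := dvd_trans (by exact_mod_cast dvd_pow_self p k.succ_ne_zero) h1
    have hr1 : (p : ℤ) ∣ r - 1 := by
      rw [← ZMod.intCast_zmod_eq_zero_iff_dvd] at hp1 ⊢
      push_cast at hp1 ⊢
      rwa [ZMod.pow_card] at hp1
    have hpr : ¬ (p : ℤ) ∣ r := fun h => by
      have : (p : ℤ) ∣ 1 := by simpa using dvd_sub h hr1
      exact hp.out.one_lt.ne' (Int.ofNat_inj.mp (Int.eq_one_of_dvd_one (by simp) this))
    have hem := Int.emultiplicity_pow_sub_pow hp.out (hp.out.odd_of_ne_two hp2)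
      (y := (1 : ℤ)) hr1 hpr p
    rw [one_pow, hp.out.emultiplicity_self] at hem
    have hmain : ((p ^ k : ℕ) : ℤ) ∣ r - 1 := by
      have h2 : ((p : ℤ) ^ (k + 1)) ∣ r ^ p - 1 := by exact_mod_cast h1
      rw [pow_dvd_iff_le_emultiplicity, hem] at h2
      push_cast at h2 ⊢
      rw [pow_dvd_iff_le_emultiplicity]
      exact (ENat.add_le_add_iff_right (by simp)).mp h2
    push_cast at hmain ⊢
    constructor
    · rw [pow_succ']; exact mul_dvd_mul_left _ hmain
    · rw [pow_succ]; exact mul_dvd_mul hmain hr1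
  set z := a' ^ (r - 1) with hzdef
  have hzp : z ^ p = 1 := by
    rw [hzdef, ← zpow_natCast, ← zpow_mul, ← orderOf_dvd_iff_zpow_eq_one, hk, mul_comm]
    exact hz.1
  have hxz : x * z * x⁻¹ = z := by
    rw [hzdef, ← conj_zpow, hr, ← zpow_mul]
    have : r * (r - 1) = (r - 1) + (r - 1) * (r - 1) := by ring
    rw [this, zpow_add]
    have h0 : a' ^ ((r - 1) * (r - 1)) = 1 := by
      rw [← orderOf_dvd_iff_zpow_eq_one, hk]; exact hz.2
    rw [h0, mul_one]
  have hgen : Subgroup.closure ({a', x} : Set G) = ⊤ := by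
    rw [← hxC, ha', Set.insert_eq, Subgroup.closure_union, ← Subgroup.zpowers_eq_closure,
      ← Subgroup.zpowers_eq_closure]
  have hzc : z ∈ Subgroup.center G := by
    have : (⊤ : Subgroup G) ≤ Subgroup.centralizer {z} := by
      rw [← hgen, Subgroup.closure_le]
      rintro g (rfl | rfl) <;> rw [SetLike.mem_coe, Subgroup.mem_centralizer_singleton_iff]
      · rw [hzdef]; exact ((Commute.refl _).zpow_right _).eq
      · exact (mul_inv_eq_iff_eq_mul.mp hxz)
    rw [Subgroup.mem_center_iff]
    intro g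
    exact (Subgroup.mem_centralizer_singleton_iff.mp (this (Subgroup.mem_top g)))
  haveI : (Subgroup.zpowers z).Normal := ⟨fun u hu g => by
    rwa [(Subgroup.mem_center_iff.mp ((Subgroup.zpowers_le.mpr hzc) hu) g), mul_inv_cancel_right]⟩
  have hcm : commutator G ≤ Subgroup.zpowers z := by
    rw [commutator_def, Subgroup.commutator_le]
    intro g₁ _ g₂ _
    set π := QuotientGroup.mk' (Subgroup.zpowers z)
    have hab : ∀ u v : G ⧸ Subgroup.zpowers z, u * v = v * u := by
      have htop : Subgroup.closure ({π a', π x} : Set _) = ⊤ := by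
        rw [← Set.image_pair, ← MonoidHom.map_closure, hgen,
          Subgroup.map_top_of_surjective _ (QuotientGroup.mk'_surjective _)]
      have hax : π x * π a' = π a' * π x := by
        have h0 : x * a' = z * (a' * x) := by
          rw [hzdef, ← mul_assoc, ← zpow_add_one, sub_add_cancel, ← hr]; group
        rw [← map_mul, ← map_mul, h0, map_mul π z,
          show π z = 1 from (QuotientGroup.eq_one_iff z).mpr (Subgroup.mem_zpowers z), one_mul]
      haveI := Subgroup.isMulCommutative_closure (G := G ⧸ Subgroup.zpowers z)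
        (k := {π a', π x}) (by
          rintro u (rfl | rfl) v (rfl | rfl) <;> first | rfl | exact hax | exact hax.symm)
      intro u v
      exact congrArg Subtype.val (this.is_comm.comm
        ⟨u, htop ▸ Subgroup.mem_top u⟩ ⟨v, htop ▸ Subgroup.mem_top v⟩)
    have : π ⁅g₁, g₂⁆ = 1 := by
      rw [map_commutatorElement]; exact commutatorElement_eq_one_iff_commute.mpr (hab _ _)
    exact (QuotientGroup.eq_one_iff _).mp this
  have hs : SmallClass p G := Or.inl ⟨hp2, by
    rw [Subgroup.commutator_eq_bot_iff_le_centralizer]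
    intro u hu g _
    exact Subgroup.mem_center_iff.mp ((hcm.trans (Subgroup.zpowers_le.mpr hzc)) hu) g⟩
  have hmul : ∀ u v : G, (u * v) ^ p = u ^ p * v ^ p := by
    intro u v
    obtain ⟨c, d, e, -, -, -, hc, -, -, -, hpw⟩ := smallClass_formula hs u v
    refine hpw ?_
    obtain ⟨j, rfl⟩ := Subgroup.mem_zpowers_iff.mp (hcm hc)
    rw [← zpow_natCast, ← zpow_mul, mul_comm, zpow_mul, zpow_natCast, hzp, one_zpow]
  let f : G →* G := MonoidHom.mk' (fun u => u ^ p) hmul
  have hΩ : Subgroup.closure {u : G | u ^ p = 1} = f.ker :=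
    le_antisymm ((Subgroup.closure_le _).mpr fun u hu => hu) fun u hu => Subgroup.subset_closure hu
  have hrange : f.range = Subgroup.zpowers (a' ^ p) := by
    refine le_antisymm ?_ (Subgroup.zpowers_le.mpr ⟨a', rfl⟩)
    rintro _ ⟨u, rfl⟩
    have hup : u ^ p ∈ C := hCi ▸ Subgroup.pow_index_mem C u
    show u ^ p ∈ _
    by_contra hnot
    -- then `u ^ p` generates `C`, so `u` generates the whole group
    apply hnc
    rw [ha'] at hup
    obtain ⟨i, hi⟩ := Subgroup.mem_zpowers_iff.mp hup
    have hpi : ¬ (p : ℤ) ∣ i := fun ⟨j, hj⟩ => hnot (hi ▸ hj ▸ ⟨j, by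
      show (a' ^ p) ^ j = _; rw [← zpow_natCast, ← zpow_mul]⟩)
    have hou : orderOf (u ^ p) = p ^ k := by
      rw [← hi, ← hk]
      have hcop : IsCoprime ((orderOf a' : ℕ) : ℤ) i := by
        rw [hk]; push_cast
        exact ((Nat.prime_iff_prime_int.mp hp.out).coprime_iff_not_dvd.mpr hpi).pow_left
      obtain ⟨s, t, hst⟩ := hcop
      refine Nat.dvd_antisymm (orderOf_dvd_iff_pow_eq_one.mpr (by
        rw [← zpow_natCast, ← zpow_mul, mul_comm, zpow_mul, zpow_natCast, pow_orderOf_eq_one,
          one_zpow])) ?_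
      have : a' = (a' ^ i) ^ t := by
        conv_lhs => rw [← zpow_one a', ← hst, zpow_add, mul_comm s, zpow_mul, zpow_natCast,
          pow_orderOf_eq_one, one_zpow, one_mul, mul_comm t, zpow_mul]
      conv_lhs => rw [this]
      exact orderOf_dvd_of_mem_zpowers (Subgroup.zpow_mem _ (Subgroup.mem_zpowers _) t)
    have hGcard : Nat.card G = p ^ k * p := by
      rw [← Subgroup.card_mul_index C, hCi, ha', Nat.card_zpowers, hk]
    refine isCyclic_of_orderOf_eq_card u ?_
    rw [hGcard]
    obtain ⟨l, hl⟩ := IsPGroup.iff_orderOf.mp hG u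
    rcases l with _ | l
    · exfalso
      have hu1 : u = 1 := orderOf_eq_one_iff.mp (by simpa using hl)
      exact hnot (by rw [hu1, one_pow]; exact one_mem _)
    rw [orderOf_pow' u hp.out.ne_zero, hl, Nat.gcd_eq_right (dvd_pow_self p l.succ_ne_zero),
      pow_succ, Nat.mul_div_cancel _ hp.out.pos] at hou
    rw [hl, pow_succ, hou]
  have hk1 : k ≠ 0 := by
    rintro rfl
    apply hnc
    refine isCyclic_of_prime_card (p := p) ?_
    rw [← Subgroup.card_mul_index C, hCi, ha', Nat.card_zpowers, hk, pow_zero, one_mul]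
  have hcard : Nat.card (Subgroup.closure {u : G | u ^ p = 1}) = p ^ 2 := by
    have h1 := Subgroup.card_mul_index f.ker
    rw [Subgroup.index_ker, hrange, Nat.card_zpowers,
      orderOf_pow' a' hp.out.ne_zero, hk, Nat.gcd_eq_right (dvd_pow_self p hk1),
      ← Subgroup.card_mul_index C, hCi, ha', Nat.card_zpowers, hk] at h1
    obtain ⟨k, rfl⟩ := Nat.exists_eq_succ_of_ne_zero hk1
    rw [pow_succ, Nat.mul_div_cancel _ hp.out.pos] at h1
    rw [hΩ]
    exact Nat.eq_of_mul_eq_mul_right (pow_pos hp.out.pos k) (h1.trans (by ring))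
  exact ⟨⟨⟨⟨IsPGroup.commutative_of_card_eq_prime_sq hcard⟩⟩,
    fun u hu => smallClass_closure_pow hs hu⟩, hcard⟩

end Cfsg.Agent.Lib.PLocal
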