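import Cfsg.Agent.Lib.PLocal.GZJDefs
import Cfsg.Agent.Lib.FusionControl.PStable
import Cfsg.Prelude.Def_LocalEven

/-!
`Z(J)` as a characteristic `p`-functor, and its normality in constrained stable groups.
-/

set_option autoImplicit false
set_option linter.unusedSectionVars false
set_option linter.style.haveILetI false

universe u

namespace Cfsg.Agent.Lib.PLocal

open Cfsg.Agent.Lib.FusionControl

/-- `Z(J(Q))`, abelian version. -/
def zjA (Q : Type u) [Group Q] : Subgroup Q := Cfsg.centerThompsonAOf (⊤ : Subgroup Q)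

section Map

variable {G H : Type*} [Group G] [Group H]

lemma map_zIn_of_injective (f : G →* H) (hf : Function.Injective f) [Finite G] (e : ℕ) (S : Subgroup G) :
    (zIn e S).map f = zIn e (S.map f) := by
  apply le_antisymm
  · rintro _ ⟨x, hx, rfl⟩
    rw [zIn, Subgroup.mem_sInf]
    intro A hA
    have hAr : A ≤ f.range := hA.1.trans fun y ⟨s, _, hs⟩ => ⟨s, hs⟩
    have hA' : (A.comap f).map f = A := Subgroup.map_comap_eq_self hAr
    have h1 : MaxIn e S (A.comap f) := by
      refine ⟨fun y hy => ?_, elemAb_of_map hf (by rw [hA']; exact hA.2.1), fun B hB hBe => ?_⟩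
      · obtain ⟨s, hs, hse⟩ := hA.1 hy
        exact hf hse ▸ hs
      · have h2 := hA.2.2 (B.map f) (Subgroup.map_mono hB) (elemAb_map hBe f)
        rwa [← hA', Subgroup.card_map_of_injective hf, Subgroup.card_map_of_injective hf] at h2
    exact zIn_le h1 hx
  · intro y hy
    obtain ⟨A, hA⟩ := exists_maxIn e S
    obtain ⟨x, -, rfl⟩ := zIn_le (maxIn_map f hf hA) hy
    refine ⟨x, ?_, rfl⟩
    rw [SetLike.mem_coe, zIn, Subgroup.mem_sInf]
    intro B hB
    obtain ⟨b, hb, hbx⟩ := zIn_le (maxIn_map f hf hB) hy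
    exact hf hbx ▸ hb

end Map

variable {p : ℕ} [Fact p.Prime]

lemma center_le_zIn_zero {G : Type*} [Group G] [Finite G] (S : Subgroup G) :
    S ⊓ Subgroup.centralizer (S : Set G) ≤ zIn 0 S := fun _ hx =>
  mem_zIn (Subgroup.mem_inf.mp hx).1 (pow_zero _) fun _ hA a ha =>
    ((Subgroup.mem_inf.mp hx).2 a (hA.1 ha)).symm

lemma inducedFunctor_zjA {G : Type u} [Group G] [Finite G] (P : Subgroup G) :
    Cfsg.inducedFunctor zjA P = Cfsg.centerThompsonAOf P := by
  rw [Cfsg.inducedFunctor, zjA, ← zIn_zero_eq, ← zIn_zero_eq,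
    map_zIn_of_injective P.subtype P.subtype_injective, ← MonoidHom.range_eq_map, Subgroup.range_subtype]

lemma isCharPFunctor_zjA : Cfsg.IsCharPFunctor.{u} p zjA := by
  refine ⟨fun Q _ _ hQ hnt h => ?_, fun Q R _ _ _ _ φ => ?_⟩
  · rw [zjA, ← zIn_zero_eq] at h
    obtain ⟨⟨z, hz⟩, hz1⟩ := @exists_ne (Subgroup.center Q) hQ.center_nontrivial 1
    refine hz1 (Subtype.ext ?_)
    have h1 : z ∈ zIn 0 (⊤ : Subgroup Q) := center_le_zIn_zero _ (Subgroup.mem_inf.mpr
      ⟨trivial, fun y _ => Subgroup.mem_center_iff.mp hz y⟩)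
    rwa [h, Subgroup.mem_bot] at h1
  · haveI : Finite R := Finite.of_equiv Q φ.toEquiv
    rw [zjA, zjA, ← zIn_zero_eq, ← zIn_zero_eq, map_zIn_of_injective φ.toMonoidHom φ.injective,
      Subgroup.map_top_of_surjective φ.toMonoidHom φ.surjective]

/-- Stability in the normalizer form gives stability on normal `p`-subgroups. -/
lemma isPStableOn_of_normalizerPStable {G : Type*} [Group G] [Finite G]
    (hst : Cfsg.IsNormalizerPStable p G) (P : Subgroup G) [P.Normal] (hP : IsPGroup p P) :
    Cfsg.IsPStableOn p P := by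
  intro a ha
  have hN : Subgroup.normalizer (P : Set G) = ⊤ := Subgroup.normalizer_eq_top P
  have haN : a ∈ Subgroup.normalizer (P : Set G) := hN ▸ Subgroup.mem_top a
  set N := Subgroup.normalizer (P : Set G) with hNdef
  set C := Subgroup.centralizer (P : Set G) with hC
  set f := QuotientGroup.map (C.subgroupOf N) C N.subtype (fun x hx => hx) with hf
  have hs : Function.Surjective f := by
    intro y
    obtain ⟨g, rfl⟩ := QuotientGroup.mk'_surjective C y
    exact ⟨QuotientGroup.mk ⟨g, hN ▸ Subgroup.mem_top g⟩, rfl⟩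
  have h1 := hst P hP a haN ha
  exact Cores.le_pCore ((Cfsg.pCore_normal p _).map f hs) ((Cores.pCore_isPGroup p _).map f)
    ⟨_, h1, rfl⟩

/-- Glauberman's `ZJ` theorem for groups stable in the normalizer form. -/
theorem centerThompsonAOf_normal {G : Type*} [Group G] [Finite G] (hp : p ≠ 2)
    (hc : Subgroup.centralizer (Cfsg.pCore p G : Set G) ≤ Cfsg.pCore p G)
    (hst : Cfsg.IsNormalizerPStable p G) (S : Sylow p G) :
    (Cfsg.centerThompsonAOf (S : Subgroup G)).Normal := by
  rw [← zIn_zero_eq]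
  exact zIn_normal hp hc (fun P _ hP => isPStableOn_of_normalizerPStable hst P hP) (Or.inr rfl) S

/-- A functor which is normal in constrained groups with abelian-by-`p` top detects `p`-nilpotence. -/
theorem npc_of_abTop {W : ∀ (Q : Type u) [Group Q], Subgroup Q} (hW : Cfsg.IsCharPFunctor.{u} p W)
    (h : ∀ (Y : Type u) [Group Y] [Finite Y], CharPType p Y → HasAbTop p Y →
      ∀ T : Sylow p Y, (Cfsg.inducedFunctor W (T : Subgroup Y)).Normal)
    {G : Type u} [Group G] [Finite G] (S : Sylow p G)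
    (hN : Cfsg.HasNormalPComplement p
      ↥(Subgroup.normalizer ((Cfsg.inducedFunctor W (S : Subgroup G) : Subgroup G) : Set G))) :
    Cfsg.HasNormalPComplement p G := by
  refine npc_of_thompsonHyp hW (G := G) (fun Y _ _ hY => ?_) _ G rfl involves_self S hN
  exact fun hC hnpc T hT => h Y hC (hasAbTop_minimal hnpc T hT) T

/-- The Glauberman–Thompson criterion, abelian version. -/
theorem npc_zjA {G : Type u} [Group G] [Finite G] (hp : p ≠ 2) (S : Sylow p G)
    (hN : Cfsg.HasNormalPComplement p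
      ↥(Subgroup.normalizer ((Cfsg.centerThompsonAOf (S : Subgroup G) : Subgroup G) : Set G))) :
    Cfsg.HasNormalPComplement p G := by
  refine npc_of_abTop (W := zjA) isCharPFunctor_zjA (fun Y _ _ hC hY T => ?_) S
    (by rw [inducedFunctor_zjA]; exact hN)
  rw [inducedFunctor_zjA]
  exact centerThompsonAOf_normal hp hC (isNormalizerPStable_of_hasAbTop hp hY) T

end Cfsg.Agent.Lib.PLocal
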