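import Cfsg.Agent.Lib.PLocal.GZJClosed
import Cfsg.Agent.Lib.PLocal.ZJFunctor

/-!
The Glauberman–Thompson criterion relative to a strongly closed subgroup, in groups of
characteristic `p`.
-/

set_option autoImplicit false
set_option linter.unusedSectionVars false
set_option linter.style.haveILetI false

universe u

namespace Cfsg.Agent.Lib.PLocal

open Cfsg.Agent.Lib.FusionControl

variable {p : ℕ} [Fact p.Prime]

/-- A group of characteristic `p` with a normal `p`-complement is a `p`-group. -/
theorem isPGroup_of_npc_charP {G : Type u} [Group G] [Finite G] (hC : CharPType p G)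
    (h : Cfsg.HasNormalPComplement p G) : IsPGroup p G := by
  have hcop := Cfsg.Agent.Lib.Transfer.hasNormalPComplement_iff_coprime.1 h
  have hK : Cfsg.pResidual p G = ⊥ := (Subgroup.eq_bot_iff_forall _).2 fun x hx => by
    have hxc := Cfsg.Agent.Lib.Transfer.coprime_orderOf_of_mem hcop hx
    haveI := Cfsg.pCore_normal p G
    exact Cfsg.Agent.Lib.Transfer.eq_one_of_isPGroup_of_coprime (Cores.pCore_isPGroup p G)
      (hC (Cfsg.Agent.Lib.Transfer.commute_of_hasNormalPComplement h (Cores.pCore_isPGroup p G) hxc))
      hxc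
  obtain ⟨k, hk⟩ := Cfsg.Agent.Lib.Transfer.exists_index_pResidual (G := G) (p := p)
  rw [hK, Subgroup.index_bot] at hk
  exact IsPGroup.of_card hk

theorem hasNormalPComplement_of_isPGroup {G : Type u} [Group G] [Finite G] (h : IsPGroup p G) :
    Cfsg.HasNormalPComplement p G := by
  obtain ⟨k, hk⟩ := IsPGroup.iff_card.1 h
  exact Cfsg.Agent.Lib.Transfer.hasNormalPComplement_of_coprime_of_index (k := k) (⊥ : Subgroup G)
    (by simp) (by rw [Subgroup.index_bot, hk])

/-- The functor test for a strongly closed subgroup. -/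
theorem isPGroup_of_closed (hp : p ≠ 2) : ∀ (n : ℕ) (L : Type u) [Group L] [Finite L],
    Nat.card L = n → ∀ (T : Sylow p L) (D : Subgroup L), D ≤ (T : Subgroup L) →
    (∀ d ∈ D, ∀ g : L, g * d * g⁻¹ ∈ (T : Subgroup L) → g * d * g⁻¹ ∈ D) →
    CharPType p L →
    (∀ g ∈ Subgroup.normalizer (zIn 0 D : Set L), ∃ k : ℕ, g ^ p ^ k = 1) →
    IsPGroup p L := by
  intro n
  induction n using Nat.strong_induction_on with
  | _ n ih =>
    intro L _ _ hn T D hDT hDc hC hN
    by_cases htop : (T : Subgroup L) = ⊤
    · exact (htop ▸ T.2).of_equiv Subgroup.topEquiv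
    -- if `Z` is normal we are done
    have hdone : Subgroup.normalizer (zIn 0 D : Set L) = ⊤ → IsPGroup p L := fun h g =>
      hN g (h ▸ Subgroup.mem_top g)
    haveI hQn := Cfsg.pCore_normal p L
    have hQT : Cfsg.pCore p L ≤ (T : Subgroup L) := Cores.pCore_le_sylow T
    have hco : IsCoatom (T : Subgroup L) := by
      refine ⟨htop, fun H hTH => ?_⟩
      by_contra hH
      have hHp : IsPGroup p H := by
        have hlt : Nat.card H < n := hn ▸ lt_of_le_of_ne (Subgroup.card_le_card_group H)
          fun e => hH (Subgroup.eq_top_of_card_eq H e)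
        refine ih _ hlt H rfl (T.subtype hTH.le) (D.subgroupOf H) ?_ ?_ ?_ ?_
        · intro x hx
          rw [Sylow.coe_subtype]
          exact hDT hx
        · intro d hd g hg
          rw [Sylow.coe_subtype] at hg
          exact hDc (d : L) hd (g : L) hg
        · have h1 : (Cfsg.pCore p L).subgroupOf H ≤ Cfsg.pCore p H :=
            Cores.le_pCore inferInstance ((Cores.pCore_isPGroup p L).of_equiv
              (Subgroup.subgroupOfEquivOfLe (hQT.trans hTH.le)).symm)
          intro x hx
          refine h1 (Subgroup.mem_subgroupOf.2 (hC fun z hz => ?_))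
          exact congrArg Subtype.val (hx ⟨z, hTH.le (hQT hz)⟩ (h1 hz))
        · intro g hg
          have h2 : (zIn 0 (D.subgroupOf H)).map H.subtype = zIn 0 D := by
            rw [map_zIn_of_injective H.subtype H.subtype_injective, Subgroup.subgroupOf_map_subtype,
              inf_eq_left.2 (hDT.trans hTH.le)]
          have h3 : (g : L) ∈ Subgroup.normalizer (zIn 0 D : Set L) := by
            rw [← h2]
            exact Subgroup.le_normalizer_map H.subtype ⟨g, hg, rfl⟩
          obtain ⟨k, hk⟩ := hN g h3
          exact ⟨k, Subtype.ext (by simpa using hk)⟩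
      exact hTH.ne (T.3 hHp hTH.le).symm
    set π := QuotientGroup.mk' (Cfsg.pCore p L) with hπ
    have hsurj : Function.Surjective π := QuotientGroup.mk'_surjective _
    have hnpc : Cfsg.HasNormalPComplement p (L ⧸ Cfsg.pCore p L) := by
      set U := T.mapSurjective hsurj with hU
      refine npc_zjA hp U ?_
      set H := (Subgroup.normalizer ((Cfsg.centerThompsonAOf (U : Subgroup (L ⧸ Cfsg.pCore p L)) :
        Subgroup (L ⧸ Cfsg.pCore p L)) : Set (L ⧸ Cfsg.pCore p L))) with hH
      have hUH : (U : Subgroup (L ⧸ Cfsg.pCore p L)) ≤ H := by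
        rw [hH, ← zIn_zero_eq]
        exact Subgroup.le_normalizer.trans (normalizer_le_normalizer_zIn 0 _)
      have hTH : (T : Subgroup L) ≤ H.comap π := fun x hx =>
        hUH (by rw [hU, Sylow.coe_mapSurjective]; exact ⟨x, hx, rfl⟩)
      rcases hTH.eq_or_lt with e | hlt
      · refine hasNormalPComplement_of_isPGroup ?_
        have h1 : IsPGroup p ↥((H.comap π).map π) := (e ▸ T.2).map π
        rwa [Subgroup.map_comap_eq_self_of_surjective hsurj] at h1
      · have hHtop : H = ⊤ := by
          rw [← Subgroup.map_comap_eq_self_of_surjective hsurj H, hco.2 _ hlt,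
            Subgroup.map_top_of_surjective π hsurj]
        haveI : (Cfsg.centerThompsonAOf (U : Subgroup (L ⧸ Cfsg.pCore p L))).Normal :=
          Subgroup.normalizer_eq_top_iff.1 hHtop
        -- then the Sylow subgroup is trivial
        have hZ : Cfsg.centerThompsonAOf (U : Subgroup (L ⧸ Cfsg.pCore p L)) = ⊥ := by
          refine le_bot_iff.1 ((Cores.le_pCore inferInstance (U.2.to_le ?_)).trans
            (Cores.pCore_quotient_pCore p L).le)
          rw [← zIn_zero_eq]
          exact zIn_le_self 0 _
        have hUbot : (U : Subgroup (L ⧸ Cfsg.pCore p L)) = ⊥ := by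
          by_contra hne
          haveI := (Subgroup.nontrivial_iff_ne_bot _).2 hne
          obtain ⟨⟨z, hz⟩, hz1⟩ := @exists_ne (Subgroup.center ↥(U : Subgroup (L ⧸ Cfsg.pCore p L)))
            U.2.center_nontrivial 1
          refine hz1 (Subtype.ext (Subtype.ext (Subgroup.mem_bot.1 ?_)))
          rw [← hZ, ← zIn_zero_eq]
          exact center_le_zIn_zero _ ⟨z.2, fun y hy =>
            congrArg Subtype.val (Subgroup.mem_center_iff.1 hz ⟨y, hy⟩)⟩
        have hTQ : (T : Subgroup L) = Cfsg.pCore p L := by
          refine le_antisymm (fun x hx => ?_) hQT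
          have h1 : π x ∈ (U : Subgroup (L ⧸ Cfsg.pCore p L)) := by
            rw [hU, Sylow.coe_mapSurjective]; exact ⟨x, hx, rfl⟩
          rw [hUbot, Subgroup.mem_bot] at h1
          exact (QuotientGroup.eq_one_iff x).1 h1
        refine hasNormalPComplement_of_isPGroup (((hdone ?_).of_surjective π hsurj).to_subgroup _)
        rw [eq_top_iff]
        intro g _
        refine normalizer_le_normalizer_zIn 0 D (mem_normalizer_of_conj fun x hx => hDc x hx g ?_)
        rw [hTQ]
        exact hQn.conj_mem x (hTQ.le (hDT hx)) g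
    have hst := isNormalizerPStable_of_hasAbTop hp (hasAbTop_minimal hnpc T hco)
    refine hdone (Subgroup.normalizer_eq_top_iff.2 ?_)
    exact zIn_normal_closed hp hC (fun P _ hP => isPStableOn_of_normalizerPStable hst P hP)
      (Or.inr rfl) T hDT hDc

end Cfsg.Agent.Lib.PLocal
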