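import Cfsg.Prelude.Def_PLocal
import Cfsg.Agent.Lib.Cores

/-!
Basics on the Thompson subgroup `J` (elementary abelian subgroups of largest order), `Ω₁`, and
elementary abelian subgroups.
-/

set_option autoImplicit false

namespace Cfsg.Agent.Lib.PLocal

variable {G : Type*} [Group G] {p : ℕ}

lemma elemAb_isPGroup {A : Subgroup G} (h : Cfsg.IsElementaryAbelian p A) : IsPGroup p A :=
  fun a => ⟨1, Subtype.ext (by simpa using h.2 a a.2)⟩

lemma elemAb_of_le {A B : Subgroup G} (h : Cfsg.IsElementaryAbelian p A) (hle : B ≤ A) :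
    Cfsg.IsElementaryAbelian p B :=
  ⟨⟨⟨fun a b => Subtype.ext (congrArg Subtype.val
    ((h.1).is_comm.comm ⟨a.1, hle a.2⟩ ⟨b.1, hle b.2⟩) :)⟩⟩, fun a ha => h.2 a (hle ha)⟩

lemma elemAb_bot : Cfsg.IsElementaryAbelian p (⊥ : Subgroup G) :=
  ⟨⟨⟨fun _ _ => Subsingleton.elim _ _⟩⟩, fun a ha => by simp [Subgroup.mem_bot.mp ha]⟩

lemma commute_of_elemAb {A : Subgroup G} (h : Cfsg.IsElementaryAbelian p A) {a b : G}
    (ha : a ∈ A) (hb : b ∈ A) : a * b = b * a :=
  congrArg Subtype.val (h.1.is_comm.comm (⟨a, ha⟩ : A) ⟨b, hb⟩)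

lemma elemAb_closure {S : Set G} (h1 : ∀ a ∈ S, ∀ b ∈ S, a * b = b * a)
    (h2 : ∀ a ∈ S, a ^ p = 1) : Cfsg.IsElementaryAbelian p (Subgroup.closure S) := by
  haveI hc : IsMulCommutative (Subgroup.closure S) := Subgroup.isMulCommutative_closure h1
  refine ⟨hc, fun a ha => ?_⟩
  induction ha using Subgroup.closure_induction with
  | mem x hx => exact h2 x hx
  | one => simp
  | mul x y hx hy ihx ihy =>
    have hxy : Commute x y := congrArg Subtype.val (hc.is_comm.comm ⟨x, hx⟩ ⟨y, hy⟩)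
    rw [hxy.mul_pow, ihx, ihy, one_mul]
  | inv x _ ih => rw [inv_pow, ih, inv_one]

lemma elemAb_sup {A B : Subgroup G} (hA : Cfsg.IsElementaryAbelian p A)
    (hB : Cfsg.IsElementaryAbelian p B) (hAB : ∀ a ∈ A, ∀ b ∈ B, a * b = b * a) :
    Cfsg.IsElementaryAbelian p (A ⊔ B) := by
  rw [Subgroup.sup_eq_closure]
  refine elemAb_closure ?_ ?_
  · rintro a (ha | ha) b (hb | hb)
    · exact commute_of_elemAb hA ha hb
    · exact hAB a ha b hb
    · exact (hAB b hb a ha).symm
    · exact commute_of_elemAb hB ha hb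
  · rintro a (ha | ha)
    · exact hA.2 a ha
    · exact hB.2 a ha

lemma elemAb_map {H : Type*} [Group H] {A : Subgroup G} (h : Cfsg.IsElementaryAbelian p A)
    (f : G →* H) : Cfsg.IsElementaryAbelian p (A.map f) := by
  refine ⟨⟨⟨fun a b => ?_⟩⟩, ?_⟩
  · obtain ⟨_, x, hx, rfl⟩ := a
    obtain ⟨_, y, hy, rfl⟩ := b
    apply Subtype.ext
    show f x * f y = f y * f x
    rw [← map_mul, commute_of_elemAb h hx hy, map_mul]
  · rintro _ ⟨x, hx, rfl⟩
    rw [← map_pow, h.2 x hx, map_one]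

lemma elemAb_of_map {H : Type*} [Group H] {A : Subgroup G} {f : G →* H}
    (hf : Function.Injective f) (h : Cfsg.IsElementaryAbelian p (A.map f)) :
    Cfsg.IsElementaryAbelian p A := by
  refine ⟨⟨⟨fun a b => Subtype.ext (hf ?_)⟩⟩, fun a ha => hf ?_⟩
  · show f ((a : G) * b) = f ((b : G) * a)
    rw [map_mul, map_mul, commute_of_elemAb h ⟨a, a.2, rfl⟩ ⟨b, b.2, rfl⟩]
  · rw [map_pow, h.2 _ ⟨a, ha, rfl⟩, map_one]

/-! ### `Ω₁` -/

lemma omegaOne_le (p : ℕ) (H : Subgroup G) : Cfsg.omegaOne p H ≤ H :=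
  (Subgroup.closure_le _).mpr fun _ hx => hx.1

lemma mem_omegaOne {p : ℕ} {H : Subgroup G} {x : G} (hx : x ∈ H) (hp : x ^ p = 1) :
    x ∈ Cfsg.omegaOne p H := Subgroup.subset_closure ⟨hx, hp⟩

lemma elemAb_omegaOne {H : Subgroup G} (hH : ∀ a ∈ H, ∀ b ∈ H, a * b = b * a) :
    Cfsg.IsElementaryAbelian p (Cfsg.omegaOne p H) :=
  elemAb_closure (fun a ha b hb => hH a ha.1 b hb.1) fun a ha => ha.2

lemma omegaOne_le_elemAb_iff {H E : Subgroup G} :
    Cfsg.omegaOne p H ≤ E ↔ ∀ x ∈ H, x ^ p = 1 → x ∈ E :=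
  ⟨fun h _ hx hxp => h (mem_omegaOne hx hxp), fun h => (Subgroup.closure_le _).mpr fun x hx => h x hx.1 hx.2⟩

lemma map_omegaOne {H : Type*} [Group H] (f : G →* H) (hf : Function.Injective f) (K : Subgroup G) :
    (Cfsg.omegaOne p K).map f = Cfsg.omegaOne p (K.map f) := by
  rw [Cfsg.omegaOne, Cfsg.omegaOne, MonoidHom.map_closure]
  congr 1
  ext y
  constructor
  · rintro ⟨x, ⟨hx, hxp⟩, rfl⟩
    exact ⟨⟨x, hx, rfl⟩, by rw [← map_pow, hxp, map_one]⟩
  · rintro ⟨⟨x, hx, rfl⟩, hxp⟩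
    exact ⟨x, ⟨hx, hf (by rw [map_pow, hxp, map_one])⟩, rfl⟩

/-! ### Largest elementary abelian subgroups -/

variable [Finite G]

lemma exists_maxElemAb (p : ℕ) (G : Type*) [Group G] [Finite G] :
    (Cfsg.maxElementaryAbelianSubgroups p G).Nonempty := by
  obtain ⟨A, hA, hmax⟩ := Set.exists_max_image {A : Subgroup G | Cfsg.IsElementaryAbelian p A}
    (fun A => Nat.card A) (Set.toFinite _) ⟨⊥, elemAb_bot⟩
  exact ⟨A, hA, hmax⟩

lemma le_thompsonSubgroup {A : Subgroup G} (hA : A ∈ Cfsg.maxElementaryAbelianSubgroups p G) :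
    A ≤ Cfsg.thompsonSubgroup p G := le_sSup hA

lemma mem_maxElemAb_of_le {A B : Subgroup G} (hA : A ∈ Cfsg.maxElementaryAbelianSubgroups p G)
    (hB : Cfsg.IsElementaryAbelian p B) (hle : Nat.card A ≤ Nat.card B) :
    B ∈ Cfsg.maxElementaryAbelianSubgroups p G :=
  ⟨hB, fun C hC => (hA.2 C hC).trans hle⟩

lemma map_maxElemAb_equiv {H : Type*} [Group H] (e : G ≃* H) {A : Subgroup G}
    (hA : A ∈ Cfsg.maxElementaryAbelianSubgroups p G) :
    A.map e.toMonoidHom ∈ Cfsg.maxElementaryAbelianSubgroups p H := by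
  refine ⟨elemAb_map hA.1 _, fun B hB => ?_⟩
  have h1 := hA.2 (B.map e.symm.toMonoidHom) (elemAb_map hB _)
  have h2 : Nat.card (B.map e.symm.toMonoidHom) = Nat.card B :=
    Subgroup.card_map_of_injective e.symm.injective
  have h3 : Nat.card (A.map e.toMonoidHom) = Nat.card A :=
    Subgroup.card_map_of_injective e.injective
  omega

lemma map_thompsonSubgroup_equiv {H : Type*} [Group H] (e : G ≃* H) :
    (Cfsg.thompsonSubgroup p G).map e.toMonoidHom = Cfsg.thompsonSubgroup p H := by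
  haveI : Finite H := Finite.of_equiv G e.toEquiv
  refine le_antisymm (Subgroup.map_le_iff_le_comap.mpr (sSup_le fun A hA => ?_)) (sSup_le fun B hB => ?_)
  · exact Subgroup.map_le_iff_le_comap.mp (le_sSup (map_maxElemAb_equiv e hA))
  · have := le_thompsonSubgroup (map_maxElemAb_equiv e.symm hB)
    intro b hb
    exact ⟨e.symm b, this ⟨b, hb, rfl⟩, e.apply_symm_apply b⟩

instance thompsonSubgroup_characteristic : (Cfsg.thompsonSubgroup p G).Characteristic :=
  Subgroup.characteristic_iff_map_le.mpr fun e => (map_thompsonSubgroup_equiv e).le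

lemma thompsonSubgroup_ne_bot [hp : Fact p.Prime] (hd : p ∣ Nat.card G) :
    Cfsg.thompsonSubgroup p G ≠ ⊥ := by
  obtain ⟨x, hx⟩ := exists_prime_orderOf_dvd_card' (G := G) p hd
  obtain ⟨A, hA⟩ := exists_maxElemAb p G
  have hE : Cfsg.IsElementaryAbelian p (Subgroup.zpowers x) := by
    rw [Subgroup.zpowers_eq_closure]
    refine elemAb_closure (fun a ha b hb => by rw [Set.mem_singleton_iff.mp ha, Set.mem_singleton_iff.mp hb]) ?_
    rintro a rfl
    rw [← hx, pow_orderOf_eq_one]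
  intro h
  have hAb : A = ⊥ := le_bot_iff.mp (h ▸ le_thompsonSubgroup hA)
  have := hA.2 _ hE
  rw [hAb, Subgroup.card_bot, Nat.card_zpowers, hx] at this
  exact absurd this (not_le.mpr hp.out.one_lt)

/-- An element of order dividing `p` centralising `J(G)` lies in every member. -/
lemma mem_of_centralizes {A : Subgroup G} (hA : A ∈ Cfsg.maxElementaryAbelianSubgroups p G)
    {x : G} (hx : x ∈ Subgroup.centralizer (A : Set G)) (hxp : x ^ p = 1) : x ∈ A := by
  have hE : Cfsg.IsElementaryAbelian p (A ⊔ Subgroup.zpowers x) := by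
    refine elemAb_sup hA.1 ?_ ?_
    · rw [Subgroup.zpowers_eq_closure]
      exact elemAb_closure (fun a ha b hb => by rw [Set.mem_singleton_iff.mp ha, Set.mem_singleton_iff.mp hb])
        fun a ha => by rw [Set.mem_singleton_iff.mp ha, hxp]
    · intro a ha b hb
      obtain ⟨n, rfl⟩ := Subgroup.mem_zpowers_iff.mp hb
      exact ((show Commute a x from hx a ha).zpow_right n).eq
  have := Subgroup.eq_of_le_of_card_ge (le_sup_left (b := Subgroup.zpowers x)) (hA.2 _ hE)
  rw [this]; exact Subgroup.mem_sup_right (Subgroup.mem_zpowers x)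

lemma thompsonSubgroup_eq_of_le {U : Subgroup G} (hU : Cfsg.thompsonSubgroup p G ≤ U) :
    Cfsg.thompsonSubgroupOf p U = Cfsg.thompsonSubgroup p G := by
  obtain ⟨A, hA⟩ := exists_maxElemAb p G
  have hsub : ∀ B : Subgroup U, Cfsg.IsElementaryAbelian p B →
      Nat.card B ≤ Nat.card A := fun B hB => by
    rw [← Subgroup.card_map_of_injective U.subtype_injective (K := B)]
    exact hA.2 _ (elemAb_map hB _)
  have hmem : ∀ C ∈ Cfsg.maxElementaryAbelianSubgroups p G,
      C.subgroupOf U ∈ Cfsg.maxElementaryAbelianSubgroups p U := by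
    intro C hC
    have hCU : C ≤ U := (le_thompsonSubgroup hC).trans hU
    have hc : Nat.card (C.subgroupOf U) = Nat.card C :=
      Nat.card_congr (Subgroup.subgroupOfEquivOfLe hCU).toEquiv
    refine ⟨elemAb_of_map U.subtype_injective (A := C.subgroupOf U) ?_, fun B hB => ?_⟩
    · rw [Subgroup.subgroupOf_map_subtype, inf_eq_left.mpr hCU]; exact hC.1
    · rw [hc]; exact (hsub B hB).trans (hC.2 A hA.1)
  refine le_antisymm (Subgroup.map_le_iff_le_comap.mpr (sSup_le fun B hB => ?_)) (sSup_le fun C hC => ?_)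
  · refine Subgroup.map_le_iff_le_comap.mp (le_sSup ?_)
    refine mem_maxElemAb_of_le hA (elemAb_map hB.1 _) ?_
    rw [Subgroup.card_map_of_injective U.subtype_injective,
      ← Nat.card_congr (Subgroup.subgroupOfEquivOfLe ((le_thompsonSubgroup hA).trans hU)).toEquiv]
    exact hB.2 _ (hmem A hA).1
  · intro x hx
    have hxU : x ∈ U := hU (le_thompsonSubgroup hC hx)
    exact ⟨⟨x, hxU⟩, le_thompsonSubgroup (hmem C hC) hx, rfl⟩

lemma thompsonSubgroup_eq_iSup_sylow [Fact p.Prime] :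
    Cfsg.thompsonSubgroup p G = ⨆ S : Sylow p G, Cfsg.thompsonSubgroupOf p (S : Subgroup G) := by
  obtain ⟨A, hA⟩ := exists_maxElemAb p G
  apply le_antisymm
  · refine sSup_le fun C hC => ?_
    obtain ⟨S, hS⟩ := (elemAb_isPGroup hC.1).exists_le_sylow
    refine le_trans ?_ (le_iSup _ S)
    have hc : C.subgroupOf (S : Subgroup G) ∈ Cfsg.maxElementaryAbelianSubgroups p (S : Subgroup G) := by
      refine ⟨elemAb_of_map (Subgroup.subtype_injective _) (A := C.subgroupOf (S : Subgroup G)) ?_,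
        fun B hB => ?_⟩
      · rw [Subgroup.subgroupOf_map_subtype, inf_eq_left.mpr hS]; exact hC.1
      · rw [← Subgroup.card_map_of_injective (Subgroup.subtype_injective _) (K := B),
          Nat.card_congr (Subgroup.subgroupOfEquivOfLe hS).toEquiv]
        exact hC.2 _ (elemAb_map hB _)
    intro x hx
    exact ⟨⟨x, hS hx⟩, le_thompsonSubgroup hc hx, rfl⟩
  · refine iSup_le fun S => Subgroup.map_le_iff_le_comap.mpr (sSup_le fun B hB => ?_)
    refine Subgroup.map_le_iff_le_comap.mp (le_sSup (mem_maxElemAb_of_le hA (elemAb_map hB.1 _) ?_))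
    obtain ⟨T, hT⟩ := (elemAb_isPGroup hA.1).exists_le_sylow
    obtain ⟨g, rfl⟩ := MulAction.exists_smul_eq G S T
    have hA' : A.map (MulAut.conj g⁻¹).toMonoidHom ≤ (S : Subgroup G) := by
      rintro _ ⟨a, ha, rfl⟩
      obtain ⟨s, hs, hse⟩ := hT ha
      have hse' : g * s * g⁻¹ = a := hse
      show g⁻¹ * a * g⁻¹⁻¹ ∈ (S : Subgroup G)
      rw [← hse', show g⁻¹ * (g * s * g⁻¹) * g⁻¹⁻¹ = s by group]
      exact hs
    have h2 := hB.2 ((A.map (MulAut.conj g⁻¹).toMonoidHom).subgroupOf (S : Subgroup G))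
      (elemAb_of_map (Subgroup.subtype_injective _) (by
        rw [Subgroup.subgroupOf_map_subtype, inf_eq_left.mpr hA']; exact elemAb_map hA.1 _))
    rw [Nat.card_congr (Subgroup.subgroupOfEquivOfLe hA').toEquiv,
      Subgroup.card_map_of_injective (MulAut.conj g⁻¹).injective] at h2
    rwa [Subgroup.card_map_of_injective (Subgroup.subtype_injective _)]

lemma omegaCenterThompson_eq :
    Cfsg.omegaCenterThompson p G =
      Cfsg.omegaOne p (Subgroup.centralizer (Cfsg.thompsonSubgroup p G : Set G)) := by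
  refine le_antisymm ?_ ?_
  · exact omegaOne_le_elemAb_iff.mpr fun x hx hxp => mem_omegaOne hx.2 hxp
  · refine omegaOne_le_elemAb_iff.mpr fun x hx hxp => mem_omegaOne ⟨?_, hx⟩ hxp
    obtain ⟨A, hA⟩ := exists_maxElemAb p G
    exact le_thompsonSubgroup hA
      (mem_of_centralizes hA (Subgroup.centralizer_le (le_thompsonSubgroup hA) hx) hxp)

lemma sInf_maxElemAb_eq :
    sInf (Cfsg.maxElementaryAbelianSubgroups p G) = Cfsg.omegaCenterThompson p G := by
  apply le_antisymm
  · intro x hx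
    rw [Subgroup.mem_sInf] at hx
    obtain ⟨A, hA⟩ := exists_maxElemAb p G
    refine mem_omegaOne ⟨le_thompsonSubgroup hA (hx A hA), ?_⟩ (hA.1.2 x (hx A hA))
    rw [Cfsg.thompsonSubgroup]
    intro y hy
    have : sSup (Cfsg.maxElementaryAbelianSubgroups p G) ≤ Subgroup.centralizer {x} :=
      sSup_le fun B hB b hb => by
        rw [Subgroup.mem_centralizer_iff]
        rintro _ rfl
        exact commute_of_elemAb hB.1 (hx B hB) hb
    exact (this hy x rfl).symm
  · rw [omegaCenterThompson_eq]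
    exact le_sInf fun A hA => omegaOne_le_elemAb_iff.mpr fun x hx hxp =>
      mem_of_centralizes hA (Subgroup.centralizer_le (le_thompsonSubgroup hA) hx) hxp

end Cfsg.Agent.Lib.PLocal
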