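import Cfsg.Agent.Lib.PLocal.FusionNpc
import Cfsg.Agent.Lib.PLocal.ClosedTest

/-!
The Glauberman–Thompson criterion for fusion systems, relative to a strongly closed subgroup.
-/

set_option autoImplicit false
set_option linter.unusedSectionVars false
set_option linter.style.haveILetI false

namespace Cfsg.Agent.Lib.PLocal.FusionNpc

open Cfsg Cfsg.FusionSystem Cfsg.Agent.Lib.Fusion

universe u

/-- No finite group involves the integers. -/
theorem isSectionFree_int {Ω : Type u} [Group Ω] {S : Subgroup Ω} (F : FusionSystem S) (p : ℕ) :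
    F.IsSectionFree p (Multiplicative ℤ) := by
  rintro Q _ _ N _ L _ ι hL ⟨K, R, hR, ⟨e⟩⟩
  haveI : Finite L := hL.1
  haveI := hR
  haveI : Finite (↥K ⧸ R.subgroupOf K) := Finite.of_surjective _ (QuotientGroup.mk'_surjective _)
  exact (not_finite_iff_infinite.2 (inferInstance : Infinite (Multiplicative ℤ)))
    (Finite.of_equiv _ e.toEquiv)

variable {p : ℕ} [Fact p.Prime]

theorem thompsonSubgroupAOf_eq_sSup {G : Type*} [Group G] (S : Subgroup G) :
    Cfsg.thompsonSubgroupAOf S = sSup {A | MaxIn 0 S A} := by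
  rw [Cfsg.thompsonSubgroupAOf, Cfsg.thompsonSubgroupA, (Subgroup.gc_map_comap S.subtype).l_sSup]
  refine le_antisymm (iSup₂_le fun X hX => le_sSup (maxIn_zero_iff.2 ⟨X, hX, rfl⟩))
    (sSup_le fun A hA => ?_)
  obtain ⟨X, hX, rfl⟩ := maxIn_zero_iff.1 hA
  exact le_iSup₂_of_le X hX le_rfl

theorem map_centerThompsonAOf {G H : Type*} [Group G] [Group H] (f : G →* H)
    (hf : Function.Injective f) (S : Subgroup G) :
    (Cfsg.centerThompsonAOf S).map f = Cfsg.centerThompsonAOf (S.map f) := by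
  have hJ : (Cfsg.thompsonSubgroupAOf S).map f = Cfsg.thompsonSubgroupAOf (S.map f) := by
    rw [thompsonSubgroupAOf_eq_sSup, thompsonSubgroupAOf_eq_sSup,
      (Subgroup.gc_map_comap f).l_sSup]
    refine le_antisymm (iSup₂_le fun A hA => le_sSup (maxIn_map f hf hA)) (sSup_le fun A hA => ?_)
    have hAr : A ≤ f.range := hA.1.trans fun y ⟨s, _, hs⟩ => ⟨s, hs⟩
    have hA' : (A.comap f).map f = A := Subgroup.map_comap_eq_self hAr
    refine le_iSup₂_of_le (A.comap f) ⟨fun y hy => ?_, elemAb_of_map hf (by rw [hA']; exact hA.2.1),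
      fun B hB hBe => ?_⟩ hA'.ge
    · obtain ⟨s, hs, hse⟩ := hA.1 hy
      exact hf hse ▸ hs
    · have h2 := hA.2.2 (B.map f) (Subgroup.map_mono hB) (elemAb_map hBe f)
      rwa [← hA', Subgroup.card_map_of_injective hf, Subgroup.card_map_of_injective hf] at h2
  rw [Cfsg.centerThompsonAOf, Cfsg.centerThompsonAOf, Subgroup.map_inf _ _ _ hf, ← hJ]
  ext x
  simp only [Subgroup.mem_inf]
  constructor
  · rintro ⟨h1, y, hy, rfl⟩
    refine ⟨h1, ?_⟩
    rintro _ ⟨z, hz, rfl⟩
    rw [← map_mul, ← map_mul, hy z hz]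
  · rintro ⟨⟨y, hy, rfl⟩, h2⟩
    refine ⟨⟨y, hy, rfl⟩, y, fun z hz => hf ?_, rfl⟩
    rw [map_mul, map_mul]
    exact h2 (f z) ⟨z, hz, rfl⟩

/-- The relative `Z(J)`. -/
def zjRel : Unit → ∀ (Q : Type u) [Group Q], Subgroup Q → Subgroup Q :=
  fun _ _ _ D => Cfsg.centerThompsonAOf D

theorem wAt_zjRel {Ω : Type u} [Group Ω] {T D : Subgroup Ω} (hD : D ≤ T) :
    wAt (zjRel.{u} ()) T D = Cfsg.centerThompsonAOf D := by
  rw [wAt, zjRel, map_centerThompsonAOf T.subtype T.subtype_injective,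
    Subgroup.subgroupOf_map_subtype, inf_eq_left.2 hD]

theorem isNpcFamily_zjRel (hp : p ≠ 2) :
    IsNpcFamily.{u} p (Multiplicative ℤ) (fun _ : Unit => false) zjRel.{u} where
  ne_bot _ Q _ _ D hQ _ hD h := by
    haveI := (Subgroup.nontrivial_iff_ne_bot D).2 hD
    obtain ⟨⟨z, hz⟩, hz1⟩ := @exists_ne (Subgroup.center D) (hQ.to_subgroup D).center_nontrivial 1
    refine hz1 (Subtype.ext (Subtype.ext (Subgroup.mem_bot.1 ?_)))
    rw [← h, zjRel, ← zIn_zero_eq]
    exact center_le_zIn_zero D ⟨z.2, fun y hy =>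
      congrArg Subtype.val (Subgroup.mem_center_iff.1 hz ⟨y, hy⟩)⟩
  natural _ Q R _ _ _ _ φ D := by
    haveI : Finite R := Finite.of_equiv Q φ.toEquiv
    simp only [zjRel]
    exact map_centerThompsonAOf φ.toMonoidHom φ.injective D
  central _ h := by simp at h
  test L _ _ T D hDT hDc _ hC _ h := by
    refine isPGroup_of_closed hp _ L rfl T D hDT hDc hC fun g hg => h () g ?_
    simp only [Bool.false_eq_true, if_false]
    rw [wAt_zjRel hDT, ← zIn_zero_eq]
    exact hg

/-- The criterion relative to a strongly closed subgroup. -/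
theorem inner_of_closed {Ω : Type u} [Group Ω] {S : Subgroup Ω} [Finite S] (hS : IsPGroup p S)
    {F : FusionSystem S} (hF : F.IsSaturated p) (hp : p ≠ 2) {D : Subgroup Ω}
    (hD : F.StronglyClosed D) (h : LocP p false F (Cfsg.centerThompsonAOf D)) :
    ∀ P : Subgroup Ω, F.Hom P = (innerFusionSystem S).Hom P := by
  by_cases hDbot : D = ⊥
  · refine eq_inner_of_autP hS hF fun P α hα => h P α ?_
    have hP := source_le hα
    have hzb : Cfsg.centerThompsonAOf D = ⊥ := by
      haveI := Fusion.finite_of_le hD.1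
      rw [← wAt_zjRel le_rfl]
      exact le_bot_iff.1 ((wAt_le _ _ _).trans hDbot.le)
    rw [hzb]
    obtain ⟨ψ, hψ, hψe, hψU⟩ := (isNormal_bot F).2 P _ hα
    have hn : ∀ x ∈ S, x ∈ normalizerIn S (⊥ : Subgroup Ω) := fun x hx =>
      ⟨hx, Fusion.mem_normalizer_of_finite fun y hy => by simp [Subgroup.mem_bot.1 hy]⟩
    exact ⟨hα, fun x hx => hn x (hP hx), fun x => hn _ (apply_mem hα x), ψ, hψ, hψe, hψU⟩
  refine eq_inner_of_locAll (isNpcFamily_zjRel hp) hS hF (isSectionFree_int F p) hD hDbot fun i => ?_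
  rw [show i = () from rfl, wAt_zjRel hD.1]
  exact h

/-- An unconstrained system all of whose proper subsystems are inner is inner (`p` odd). -/
theorem autP_of_proper {Ω : Type u} [Group Ω] {S : Subgroup Ω} [Finite S] (hS : IsPGroup p S)
    {F : FusionSystem S} (hF : F.IsSaturated p) (hp : p ≠ 2)
    (hpr : AllProper p (Multiplicative ℤ) F) (hcon : F.IsConstrained p → AutP p F) : AutP p F := by
  have hW := isNpcFamily_zjRel.{u} (p := p) hp
  by_cases hS0 : S = ⊥
  · intro P α hα
    have hP : P = ⊥ := le_bot_iff.1 ((source_le hα).trans hS0.le)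
    subst hP
    exact ⟨0, MulEquiv.ext fun x => Subsingleton.elim _ _⟩
  by_cases hcore : F.core = ⊥
  · refine allSmall hW (Nat.card S + 1) (Nat.lt_succ_self _) hS F hF (isSectionFree_int F p) S
      (stronglyClosed_top F) hS0 fun i => ?_
    exact locP_of_not_normal hS hpr hF (isSectionFree_int F p) (wAt_le _ _ _)
      (fun g hg => mem_normalizer_wAt hW i hS (Subgroup.le_normalizer hg)
        fun x hx _ => mul_mem (mul_mem hg hx) (inv_mem hg))
      fun hn => wAt_ne_bot hW i hS le_rfl Subgroup.le_normalizer hS0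
        (le_bot_iff.1 ((le_core hn).trans hcore.le))
  · exact autP_of_core hW hS (allSmall hW _) hpr hF (isSectionFree_int F p) hcon hcore

end Cfsg.Agent.Lib.PLocal.FusionNpc
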