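import Cfsg.Agent.Lib.Coprime.Basic
import Cfsg.Agent.Lib.PLocal.SmallClass

/-!
Glauberman's replacement: from an abelian `A` and `b ∈ B` normalizing `N(A)` but not `A`, an abelian subgroup
`A* = (A ∩ Aᵇ) ⟨a b⁻¹ a⁻¹ b⟩` of the same order meeting `B` in a larger subgroup.
-/

set_option autoImplicit false
set_option linter.style.haveILetI false

namespace Cfsg.Agent.Lib.PLocal

open scoped commutatorElement

variable {S : Type*} [Group S]

/-- Conjugation `g ↦ b⁻¹ g b`, as a homomorphism. -/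
abbrev conjBy (b : S) : S →* S := (MulAut.conj b⁻¹).toMonoidHom

lemma conjBy_apply (b g : S) : conjBy b g = b⁻¹ * g * b := by simp [conjBy]

/-- The replaced subgroup. -/
def gRepl (A : Subgroup S) (b : S) : Subgroup S :=
  (A ⊓ A.map (conjBy b)) ⊔ Subgroup.closure {g : S | ∃ a ∈ A, g = a * b⁻¹ * a⁻¹ * b}

/-- The data for Glauberman's replacement. -/
structure GSetting (A B : Subgroup S) (b : S) : Prop where
  normal : B.Normal
  comm : IsMulCommutative A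
  le : ⁅B, B⁆ ≤ A
  mem : b ∈ B
  norm : b ∈ Subgroup.normalizer ((Subgroup.normalizer (A : Set S)) : Set S)
  notMem : b ∉ Subgroup.normalizer (A : Set S)
  sq : ∀ u ∈ ⁅B, B⁆, u ^ 2 = 1 → u = 1

namespace GSetting

set_option linter.unusedSectionVars false

variable {A B : Subgroup S} {b : S} (h : GSetting A B b)
include h

/-- `Aᵇ`. -/
lemma map_le_normalizer : A.map (conjBy b) ≤ Subgroup.normalizer (A : Set S) := by
  rintro _ ⟨a, ha, rfl⟩
  rw [conjBy_apply]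
  have h1 := (Subgroup.mem_normalizer_iff.mp (inv_mem h.norm) a).mp (Subgroup.le_normalizer ha)
  simpa using h1

lemma normalizer_le : Subgroup.normalizer (A : Set S) ≤
    Subgroup.normalizer ((A.map (conjBy b) : Subgroup S) : Set S) := by
  intro n hn
  have hn' : b * n * b⁻¹ ∈ Subgroup.normalizer (A : Set S) :=
    (Subgroup.mem_normalizer_iff.mp h.norm n).mp hn
  have key : ∀ m ∈ Subgroup.normalizer (A : Set S), ∀ x ∈ A.map (conjBy b),
      b * m * b⁻¹ ∈ Subgroup.normalizer (A : Set S) → m * x * m⁻¹ ∈ A.map (conjBy b) := by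
    rintro m _ _ ⟨a, ha, rfl⟩ hm
    refine ⟨(b * m * b⁻¹) * a * (b * m * b⁻¹)⁻¹, (Subgroup.mem_normalizer_iff.mp hm a).mp ha, ?_⟩
    simp only [conjBy_apply]; group
  rw [Subgroup.mem_normalizer_iff]
  intro x
  refine ⟨fun hx => key n hn x hx hn', fun hx => ?_⟩
  have := key n⁻¹ (inv_mem hn) _ hx (by
    rw [show b * n⁻¹ * b⁻¹ = (b * n * b⁻¹)⁻¹ by group]; exact inv_mem hn')
  rwa [show n⁻¹ * (n * x * n⁻¹) * n⁻¹⁻¹ = x by group] at this

lemma inf_le_centralizer : A ⊓ A.map (conjBy b) ≤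
    Subgroup.centralizer ((A ⊔ A.map (conjBy b) : Subgroup S) : Set S) := by
  rw [Subgroup.le_centralizer_iff]
  refine sup_le ?_ ?_
  · intro a ha x hx
    exact congrArg Subtype.val (h.comm.is_comm.comm ⟨x, hx.1⟩ ⟨a, ha⟩)
  · rintro _ ⟨a, ha, rfl⟩ x hx
    obtain ⟨a', ha', rfl⟩ := hx.2
    have h1 : a' * a = a * a' := congrArg Subtype.val (h.comm.is_comm.comm ⟨a', ha'⟩ ⟨a, ha⟩)
    rw [← map_mul, h1, map_mul]

lemma commutator_le : ⁅B, B⁆ ≤ A ⊓ A.map (conjBy b) := by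
  refine le_inf h.le fun u hu => ⟨b * u * b⁻¹, h.le ?_, by simp only [conjBy_apply]; group⟩
  haveI := h.normal
  exact Subgroup.Normal.conj_mem inferInstance u hu b

lemma inf_le_inf : A ⊓ B ≤ A ⊓ A.map (conjBy b) := by
  intro z hz
  obtain ⟨hzA, hzB⟩ := hz
  refine ⟨hzA, b * z * b⁻¹, ?_, by simp only [conjBy_apply]; group⟩
  have h1 : ⁅b, z⁆ ∈ A := h.le (Subgroup.commutator_mem_commutator h.mem hzB)
  have h2 := mul_mem h1 hzA
  rwa [commutatorElement_def, inv_mul_cancel_right] at h2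

lemma gen_mem_B {a : S} : a * b⁻¹ * a⁻¹ * b ∈ B :=
  mul_mem (h.normal.conj_mem _ (inv_mem h.mem) a) h.mem

omit h in
lemma gen_eq (a : S) : a * b⁻¹ * a⁻¹ * b = a * (conjBy b a)⁻¹ := by
  simp only [conjBy_apply]; group

lemma gen_mem_sup {a : S} (ha : a ∈ A) :
    a * b⁻¹ * a⁻¹ * b ∈ A ⊔ A.map (conjBy b) := by
  rw [gen_eq]
  exact Subgroup.mul_mem_sup ha (inv_mem ⟨a, ha, rfl⟩)

lemma gRepl_le_sup : gRepl A b ≤ A ⊔ A.map (conjBy b) := by
  refine sup_le (inf_le_left.trans le_sup_left) ((Subgroup.closure_le _).mpr ?_)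
  rintro _ ⟨a, ha, rfl⟩
  exact h.gen_mem_sup ha

lemma sup_le_normalizer : A ⊔ A.map (conjBy b) ≤ Subgroup.normalizer (A : Set S) :=
  sup_le Subgroup.le_normalizer h.map_le_normalizer

lemma commutator_sup_le : ∀ g ∈ A ⊔ A.map (conjBy b), ∀ k ∈ A ⊔ A.map (conjBy b),
    ⁅g, k⁆ ∈ A ⊓ A.map (conjBy b) := by
  intro g hg k hk
  have h2 : A ≤ Subgroup.normalizer ((A.map (conjBy b) : Subgroup S) : Set S) :=
    Subgroup.le_normalizer.trans h.normalizer_le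
  obtain ⟨a₁, ha₁, c₁, hc₁, rfl⟩ := Coprime.exists_mul_of_mem_sup h.map_le_normalizer hg
  obtain ⟨a₂, ha₂, c₂, hc₂, rfl⟩ := Coprime.exists_mul_of_mem_sup h.map_le_normalizer hk
  have hX : ∀ a ∈ A, ∀ c ∈ A.map (conjBy b), ⁅a, c⁆ ∈ A ⊓ A.map (conjBy b) := fun a ha c hc => by
    rw [commutatorElement_def]
    refine Subgroup.mem_inf.mpr
      ⟨?_, mul_mem ((Subgroup.mem_normalizer_iff.mp (h2 ha) c).mp hc) (inv_mem hc)⟩
    rw [mul_assoc a c, mul_assoc a]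
    exact mul_mem ha ((Subgroup.mem_normalizer_iff.mp (h.map_le_normalizer hc) a⁻¹).mp (inv_mem ha))
  have hcen := h.inf_le_centralizer
  have ha : a₁ * a₂ = a₂ * a₁ := congrArg Subtype.val (h.comm.is_comm.comm ⟨a₁, ha₁⟩ ⟨a₂, ha₂⟩)
  have hc : c₁ * c₂ = c₂ * c₁ := by
    obtain ⟨u, hu, rfl⟩ := hc₁
    obtain ⟨v, hv, rfl⟩ := hc₂
    have huv : u * v = v * u := congrArg Subtype.val (h.comm.is_comm.comm ⟨u, hu⟩ ⟨v, hv⟩)
    rw [← map_mul, huv, map_mul]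
  have e1 : c₁ * a₂ = ⁅a₂, c₁⁆⁻¹ * a₂ * c₁ := by rw [commutatorElement_def]; group
  have e2 : c₂ * a₁ = ⁅a₁, c₂⁆⁻¹ * a₁ * c₂ := by rw [commutatorElement_def]; group
  have hx1 := hX a₂ ha₂ c₁ hc₁
  have hx2 := hX a₁ ha₁ c₂ hc₂
  set x₁ := ⁅a₂, c₁⁆⁻¹ with hx₁
  set x₂ := ⁅a₁, c₂⁆⁻¹ with hx₂
  have hm₁ : x₁ ∈ A ⊓ A.map (conjBy b) := inv_mem hx1
  have hm₂ : x₂ ∈ A ⊓ A.map (conjBy b) := inv_mem hx2
  have c1 : a₁ * x₁ = x₁ * a₁ := hcen hm₁ a₁ (Subgroup.mem_sup_left ha₁)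
  have c2 : a₂ * x₂ = x₂ * a₂ := hcen hm₂ a₂ (Subgroup.mem_sup_left ha₂)
  have e : ⁅a₁ * c₁, a₂ * c₂⁆ = x₁ * x₂⁻¹ := by
    have l : a₁ * c₁ * (a₂ * c₂) = x₁ * (a₁ * a₂ * c₁ * c₂) := by
      calc a₁ * c₁ * (a₂ * c₂) = a₁ * (c₁ * a₂) * c₂ := by group
        _ = (a₁ * x₁) * a₂ * c₁ * c₂ := by rw [e1]; group
        _ = _ := by rw [c1]; group
    have r : a₂ * c₂ * (a₁ * c₁) = x₂ * (a₁ * a₂ * c₁ * c₂) := by
      calc a₂ * c₂ * (a₁ * c₁) = a₂ * (c₂ * a₁) * c₁ := by group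
        _ = (a₂ * x₂) * a₁ * (c₂ * c₁) := by rw [e2]; group
        _ = x₂ * (a₂ * a₁) * (c₂ * c₁) := by rw [c2]; group
        _ = _ := by rw [← ha, ← hc]; group
    calc ⁅a₁ * c₁, a₂ * c₂⁆ = a₁ * c₁ * (a₂ * c₂) * (a₂ * c₂ * (a₁ * c₁))⁻¹ := by
          rw [commutatorElement_def]; group
      _ = x₁ * x₂⁻¹ := by rw [l, r]; group
  rw [e]
  exact mul_mem hm₁ (inv_mem hm₂)

lemma bilin_left {g k l : S} (hg : g ∈ A ⊔ A.map (conjBy b)) (hk : k ∈ A ⊔ A.map (conjBy b))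
    (hl : l ∈ A ⊔ A.map (conjBy b)) : ⁅g * k, l⁆ = ⁅g, l⁆ * ⁅k, l⁆ := by
  have hcen := h.inf_le_centralizer (h.commutator_sup_le k hk l hl)
  have h1 : ⁅g * k, l⁆ = (g * ⁅k, l⁆ * g⁻¹) * ⁅g, l⁆ := by simp only [commutatorElement_def]; group
  rw [h1, hcen g hg, mul_inv_cancel_right]
  exact (hcen _ (Subgroup.mem_sup_left (h.commutator_sup_le g hg l hl).1)).symm

lemma bilin_right {g k l : S} (hg : g ∈ A ⊔ A.map (conjBy b)) (hk : k ∈ A ⊔ A.map (conjBy b))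
    (hl : l ∈ A ⊔ A.map (conjBy b)) : ⁅g, k * l⁆ = ⁅g, k⁆ * ⁅g, l⁆ := by
  have hcen := h.inf_le_centralizer (h.commutator_sup_le g hg l hl)
  have h1 : ⁅g, k * l⁆ = ⁅g, k⁆ * (k * ⁅g, l⁆ * k⁻¹) := by simp only [commutatorElement_def]; group
  rw [h1, hcen k hk, mul_inv_cancel_right]

/-- The generators of `A*` commute. -/
lemma gen_commute {a a' : S} (ha : a ∈ A) (ha' : a' ∈ A) :
    ⁅a * b⁻¹ * a⁻¹ * b, a' * b⁻¹ * a'⁻¹ * b⁆ = 1 := by
  set c := a * b⁻¹ * a⁻¹ * b with hc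
  set c' := a' * b⁻¹ * a'⁻¹ * b with hc'
  have hcH := h.gen_mem_sup ha
  have hc'H := h.gen_mem_sup ha'
  rw [← hc] at hcH
  rw [← hc'] at hc'H
  set H := A ⊔ A.map (conjBy b) with hH
  have haH : a ∈ H := Subgroup.mem_sup_left ha
  have ha'H : a' ∈ H := Subgroup.mem_sup_left ha'
  -- the equation given by a commuting pair
  have expand : ∀ u v : S, u ∈ H → v ∈ H →
      ⁅u * a, v * a'⁆ = ⁅u, v⁆ * ⁅u, a'⁆ * (⁅a, v⁆ * ⁅a, a'⁆) := fun u v hu hv => by
    rw [h.bilin_left hu haH (mul_mem hv ha'H), h.bilin_right hu hv ha'H, h.bilin_right haH hv ha'H]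
  have hinv1 : ∀ u v : S, u ∈ H → v ∈ H → ⁅u⁻¹, v⁆ = ⁅u, v⁆⁻¹ := fun u v hu hv => by
    have h1 := h.bilin_left (inv_mem hu) hu hv
    rw [inv_mul_cancel, commutatorElement_one_left] at h1
    exact eq_inv_of_mul_eq_one_left h1.symm
  have hinv2 : ∀ u v : S, u ∈ H → v ∈ H → ⁅u, v⁻¹⁆ = ⁅u, v⁆⁻¹ := fun u v hu hv => by
    have h1 := h.bilin_right hu (inv_mem hv) hv
    rw [inv_mul_cancel, commutatorElement_one_right] at h1
    exact eq_inv_of_mul_eq_one_left h1.symm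
  have haa : ⁅a, a'⁆ = 1 := commutatorElement_eq_one_iff_mul_comm.mpr
    (congrArg Subtype.val (h.comm.is_comm.comm ⟨a, ha⟩ ⟨a', ha'⟩))
  set P := ⁅c, c'⁆ with hP
  set Q := ⁅c, a'⁆ with hQ
  set R := ⁅a, c'⁆ with hR
  have hPX := h.commutator_sup_le c hcH c' hc'H
  have hQX := h.commutator_sup_le c hcH a' ha'H
  have hRX := h.commutator_sup_le a haH c' hc'H
  have hcomm : ∀ u ∈ A ⊓ A.map (conjBy b), ∀ v ∈ A ⊓ A.map (conjBy b), Commute u v := fun u hu v hv =>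
    congrArg Subtype.val (h.comm.is_comm.comm (⟨u, hu.1⟩ : A) ⟨v, hv.1⟩)
  -- `Aᵇ` is abelian
  have hone : ⁅c⁻¹ * a, c'⁻¹ * a'⁆ = 1 := by
    rw [commutatorElement_eq_one_iff_mul_comm,
      show c⁻¹ * a = conjBy b a by rw [hc, gen_eq]; group,
      show c'⁻¹ * a' = conjBy b a' by rw [hc', gen_eq]; group]
    have h1 : a * a' = a' * a := congrArg Subtype.val (h.comm.is_comm.comm ⟨a, ha⟩ ⟨a', ha'⟩)
    rw [← map_mul, h1, map_mul]
  -- `Aᵇᵇ` is abelian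
  have hd : ∀ u ∈ A, ∃ d ∈ A ⊓ A.map (conjBy b),
      conjBy b (conjBy b u) = d * ((u * b⁻¹ * u⁻¹ * b)⁻¹ * (u * b⁻¹ * u⁻¹ * b)⁻¹ * u) := by
    intro u hu
    set w := u * b⁻¹ * u⁻¹ * b with hw
    set d := conjBy b (conjBy b u) * (w⁻¹ * w⁻¹ * u)⁻¹ with hd
    refine ⟨d, ?_, by rw [hd, inv_mul_cancel_right]⟩
    have hwB : w ∈ B := h.gen_mem_B
    have e : d = ⁅b⁻¹, w⁻¹⁆ := by
      rw [hd, hw]; simp only [commutatorElement_def, conjBy_apply]; group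
    rw [e]
    exact h.commutator_le (Subgroup.commutator_mem_commutator (inv_mem h.mem) (inv_mem hwB))
  obtain ⟨d, hdX, hde⟩ := hd a ha
  obtain ⟨d', hd'X, hde'⟩ := hd a' ha'
  rw [← hc] at hde
  rw [← hc'] at hde'
  have htwo : ⁅c⁻¹ * c⁻¹ * a, c'⁻¹ * c'⁻¹ * a'⁆ = 1 := by
    rw [commutatorElement_eq_one_iff_mul_comm]
    have h1 : a * a' = a' * a := congrArg Subtype.val (h.comm.is_comm.comm ⟨a, ha⟩ ⟨a', ha'⟩)
    have h2 : conjBy b (conjBy b a) * conjBy b (conjBy b a') =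
        conjBy b (conjBy b a') * conjBy b (conjBy b a) := by
      rw [← map_mul, ← map_mul, h1, map_mul, map_mul]
    rw [hde, hde'] at h2
    set u := c⁻¹ * c⁻¹ * a with hu
    set v := c'⁻¹ * c'⁻¹ * a' with hv
    have huH : u ∈ H := mul_mem (mul_mem (inv_mem hcH) (inv_mem hcH)) haH
    have hvH : v ∈ H := mul_mem (mul_mem (inv_mem hc'H) (inv_mem hc'H)) ha'H
    have k1 : u * d' = d' * u := h.inf_le_centralizer hd'X u huH
    have k2 : v * d = d * v := h.inf_le_centralizer hdX v hvH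
    have k3 : d * d' = d' * d := hcomm d hdX d' hd'X
    have h4 : d * d' * (u * v) = d * d' * (v * u) := by
      calc d * d' * (u * v) = d * (d' * u) * v := by group
        _ = d * u * (d' * v) := by rw [← k1]; group
        _ = d' * v * (d * u) := h2
        _ = d' * (v * d) * u := by group
        _ = d' * d * (v * u) := by rw [k2]; group
        _ = _ := by rw [k3]
    exact mul_left_cancel h4
  rw [expand _ _ (inv_mem hcH) (inv_mem hc'H), hinv1 _ _ hcH (inv_mem hc'H), hinv1 _ _ hcH ha'H,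
    hinv2 _ _ hcH hc'H, hinv2 _ _ haH hc'H, haa, inv_inv, mul_one] at hone
  have hcH2 := mul_mem (inv_mem hcH) (inv_mem hcH)
  have hc'H2 := mul_mem (inv_mem hc'H) (inv_mem hc'H)
  rw [expand _ _ hcH2 hc'H2, h.bilin_left (inv_mem hcH) (inv_mem hcH) hc'H2,
    h.bilin_left (inv_mem hcH) (inv_mem hcH) ha'H, h.bilin_right haH (inv_mem hc'H) (inv_mem hc'H),
    h.bilin_right (inv_mem hcH) (inv_mem hc'H) (inv_mem hc'H), hinv1 _ _ hcH (inv_mem hc'H),
    hinv1 _ _ hcH ha'H, hinv2 _ _ hcH hc'H, hinv2 _ _ haH hc'H, haa, inv_inv, mul_one] at htwo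
  -- `P = Q R` and `P⁴ = (Q R)²`
  have hPQR : P = Q * R := by
    calc P = P * Q⁻¹ * R⁻¹ * (R * Q) := by group
      _ = R * Q := by rw [show P * Q⁻¹ * R⁻¹ = 1 from hone, one_mul]
      _ = Q * R := (hcomm R hRX Q hQX).eq
  have hQR : Q⁻¹ * Q⁻¹ * (R⁻¹ * R⁻¹) = P⁻¹ * P⁻¹ := by
    have hc1 : Commute Q⁻¹ R⁻¹ := (hcomm Q hQX R hRX).inv_inv
    rw [hPQR, mul_inv_rev]
    calc Q⁻¹ * Q⁻¹ * (R⁻¹ * R⁻¹) = Q⁻¹ * (Q⁻¹ * R⁻¹) * R⁻¹ := by group
      _ = Q⁻¹ * (R⁻¹ * Q⁻¹) * R⁻¹ := by rw [hc1.eq]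
      _ = (Q⁻¹ * R⁻¹) * (Q⁻¹ * R⁻¹) := by group
      _ = _ := by rw [hc1.eq]
  have hPP : P ^ 2 = 1 := by
    calc P ^ 2 = P * P * (P * P) * (P⁻¹ * P⁻¹) := by group
      _ = P * P * (P * P) * (Q⁻¹ * Q⁻¹ * (R⁻¹ * R⁻¹)) := by rw [hQR]
      _ = P * P * (P * P) * (Q⁻¹ * Q⁻¹) * (R⁻¹ * R⁻¹) := by group
      _ = 1 := htwo
  exact h.sq _ (Subgroup.commutator_mem_commutator h.gen_mem_B h.gen_mem_B) hPP

theorem gRepl_comm : IsMulCommutative (gRepl A b) := by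
  have e : gRepl A b = Subgroup.closure
      (((A ⊓ A.map (conjBy b) : Subgroup S) : Set S) ∪ {g : S | ∃ a ∈ A, g = a * b⁻¹ * a⁻¹ * b}) := by
    rw [Subgroup.closure_union, Subgroup.closure_eq]; rfl
  rw [e]
  refine Subgroup.isMulCommutative_closure ?_
  rintro x (hx | ⟨a, ha, rfl⟩) y (hy | ⟨a', ha', rfl⟩)
  · exact (h.inf_le_centralizer hy) x (Subgroup.mem_sup_left hx.1)
  · exact ((h.inf_le_centralizer hx) _ (h.gen_mem_sup ha')).symm
  · exact (h.inf_le_centralizer hy) _ (h.gen_mem_sup ha)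
  · exact commutatorElement_eq_one_iff_mul_comm.mp (h.gen_commute ha ha')

lemma inf_le_gRepl : A ⊓ A.map (conjBy b) ≤ gRepl A b := le_sup_left

lemma gen_mem_gRepl {a : S} (ha : a ∈ A) : a * b⁻¹ * a⁻¹ * b ∈ gRepl A b :=
  Subgroup.mem_sup_right (Subgroup.subset_closure ⟨a, ha, rfl⟩)

lemma conjBy_mem_gRepl_mul {a : S} (ha : a ∈ A) : conjBy b a * a⁻¹ ∈ gRepl A b := by
  have := inv_mem (h.gen_mem_gRepl ha)
  rwa [gen_eq, mul_inv_rev, inv_inv] at this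

lemma sup_eq : A ⊔ gRepl A b = A ⊔ A.map (conjBy b) := by
  refine le_antisymm (sup_le le_sup_left h.gRepl_le_sup) (sup_le le_sup_left ?_)
  rintro _ ⟨a, ha, rfl⟩
  have := mul_mem (Subgroup.mem_sup_right (h.conjBy_mem_gRepl_mul ha) : _ ∈ A ⊔ gRepl A b)
    (Subgroup.mem_sup_left ha)
  rwa [inv_mul_cancel_right] at this

lemma inf_gRepl : A ⊓ gRepl A b = A ⊓ A.map (conjBy b) := by
  refine le_antisymm ?_ (le_inf inf_le_left h.inf_le_gRepl)
  intro x hx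
  -- `A*` consists of the elements `y (a b⁻¹ a⁻¹ b)`
  have key : ∀ x ∈ gRepl A b, ∃ a ∈ A, ∃ y ∈ A ⊓ A.map (conjBy b),
      x = y * (a * (conjBy b a)⁻¹) := by
    have e : gRepl A b = Subgroup.closure
        (((A ⊓ A.map (conjBy b) : Subgroup S) : Set S) ∪ {g : S | ∃ a ∈ A, g = a * b⁻¹ * a⁻¹ * b}) := by
      rw [Subgroup.closure_union, Subgroup.closure_eq]; rfl
    intro x hx
    rw [e] at hx
    induction hx using Subgroup.closure_induction with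
    | mem x hx =>
      rcases hx with hx | ⟨a, ha, rfl⟩
      · exact ⟨1, one_mem _, x, hx, by simp⟩
      · exact ⟨a, ha, 1, one_mem _, by rw [one_mul, gen_eq]⟩
    | one => exact ⟨1, one_mem _, 1, one_mem _, by simp⟩
    | mul x x' _ _ hx hx' =>
      obtain ⟨a, ha, y, hy, rfl⟩ := hx
      obtain ⟨a', ha', y', hy', rfl⟩ := hx'
      set c := (conjBy b a)⁻¹ with hc
      have hcA : c ∈ A.map (conjBy b) := inv_mem ⟨a, ha, rfl⟩
      have haH : a ∈ A ⊔ A.map (conjBy b) := Subgroup.mem_sup_left ha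
      have hcH : c ∈ A ⊔ A.map (conjBy b) := Subgroup.mem_sup_right hcA
      have ha'H : a' ∈ A ⊔ A.map (conjBy b) := Subgroup.mem_sup_left ha'
      set w := ⁅c, a'⁆ with hw
      have hwX := h.commutator_sup_le c hcH a' ha'H
      refine ⟨a * a', mul_mem ha ha', y * y' * w, mul_mem (mul_mem hy hy') hwX, ?_⟩
      have k1 : (a * c) * y' = y' * (a * c) :=
        h.inf_le_centralizer hy' _ (mul_mem haH hcH)
      have k2 : a * w = w * a := h.inf_le_centralizer hwX a haH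
      have k3 : conjBy b a * conjBy b a' = conjBy b a' * conjBy b a := by
        have h1 : a * a' = a' * a := congrArg Subtype.val (h.comm.is_comm.comm ⟨a, ha⟩ ⟨a', ha'⟩)
        rw [← map_mul, ← map_mul, h1]
      calc y * (a * c) * (y' * (a' * (conjBy b a')⁻¹))
          = y * ((a * c) * y') * (a' * (conjBy b a')⁻¹) := by group
        _ = y * y' * (a * w) * a' * (c * (conjBy b a')⁻¹) := by
            rw [k1, hw, commutatorElement_def]; group
        _ = y * y' * w * (a * a' * (c * (conjBy b a')⁻¹)) := by rw [k2]; group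
        _ = _ := by rw [hc, ← mul_inv_rev, ← k3, map_mul]
    | inv x _ hx =>
      obtain ⟨a, ha, y, hy, rfl⟩ := hx
      set c := (conjBy b a)⁻¹ with hc
      have haH : a ∈ A ⊔ A.map (conjBy b) := Subgroup.mem_sup_left ha
      have hcH : c ∈ A ⊔ A.map (conjBy b) := Subgroup.mem_sup_right (inv_mem ⟨a, ha, rfl⟩)
      set w := ⁅c⁻¹, a⁻¹⁆ with hw
      have hwX := h.commutator_sup_le c⁻¹ (inv_mem hcH) a⁻¹ (inv_mem haH)
      refine ⟨a⁻¹, inv_mem ha, w * y⁻¹, mul_mem hwX (inv_mem hy), ?_⟩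
      have k1 : (a⁻¹ * c⁻¹) * y⁻¹ = y⁻¹ * (a⁻¹ * c⁻¹) :=
        h.inf_le_centralizer (inv_mem hy) _ (mul_mem (inv_mem haH) (inv_mem hcH))
      rw [map_inv, ← hc]
      calc (y * (a * c))⁻¹ = w * (a⁻¹ * c⁻¹ * y⁻¹) := by
            rw [hw, commutatorElement_def]; group
        _ = _ := by rw [k1]; group
  obtain ⟨a, ha, y, hy, rfl⟩ := key x hx.2
  have h1 : a * (conjBy b a)⁻¹ ∈ A := by
    have := mul_mem (inv_mem (Subgroup.mem_inf.mp hy).1) (Subgroup.mem_inf.mp hx).1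
    rwa [inv_mul_cancel_left] at this
  have h2 : conjBy b a ∈ A := by
    have h3 := mul_mem (inv_mem ha) h1
    rw [inv_mul_cancel_left] at h3
    exact inv_mem_iff.mp h3
  -- so `a ^ b ∈ A ∩ Aᵇ` and the element lies there too
  refine mul_mem hy (Subgroup.mem_inf.mpr ⟨h1, ?_⟩)
  have h5 : ⁅b⁻¹, a⁆ ∈ A := by
    have : ⁅b⁻¹, a⁆ = conjBy b a * a⁻¹ := by simp only [conjBy_apply, commutatorElement_def]; group
    rw [this]; exact mul_mem h2 (inv_mem ha)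
  have hB : ⁅b⁻¹, a⁆ ∈ B := by
    rw [commutatorElement_def, show b⁻¹ * a * b⁻¹⁻¹ * a⁻¹ = b⁻¹ * (a * b * a⁻¹) by group]
    exact mul_mem (inv_mem h.mem) (h.normal.conj_mem b h.mem a)
  have h6 := (Subgroup.mem_inf.mp (h.inf_le_inf (Subgroup.mem_inf.mpr ⟨h5, hB⟩))).2
  have : a * (conjBy b a)⁻¹ = ⁅b⁻¹, a⁆⁻¹ := by simp only [conjBy_apply, commutatorElement_def]; group
  rw [this]
  exact inv_mem h6

theorem card_gRepl [Finite S] : Nat.card (gRepl A b) = Nat.card A := by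
  have hA : Nat.card (A.map (conjBy b)) = Nat.card A :=
    Subgroup.card_map_of_injective (MulAut.conj b⁻¹).injective
  have e1 := Coprime.card_sup_mul_card_inf (N := A) (H := gRepl A b)
    (h.gRepl_le_sup.trans h.sup_le_normalizer)
  have e2 := Coprime.card_sup_mul_card_inf (N := A) (H := A.map (conjBy b)) h.map_le_normalizer
  rw [h.sup_eq, h.inf_gRepl, e2, hA] at e1
  exact (Nat.eq_of_mul_eq_mul_left Nat.card_pos e1).symm

theorem inf_lt_gRepl_inf [Finite S] : A ⊓ B < gRepl A b ⊓ B := by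
  refine lt_of_le_of_ne (le_inf (h.inf_le_inf.trans h.inf_le_gRepl) inf_le_right) fun heq => ?_
  -- otherwise `b` normalizes `A`
  have hgen : A.map (conjBy b) ≤ A := by
    rintro _ ⟨a, ha, rfl⟩
    have hc : a * b⁻¹ * a⁻¹ * b ∈ A ⊓ B := heq ▸ (⟨h.gen_mem_gRepl ha, h.gen_mem_B⟩ :
      a * b⁻¹ * a⁻¹ * b ∈ gRepl A b ⊓ B)
    have h1 := mul_mem (inv_mem ha) hc.1
    rw [gen_eq, inv_mul_cancel_left] at h1
    exact inv_mem_iff.mp h1
  have heq' : A.map (conjBy b) = A :=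
    Subgroup.eq_of_le_of_card_ge hgen (Subgroup.card_map_of_injective (MulAut.conj b⁻¹).injective).ge
  exact h.notMem (inv_mem_iff.mp (Subgroup.mem_normalizer_iff_map_conj_eq.mpr heq'))

theorem gRepl_le_normalizer : gRepl A b ≤ Subgroup.normalizer (A : Set S) :=
  h.gRepl_le_sup.trans h.sup_le_normalizer

theorem gRepl_inf_lt : gRepl A b ⊓ B < B :=
  lt_of_le_of_ne inf_le_right fun heq => h.notMem (h.gRepl_le_normalizer (heq.ge h.mem).1)

theorem le_normalizer_gRepl : A ≤ Subgroup.normalizer ((gRepl A b : Subgroup S) : Set S) := by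
  have key : ∀ a ∈ A, ∀ y ∈ gRepl A b, a * y * a⁻¹ ∈ gRepl A b := by
    intro a ha y hy
    rw [show a * y * a⁻¹ = ⁅a, y⁆ * y by rw [commutatorElement_def]; group]
    exact mul_mem (h.inf_le_gRepl
      (h.commutator_sup_le a (Subgroup.mem_sup_left ha) y (h.gRepl_le_sup hy))) hy
  intro a ha
  rw [Subgroup.mem_normalizer_iff]
  intro y
  refine ⟨key a ha y, fun hy => ?_⟩
  have := key a⁻¹ (inv_mem ha) _ hy
  rwa [show a⁻¹ * (a * y * a⁻¹) * a⁻¹⁻¹ = y by group] at this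

lemma conjBy_inf_le {x : S} (hx : x ∈ A ⊓ A.map (conjBy b)) : conjBy b x ∈ gRepl A b := by
  have := mul_mem (h.conjBy_mem_gRepl_mul hx.1) (h.inf_le_gRepl hx)
  rwa [inv_mul_cancel_right] at this

theorem conjBy_map_gRepl [Finite S] : (gRepl A b).map (conjBy b) = gRepl A b := by
  refine Subgroup.eq_of_le_of_card_ge ?_ (Subgroup.card_map_of_injective (MulAut.conj b⁻¹).injective).ge
  rw [Subgroup.map_le_iff_le_comap]
  refine sup_le (fun x hx => h.conjBy_inf_le hx) ((Subgroup.closure_le _).mpr ?_)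
  rintro _ ⟨a, ha, rfl⟩
  show conjBy b (a * b⁻¹ * a⁻¹ * b) ∈ gRepl A b
  set c := a * b⁻¹ * a⁻¹ * b with hc
  have e : conjBy b c = ⁅b⁻¹, c⁆ * c := by simp only [conjBy_apply, commutatorElement_def]; group
  rw [e]
  exact mul_mem (h.inf_le_gRepl (h.commutator_le (Subgroup.commutator_mem_commutator (inv_mem h.mem)
    h.gen_mem_B))) (h.gen_mem_gRepl ha)

theorem mem_normalizer_gRepl [Finite S] :
    b ∈ Subgroup.normalizer ((gRepl A b : Subgroup S) : Set S) :=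
  inv_mem_iff.mp (Subgroup.mem_normalizer_iff_map_conj_eq.mpr h.conjBy_map_gRepl)

theorem normalizer_lt_normalizer_gRepl [Finite S] :
    Subgroup.normalizer (A : Set S) < Subgroup.normalizer ((gRepl A b : Subgroup S) : Set S) := by
  refine lt_of_le_of_ne ?_ fun heq => h.notMem (heq ▸ h.mem_normalizer_gRepl)
  intro n hn
  have hmap : (gRepl A b).map (MulAut.conj n).toMonoidHom ≤ gRepl A b := by
    rw [Subgroup.map_le_iff_le_comap]
    refine sup_le (fun x hx => h.inf_le_gRepl ?_) ((Subgroup.closure_le _).mpr ?_)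
    · exact ⟨(Subgroup.mem_normalizer_iff.mp hn x).mp hx.1,
        (Subgroup.mem_normalizer_iff.mp (h.normalizer_le hn) x).mp hx.2⟩
    rintro _ ⟨a, ha, rfl⟩
    show n * (a * b⁻¹ * a⁻¹ * b) * n⁻¹ ∈ gRepl A b
    set n' := b * n * b⁻¹ with hn'
    have hn'N : n' ∈ Subgroup.normalizer (A : Set S) := (Subgroup.mem_normalizer_iff.mp h.norm n).mp hn
    set a₁ := n * a * n⁻¹ with ha₁
    set a₂ := n' * a * n'⁻¹ with ha₂
    have ha₁A : a₁ ∈ A := (Subgroup.mem_normalizer_iff.mp hn a).mp ha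
    have ha₂A : a₂ ∈ A := (Subgroup.mem_normalizer_iff.mp hn'N a).mp ha
    have hz : a₁ * a₂⁻¹ ∈ A ⊓ B := by
      refine Subgroup.mem_inf.mpr ⟨mul_mem ha₁A (inv_mem ha₂A), ?_⟩
      set k := n' * n⁻¹ with hk
      have hkB : k ∈ B := by
        rw [hk, hn', show b * n * b⁻¹ * n⁻¹ = b * (n * b⁻¹ * n⁻¹) by group]
        exact mul_mem h.mem (h.normal.conj_mem _ (inv_mem h.mem) n)
      rw [show a₁ * a₂⁻¹ = (a₁ * k * a₁⁻¹) * k⁻¹ by rw [ha₁, ha₂, hk]; group]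
      exact mul_mem (h.normal.conj_mem k hkB a₁) (inv_mem hkB)
    have e : n * (a * b⁻¹ * a⁻¹ * b) * n⁻¹ =
        (a₁ * b⁻¹ * a₁⁻¹ * b) * conjBy b (a₁ * a₂⁻¹) := by
      rw [ha₁, ha₂, hn']; simp only [conjBy_apply]; group
    rw [e]
    exact mul_mem (h.gen_mem_gRepl ha₁A) (h.conjBy_inf_le (h.inf_le_inf hz))
  exact Subgroup.mem_normalizer_iff_map_conj_eq.mpr
    (Subgroup.eq_of_le_of_card_ge hmap (Subgroup.card_map_of_injective (MulAut.conj n).injective).ge)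

/-- `A*` has exponent dividing that of `A` (when this is odd). -/
theorem gRepl_pow {e : ℕ} (he : Odd e ∨ e = 0) (hA : ∀ a ∈ A, a ^ e = 1) :
    ∀ x ∈ gRepl A b, x ^ e = 1 := by
  rcases he with he | rfl
  swap
  · simp
  intro x hx
  haveI := h.gRepl_comm
  let E : Subgroup S :=
    { carrier := {x | x ∈ gRepl A b ∧ x ^ e = 1}
      one_mem' := ⟨one_mem _, one_pow e⟩
      mul_mem' := fun {u v} hu hv => ⟨mul_mem hu.1 hv.1, by
        rw [(show Commute u v from congrArg Subtype.val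
          (h.gRepl_comm.is_comm.comm ⟨u, hu.1⟩ ⟨v, hv.1⟩)).mul_pow, hu.2, hv.2, one_mul]⟩
      inv_mem' := fun {u} hu => ⟨inv_mem hu.1, by rw [inv_pow, hu.2, inv_one]⟩ }
  have hle : gRepl A b ≤ E := by
    refine sup_le (fun u hu => ⟨h.inf_le_gRepl hu, hA u hu.1⟩) ((Subgroup.closure_le _).mpr ?_)
    rintro _ ⟨a, ha, rfl⟩
    refine ⟨h.gen_mem_gRepl ha, ?_⟩
    set H := A ⊔ A.map (conjBy b) with hH
    set y := (conjBy b a)⁻¹ with hy
    have haH : a ∈ H := Subgroup.mem_sup_left ha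
    have hyH : y ∈ H := Subgroup.mem_sup_right (inv_mem ⟨a, ha, rfl⟩)
    set c := ⁅y⁻¹, a⁻¹⁆ with hc
    have hcX := h.commutator_sup_le y⁻¹ (inv_mem hyH) a⁻¹ (inv_mem haH)
    have hce : c ^ e = 1 := hA c hcX.1
    have hcc : ∀ g : H, Commute (⟨c, (Subgroup.mem_sup_left hcX.1 : c ∈ H)⟩ : H) g := fun g =>
      Subtype.ext (h.inf_le_centralizer hcX g g.2).symm
    have hf := mul_pow_formula (G := H) (x := ⟨a, haH⟩) (y := ⟨y, hyH⟩)
      (c := ⟨c, Subgroup.mem_sup_left hcX.1⟩) (d := 1) (e := 1)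
      (Subtype.ext (show y * a = a * y * c by rw [hc, commutatorElement_def]; group))
      (by rw [mul_one]; exact hcc _) (by rw [mul_one]; exact hcc _)
      (fun g => Commute.one_left g) (fun g => Commute.one_left g) e
    have hf' : (a * y) ^ e = a ^ e * y ^ e * c ^ e.choose 2 := by
      have := congrArg H.subtype hf
      simpa only [map_mul, map_pow, map_one, one_pow, mul_one, Subgroup.coe_subtype] using this
    obtain ⟨t, rfl⟩ := he
    have hch : (2 * t + 1).choose 2 = (2 * t + 1) * t := by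
      rw [Nat.choose_two_right, Nat.add_sub_cancel,
        show (2 * t + 1) * (2 * t) = (2 * t + 1) * t * 2 by ring, Nat.mul_div_cancel _ (by norm_num : 0 < 2)]
    rw [gen_eq, ← hy, hf', hA a ha, hch, pow_mul, hce, one_pow, mul_one, one_mul, hy, inv_pow,
      ← map_pow, hA a ha, map_one, inv_one]
  exact (hle hx).2

end GSetting

end Cfsg.Agent.Lib.PLocal
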