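import Cfsg.Agent.Lib.PLocal.Replacement

/-!
Best offenders and the replacement theorem for elementary abelian subgroups of largest order.
-/

set_option autoImplicit false

namespace Cfsg.Agent.Lib.PLocal

open scoped commutatorElement

variable {G : Type*} [Group G] [Finite G] {p : ℕ}

/-- The replacement keeps nontrivial action nontrivial. -/
lemma commutator_eq_bot_of_repl [hp : Fact p.Prime] {V A : Subgroup G}
    (hV : Cfsg.IsElementaryAbelian p V) (hAV : A ≤ Subgroup.normalizer (V : Set G))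
    (hpow : ∀ a ∈ A, a ^ p ∈ Subgroup.centralizer (V : Set G)) {U : Subgroup G} (hU : U ≤ V)
    (h : ReplOK V A U) (h0 : ⁅V, repl A U⁆ = ⊥) : ⁅V, A⁆ = ⊥ := by
  refine commutator_eq_bot_of_sup_eq hV hAV hpow ?_
  rw [Subgroup.commutator_eq_bot_iff_le_centralizer] at h0
  refine (le_inf le_rfl h0).trans (h.2.le.trans (sup_le_sup_right ?_ _))
  exact Subgroup.commutator_mono hU le_rfl

lemma inf_centralizer_le_of_max {V A : Subgroup G} (hV : Cfsg.IsElementaryAbelian p V)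
    (hA : A ∈ Cfsg.maxElementaryAbelianSubgroups p G) :
    V ⊓ Subgroup.centralizer (A : Set G) ≤ A :=
  fun x hx => mem_of_centralizes hA hx.2 (hV.2 x hx.1)

lemma fOn_le_of_maxElemAb {V A : Subgroup G} (hV : Cfsg.IsElementaryAbelian p V)
    (hA : A ∈ Cfsg.maxElementaryAbelianSubgroups p G) : ∀ B ≤ A, fOn V B ≤ fOn V A := by
  intro B hB
  have h1 := card_mul_card_le B (V ⊓ Subgroup.centralizer (B : Set G))
  have h2 := hA.2 _ (elemAb_sup (elemAb_of_le hA.1 hB)
    (elemAb_of_le hV (inf_le_left : V ⊓ Subgroup.centralizer (B : Set G) ≤ V))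
    (fun b hb c hc => hc.2 b hb))
  have h3 : Nat.card ↥(B ⊓ (V ⊓ Subgroup.centralizer (B : Set G))) ≤
      Nat.card ↥(V ⊓ Subgroup.centralizer (A : Set G)) :=
    Subgroup.card_le_of_le fun x hx => ⟨hx.2.1, fun a ha => commute_of_elemAb hA.1 ha (hB hx.1)⟩
  exact h1.trans ((Nat.mul_le_mul h3 h2).trans (le_of_eq (mul_comm _ _)))

lemma commutator_self_le_centralizer {V A : Subgroup G} (hA : Cfsg.IsElementaryAbelian p A) :
    ⁅A, A⁆ ≤ Subgroup.centralizer (V : Set G) := by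
  have h0 : ⁅A, A⁆ = ⊥ := Subgroup.commutator_eq_bot_iff_le_centralizer.mpr
    (fun a ha b hb => (commute_of_elemAb hA ha hb).symm)
  rw [h0]; exact bot_le

/-- The Thompson replacement `[V,A] C_A([V,A])`. -/
theorem replacement_maxElemAb [hp : Fact p.Prime] (V : Subgroup G) {A : Subgroup G}
    (hV : Cfsg.IsElementaryAbelian p V) (hA : A ∈ Cfsg.maxElementaryAbelianSubgroups p G)
    (hAV : A ≤ Subgroup.normalizer (V : Set G)) :
    (⁅V, A⁆ ⊔ (A ⊓ Subgroup.centralizer ((⁅V, A⁆ : Subgroup G) : Set G))) ∈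
        Cfsg.maxElementaryAbelianSubgroups p G ∧
      ⁅⁅V, ⁅V, A⁆ ⊔ (A ⊓ Subgroup.centralizer ((⁅V, A⁆ : Subgroup G) : Set G))⁆,
        ⁅V, A⁆ ⊔ (A ⊓ Subgroup.centralizer ((⁅V, A⁆ : Subgroup G) : Set G))⁆ = ⊥ ∧
      (⁅V, A⁆ ≠ ⊥ →
        ⁅V, ⁅V, A⁆ ⊔ (A ⊓ Subgroup.centralizer ((⁅V, A⁆ : Subgroup G) : Set G))⁆ ≠ ⊥) := by
  set W := ⁅V, A⁆ with hW
  change W ⊔ repl A V ∈ _ ∧ ⁅⁅V, W ⊔ repl A V⁆, W ⊔ repl A V⁆ = ⊥ ∧
    (W ≠ ⊥ → ⁅V, W ⊔ repl A V⁆ ≠ ⊥)
  set A' := repl A V with hA'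
  have hab : ∀ a ∈ V, ∀ b ∈ V, a * b = b * a := fun a ha b hb => commute_of_elemAb hV ha hb
  have hok : ReplOK V A V := replOK_of_max hab hAV (commutator_self_le_centralizer hA.1)
    (fOn_le_of_maxElemAb hV hA) V le_rfl
  have hWV : W ≤ V := commutator_le_of_le_normalizer' hAV
  have hA'W : A' ≤ Subgroup.centralizer (W : Set G) := inf_le_right
  have hWC : W ≤ Subgroup.centralizer (A' : Set G) := Subgroup.le_centralizer_iff.mp hA'W
  have hCA : V ⊓ Subgroup.centralizer (A : Set G) ≤ A' := fun x hx =>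
    ⟨inf_centralizer_le_of_max hV hA hx, fun w hw => hab w (hWV hw) x hx.1⟩
  have hE : Cfsg.IsElementaryAbelian p (W ⊔ A') :=
    elemAb_sup (elemAb_of_le hV hWV) (elemAb_of_le hA.1 inf_le_left) fun w hw a ha =>
      (hWC hw a ha).symm
  refine ⟨mem_maxElemAb_of_le hA hE ?_, ?_, ?_⟩
  · -- the order does not drop
    have h1 := card_mul_card_le A' (W ⊔ (V ⊓ Subgroup.centralizer (A : Set G)))
    have h2 : Nat.card ↥(A' ⊔ (W ⊔ (V ⊓ Subgroup.centralizer (A : Set G)))) ≤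
        Nat.card ↥(W ⊔ A') :=
      Subgroup.card_le_of_le (sup_le le_sup_right (sup_le le_sup_left (hCA.trans le_sup_right)))
    have h3 : Nat.card ↥(A' ⊓ (W ⊔ (V ⊓ Subgroup.centralizer (A : Set G)))) ≤
        Nat.card ↥(V ⊓ Subgroup.centralizer (A : Set G)) :=
      Subgroup.card_le_of_le fun x hx => ⟨sup_le hWV inf_le_left hx.2,
        fun a ha => commute_of_elemAb hA.1 ha hx.1.1⟩
    have h4 : fOn V A' = fOn V A := hok.1
    rw [fOn, fOn, hok.2] at h4
    rw [h4] at h1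
    refine Nat.le_of_mul_le_mul_right (h1.trans ?_) Nat.card_pos
    rw [mul_comm (Nat.card ↥(W ⊔ A'))]
    exact Nat.mul_le_mul h3 h2
  · rw [Subgroup.commutator_eq_bot_iff_le_centralizer]
    have hle : ⁅V, W ⊔ A'⁆ ≤ W := by
      rw [Subgroup.commutator_le]
      intro v hv a ha
      rw [← SetLike.mem_coe, Subgroup.coe_mul_of_right_le_normalizer_left W A'
        (hA'W.trans (Subgroup.centralizer_le_normalizer _))] at ha
      obtain ⟨w, hw, b, hb, rfl⟩ := ha
      have e : ⁅v, w * b⁆ = ⁅v, w⁆ * (w * ⁅v, b⁆ * w⁻¹) := by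
        simp only [commutatorElement_def]; group
      rw [e, commutatorElement_eq_one_iff_mul_comm.mpr (hab v hv w (hWV hw)), one_mul]
      exact mul_mem (mul_mem hw (Subgroup.commutator_mem_commutator hv hb.1)) (inv_mem hw)
    refine hle.trans ?_
    rw [Subgroup.le_centralizer_iff]
    refine sup_le ?_ hA'W
    exact fun w hw x hx => hab x (hWV hx) w (hWV hw)
  · intro hne h0
    refine hne (commutator_eq_bot_of_repl hV hAV (fun a ha => by rw [hA.1.2 a ha]; exact one_mem _)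
      le_rfl hok ?_)
    exact le_bot_iff.mp ((Subgroup.commutator_mono le_rfl le_sup_right).trans h0.le)

end Cfsg.Agent.Lib.PLocal
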