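import Cfsg.Agent.Lib.PLocal.Stable
import Cfsg.Agent.Lib.PLocal.Offender

/-!
Frattini arguments with the Thompson subgroup.
-/

set_option autoImplicit false

namespace Cfsg.Agent.Lib.PLocal

variable {G : Type*} [Group G] [Finite G] {p : ℕ}

/-- `J(U) = J(S)` for `J(S) ≤ U ≤ S`, inside `G`. -/
lemma thompsonSubgroupOf_eq_of_le {S U : Subgroup G} (hUS : U ≤ S)
    (hJ : Cfsg.thompsonSubgroupOf p S ≤ U) :
    Cfsg.thompsonSubgroupOf p U = Cfsg.thompsonSubgroupOf p S := by
  have h1 : Cfsg.thompsonSubgroup p S ≤ U.subgroupOf S := fun x hx => hJ ⟨x, hx, rfl⟩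
  have h2 := thompsonSubgroup_eq_of_le h1
  have h3 := map_thompsonSubgroup_equiv (p := p) (Subgroup.subgroupOfEquivOfLe hUS)
  rw [Cfsg.thompsonSubgroupOf, Cfsg.thompsonSubgroupOf, ← h2, ← h3, Cfsg.thompsonSubgroupOf,
    Subgroup.map_map, Subgroup.map_map]
  rfl

lemma normalizer_le_normalizer_thompsonSubgroupOf (U : Subgroup G) :
    Subgroup.normalizer (U : Set G) ≤
      Subgroup.normalizer (Cfsg.thompsonSubgroupOf p U : Set G) :=
  Cores.normalizer_le_normalizer_map_subtype U _

variable [hp : Fact p.Prime]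

lemma thompsonSubgroupOf_le (S : Subgroup G) : Cfsg.thompsonSubgroupOf p S ≤ S :=
  Subgroup.map_subtype_le _

lemma sylow_le_normalizer_thompsonSubgroupOf (S : Sylow p G) :
    (S : Subgroup G) ≤ Subgroup.normalizer (Cfsg.thompsonSubgroupOf p (S : Subgroup G) : Set G) :=
  Subgroup.le_normalizer.trans (normalizer_le_normalizer_thompsonSubgroupOf _)

/-- If the normal subgroup `C` contains `J(S)` then `G = C N(J(S))`. -/
lemma sup_normalizer_thompson_eq_top (S : Sylow p G) (C : Subgroup G) [C.Normal]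
    (hJ : Cfsg.thompsonSubgroupOf p (S : Subgroup G) ≤ C) :
    C ⊔ Subgroup.normalizer (Cfsg.thompsonSubgroupOf p (S : Subgroup G) : Set G) = ⊤ := by
  set U := (S : Subgroup G) ⊓ C with hU
  have hUC : U ≤ C := inf_le_right
  have hp1 : IsPGroup p (U.subgroupOf C) :=
    (S.2.to_le inf_le_left).of_equiv (Subgroup.subgroupOfEquivOfLe hUC).symm
  have hidx : ¬ p ∣ (U.subgroupOf C).index := by
    rw [← Subgroup.relIndex, hU, Subgroup.inf_relIndex_right]
    exact fun h => S.not_dvd_index (h.trans (PGroups.relIndex_dvd_index_of_normal_right C _))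
  have h := Sylow.normalizer_sup_eq_top (hp1.toSylow hidx)
  rw [IsPGroup.toSylow_coe, Subgroup.subgroupOf_map_subtype, inf_eq_left.mpr hUC] at h
  rw [sup_comm, eq_top_iff, ← h]
  refine sup_le_sup_right ?_ C
  rw [← thompsonSubgroupOf_eq_of_le (inf_le_left : U ≤ (S : Subgroup G))
    (le_inf (thompsonSubgroupOf_le _) hJ)]
  exact normalizer_le_normalizer_thompsonSubgroupOf U

end Cfsg.Agent.Lib.PLocal
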