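import Cfsg.Agent.Lib.PLocal.ZJFunctor

/-! `W(S)` as a functor: stable embeddings in groups with abelian-by-`p` top. -/

set_option autoImplicit false
set_option linter.unusedSectionVars false
set_option linter.style.haveILetI false

universe u

namespace Cfsg.Agent.Lib.PLocal

open Cfsg.Agent.Lib.FusionControl

/-- `W(Q)`. -/
def stableW (p : ℕ) (Q : Type u) [Group Q] : Subgroup Q := Cfsg.stableNormalClosure p Q

variable {p : ℕ} [Fact p.Prime]

lemma isCharPFunctor_stableW : Cfsg.IsCharPFunctor.{u} p (stableW p) := by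
  refine ⟨fun Q _ _ hQ hnt => ?_, fun Q R _ _ _ _ φ => map_stable_eq φ⟩
  exact stable_ne_bot hQ

/-- Stability on a section from stability of the quotient. -/
lemma isPStableOnSection_of_quotient {G : Type*} [Group G] [Finite G] (K N : Subgroup G) [K.Normal]
    [N.Normal] (hK : IsPGroup p K) (hst : Cfsg.IsNormalizerPStable p (G ⧸ N)) :
    Cfsg.IsPStableOnSection p K N := by
  set π := QuotientGroup.mk' N with hπ
  have hπs : Function.Surjective π := QuotientGroup.mk'_surjective N
  haveI : (K.map π).Normal := (inferInstance : K.Normal).map π hπs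
  obtain ⟨D, hD, hCD, ⟨k, hk⟩, h⟩ := pStable_core (p := p) (B := K.map π)
  intro a ha
  refine ⟨D.comap π, inferInstance, Subgroup.comap_mono hCD, ⟨k, ?_⟩, ?_⟩
  · rw [Cfsg.sectionKernel, Subgroup.relIndex_comap, Subgroup.map_comap_eq_self_of_surjective hπs, hk]
  · refine h (isPStableOn_of_normalizerPStable hst _ (hK.map π)) (π a) ?_
    rw [← MonoidHom.map_zpowers, ← Subgroup.map_commutator, ← Subgroup.map_commutator,
      Subgroup.map_eq_bot_iff, hπ, QuotientGroup.ker_mk']
    exact ha

lemma isActionPStable_of_abTop {G : Type u} [Group G] [Finite G] (hp : p ≠ 2) (h : HasAbTop p G) :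
    Cfsg.IsActionPStable p G := by
  refine ⟨fun V _ hV => isPStableOn_of_normalizerPStable (isNormalizerPStable_of_hasAbTop hp h) V
    (elemAb_isPGroup hV), ?_, fun S V _ hV => ?_⟩
  · haveI := Cfsg.pCore_normal p G
    exact isPStableOnSection_of_quotient _ _ (Cores.pCore_isPGroup p G) (isNormalizerPStable_of_hasAbTop hp
      (hasAbTop_surjective h (QuotientGroup.mk' _) (QuotientGroup.mk'_surjective _)))
  · refine isPStableOn_of_normalizerPStable (isNormalizerPStable_of_hasAbTop hp (hasAbTop_subgroup h _)) V
      ((((S.2.to_le (Subgroup.map_subtype_le _)).to_le hV).comap_of_injective _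
        (Subgroup.subtype_injective _)).to_le (Subgroup.le_comap_map _ _))

theorem npc_stableW {G : Type u} [Group G] [Finite G] (hp : p ≠ 2) (S : Sylow p G)
    (hN : Cfsg.HasNormalPComplement p
      ↥(Subgroup.normalizer ((Cfsg.inducedFunctor (stableW p) (S : Subgroup G) : Subgroup G) : Set G))) :
    Cfsg.HasNormalPComplement p G :=
  npc_of_abTop isCharPFunctor_stableW (fun _ _ _ hC hY T =>
    stableOf_normal (isActionPStable_of_abTop hp hY) hC T) S hN

end Cfsg.Agent.Lib.PLocal
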