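import Cfsg.Agent.Lib.PLocal.Factor
import Cfsg.Agent.Lib.Coprime.Action
import Cfsg.Agent.Lib.Transfer.Basic

/-!
`W(S)` is normal in a `p`-stable group of characteristic `p`.
-/

set_option autoImplicit false

namespace Cfsg.Agent.Lib.PLocal

open scoped commutatorElement

universe u

variable {G : Type u} [Group G] [Finite G] {p : ℕ} [hp : Fact p.Prime]

/-- `W(S)` inside `G`. -/
abbrev stableOf (p : ℕ) (S : Subgroup G) : Subgroup G :=
  (Cfsg.stableNormalClosure p S).map S.subtype

lemma normalizer_thompson_le_normalizer_stable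
    (hst : Cfsg.IsActionPStable p G)
    (hc : Subgroup.centralizer (Cfsg.pCore p G : Set G) ≤ Cfsg.pCore p G) (S : Sylow p G) :
    Subgroup.normalizer (Cfsg.thompsonSubgroupOf p (S : Subgroup G) : Set G) ≤
      Subgroup.normalizer (stableOf p (S : Subgroup G) : Set G) := by
  set J := Cfsg.thompsonSubgroupOf p (S : Subgroup G) with hJ
  set N := Subgroup.normalizer (J : Set G) with hN
  have hSN : (S : Subgroup G) ≤ N := sylow_le_normalizer_thompsonSubgroupOf S
  set τ := Subgroup.inclusion hSN with hτ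
  have hcomp : ∀ X : Subgroup (S : Subgroup G),
      (X.map τ).map N.subtype = X.map (S : Subgroup G).subtype := by
    intro X; rw [Subgroup.map_map]; rfl
  have hemb : Cfsg.IsStableEmbedding p τ := by
    refine ⟨Subgroup.inclusion_injective hSN, inferInstance, ⟨S.subtype hSN, ?_⟩, ?_, ?_, ?_⟩
    · ext x
      constructor
      · exact fun hx => ⟨⟨x, hx⟩, rfl⟩
      · rintro ⟨y, rfl⟩; exact y.2
    · intro x hx
      have hQN : Cfsg.pCore p G ≤ N := (Cores.pCore_le_sylow S).trans hSN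
      have hxQ : (x : G) ∈ Cfsg.pCore p G := hc fun q hq => by
        obtain ⟨q', hq', hqe⟩ := Cores.inf_pCore_le_map_subtype (p := p) N ⟨hQN hq, hq⟩
        rw [← hqe]
        exact congrArg Subtype.val (hx q' hq')
      obtain ⟨y, hy, hye⟩ := Cores.inf_pCore_le_map_subtype (p := p) N ⟨x.2, hxQ⟩
      rwa [← Subtype.ext hye]
    · have : (Cfsg.thompsonSubgroup p (S : Subgroup G)).map τ = J.subgroupOf N := by
        rw [← Subgroup.comap_map_eq_self_of_injective N.subtype_injective
          ((Cfsg.thompsonSubgroup p (S : Subgroup G)).map τ), hcomp]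
        rfl
      rw [this]
      exact Subgroup.normal_in_normalizer
    · intro V _ hV
      exact hst.2.2 S V ((Subgroup.map_mono hV).trans (hcomp _).le)
  intro g hg
  have hn := stable_map_normal hemb
  rw [Subgroup.mem_normalizer_iff_map_conj_eq]
  refine Subgroup.eq_of_le_of_card_ge ?_
    (Subgroup.card_map_of_injective (MulAut.conj g).injective).ge
  rintro _ ⟨x, hx, rfl⟩
  rw [stableOf, SetLike.mem_coe, ← hcomp] at hx
  obtain ⟨x', hx', rfl⟩ := hx
  rw [stableOf, ← hcomp]
  exact ⟨_, hn.conj_mem x' hx' ⟨g, hg⟩, rfl⟩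

lemma sectionKernel_isPGroup
    (hc : Subgroup.centralizer (Cfsg.pCore p G : Set G) ≤ Cfsg.pCore p G) :
    IsPGroup p (Cfsg.sectionKernel (Cfsg.pCore p G)
      ((frattini ↥(Cfsg.pCore p G)).map (Cfsg.pCore p G).subtype)) := by
  set Q := Cfsg.pCore p G with hQ
  set Φ := (frattini ↥Q).map Q.subtype with hΦ
  have hQp : IsPGroup p Q := Cores.pCore_isPGroup p G
  intro x
  obtain ⟨a, b, ha, -, hac, ⟨k, hk⟩, hab⟩ :=
    Transfer.exists_pPart_decomp (p := p) (x : G)
  have haK : a ∈ Cfsg.sectionKernel Q Φ := (Subgroup.zpowers_le.mpr x.2) ha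
  have haQ : Subgroup.zpowers a ≤ Subgroup.centralizer (Q : Set G) := by
    refine Coprime.le_centralizer_of_frattini ?_ ?_
    · rw [Nat.card_zpowers]
      obtain ⟨n, hn⟩ := IsPGroup.iff_card.mp (hQp.to_subgroup (frattini ↥Q))
      rw [hn]
      exact Nat.Coprime.pow_right n hac
    · intro c hc' q hq
      have hcK : c ∈ Cfsg.sectionKernel Q Φ := (Subgroup.zpowers_le.mpr haK) hc'
      rw [Cfsg.sectionKernel, Subgroup.mem_comap] at hcK
      have h1 := hcK _ (Subgroup.mem_map_of_mem (QuotientGroup.mk' Φ) hq)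
      rw [← QuotientGroup.eq_one_iff (N := Φ)]
      show QuotientGroup.mk' Φ (c * q * c⁻¹ * q⁻¹) = 1
      rw [map_mul, map_mul, map_mul, map_inv, map_inv, ← h1, mul_inv_cancel_right, mul_inv_cancel]
  have ha1 : a = 1 :=
    Transfer.eq_one_of_isPGroup_of_coprime hQp (hc (haQ (Subgroup.mem_zpowers a))) hac
  refine ⟨k, Subtype.ext ?_⟩
  rw [SubgroupClass.coe_pow, hab, ha1, one_mul, ← hk, pow_orderOf_eq_one, OneMemClass.coe_one]

lemma stableOf_le_pCore
    (hst : Cfsg.IsActionPStable p G)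
    (hc : Subgroup.centralizer (Cfsg.pCore p G : Set G) ≤ Cfsg.pCore p G) (S : Sylow p G) :
    stableOf p (S : Subgroup G) ≤ Cfsg.pCore p G := by
  set Q := Cfsg.pCore p G with hQ
  set Φ := (frattini ↥Q).map Q.subtype with hΦ
  set W := stableOf p (S : Subgroup G) with hW
  have hSW : (S : Subgroup G) ≤ Subgroup.normalizer (W : Set G) :=
    (sylow_le_normalizer_thompsonSubgroupOf S).trans
      (normalizer_thompson_le_normalizer_stable hst hc S)
  have hWab : Cfsg.IsElementaryAbelian p W := by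
    refine elemAb_map (elemAb_of_le (elemAb_omegaOne ?_) stable_le_omegaCenterThompson) _
    exact fun a ha b hb => (ha.2 b hb.1).symm
  intro w hw
  have hq : ⁅⁅Q, Subgroup.zpowers w⁆, Subgroup.zpowers w⁆ ≤ Φ := by
    have h0 : ⁅W, W⁆ = ⊥ := Subgroup.commutator_eq_bot_iff_le_centralizer.mpr
      (fun a ha b hb => (commute_of_elemAb hWab ha hb).symm)
    refine (Subgroup.commutator_mono (K₁ := W) (K₂ := W) ?_ (Subgroup.zpowers_le.mpr hw)).trans
      (h0.le.trans bot_le)
    refine (Subgroup.commutator_mono le_rfl (Subgroup.zpowers_le.mpr hw)).trans ?_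
    rw [Subgroup.commutator_comm]
    exact commutator_le_of_le_normalizer' ((Cores.pCore_le_sylow S).trans hSW)
  obtain ⟨D, hD, hKD, ⟨k, hk⟩, hwD⟩ := hst.2.1 w hq
  refine Cores.le_pCore hD ?_ hwD
  obtain ⟨m, hm⟩ := IsPGroup.iff_card.mp (sectionKernel_isPGroup hc)
  refine IsPGroup.of_card (n := m + k) ?_
  rw [pow_add, ← hm, ← hk, ← Subgroup.relIndex_bot_left, ← Subgroup.relIndex_bot_left]
  exact (Subgroup.relIndex_mul_relIndex _ _ _ bot_le hKD).symm

/-- **`W(S)` is normal** in a `p`-stable group with `C_G(O_p(G)) ≤ O_p(G)`. -/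
theorem stableOf_normal
    (hst : Cfsg.IsActionPStable p G)
    (hc : Subgroup.centralizer (Cfsg.pCore p G : Set G) ≤ Cfsg.pCore p G) (S : Sylow p G) :
    (stableOf p (S : Subgroup G)).Normal := by
  set W := stableOf p (S : Subgroup G) with hW
  have hWS : W ≤ (S : Subgroup G) := Subgroup.map_subtype_le _
  have hSW : (S : Subgroup G) ≤ Subgroup.normalizer (W : Set G) :=
    (sylow_le_normalizer_thompsonSubgroupOf S).trans
      (normalizer_thompson_le_normalizer_stable hst hc S)
  have hWab : Cfsg.IsElementaryAbelian p W :=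
    elemAb_map (elemAb_of_le (elemAb_omegaOne fun a ha b hb => (ha.2 b hb.1).symm)
      stable_le_omegaCenterThompson) _
  have hWQ := stableOf_le_pCore hst hc S
  have hQS : Cfsg.pCore p G ≤ (S : Subgroup G) := Cores.pCore_le_sylow S
  -- quadratic elements of `S` centralise `W`
  have h623 : ∀ s ∈ (S : Subgroup G), QuadOn W s → s ∈ Subgroup.centralizer (W : Set G) := by
    intro s hs hq
    have hq' : QuadOn (Cfsg.stableNormalClosure p (S : Subgroup G)) (⟨s, hs⟩ : (S : Subgroup G)) := by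
      intro v hv
      exact Subtype.ext (hq v ⟨v, hv, rfl⟩)
    rintro _ ⟨v, hv, rfl⟩
    exact congrArg Subtype.val (quadTriv_stable.2 _ hq' v hv)
  -- all conjugates of `W` commute with `W`
  have hcomm : ∀ g : G, ∀ v ∈ W, g * v * g⁻¹ ∈ Subgroup.centralizer (W : Set G) := by
    intro g v hv
    have hxQ : g * v * g⁻¹ ∈ Cfsg.pCore p G := (Cfsg.pCore_normal p G).conj_mem v (hWQ hv) g
    refine h623 _ (hQS hxQ) fun w hw => ?_
    set x := g * v * g⁻¹ with hx
    -- `[x, w]` lies in `gWg⁻¹`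
    have h1 : g⁻¹ * w * g ∈ Subgroup.normalizer (W : Set G) := by
      refine hSW (hQS ?_)
      simpa using (Cfsg.pCore_normal p G).conj_mem w (hWQ hw) g⁻¹
    have h2 : ⁅v, g⁻¹ * w * g⁆ ∈ W := by
      rw [commutatorElement_def]
      have h3 := (Subgroup.mem_normalizer_iff.mp h1 v⁻¹).mp (inv_mem hv)
      rw [show v * (g⁻¹ * w * g) * v⁻¹ * (g⁻¹ * w * g)⁻¹ =
        v * ((g⁻¹ * w * g) * v⁻¹ * (g⁻¹ * w * g)⁻¹) by group]
      exact mul_mem hv h3
    have h4 : v * ⁅v, g⁻¹ * w * g⁆ = ⁅v, g⁻¹ * w * g⁆ * v := commute_of_elemAb hWab hv h2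
    have e : ⁅x, w⁆ = g * ⁅v, g⁻¹ * w * g⁆ * g⁻¹ := by
      rw [hx]; simp only [commutatorElement_def]; group
    rw [e, hx]
    calc g * v * g⁻¹ * (g * ⁅v, g⁻¹ * w * g⁆ * g⁻¹) = g * (v * ⁅v, g⁻¹ * w * g⁆) * g⁻¹ := by group
      _ = g * (⁅v, g⁻¹ * w * g⁆ * v) * g⁻¹ := by rw [h4]
      _ = _ := by group
  set U := Subgroup.normalClosure (W : Set G) with hU
  haveI hUn : U.Normal := Subgroup.normalClosure_normal
  have hWU : W ≤ U := Subgroup.le_normalClosure
  have hUQ : U ≤ Cfsg.pCore p G := by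
    haveI := Cfsg.pCore_normal p G
    exact Subgroup.normalClosure_le_normal hWQ
  have hUab : Cfsg.IsElementaryAbelian p U := by
    rw [hU, Subgroup.normalClosure]
    refine elemAb_closure ?_ ?_
    · intro a ha b hb
      obtain ⟨v, hv, hva⟩ := Group.mem_conjugatesOfSet_iff.mp ha
      obtain ⟨g, rfl⟩ := isConj_iff.mp hva
      obtain ⟨w, hw, hwb⟩ := Group.mem_conjugatesOfSet_iff.mp hb
      obtain ⟨h, rfl⟩ := isConj_iff.mp hwb
      have h1 := hcomm (h⁻¹ * g) v hv w hw
      calc g * v * g⁻¹ * (h * w * h⁻¹)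
          = h * (h⁻¹ * g * v * (h⁻¹ * g)⁻¹ * w) * h⁻¹ := by group
        _ = h * (w * (h⁻¹ * g * v * (h⁻¹ * g)⁻¹)) * h⁻¹ := by rw [← h1]
        _ = h * w * h⁻¹ * (g * v * g⁻¹) := by group
    · intro a ha
      obtain ⟨v, hv, hva⟩ := Group.mem_conjugatesOfSet_iff.mp ha
      obtain ⟨g, rfl⟩ := isConj_iff.mp hva
      rw [conj_pow, hWab.2 v hv, mul_one, mul_inv_cancel]
  set C := Subgroup.centralizer (U : Set G) with hC
  -- quadratic elements of `S` centralise `U`
  have hquad : ∀ y : G, QuadOn U y → y ∈ C := by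
    intro y hy
    set D := (Cfsg.pCore p (G ⧸ C)).comap (QuotientGroup.mk' C) with hD
    haveI : D.Normal := (Cfsg.pCore_normal p (G ⧸ C)).comap _
    have hyD : y ∈ D := hst.1 U hUab y (commutator_zpowers_eq_bot_iff.mpr hy)
    have hCD : C ≤ D := fun c hc => by
      rw [hD, Subgroup.mem_comap, show QuotientGroup.mk' C c = 1 from (QuotientGroup.eq_one_iff c).mpr hc]
      exact one_mem _
    obtain ⟨k, hk⟩ : ∃ k, C.relIndex D = p ^ k := by
      obtain ⟨k, hk⟩ := IsPGroup.iff_card.mp (Cores.pCore_isPGroup p (G ⧸ C))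
      refine ⟨k, ?_⟩
      rw [← hk, ← Subgroup.relIndex_bot_left]
      conv_lhs => rw [← QuotientGroup.ker_mk' C, ← MonoidHom.comap_bot, hD]
      rw [Subgroup.relIndex_comap,
        Subgroup.map_comap_eq_self_of_surjective (QuotientGroup.mk'_surjective C)]
    have hgen : ∀ h : G, h * y * h⁻¹ ∈ Subgroup.centralizer (W : Set G) := by
      intro h
      obtain ⟨c, hc', s, ⟨hsS, -⟩, hcs⟩ := Subgroup.mem_sup_of_normal_left.mp
        (normal_le_sup_inf_sylow D C hCD hk S (‹D.Normal›.conj_mem _ hyD h))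
      have hq2 : QuadOn U s := by
        have hn : h * y * h⁻¹ ∈ Subgroup.normalizer (U : Set G) := by
          rw [Subgroup.normalizer_eq_top]; trivial
        have := quadOn_mul_centralizer hn (quadOn_conj hy h) (inv_mem hc')
        rwa [← hcs, inv_mul_cancel_left] at this
      rw [← hcs]
      exact mul_mem (Subgroup.centralizer_le (show (W : Set G) ⊆ U from hWU) hc')
        (h623 s hsS (quadOn_of_le hq2 hWU))
    have hUy : U ≤ Subgroup.centralizer {y} := by
      rw [hU, Subgroup.normalClosure, Subgroup.closure_le]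
      intro v hv
      obtain ⟨a, ha, hav⟩ := Group.mem_conjugatesOfSet_iff.mp hv
      obtain ⟨h, rfl⟩ := isConj_iff.mp hav
      rw [SetLike.mem_coe, Subgroup.mem_centralizer_singleton_iff]
      have h1 := hgen h⁻¹ a ha
      calc h * a * h⁻¹ * y = h * (a * (h⁻¹ * y * h⁻¹⁻¹)) * h⁻¹ := by group
        _ = h * (h⁻¹ * y * h⁻¹⁻¹ * a) * h⁻¹ := by rw [h1]
        _ = y * (h * a * h⁻¹) := by group
    exact fun w hw => Subgroup.mem_centralizer_singleton_iff.mp (hUy hw)
  -- hence `J(S)` centralises `U`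
  have hUS : U ≤ (S : Subgroup G) := hUQ.trans hQS
  have hJC : Cfsg.thompsonSubgroupOf p (S : Subgroup G) ≤ C := by
    rw [Cfsg.thompsonSubgroupOf, Subgroup.map_le_iff_le_comap]
    refine sSup_le fun A hA => ?_
    haveI : (U.subgroupOf (S : Subgroup G)).Normal := hUn.subgroupOf _
    have hU' : Cfsg.IsElementaryAbelian p (U.subgroupOf (S : Subgroup G)) :=
      elemAb_of_map (Subgroup.subtype_injective _) (by
        rw [Subgroup.subgroupOf_map_subtype, inf_eq_left.mpr hUS]; exact hUab)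
    obtain ⟨-, hA0q, hA0n⟩ := replacement_maxElemAb (U.subgroupOf (S : Subgroup G)) hU' hA
      (by rw [Subgroup.normalizer_eq_top]; exact le_top)
    set A0 := ⁅U.subgroupOf (S : Subgroup G), A⁆ ⊔
      (A ⊓ Subgroup.centralizer ((⁅U.subgroupOf (S : Subgroup G), A⁆ : Subgroup (S : Subgroup G)) : Set (S : Subgroup G)))
      with hA0
    have h0 : ⁅U.subgroupOf (S : Subgroup G), A0⁆ = ⊥ := by
      rw [Subgroup.commutator_eq_bot_iff_le_centralizer, Subgroup.le_centralizer_iff]
      intro a ha v hv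
      have hq : QuadOn U (a : G) := by
        intro u hu
        have hu' : (⟨u, hUS hu⟩ : (S : Subgroup G)) ∈ U.subgroupOf (S : Subgroup G) := hu
        rw [Subgroup.commutator_eq_bot_iff_le_centralizer] at hA0q
        exact congrArg Subtype.val (hA0q (commutatorElement_mem_commutator_symm hu' ha) a ha)
      exact Subtype.ext (hquad _ hq v hv)
    have h1 : ⁅U.subgroupOf (S : Subgroup G), A⁆ = ⊥ := by
      by_contra hne; exact hA0n hne h0
    intro a ha v hv
    rw [Subgroup.commutator_eq_bot_iff_le_centralizer] at h1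
    exact (congrArg Subtype.val (h1 (x := ⟨v, hUS hv⟩) hv a ha)).symm
  have htop := sup_normalizer_thompson_eq_top S C hJC
  refine Subgroup.normalizer_eq_top_iff.mp (top_le_iff.mp (htop ▸ sup_le ?_ ?_))
  · exact (Subgroup.centralizer_le (show (W : Set G) ⊆ U from hWU)).trans
      (Subgroup.centralizer_le_normalizer _)
  · exact normalizer_thompson_le_normalizer_stable hst hc S

end Cfsg.Agent.Lib.PLocal
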