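import Cfsg.Agent.Lib.PLocal.PlaneSLTwo
import Cfsg.Agent.Lib.PLocal.StableFunctor
import Cfsg.Agent.Lib.PLocal.StableNormal
import Cfsg.Agent.Lib.Blocks.PSolvable
import Mathlib.LinearAlgebra.Projectivization.PSL.PSL2

/-!
Groups without sections `SL₂(p)` are stable in every form; abelian Sylow `2`-subgroups, or `p`-solubility
for `p ≥ 5`, exclude such sections.
-/

set_option autoImplicit false
set_option linter.unusedSectionVars false
set_option linter.style.haveILetI false

namespace Cfsg.Agent.Lib.PLocal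

universe u

variable {p : ℕ} [hp : Fact p.Prime]

local notation "SL₂" => Matrix.SpecialLinearGroup (Fin 2) (ZMod p)

/-- no subgroup maps onto `SL₂(p)` -/
def NoSLTwo (p : ℕ) (G : Type u) [Group G] : Prop :=
  ∀ (K : Subgroup G) (f : K →* Matrix.SpecialLinearGroup (Fin 2) (ZMod p)), ¬ Function.Surjective f

theorem NoSLTwo.subgroup {G : Type u} [Group G] (h : NoSLTwo p G) (H : Subgroup G) : NoSLTwo p H :=
  fun K f hf => h (K.map H.subtype) (f.comp (K.equivMapOfInjective _ H.subtype_injective).symm.toMonoidHom)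
    (hf.comp (K.equivMapOfInjective _ H.subtype_injective).symm.surjective)

theorem NoSLTwo.quotient {G : Type u} [Group G] (h : NoSLTwo p G) (N : Subgroup G) [N.Normal] :
    NoSLTwo p (G ⧸ N) :=
  fun K f hf => h (K.comap (QuotientGroup.mk' N)) (f.comp ((QuotientGroup.mk' N).subgroupComap K))
    (hf.comp (MonoidHom.subgroupComap_surjective_of_surjective _ K (QuotientGroup.mk'_surjective N)))

/-- such groups are stable in the normalizer form -/
theorem NoSLTwo.normalizerPStable {G : Type u} [Group G] [Finite G] (hp2 : p ≠ 2) (h : NoSLTwo p G) :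
    Cfsg.IsNormalizerPStable p G :=
  isNormalizerPStable_of_no_plane dicksonTwo hp2 fun P a b _ hpl => by
    obtain ⟨K, f, -, hf⟩ := exists_surjective_slTwo hpl
    exact h K f hf

/-- such groups are action stable -/
theorem NoSLTwo.actionPStable {G : Type u} [Group G] [Finite G] (hp2 : p ≠ 2) (h : NoSLTwo p G) :
    Cfsg.IsActionPStable p G := by
  refine ⟨fun V _ hV => isPStableOn_of_normalizerPStable (h.normalizerPStable hp2) V (isPGroup_of_elementary hV),
    ?_, fun S V _ hV => ?_⟩
  · set Q := Cfsg.pCore p G with hQ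
    set N := (frattini ↥Q).map Q.subtype with hN
    haveI : Q.Normal := Cfsg.pCore_normal p G
    haveI hNn : N.Normal := by rw [hN]; infer_instance
    set θ := QuotientGroup.mk' N with hθ
    have hθs : Function.Surjective θ := QuotientGroup.mk'_surjective N
    haveI : (Q.map θ).Normal := Subgroup.Normal.map inferInstance θ hθs
    have hQp : IsPGroup p (Q.map θ) := (Cores.pCore_isPGroup p G).map θ
    have hst : Cfsg.IsPStableOn p (Q.map θ) :=
      isPStableOn_of_normalizerPStable ((h.quotient N).normalizerPStable hp2) _ hQp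
    intro a ha
    have ha' : ⁅⁅Q.map θ, Subgroup.zpowers (θ a)⁆, Subgroup.zpowers (θ a)⁆ = ⊥ := by
      rw [← MonoidHom.map_zpowers, ← Subgroup.map_commutator, ← Subgroup.map_commutator,
        Subgroup.map_eq_bot_iff, hθ, QuotientGroup.ker_mk']
      exact ha
    set C := Subgroup.centralizer ((Q.map θ : Subgroup (G ⧸ N)) : Set (G ⧸ N)) with hC
    set π := QuotientGroup.mk' C with hπ
    have hπs : Function.Surjective π := QuotientGroup.mk'_surjective C
    haveI : (Cfsg.pCore p ((G ⧸ N) ⧸ C)).Normal := Cfsg.pCore_normal p _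
    refine ⟨((Cfsg.pCore p ((G ⧸ N) ⧸ C)).comap π).comap θ, inferInstance, Subgroup.comap_mono ?_, ?_, ?_⟩
    · intro y hy
      show π y ∈ Cfsg.pCore p ((G ⧸ N) ⧸ C)
      rw [show π y = 1 from (QuotientGroup.eq_one_iff y).2 hy]
      exact one_mem _
    · obtain ⟨k, hk⟩ := (Cores.pCore_isPGroup p ((G ⧸ N) ⧸ C)).exists_card_eq
      refine ⟨k, ?_⟩
      have e : Cfsg.sectionKernel Q N = C.comap θ := rfl
      rw [e, Subgroup.relIndex_comap, Subgroup.map_comap_eq_self_of_surjective hθs,
        ← hk]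
      conv_lhs => arg 1; rw [← QuotientGroup.ker_mk' C]
      rw [← hπ, Subgroup.relIndex_ker, Subgroup.map_comap_eq_self_of_surjective hπs]
    · exact hst (θ a) ha'
  · refine isPStableOn_of_normalizerPStable ((h.subgroup _).normalizerPStable hp2) V ?_
    refine IsPGroup.of_equiv (S.2.to_le (hV.trans (Subgroup.map_subtype_le _)))
      (V.equivMapOfInjective _ (Subgroup.subtype_injective _)).symm

/-- abelian Sylow `2`-subgroups -/
theorem noSLTwo_of_abelian_sylow {G : Type u} [Group G] [Finite G] (hp2 : p ≠ 2)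
    (hab : ∀ T : Sylow 2 G, IsMulCommutative T) : NoSLTwo p G := by
  intro K f hf
  have : Fact (Nat.Prime 2) := ⟨Nat.prime_two⟩
  obtain ⟨T⟩ : Nonempty (Sylow 2 ↥(⊤ : Subgroup G)) := inferInstance
  refine false_of_abelian_sylow hp2 T ⟨⟨fun x y => ?_⟩⟩ le_top f hf
  obtain ⟨T', hT'⟩ := (T.2.map (⊤ : Subgroup G).subtype).exists_le_sylow
  have h1 := (hab T').is_comm.comm ⟨_, hT' ⟨x, x.2, rfl⟩⟩ ⟨_, hT' ⟨y, y.2, rfl⟩⟩
  exact Subtype.ext (Subtype.ext (congrArg Subtype.val h1 :))

/-- `p`-soluble groups, `p ≥ 5` -/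
theorem noSLTwo_of_pSolvable {G : Type u} [Group G] [Finite G] (hp5 : 5 ≤ p) (hsol : Cfsg.IsPSolvable p G) :
    NoSLTwo p G := by
  intro K f hf
  have hp2 : p ≠ 2 := by omega
  have hsimple := Matrix.ProjectiveSpecialLinearGroup.rank_two_simple (F := ZMod p) (by rw [Nat.card_zmod]; omega)
  set PSL := Matrix.ProjectiveSpecialLinearGroup (Fin 2) (ZMod p)
  let π : SL₂ →* PSL := QuotientGroup.mk' _
  let g : K →* PSL := π.comp f
  have hg : Function.Surjective g := (QuotientGroup.mk'_surjective _).comp hf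
  -- two primes divide the order
  have hpd : p ∣ Nat.card PSL := by
    have h1 : (upT p) ^ p = 1 := by
      apply Subtype.ext
      have key : ∀ n : ℕ, ((upT p) ^ n).1 = !![1, (n : ZMod p); 0, 1] := by
        intro n
        induction n with
        | zero => simp [Matrix.one_fin_two]
        | succ n ih =>
          rw [pow_succ, Matrix.SpecialLinearGroup.coe_mul, ih]
          ext i k; fin_cases i <;> fin_cases k <;> simp [upT, Matrix.mul_apply, Fin.sum_univ_two] <;> ring
      rw [key, ZMod.natCast_self, Matrix.SpecialLinearGroup.coe_one, Matrix.one_fin_two]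
    have h2 : π (upT p) ≠ 1 := by
      intro h
      have h3 := (QuotientGroup.eq_one_iff _).1 h
      rw [Subgroup.mem_center_iff] at h3
      have h5 := congrArg Subtype.val (h3 (loT p))
      rw [Matrix.SpecialLinearGroup.coe_mul, Matrix.SpecialLinearGroup.coe_mul] at h5
      have h4 := congrFun (congrFun h5 0) 0
      simp [upT, loT, Matrix.mul_apply, Fin.sum_univ_two] at h4
    have h3 : orderOf (π (upT p)) = p :=
      orderOf_eq_prime (by rw [← map_pow, h1, map_one]) h2
    rw [← h3]
    exact orderOf_dvd_natCard _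
  have h2d : 2 ∣ Nat.card PSL := by
    obtain ⟨Q, x, y, hQ, hx, -, hxy⟩ := exists_two_subgroup_slTwo (p := p) hp2
    have h2 : π x ≠ 1 := fun h => by
      have h3 := (QuotientGroup.eq_one_iff _).1 h
      rw [Subgroup.mem_center_iff] at h3
      exact hxy (h3 y).symm
    obtain ⟨k, hk⟩ := hQ ⟨x, hx⟩
    obtain ⟨j, -, hj⟩ := (Nat.dvd_prime_pow Nat.prime_two).1
      (orderOf_dvd_of_pow_eq_one (show π x ^ 2 ^ k = 1 by
        rw [← map_pow, show x ^ 2 ^ k = 1 by simpa using congrArg Subtype.val hk, map_one]))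
    rcases j with _ | j
    · exact absurd (orderOf_eq_one_iff.1 (by simpa using hj)) h2
    · exact ((dvd_pow_self 2 (Nat.succ_ne_zero j)).trans hj.symm.dvd).trans (orderOf_dvd_natCard _)
  -- the series
  obtain ⟨n, H, h0, h1, hmono, hn, hstep⟩ := hsol
  have hImage : ∀ i, ((H i).subgroupOf K).map g = ⊥ ∨ ((H i).subgroupOf K).map g = ⊤ := fun i =>
    haveI := hn i
    Subgroup.Normal.eq_bot_or_eq_top (Subgroup.Normal.map inferInstance g hg)
  have hbot : ∀ i, ((H i).subgroupOf K).map g = ⊥ := by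
    intro i
    induction i using Fin.induction with
    | zero => rw [h0, Subgroup.bot_subgroupOf, Subgroup.map_bot]
    | succ i ih =>
      refine (hImage i.succ).resolve_right fun htop => ?_
      haveI := hn i.castSucc
      have hker : (H i.castSucc).subgroupOf K ≤ g.ker := (Subgroup.map_eq_bot_iff _).1 ih
      have hd : Nat.card PSL ∣ (H i.castSucc).relIndex (H i.succ) := by
        have e1 : Nat.card PSL = g.ker.relIndex ((H i.succ).subgroupOf K) := by
          rw [Subgroup.relIndex_ker, htop, Subgroup.card_top]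
        rw [e1]
        refine (Subgroup.relIndex_dvd_of_le_left _ hker).trans ?_
        have e2 : ((H i.castSucc).subgroupOf K).relIndex ((H i.succ).subgroupOf K) =
            (H i.castSucc).relIndex (H i.succ ⊓ K) := by
          conv_lhs => arg 1; rw [Subgroup.subgroupOf]
          rw [Subgroup.relIndex_comap, Subgroup.subgroupOf_map_subtype]
        rw [e2, ← QuotientGroup.ker_mk' (H i.castSucc), Subgroup.relIndex_ker, Subgroup.relIndex_ker]
        exact Subgroup.card_dvd_of_le (Subgroup.map_mono inf_le_left)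
      rcases hstep i with ⟨m, hm⟩ | hc
      · have := Nat.Prime.dvd_of_dvd_pow Nat.prime_two (hm ▸ h2d.trans hd)
        exact hp2 ((Nat.prime_dvd_prime_iff_eq Nat.prime_two hp.out).1 this).symm
      · exact (Nat.Prime.coprime_iff_not_dvd hp.out).1 (Nat.Coprime.symm hc) (hpd.trans hd)
  have := hbot (Fin.last n)
  rw [h1, Subgroup.top_subgroupOf, Subgroup.map_top_of_surjective g hg] at this
  exact top_ne_bot this

/-- Quotients of `p`-soluble groups are `p`-soluble. -/
theorem isPSolvable_quotient {G : Type u} [Group G] [Finite G]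
    (N : Subgroup G) [N.Normal] (h : Cfsg.IsPSolvable p G) : Cfsg.IsPSolvable p (G ⧸ N) := by
  obtain ⟨n, H, h0, h1, hm, hn, hf⟩ := h
  refine ⟨n, fun i => (H i).map (QuotientGroup.mk' N), by simp only [h0, Subgroup.map_bot], by
    simp only [h1, Subgroup.map_top_of_surjective _ (QuotientGroup.mk'_surjective N)],
    fun i j hij => Subgroup.map_mono (hm hij),
    fun i => (hn i).map _ (QuotientGroup.mk'_surjective N), fun i => ?_⟩
  have hd : ((H i.castSucc).map (QuotientGroup.mk' N)).relIndex
      ((H i.succ).map (QuotientGroup.mk' N)) ∣ (H i.castSucc).relIndex (H i.succ) := by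
    rw [Subgroup.relIndex_map_map, QuotientGroup.ker_mk']
    have := hn i.castSucc
    have hsn : (H i.castSucc ⊔ N).Normal := Subgroup.sup_normal _ _
    have e : H i.succ ⊔ N = H i.succ ⊔ (H i.castSucc ⊔ N) := by
      rw [← sup_assoc, sup_eq_left.mpr (hm (Fin.castSucc_lt_succ).le : H i.castSucc ≤ H i.succ)]
    rw [e, Subgroup.relIndex_sup_right]
    exact Subgroup.relIndex_dvd_of_le_left _ le_sup_left
  rcases hf i with ⟨m, hm'⟩ | hc
  · rw [hm'] at hd
    obtain ⟨j, -, hj⟩ := (Nat.dvd_prime_pow hp.out).mp hd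
    exact Or.inl ⟨j, hj⟩
  · exact Or.inr (Nat.Coprime.coprime_dvd_left hd hc)

/-- a `p'`-subgroup normalized by a `p`-element generates with it a `p`-soluble group -/
theorem isPSolvable_sup_zpowers {G : Type u} [Group G] [Finite G] {Q : Subgroup G} {a : G}
    (hQ : (Nat.card Q).Coprime p) (ha : ∃ k : ℕ, orderOf a = p ^ k)
    (haQ : a ∈ Subgroup.normalizer (Q : Set G)) : Cfsg.IsPSolvable p ↥(Q ⊔ Subgroup.zpowers a) := by
  obtain ⟨k, hk⟩ := ha
  set H := Q ⊔ Subgroup.zpowers a with hH
  have hQH : Q ≤ H := le_sup_left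
  set Q' := Q.subgroupOf H with hQ'
  haveI : Q'.Normal := Subgroup.normal_subgroupOf_of_le_normalizer
    (sup_le Subgroup.le_normalizer (Subgroup.zpowers_le.2 haQ))
  have haH : a ∈ H := Subgroup.mem_sup_right (Subgroup.mem_zpowers a)
  have hidx : Q'.index ∣ p ^ k := by
    set θ := QuotientGroup.mk' Q' with hθ
    have htop : (Subgroup.zpowers (⟨a, haH⟩ : H)).map θ = ⊤ := by
      refine eq_top_iff.2 fun y _ => ?_
      obtain ⟨⟨x, hx⟩, rfl⟩ := QuotientGroup.mk'_surjective Q' y
      obtain ⟨q, hq, z, ⟨i, rfl⟩, rfl⟩ := Coprime.exists_mul_of_mem_sup (Subgroup.zpowers_le.2 haQ) hx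
      refine ⟨(⟨a, haH⟩ : H) ^ i, zpow_mem (Subgroup.mem_zpowers _) i, ?_⟩
      refine (QuotientGroup.eq).2 (Subgroup.mem_subgroupOf.2 ?_)
      push_cast
      have h1 := (Subgroup.mem_normalizer_iff''.1 (zpow_mem haQ i) q).1 hq
      simpa [mul_assoc] using h1
    rw [Subgroup.index, ← Subgroup.card_top, ← htop]
    refine (Subgroup.card_map_dvd _ θ).trans ?_
    rw [Nat.card_zpowers, ← Subgroup.orderOf_coe, hk]
  obtain ⟨j, -, hj⟩ := (Nat.dvd_prime_pow hp.out).1 hidx
  refine ⟨2, ![⊥, Q', ⊤], rfl, rfl, ?_, fun i => ?_, fun i => ?_⟩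
  · intro i l hil
    fin_cases i <;> fin_cases l <;> simp at hil ⊢
  · fin_cases i <;> simp <;> infer_instance
  · fin_cases i
    · right
      show (⊥ : Subgroup H).relIndex Q' |>.Coprime p
      rw [Subgroup.relIndex_bot_left, Nat.card_congr (Subgroup.subgroupOfEquivOfLe hQH).toEquiv]
      exact hQ
    · left
      exact ⟨j, by show Q'.relIndex ⊤ = p ^ j; rw [Subgroup.relIndex_top_right, hj]⟩

/-- in a faithful group whose sections exclude `SL₂(p)` for `p ≥ 5`, the prime is three -/
theorem eq_three_section {G : Type u} [Group G] [Finite G] (hp2 : p ≠ 2) {H : Subgroup G}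
    (hsep : Cfsg.IsPSolvable p H) {K : Subgroup G} (hKH : K ≤ H) (f : K →* SL₂) (hf : Function.Surjective f) :
    p = 3 ∧ ∃ (K L : Subgroup G) (hL : (L.subgroupOf K).Normal), K ≤ H ∧
      Nonempty ((K ⧸ L.subgroupOf K) ≃* Matrix.SpecialLinearGroup (Fin 2) (ZMod 3)) := by
  have hp3 : p = 3 := by
    rcases Nat.lt_or_ge p 5 with h | h
    · have h2 := hp.out.two_le
      have h4 : p ≠ 4 := fun e => absurd (e ▸ hp.out) (by decide)
      omega
    · exfalso
      let e := Subgroup.subgroupOfEquivOfLe hKH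
      exact noSLTwo_of_pSolvable h hsep (K.subgroupOf H) (f.comp e.toMonoidHom) (hf.comp e.surjective)
  subst hp3
  exact ⟨rfl, exists_section_slTwo hKH f hf⟩

end Cfsg.Agent.Lib.PLocal
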