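import Cfsg.Agent.Lib.PLocal.JZPair
import Cfsg.Agent.Lib.PLocal.FusionNpcZJ

/-!
The pair (centre, abelian Thompson subgroup) as a detecting family for fusion systems.
-/

set_option autoImplicit false
set_option linter.unusedSectionVars false
set_option linter.style.haveILetI false

namespace Cfsg.Agent.Lib.PLocal.FusionNpc

open Cfsg Cfsg.FusionSystem Cfsg.Agent.Lib.Fusion

universe u w

/-- The centre (flag `true`) and the abelian Thompson subgroup (flag `false`). -/
def pairW : Bool → ∀ (Q : Type u) [Group Q], Subgroup Q → Subgroup Q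
  | true, Q, _, _ => Subgroup.center Q
  | false, Q, _, _ => Cfsg.thompsonSubgroupA Q

theorem wAt_pairW_true {Ω : Type u} [Group Ω] (T D : Subgroup Ω) :
    wAt (pairW.{u} true) T D = T ⊓ Subgroup.centralizer (T : Set Ω) := inducedFunctor_center T

theorem wAt_pairW_false {Ω : Type u} [Group Ω] (T D : Subgroup Ω) :
    wAt (pairW.{u} false) T D = Cfsg.thompsonSubgroupAOf T := rfl

variable {p : ℕ} [Fact p.Prime]

theorem isNpcFamily_pair {H : Type w} [Group H]
    (hH : ∀ (L : Type u) [Group L] [Finite L], ¬ Involves H L →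
      p ≠ 2 ∨ ¬ Involves (Equiv.Perm (Fin 4)) L) :
    IsNpcFamily.{u} p H id pairW.{u} where
  ne_bot i Q _ _ D hQ _ hD := by
    have hnt : Nontrivial Q := by
      by_contra h
      rw [not_nontrivial_iff_subsingleton] at h
      exact hD (Subsingleton.elim _ _)
    cases i
    · exact (isCharPFunctor_thompsonA (p := p)).1 Q hQ hnt
    · exact (isCharPFunctor_center (p := p)).1 Q hQ hnt
  natural i Q R _ _ _ hQ φ D := by
    cases i
    · exact (isCharPFunctor_thompsonA (p := p)).2 Q R hQ φ
    · exact (isCharPFunctor_center (p := p)).2 Q R hQ φ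
  central i hi Q _ _ D _ := by
    cases i
    · simp at hi
    · exact le_rfl
  test L _ _ T D _ _ _ hC hfree h := by
    have hp := hH L hfree
    have h1 := h true
    have h2 := h false
    simp only [id, if_true, Bool.false_eq_true, if_false, wAt_pairW_true, wAt_pairW_false] at h1 h2
    refine isPGroup_of_npc_charP hC (npc_of_pair hp _ L rfl Cfsg.Agent.Lib.FusionControl.involves_self T
      (hasNormalPComplement_of_isPGroup fun g => ?_) (hasNormalPComplement_of_isPGroup fun g => ?_))
    · obtain ⟨k, hk⟩ := h1 g g.2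
      exact ⟨k, Subtype.ext (by simpa using hk)⟩
    · obtain ⟨k, hk⟩ := h2 g g.2
      exact ⟨k, Subtype.ext (by simpa using hk)⟩

/-- Thompson's criterion for fusion systems, in local form. -/
theorem inner_of_pair {Ω : Type u} [Group Ω] {S : Subgroup Ω} [Finite S] (hS : IsPGroup p S)
    {F : FusionSystem S} (hF : F.IsSaturated p)
    (hp : p ≠ 2 ∨ F.IsSectionFree p (Equiv.Perm (Fin 4))) (hS1 : S ≠ ⊥)
    (hC : LocP p true F (S ⊓ Subgroup.centralizer (S : Set Ω)))
    (hN : LocP p false F (Cfsg.thompsonSubgroupAOf S)) :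
    ∀ P : Subgroup Ω, F.Hom P = (innerFusionSystem S).Hom P := by
  have hloc : LocAll p id pairW.{u} F S := by
    intro i
    cases i
    · rw [wAt_pairW_false]; exact hN
    · rw [wAt_pairW_true]; exact hC
  by_cases hp2 : p = 2
  · exact eq_inner_of_locAll (isNpcFamily_pair fun L _ _ h => Or.inr h) hS hF
      (hp.resolve_left (not_not.2 hp2)) (stronglyClosed_top F) hS1 hloc
  · exact eq_inner_of_locAll (isNpcFamily_pair (H := Multiplicative ℤ) fun L _ _ _ => Or.inl hp2) hS hF
      (isSectionFree_int F p) (stronglyClosed_top F) hS1 hloc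

end Cfsg.Agent.Lib.PLocal.FusionNpc
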