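import Cfsg.Agent.Lib.PLocal.JZPair
import Cfsg.Agent.Lib.PLocal.FusionNpcPair

/-!
A group of characteristic `p` whose characteristic subgroups of a Sylow subgroup have `p`-groups of
automorphisms is a `p`-group (`p` odd, or no symmetric group of degree four).
-/

set_option autoImplicit false
set_option linter.unusedSectionVars false
set_option linter.style.haveILetI false

universe u

namespace Cfsg.Agent.Lib.PLocal

open Cfsg.Agent.Lib.FusionControl

variable {p : ℕ} [Fact p.Prime]

theorem characteristic_map_equiv {A B : Type*} [Group A] [Group B] (e : A ≃* B) {X : Subgroup A}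
    (h : X.Characteristic) : (X.map e.toMonoidHom).Characteristic := by
  refine Subgroup.characteristic_iff_map_le.2 fun φ => ?_
  rintro _ ⟨_, ⟨x, hx, rfl⟩, rfl⟩
  exact ⟨(e.trans (φ.trans e.symm)) x,
    Subgroup.characteristic_iff_map_le.1 h (e.trans (φ.trans e.symm)) ⟨x, hx, rfl⟩,
    e.apply_symm_apply (φ (e x))⟩

/-- automorphism groups of characteristic subgroups -/
def CharAutP (p : ℕ) {L : Type u} [Group L] (T : Subgroup L) : Prop :=
  ∀ X : Subgroup ↥T, X.Characteristic → X ≠ ⊥ → ∀ g ∈ Subgroup.normalizer (X.map T.subtype : Set L),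
    ∃ k : ℕ, g ^ p ^ k ∈ Subgroup.centralizer (X.map T.subtype : Set L)

theorem isPGroup_of_charAutP : ∀ (n : ℕ) (L : Type u) [Group L] [Finite L], Nat.card L = n →
    ∀ T : Sylow p L, (p ≠ 2 ∨ ¬ Cfsg.Involves (Equiv.Perm (Fin 4)) L) → CharPType p L →
      CharAutP p (T : Subgroup L) → IsPGroup p L := by
  intro n
  induction n using Nat.strong_induction_on with
  | _ n ih =>
    intro L _ _ hn T hp hC hX
    by_contra hnot
    have htop : (T : Subgroup L) ≠ ⊤ := fun h => hnot ((h ▸ T.2).of_equiv Subgroup.topEquiv)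
    haveI hQn := Cfsg.pCore_normal p L
    have hQp := Cores.pCore_isPGroup p L
    have hQT : Cfsg.pCore p L ≤ (T : Subgroup L) := Cores.pCore_le_sylow T
    have hTne : (T : Subgroup L) ≠ ⊥ := by
      intro h
      have h1 : Cfsg.pCore p L = ⊥ := le_bot_iff.1 (h ▸ hQT)
      refine htop (eq_top_iff.2 fun x _ => ?_)
      have h2 : x ∈ Cfsg.pCore p L := hC (by
        rw [Subgroup.mem_centralizer_iff]
        intro q hq
        rw [h1, SetLike.mem_coe, Subgroup.mem_bot] at hq
        simp [hq])
      rw [h1, Subgroup.mem_bot] at h2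
      rw [h2]; exact one_mem _
    -- proper overgroups
    have hsub : ∀ H : Subgroup L, H ≠ ⊤ → (T : Subgroup L) ≤ H → H = (T : Subgroup L) := by
      intro H hne hle
      have hQH : Cfsg.pCore p L ≤ H := hQT.trans hle
      have hlt : Nat.card H < n := hn ▸ card_lt_of_ne_top hne
      have hHp : IsPGroup p H := by
        refine ih _ hlt H rfl (T.subtype hle)
          (hp.imp id fun h h' => h (involves_four_of_involves (involves_subgroup involves_self H) h')) ?_ ?_
        · have h1 : (Cfsg.pCore p L).subgroupOf H ≤ Cfsg.pCore p H :=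
            Cores.le_pCore inferInstance (hQp.of_equiv (Subgroup.subgroupOfEquivOfLe hQH).symm)
          intro x hx
          refine h1 (Subgroup.mem_subgroupOf.2 (hC fun z hz => ?_))
          exact congrArg Subtype.val (hx ⟨z, hQH hz⟩ (h1 hz))
        · intro X hXc hXne g hg
          let e : ↥((T.subtype hle : Sylow p H) : Subgroup H) ≃* ↥(T : Subgroup L) :=
            (MulEquiv.subgroupCongr (Sylow.coe_subtype T hle)).trans (Subgroup.subgroupOfEquivOfLe hle)
          have hY : (X.map e.toMonoidHom).map (T : Subgroup L).subtype =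
              (X.map ((T.subtype hle : Sylow p H) : Subgroup H).subtype).map H.subtype := by
            rw [Subgroup.map_map, Subgroup.map_map]
            rfl
          have hgN : (g : L) ∈ Subgroup.normalizer ((X.map e.toMonoidHom).map (T : Subgroup L).subtype : Set L) := by
            rw [hY]
            exact Subgroup.le_normalizer_map H.subtype ⟨g, hg, rfl⟩
          obtain ⟨k, hk⟩ := hX _ (characteristic_map_equiv e hXc)
            (fun h => hXne ((Subgroup.map_eq_bot_iff_of_injective _ e.injective).1 h)) _ hgN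
          refine ⟨k, fun x hx => Subtype.ext ?_⟩
          rw [hY] at hk
          exact hk _ ⟨x, hx, rfl⟩
      exact (T.3 hHp hle)
    have hco : IsCoatom (T : Subgroup L) := ⟨htop, fun H hH => by
      by_contra h
      exact hH.ne (hsub H h hH.le).symm⟩
    -- the Thompson subgroup
    set J := Cfsg.thompsonSubgroupAOf (T : Subgroup L) with hJdef
    have hJchar : (Cfsg.thompsonSubgroupA ↥(T : Subgroup L)).Characteristic :=
      Subgroup.characteristic_iff_map_eq.2 fun φ =>
        (isCharPFunctor_thompsonA (p := p)).2 _ _ T.2 φ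
    have hJne : Cfsg.thompsonSubgroupA ↥(T : Subgroup L) ≠ ⊥ :=
      (isCharPFunctor_thompsonA (p := p)).1 _ T.2 ((Subgroup.nontrivial_iff_ne_bot _).2 hTne)
    have hNJp : IsPGroup p (Subgroup.normalizer (J : Set L)) := by
      intro ⟨g, hg⟩
      obtain ⟨k, hk⟩ := hX _ hJchar hJne g hg
      obtain ⟨y1, y2, hy1', -, hy1, ⟨i, hy2⟩, hy12⟩ :=
        Cfsg.Agent.Lib.Transfer.exists_pPart_decomp (p := p) (g ^ p ^ k)
      have hy1J : y1 ∈ Subgroup.centralizer (J : Set L) := (Subgroup.zpowers_le.2 hk) hy1'
      have hy1Q : y1 ∈ Subgroup.centralizer (Cfsg.pCore p L : Set L) := by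
        refine Coprime.le_centralizer_of_PxQ (p := p) (P := J) (Q := Subgroup.zpowers y1)
          (T.2.to_le (Subgroup.map_subtype_le _)) (by rw [Nat.card_zpowers]; exact hy1) hQp ?_
          (by rw [Subgroup.normalizer_eq_top]; exact le_top)
          (by rw [Subgroup.normalizer_eq_top]; exact le_top) ?_ (Subgroup.mem_zpowers y1)
        · exact Subgroup.le_centralizer_iff.1 (Subgroup.zpowers_le.2 hy1J)
        · intro z hz
          obtain ⟨hzQ, hzJ⟩ := Subgroup.mem_inf.1 hz
          obtain ⟨A, hA⟩ := exists_maxIn 0 (T : Subgroup L)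
          have hAJ : A ≤ J := by
            rw [hJdef, FusionNpc.thompsonSubgroupAOf_eq_sSup]; exact le_sSup hA
          have hzA : z ∈ A := by
            by_contra hzA
            have hab : Cfsg.IsElementaryAbelian 0 (A ⊔ Subgroup.zpowers z) :=
              elemAb_sup hA.2.1 (elemAb_zero inferInstance) fun a ha b hb => by
                obtain ⟨j, rfl⟩ := hb
                exact ((show Commute a z from hzJ a (hAJ ha)).zpow_right j).eq
            have h1 := hA.2.2 _ (sup_le hA.1 (Subgroup.zpowers_le.2 (hQT hzQ))) hab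
            refine hzA ((Subgroup.eq_of_le_of_card_ge le_sup_left h1).ge
              (Subgroup.mem_sup_right (Subgroup.mem_zpowers z)))
          rw [Subgroup.mem_centralizer_iff]
          rintro _ ⟨j, rfl⟩
          exact ((show Commute y1 z from (hy1J z (hAJ hzA)).symm).zpow_left j).eq
      have h1 : y1 = 1 := Cfsg.Agent.Lib.Transfer.eq_one_of_isPGroup_of_coprime hQp (hC hy1Q) hy1
      refine ⟨k + i, Subtype.ext ?_⟩
      show g ^ p ^ (k + i) = 1
      rw [pow_add, pow_mul, hy12, h1, one_mul]
      exact orderOf_dvd_iff_pow_eq_one.1 (hy2 ▸ dvd_rfl)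
    have hJle : Subgroup.normalizer (J : Set L) ≤ (T : Subgroup L) :=
      (T.3 hNJp (le_normalizer_inducedFunctor isCharPFunctor_thompsonA T.2)).le
    -- the top
    set π := QuotientGroup.mk' (Cfsg.pCore p L) with hπ
    have hπs : Function.Surjective π := QuotientGroup.mk'_surjective _
    have hcomapT : ((T : Subgroup L).map π).comap π = (T : Subgroup L) := by
      rw [Subgroup.comap_map_eq, QuotientGroup.ker_mk', sup_eq_left.2 hQT]
    have key : ∀ W : ∀ (Q : Type u) [Group Q], Subgroup Q, Cfsg.IsCharPFunctor.{u} p W →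
        IsPGroup p ↥(Subgroup.normalizer
          ((Cfsg.inducedFunctor W ((T : Subgroup L).map π) : Subgroup (L ⧸ Cfsg.pCore p L)) :
            Set (L ⧸ Cfsg.pCore p L))) := by
      intro W hW
      have hTp : IsPGroup p ((T : Subgroup L).map π) := T.2.map π
      set H := Subgroup.normalizer ((Cfsg.inducedFunctor W ((T : Subgroup L).map π) :
        Subgroup (L ⧸ Cfsg.pCore p L)) : Set (L ⧸ Cfsg.pCore p L)) with hH
      have hle : (T : Subgroup L) ≤ H.comap π := fun x hx =>
        le_normalizer_inducedFunctor hW hTp ⟨x, hx, rfl⟩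
      by_cases hHt : H.comap π = ⊤
      · exfalso
        have hHtop : H = ⊤ := by
          rw [← Subgroup.map_comap_eq_self_of_surjective hπs H, hHt, Subgroup.map_top_of_surjective π hπs]
        obtain ⟨hWle, hWne, -⟩ := isConjugacyFunctor_inducedFunctor hW ((T : Subgroup L).map π) hTp
        have h0 : Cfsg.inducedFunctor W ((T : Subgroup L).map π) = ⊥ := by
          have h1 := Cores.le_pCore (Subgroup.normalizer_eq_top_iff.1 hHtop) (hTp.to_le hWle)
          rw [Cores.pCore_quotient_pCore p L] at h1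
          exact le_bot_iff.1 h1
        have hTQ : (T : Subgroup L) = Cfsg.pCore p L := by
          refine le_antisymm ?_ hQT
          by_contra hne
          refine hWne (fun h => hne ?_) h0
          rwa [Subgroup.map_eq_bot_iff, QuotientGroup.ker_mk'] at h
        haveI : (⊤ : Subgroup ↥(T : Subgroup L)).Characteristic :=
          Subgroup.characteristic_iff_comap_eq.2 fun φ => rfl
        refine hnot fun g => ?_
        obtain ⟨k, hk⟩ := hX ⊤ inferInstance (fun h => hTne (by
          rw [← Subgroup.range_subtype (T : Subgroup L), MonoidHom.range_eq_map, h, Subgroup.map_bot]))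
          g (by
          rw [← MonoidHom.range_eq_map, Subgroup.range_subtype, hTQ, Subgroup.normalizer_eq_top]
          exact Subgroup.mem_top g)
        rw [← MonoidHom.range_eq_map, Subgroup.range_subtype, hTQ] at hk
        obtain ⟨m, hm⟩ := hQp ⟨_, hC hk⟩
        refine ⟨k + m, ?_⟩
        rw [pow_add, pow_mul]
        simpa using congrArg Subtype.val hm
      · have h1 : H.comap π = (T : Subgroup L) := hsub _ hHt hle
        rw [← Subgroup.map_comap_eq_self_of_surjective hπs H, h1]
        exact T.2.map π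
    have hp' : p ≠ 2 ∨ ¬ Cfsg.Involves (Equiv.Perm (Fin 4)) (L ⧸ Cfsg.pCore p L) :=
      hp.imp id fun h h' => h (involves_four_of_involves (involves_surjective involves_self π hπs) h')
    have hnpc : Cfsg.HasNormalPComplement p (L ⧸ Cfsg.pCore p L) := by
      refine npc_of_pair hp' _ _ rfl involves_self (T.mapSurjective hπs) ?_ ?_
      · rw [Sylow.coe_mapSurjective]
        refine hasNormalPComplement_of_isPGroup (IsPGroup.to_le ?_ (centralizer_le_normalizer' _))
        rw [← inducedFunctor_center]
        exact key _ isCharPFunctor_center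
      · rw [Sylow.coe_mapSurjective]
        exact hasNormalPComplement_of_isPGroup (key _ isCharPFunctor_thompsonA)
    -- the centre of `T` is central
    set Z := (T : Subgroup L) ⊓ Subgroup.centralizer ((T : Subgroup L) : Set L) with hZdef
    have hTZ : (T : Subgroup L) ≤ Subgroup.centralizer (Z : Set L) := fun s hs z hz => (hz.2 s hs).symm
    have hZtop : Subgroup.centralizer (Z : Set L) = ⊤ := by
      by_contra h
      exact false_of_minimal hC hnpc hp T hco (hsub _ h hTZ).le hJle
    have hZc : ∀ z ∈ Z, ∀ g : L, g * z = z * g := fun z hz g =>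
      ((hZtop ▸ Subgroup.mem_top g : g ∈ Subgroup.centralizer (Z : Set L)) z hz).symm
    haveI hZn : Z.Normal := ⟨fun z hz g => by rwa [hZc z hz g, mul_inv_cancel_right]⟩
    set θ := QuotientGroup.mk' Z with hθ
    have hθs : Function.Surjective θ := QuotientGroup.mk'_surjective Z
    have hZne : Z ≠ ⊥ := by
      rw [hZdef, ← inducedFunctor_center]
      exact fun h => (isCharPFunctor_center (p := p)).1 _ T.2 ((Subgroup.nontrivial_iff_ne_bot _).2 hTne)
        ((Subgroup.map_eq_bot_iff_of_injective _ Subtype.val_injective).1 h)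
    have hlt : Nat.card (L ⧸ Z) < n := by
      rw [← hn, Subgroup.card_eq_card_quotient_mul_card_subgroup Z]
      exact lt_mul_of_one_lt_right Nat.card_pos (Subgroup.one_lt_card_iff_ne_bot Z |>.2 hZne)
    have hZp : IsPGroup p Z := T.2.to_le inf_le_left
    have hCq : CharPType p (L ⧸ Z) := by
      have hQle : (Cfsg.pCore p L).map θ ≤ Cfsg.pCore p (L ⧸ Z) :=
        Cores.le_pCore (hQn.map θ hθs) (hQp.map θ)
      intro y hy
      set D := (Subgroup.centralizer ((Cfsg.pCore p L).map θ : Set (L ⧸ Z))).comap θ with hD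
      haveI : ((Cfsg.pCore p L).map θ).Normal := hQn.map θ hθs
      have hDn : D.Normal := by rw [hD]; infer_instance
      have hDp : IsPGroup p D := by
        rintro ⟨x, hx⟩
        obtain ⟨x1, x2, hx1', -, hx1, ⟨i, hx2⟩, hx12⟩ :=
          Cfsg.Agent.Lib.Transfer.exists_pPart_decomp (p := p) x
        have hx1D : x1 ∈ D := (Subgroup.zpowers_le.2 hx) hx1'
        have hx1Q : x1 ∈ Subgroup.centralizer (Cfsg.pCore p L : Set L) := fun q hq => by
          obtain ⟨d, hd, hdq⟩ : ∃ d ∈ Z, x1 * q * x1⁻¹ = d * q := by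
            refine ⟨x1 * q * x1⁻¹ * q⁻¹, (QuotientGroup.eq_one_iff _).1 ?_, by group⟩
            show θ (x1 * q * x1⁻¹ * q⁻¹) = 1
            have h1 : θ q * θ x1 = θ x1 * θ q := hx1D (θ q) ⟨q, hq, rfl⟩
            rw [map_mul, map_mul, map_mul, map_inv, map_inv, ← h1]
            group
          have hpow : ∀ m : ℕ, x1 ^ m * q * (x1 ^ m)⁻¹ = d ^ m * q := by
            intro m
            induction m with
            | zero => simp
            | succ m ihm =>
              calc x1 ^ (m + 1) * q * (x1 ^ (m + 1))⁻¹ = x1 * (x1 ^ m * q * (x1 ^ m)⁻¹) * x1⁻¹ := by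
                    rw [pow_succ']; group
                _ = (x1 * d ^ m) * q * x1⁻¹ := by rw [ihm]; group
                _ = (d ^ m * x1) * q * x1⁻¹ := by rw [hZc _ (pow_mem hd m) x1]
                _ = d ^ m * (x1 * q * x1⁻¹) := by group
                _ = _ := by rw [hdq, pow_succ]; group
          have h3 := hpow (orderOf x1)
          rw [pow_orderOf_eq_one, one_mul, inv_one, mul_one, eq_comm, mul_eq_right] at h3
          have h4 : d = 1 := Cfsg.Agent.Lib.Transfer.eq_one_of_isPGroup_of_coprime hZp hd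
            (Nat.Coprime.coprime_dvd_left (orderOf_dvd_of_pow_eq_one h3) hx1)
          rw [h4, one_mul, mul_inv_eq_iff_eq_mul] at hdq
          exact hdq.symm
        have h1 : x1 = 1 := Cfsg.Agent.Lib.Transfer.eq_one_of_isPGroup_of_coprime hQp (hC hx1Q) hx1
        refine ⟨i, Subtype.ext ?_⟩
        show x ^ p ^ i = 1
        rw [hx12, h1, one_mul]
        exact orderOf_dvd_iff_pow_eq_one.1 (hx2 ▸ dvd_rfl)
      obtain ⟨x, rfl⟩ := hθs y
      exact hQle ⟨x, Cores.le_pCore hDn hDp (Subgroup.centralizer_le hQle hy), rfl⟩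
    have hquot : IsPGroup p (L ⧸ Z) := by
      refine ih _ hlt (L ⧸ Z) rfl (T.mapSurjective hθs)
        (hp.imp id fun h h' => h (involves_four_of_involves (involves_surjective involves_self θ hθs) h')) hCq ?_
      intro X' hX'c hX'ne g hg
      let θT : ↥(T : Subgroup L) →* ↥((T.mapSurjective hθs : Sylow p (L ⧸ Z)) : Subgroup (L ⧸ Z)) :=
        (θ.comp (T : Subgroup L).subtype).codRestrict _ fun x => by
          rw [Sylow.coe_mapSurjective]; exact ⟨x, x.2, rfl⟩
      have hθTs : Function.Surjective θT := by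
        rintro ⟨y, hy⟩
        rw [Sylow.coe_mapSurjective] at hy
        obtain ⟨x, hx, rfl⟩ := hy
        exact ⟨⟨x, hx⟩, Subtype.ext rfl⟩
      have hker : θT.ker = Subgroup.center ↥(T : Subgroup L) := by
        ext x
        rw [MonoidHom.mem_ker, Subgroup.mem_center_iff, Subtype.ext_iff]
        show θ (x : L) = 1 ↔ _
        rw [show θ (x : L) = 1 ↔ (x : L) ∈ Z from QuotientGroup.eq_one_iff _]
        exact ⟨fun h s => Subtype.ext (h.2 s s.2), fun h => ⟨x.2, fun s hs => congrArg Subtype.val (h ⟨s, hs⟩)⟩⟩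
      have hXc : (X'.comap θT).Characteristic := by
        refine Subgroup.characteristic_iff_le_comap.2 fun φ x hx => ?_
        let e0 := QuotientGroup.quotientKerEquivOfSurjective θT hθTs
        let φ₀ := QuotientGroup.congr θT.ker θT.ker φ (by
          rw [hker]; exact Subgroup.characteristic_iff_map_eq.1 inferInstance φ)
        have h2 := Subgroup.characteristic_iff_le_comap.1 hX'c (e0.symm.trans (φ₀.trans e0)) hx
        have h3 : (e0.symm.trans (φ₀.trans e0)) (θT x) = θT (φ x) := by
          rw [show θT x = e0 (QuotientGroup.mk x) from rfl, MulEquiv.trans_apply, e0.symm_apply_apply]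
          rfl
        rw [Subgroup.mem_comap, MulEquiv.coe_toMonoidHom, h3] at h2
        exact h2
      have hXne : X'.comap θT ≠ ⊥ := fun h => hX'ne (by
        rw [← Subgroup.map_comap_eq_self_of_surjective hθTs X', h, Subgroup.map_bot])
      have himg : ((X'.comap θT).map (T : Subgroup L).subtype).map θ =
          X'.map ((T.mapSurjective hθs : Sylow p (L ⧸ Z)) : Subgroup (L ⧸ Z)).subtype := by
        conv_rhs => rw [← Subgroup.map_comap_eq_self_of_surjective hθTs X']
        rw [Subgroup.map_map, Subgroup.map_map]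
        rfl
      have hcomap : (X'.comap θT).map (T : Subgroup L).subtype =
          (((X'.comap θT).map (T : Subgroup L).subtype).map θ).comap θ := by
        rw [Subgroup.comap_map_eq, QuotientGroup.ker_mk', eq_comm, sup_eq_left]
        intro z hz
        refine ⟨⟨z, hz.1⟩, ?_, rfl⟩
        have h1 : θT ⟨z, hz.1⟩ = 1 := Subtype.ext ((QuotientGroup.eq_one_iff z).2 hz)
        rw [SetLike.mem_coe, Subgroup.mem_comap, h1]
        exact one_mem _
      obtain ⟨x, rfl⟩ := hθs g
      have hxN : x ∈ Subgroup.normalizer ((X'.comap θT).map (T : Subgroup L).subtype : Set L) := by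
        rw [hcomap, himg, Subgroup.mem_normalizer_iff]
        intro z
        simp only [Subgroup.mem_comap, map_mul, map_inv]
        exact Subgroup.mem_normalizer_iff.1 hg (θ z)
      obtain ⟨k, hk⟩ := hX _ hXc hXne x hxN
      refine ⟨k, ?_⟩
      rw [← himg]
      rintro _ ⟨z, hz, rfl⟩
      rw [← map_pow, ← map_mul, ← map_mul, hk z hz]
    refine hnot fun g => ?_
    obtain ⟨k, hk⟩ := hquot (θ g)
    rw [← map_pow] at hk
    obtain ⟨m, hm⟩ := hZp ⟨_, (QuotientGroup.eq_one_iff _).1 hk⟩
    refine ⟨k + m, ?_⟩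
    rw [pow_add, pow_mul]
    simpa using congrArg Subtype.val hm

namespace FusionNpc

open Cfsg Cfsg.FusionSystem Cfsg.Agent.Lib.Fusion

universe w

/-- The constrained case through a model. -/
theorem autP_of_charAut {Ω : Type u} [Group Ω] {S : Subgroup Ω} [Finite S] (hS : IsPGroup p S)
    {F : FusionSystem S} (hF : F.IsConstrained p)
    (hp : p ≠ 2 ∨ F.IsSectionFree p (Equiv.Perm (Fin 4)))
    (h : ∀ Q : Subgroup Ω, Q ≤ S → Q ≠ ⊥ → (Q.subgroupOf S).Characteristic → IsPGroup p (F.autGroup Q)) :
    AutP p F := by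
  obtain ⟨L, _, ι', hL⟩ := exists_model hS hF
  have : Finite L := hL.1
  have hi := hL.2.1.1
  obtain ⟨T, hT⟩ := hL.2.2.1
  have hnot : p ≠ 2 ∨ ¬ Involves (Equiv.Perm (Fin 4)) L := hp.imp id fun hfree => by
    have hK := isNormal_core F
    have hKS : normalizerIn S F.core = S := le_antisymm (normalizerIn_le S _) fun x hx =>
      ⟨hx, WeaklyClosed.le_normalizer (StronglyClosed.weaklyClosed (IsNormal.stronglyClosed hK)) hx⟩
    have hKn : F.IsFullyNormalized F.core := ⟨hK.1, fun R _ => by
      rw [hKS]
      exact Subgroup.card_le_of_le (normalizerIn_le S R)⟩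
    have hN := normalizerSystem_spec F F.core hK.1
    let N := normalizerSystem F F.core hK.1
    have hHom : ∀ (P : Subgroup Ω) (φ : P →* Ω), φ ∈ N.Hom P ↔ φ ∈ F.Hom P := by
      intro P φ
      refine ⟨fun h => h.1, fun h => ?_⟩
      obtain ⟨ψ, hψ, hψe, hψK⟩ := hK.2 P φ h
      exact ⟨h, hKS.symm ▸ source_le h, fun x => hKS.symm ▸ apply_mem h x, ψ, hψ, hψe, hψK⟩
    refine hfree F.core hKn (Model.core_centric hF) N hN L
      (ι'.comp (Subgroup.inclusion hKS.le)) ?_
    refine ⟨hL.1, ⟨hi.comp (Subgroup.inclusion_injective _), fun P hP φ hφ => ?_⟩, ?_, hL.2.2.2⟩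
    · rw [hHom]
      exact hL.2.1.2 P (hP.trans hKS.le) φ fun x => hKS.le (hφ x)
    · refine ⟨T, hT.trans ?_⟩
      ext y
      constructor
      · rintro ⟨s, rfl⟩
        exact ⟨⟨s, hKS.symm ▸ s.2⟩, rfl⟩
      · rintro ⟨s, rfl⟩
        exact ⟨_, rfl⟩
  have hX : CharAutP p (T : Subgroup L) := by
    intro X hXc hXne g hg
    let e : S ≃* ↥(T : Subgroup L) := (MonoidHom.ofInjective hi).trans (MulEquiv.subgroupCongr hT.symm)
    set Y := X.map e.symm.toMonoidHom with hY
    have hYX : Y.map ι' = X.map (T : Subgroup L).subtype := by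
      rw [hY, Subgroup.map_map]
      refine congrArg (fun f => X.map f) (MonoidHom.ext fun x => ?_)
      show ι' (e.symm x) = (x : L)
      conv_rhs => rw [← e.apply_symm_apply x]
      rfl
    set Q := Y.map S.subtype with hQ
    have hQS : Q ≤ S := Subgroup.map_subtype_le _
    have hmem : ∀ s : S, (s : Ω) ∈ Q ↔ s ∈ Y := fun s =>
      Subgroup.mem_map_iff_mem Subtype.val_injective
    have hQc : (Q.subgroupOf S).Characteristic := by
      rw [show Q.subgroupOf S = Y from SetLike.ext fun s => hmem s]
      exact characteristic_map_equiv e.symm hXc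
    have hQne : Q ≠ ⊥ := fun h0 => hXne ((Subgroup.map_eq_bot_iff_of_injective _ e.symm.injective).1
      ((Subgroup.map_eq_bot_iff_of_injective _ S.subtype_injective).1 h0))
    have hconj : ∀ x : Q, g * ι' ⟨x, hQS x.2⟩ * g⁻¹ ∈ Y.map ι' := by
      intro x
      rw [hYX]
      refine (Subgroup.mem_normalizer_iff.1 hg _).1 ?_
      rw [← hYX]
      exact ⟨⟨x, hQS x.2⟩, (hmem _).1 x.2, rfl⟩
    obtain ⟨φ, hφ, hφe⟩ := IsRealizedBy.exists_hom hL.2.1 hQS g fun x =>
      Subgroup.map_le_range _ _ (hconj x)
    have := finite_of_le hQS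
    have hφQ : ∀ x : Q, φ x ∈ Q := fun x => by
      obtain ⟨y, hy, hye⟩ := hconj x
      have h1 : (⟨φ x, apply_mem hφ x⟩ : S) = y := hi ((hφe x).trans hye.symm)
      exact (hmem ⟨φ x, apply_mem hφ x⟩).2 (h1 ▸ hy)
    have hr : φ.range = Q := by
      refine Subgroup.eq_of_le_of_card_ge ?_ (card_range_eq (F.injective_of_mem hφ)).ge
      rintro _ ⟨x, rfl⟩
      exact hφQ x
    let α : MulAut Q := isoOf φ (F.injective_of_mem hφ) hr
    obtain ⟨k, hk⟩ := h Q hQS hQne hQc ⟨α, mem_autGroup_of_hom F (by rw [autHom_isoOf]; exact hφ)⟩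
    refine ⟨k, ?_⟩
    rw [← hYX]
    rintro _ ⟨y, hy, rfl⟩
    have h1 := pow_semiconj (α := α) (β := MulAut.conj g)
      (fun x : Q => ι' ⟨x, hQS x.2⟩) (fun x => hφe x) (p ^ k) ⟨y, (hmem y).2 hy⟩
    have hk' : α ^ p ^ k = 1 := congrArg Subtype.val hk
    rw [hk', ← map_pow] at h1
    simp only [MulAut.one_apply, MulAut.conj_apply] at h1
    exact (eq_mul_inv_iff_mul_eq.1 h1)
  have hLp : IsPGroup p L := isPGroup_of_charAutP _ L rfl T hnot hL.2.2.2 hX
  intro P α hα
  obtain ⟨g, hg⟩ := IsRealizedBy.exists_conj hL.2.1 hα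
  obtain ⟨k, hk⟩ := hLp g
  refine ⟨k, MulEquiv.ext fun x => Subtype.ext ?_⟩
  have h1 := pow_semiconj (α := α) (β := MulAut.conj g)
    (fun y : P => ι' ⟨y, source_le hα y.2⟩) (fun y => hg y) (p ^ k) x
  rw [← map_pow, hk, map_one] at h1
  exact congrArg (fun s : S => (s : Ω)) (hi h1)

/-- The criterion, by induction on subsystems, for any detecting family. -/
theorem autP_of_charAut_ind {H : Type w} [Group H] {ι : Type} {c : ι → Bool}
    {W : ι → ∀ (Q : Type u) [Group Q], Subgroup Q → Subgroup Q} (hW : IsNpcFamily p H c W)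
    (hH : ∀ {Ω : Type u} [Group Ω] {S : Subgroup Ω} (F : FusionSystem S), F.IsSectionFree p H →
      p ≠ 2 ∨ F.IsSectionFree p (Equiv.Perm (Fin 4)))
    {Ω : Type u} [Group Ω] {S : Subgroup Ω} [Finite S] (hS : IsPGroup p S) :
    ∀ F : FusionSystem S, F.IsSaturated p → F.IsSectionFree p H →
      (∀ Q : Subgroup Ω, Q ≤ S → Q ≠ ⊥ → (Q.subgroupOf S).Characteristic → IsPGroup p (F.autGroup Q)) →
      AutP p F := by
  refine subsystem_ind (fun F => F.IsSaturated p → F.IsSectionFree p H →
      (∀ Q : Subgroup Ω, Q ≤ S → Q ≠ ⊥ → (Q.subgroupOf S).Characteristic → IsPGroup p (F.autGroup Q)) →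
      AutP p F) fun F hind hF hfree h => ?_
  have hpr : AllProper p H F := fun F' hle hne hF' hfree' => hind F' hle hne hF' hfree'
    fun Q h1 h2 h3 => (h Q h1 h2 h3).to_le (Subgroup.closure_mono fun α hα => hle Q hα)
  by_cases hS0 : S = ⊥
  · intro P α hα
    have hP : P = ⊥ := le_bot_iff.1 ((source_le hα).trans hS0.le)
    subst hP
    exact ⟨0, MulEquiv.ext fun x => Subsingleton.elim _ _⟩
  by_cases hcore : F.core = ⊥
  · refine allSmall hW (Nat.card S + 1) (Nat.lt_succ_self _) hS F hF hfree S
      (stronglyClosed_top F) hS0 fun i P α hα => ?_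
    exact locP_of_not_normal hS hpr hF hfree (wAt_le _ _ _)
      (fun g hg => mem_normalizer_wAt hW i hS (Subgroup.le_normalizer hg)
        fun x hx _ => mul_mem (mul_mem hg hx) (inv_mem hg))
      (fun hn => wAt_ne_bot hW i hS le_rfl Subgroup.le_normalizer hS0
        (le_bot_iff.1 ((le_core hn).trans hcore.le))) P α (locHom_subset _ _ _ _ hα)
  · exact autP_of_core hW hS (allSmall hW _) hpr hF hfree
      (fun hc => autP_of_charAut hS hc (hH F hfree) h) hcore

end FusionNpc

end Cfsg.Agent.Lib.PLocal
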