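import Cfsg.Agent.Lib.PLocal.QdSection
import Cfsg.Agent.Lib.OddLocal.PStable
import Cfsg.Agent.Lib.FusionControl.PStable
import Mathlib.FieldTheory.Finite.Basic

/-! Quadratic pairs and sections isomorphic to `Qd(p)`. -/

set_option autoImplicit false
set_option linter.unusedSectionVars false
set_option linter.style.haveILetI false

open Matrix

namespace Cfsg.Agent.Lib.PLocal

universe u v

open Subgroup
open Cfsg.Agent.Lib.OddLocal (exists_quotient_action mem_normalizer_of_conj_mem le_centralizer_of_coprime_stab conj_mem_of_le_normalizer mem_centralizer_of_conj_eq)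
open scoped commutatorElement

/-- Dickson's theorem on two transvections, as a hypothesis. -/
def DicksonTwo : Prop :=
  ∀ (F : Type u) [Field F] [Fintype F], (2 : F) ≠ 0 → ∀ lam : F, lam ≠ 0 →
    Subfield.closure ({lam} : Set F) = ⊤ →
    Subgroup.closure {g : Matrix.SpecialLinearGroup (Fin 2) F | (g : Matrix (Fin 2) (Fin 2) F) = !![1, 0; 1, 1] ∨
      (g : Matrix (Fin 2) (Fin 2) F) = !![1, lam; 0, 1]} = ⊤ ∨ lam ^ 2 = -1

/-- An irreducible pair of quadratic operators is a pair of transvections of a plane over a finite field. -/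
theorem exists_natural_pair {V : Type u} [AddCommGroup V] [Finite V] [Nontrivial V]
    (p : ℕ) [hp : Fact p.Prime] (hpV : ∀ v : V, p • v = 0) (α β : AddMonoid.End V)
    (hα : (α - 1) * (α - 1) = 0) (hβ : (β - 1) * (β - 1) = 0)
    (hirr : ∀ W : AddSubgroup V, (∀ w ∈ W, α w ∈ W) → (∀ w ∈ W, β w ∈ W) → W = ⊥ ∨ W = ⊤)
    (hne : ¬ (α = 1 ∧ β = 1)) :
    ∃ (F : Type u) (_ : Field F) (_ : Fintype F) (_ : CharP F p) (e : V ≃+ (Fin 2 → F)) (lam : F),
      lam ≠ 0 ∧ Subfield.closure ({lam} : Set F) = ⊤ ∧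
      (∀ v, e (α v) = !![1, lam; 0, 1] *ᵥ e v) ∧ (∀ v, e (β v) = !![1, 0; 1, 1] *ᵥ e v) := by
  classical
  set N : AddMonoid.End V := α - 1 with hN
  set M : AddMonoid.End V := β - 1 with hM
  set c : AddMonoid.End V := N * M + M * N with hc
  haveI : Finite (AddMonoid.End V) :=
    Finite.of_injective (fun f : AddMonoid.End V => (f : V → V)) DFunLike.coe_injective
  have hαw : ∀ w, α w = w + N w := fun w => by
    rw [hN]; show _ = w + (α w - w); abel
  have hβw : ∀ w, β w = w + M w := fun w => by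
    rw [hM]; show _ = w + (β w - w); abel
  have hNN : ∀ w, N (N w) = 0 := fun w => DFunLike.congr_fun hα w
  have hMM : ∀ w, M (M w) = 0 := fun w => DFunLike.congr_fun hβ w
  have hcN : Commute N c := by
    show N * c = c * N
    rw [hc, mul_add, add_mul, ← mul_assoc, hα, zero_mul, zero_add, mul_assoc M N N, hα, mul_zero,
      add_zero, mul_assoc]
  have hcM : Commute M c := by
    show M * c = c * M
    rw [hc, mul_add, add_mul, ← mul_assoc M M N, hβ, zero_mul, add_zero, mul_assoc N M M, hβ,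
      mul_zero, zero_add, mul_assoc]
  have hcα : ∀ w, α (c w) = c (α w) := fun w => by
    rw [hαw, hαw, map_add, show N (c w) = c (N w) from DFunLike.congr_fun hcN.eq w]
  have hcβ : ∀ w, β (c w) = c (β w) := fun w => by
    rw [hβw, hβw, map_add, show M (c w) = c (M w) from DFunLike.congr_fun hcM.eq w]
  -- a vector killed by `N`
  obtain ⟨v, hv, hNv⟩ : ∃ v : V, v ≠ 0 ∧ N v = 0 := by
    obtain ⟨v, hv⟩ := exists_ne (0 : V)
    by_cases h : N v = 0
    · exact ⟨v, hv, h⟩
    · exact ⟨N v, h, hNN v⟩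
  set w := M v with hw
  have hNw : N w = c v := by
    show N (M v) = N (M v) + M (N v)
    rw [hNv, map_zero, add_zero]
  have hc0 : c ≠ 0 := by
    intro h0
    have hfix : ∀ x : V, x ≠ 0 → N x = 0 → M x = 0 → False := by
      intro x hx hNx hMx
      have hinvα : ∀ y ∈ AddSubgroup.zmultiples x, α y ∈ AddSubgroup.zmultiples x := by
        intro y hy
        obtain ⟨n, rfl⟩ := AddSubgroup.mem_zmultiples_iff.mp hy
        simp [map_zsmul, hαw, hNx]
      have hinvβ : ∀ y ∈ AddSubgroup.zmultiples x, β y ∈ AddSubgroup.zmultiples x := by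
        intro y hy
        obtain ⟨n, rfl⟩ := AddSubgroup.mem_zmultiples_iff.mp hy
        simp [map_zsmul, hβw, hMx]
      rcases hirr (AddSubgroup.zmultiples x) hinvα hinvβ with h | h
      · exact hx (AddSubgroup.mem_bot.mp (h ▸ AddSubgroup.mem_zmultiples x))
      · refine hne ⟨DFunLike.ext _ _ fun y => ?_, DFunLike.ext _ _ fun y => ?_⟩
        · obtain ⟨n, rfl⟩ := AddSubgroup.mem_zmultiples_iff.mp (h ▸ AddSubgroup.mem_top y : y ∈ AddSubgroup.zmultiples x)
          show α (n • x) = n • x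
          rw [map_zsmul, hαw, hNx, add_zero]
        · obtain ⟨n, rfl⟩ := AddSubgroup.mem_zmultiples_iff.mp (h ▸ AddSubgroup.mem_top y : y ∈ AddSubgroup.zmultiples x)
          show β (n • x) = n • x
          rw [map_zsmul, hβw, hMx, add_zero]
    by_cases hw0 : w = 0
    · exact hfix v hv hNv hw0
    · exact hfix w hw0 (by rw [hNw, h0]; rfl) (hMM v)
  let E : Subring (AddMonoid.End V) := Subring.closure {c}
  have hEc : ∀ e ∈ E, Commute e N ∧ Commute e M ∧ Commute e c := by
    intro e he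
    induction he using Subring.closure_induction with
    | mem x hx =>
      obtain rfl : x = c := hx
      exact ⟨hcN.symm, hcM.symm, Commute.refl c⟩
    | zero => exact ⟨Commute.zero_left _, Commute.zero_left _, Commute.zero_left _⟩
    | one => exact ⟨Commute.one_left _, Commute.one_left _, Commute.one_left _⟩
    | add x y _ _ hx hy => exact ⟨hx.1.add_left hy.1, hx.2.1.add_left hy.2.1, hx.2.2.add_left hy.2.2⟩
    | neg x _ hx => exact ⟨hx.1.neg_left, hx.2.1.neg_left, hx.2.2.neg_left⟩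
    | mul x y _ _ hx hy => exact ⟨hx.1.mul_left hy.1, hx.2.1.mul_left hy.2.1, hx.2.2.mul_left hy.2.2⟩
  have hEN : ∀ e ∈ E, ∀ x, e (N x) = N (e x) := fun e he x => DFunLike.congr_fun (hEc e he).1.eq x
  have hEM : ∀ e ∈ E, ∀ x, e (M x) = M (e x) := fun e he x => DFunLike.congr_fun (hEc e he).2.1.eq x
  have hEα : ∀ e ∈ E, ∀ x, α (e x) = e (α x) := fun e he x => by rw [hαw, hαw, map_add, hEN e he]
  have hEβ : ∀ e ∈ E, ∀ x, β (e x) = e (β x) := fun e he x => by rw [hβw, hβw, map_add, hEM e he]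
  have hinj : ∀ e ∈ E, e ≠ 0 → ∀ x, e x = 0 → x = 0 := by
    intro e he hne' x hx
    let K : AddSubgroup V := (e : V →+ V).ker
    rcases hirr K (fun y hy => by
        show e (α y) = 0
        rw [← hEα e he, show e y = 0 from hy, map_zero]) (fun y hy => by
        show e (β y) = 0
        rw [← hEβ e he, show e y = 0 from hy, map_zero]) with h | h
    · exact AddSubgroup.mem_bot.mp (h ▸ (show x ∈ K from hx))
    · exact absurd (DFunLike.ext _ _ fun y => show e y = 0 from
        (show y ∈ K from h ▸ AddSubgroup.mem_top y)) hne'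
  haveI : Nontrivial E := ⟨⟨1, 0, fun h => by
    obtain ⟨x, hx⟩ := exists_ne (0 : V)
    exact hx (DFunLike.congr_fun (congrArg Subtype.val h) x)⟩⟩
  haveI : NoZeroDivisors E := ⟨fun {a b} h => by
    rcases eq_or_ne a 0 with ha | ha
    · exact Or.inl ha
    refine Or.inr (Subtype.ext (DFunLike.ext _ _ fun x => ?_))
    exact hinj a a.2 (fun h' => ha (Subtype.ext h')) _ (DFunLike.congr_fun (congrArg Subtype.val h) x)⟩
  haveI : IsDomain E := NoZeroDivisors.to_isDomain E
  letI : Fintype E := Fintype.ofFinite E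
  have hEcomm : ∀ a b : E, a * b = b * a := by
    rintro ⟨a, ha⟩ ⟨b, hb⟩
    refine Subtype.ext (show a * b = b * a from ?_)
    induction hb using Subring.closure_induction with
    | mem x hx =>
      obtain rfl : x = c := hx
      exact (hEc a ha).2.2.eq
    | zero => simp
    | one => simp
    | add x y _ _ hx hy => rw [mul_add, add_mul, hx, hy]
    | neg x _ hx => rw [mul_neg, neg_mul, hx]
    | mul x y _ _ hx hy => rw [← mul_assoc, hx, mul_assoc, hy, ← mul_assoc]
  letI : CommRing E := { (inferInstance : Ring E) with mul_comm := hEcomm }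
  letI : Field E := Fintype.fieldOfDomain E
  letI : Module E V :=
    { smul := fun e x => (e : AddMonoid.End V) x
      one_smul := fun x => rfl
      mul_smul := fun a b x => rfl
      smul_zero := fun e => map_zero (e : AddMonoid.End V)
      smul_add := fun e => map_add (e : AddMonoid.End V)
      add_smul := fun a b x => rfl
      zero_smul := fun x => rfl }
  have hsm : ∀ (e : E) (x : V), e • x = (e : AddMonoid.End V) x := fun e x => rfl
  haveI hchar : CharP E p := by
    refine CharP.addOrderOf_one E |> fun h => ?_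
    have h1 : p • (1 : E) = 0 := by
      refine Subtype.ext (DFunLike.ext _ _ fun x => ?_)
      show ((p • (1 : E) : E) : AddMonoid.End V) x = 0
      rw [AddSubmonoidClass.coe_nsmul]
      exact hpV x
    have h2 : addOrderOf (1 : E) = p := addOrderOf_eq_prime h1 one_ne_zero
    rwa [h2] at h
  let lam : E := ⟨c, Subring.subset_closure rfl⟩
  have hlam : lam ≠ 0 := fun h => hc0 (congrArg Subtype.val h)
  have hli : LinearIndependent E ![v, w] := by
    rw [LinearIndependent.pair_iff]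
    intro s t hst
    have h1 := congrArg N hst
    rw [map_add, hsm, hsm, ← hEN s s.2, ← hEN t t.2, hNv, map_zero, zero_add, map_zero, hNw] at h1
    have ht : t = 0 := by
      by_contra ht
      exact hv (hinj c (Subring.subset_closure rfl) hc0 v
        (hinj t t.2 (fun h => ht (Subtype.ext h)) _ h1))
    rw [ht, zero_smul, add_zero] at hst
    exact ⟨(smul_eq_zero.mp hst).resolve_right hv, ht⟩
  have hspan : Submodule.span E (Set.range ![v, w]) = ⊤ := by
    set W := Submodule.span E (Set.range ![v, w]) with hW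
    have hv' : v ∈ W := Submodule.subset_span ⟨0, rfl⟩
    have hw' : w ∈ W := Submodule.subset_span ⟨1, rfl⟩
    have hWm : ∀ x ∈ W, ∃ a b : E, a • v + b • w = x := fun x hx => by
      rw [hW, Matrix.range_cons, Matrix.range_cons, Matrix.range_empty, Set.union_empty,
        Set.singleton_union] at hx
      exact Submodule.mem_span_pair.mp hx
    rcases hirr W.toAddSubgroup (fun x hx => by
        obtain ⟨a, b, rfl⟩ := hWm x hx
        rw [map_add, hsm, hsm, hEα a a.2, hEα b b.2, hαw v, hαw w, hNv, add_zero, hNw, ← hsm, ← hsm]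
        exact W.add_mem (W.smul_mem _ hv') (W.smul_mem _ (W.add_mem hw'
          (show lam • v ∈ W from W.smul_mem _ hv'))))
      (fun x hx => by
        obtain ⟨a, b, rfl⟩ := hWm x hx
        rw [map_add, hsm, hsm, hEβ a a.2, hEβ b b.2, hβw v, hβw w, hMM v, add_zero, ← hsm, ← hsm]
        exact W.add_mem (W.smul_mem _ (W.add_mem hv' hw')) (W.smul_mem _ hw'))
      with h | h
    · exact absurd (AddSubgroup.mem_bot.mp (h ▸ (show v ∈ W.toAddSubgroup from hv'))) hv
    · exact Submodule.toAddSubgroup_injective (by rw [h, Submodule.top_toAddSubgroup])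
  let bas : Module.Basis (Fin 2) E V := Module.Basis.mk hli hspan.ge
  have hbas : ∀ a b : E, bas.equivFun (a • v + b • w) = ![a, b] := by
    intro a b
    have h0 : bas 0 = v := Module.Basis.mk_apply hli hspan.ge 0
    have h1 : bas 1 = w := Module.Basis.mk_apply hli hspan.ge 1
    conv_lhs => rw [← h0, ← h1]
    rw [map_add, map_smul, map_smul]
    funext i
    simp only [Pi.add_apply, Pi.smul_apply, Module.Basis.equivFun_self, smul_eq_mul]
    fin_cases i <;> simp
  have hdec : ∀ x, x = bas.equivFun x 0 • v + bas.equivFun x 1 • w := fun x => by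
    apply bas.equivFun.injective
    rw [hbas]
    funext i
    fin_cases i <;> rfl
  refine ⟨E, inferInstance, inferInstance, hchar, bas.equivFun.toAddEquiv, lam, hlam, ?_, fun x => ?_, fun x => ?_⟩
  · refine eq_top_iff.mpr fun x _ => ?_
    obtain ⟨x, hx⟩ := x
    clear * - hx
    induction hx using Subring.closure_induction with
    | mem y hy =>
      obtain rfl : y = c := hy
      exact Subfield.subset_closure rfl
    | zero => exact zero_mem _
    | one => exact one_mem _
    | add a b _ _ ha hb => exact add_mem ha hb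
    | neg a _ ha => exact neg_mem ha
    | mul a b _ _ ha hb => exact mul_mem ha hb
  · show bas.equivFun (α x) = _ *ᵥ bas.equivFun x
    obtain ⟨a, b, rfl⟩ : ∃ a b : E, a • v + b • w = x := ⟨_, _, (hdec x).symm⟩
    have hαs : ∀ (e : E) (y : V), α (e • y) = e • α y := fun e y => hEα e e.2 y
    have hα' : α (a • v + b • w) = (a + b * lam) • v + b • w := by
      rw [map_add, hαs, hαs, hαw v, hαw w, hNv, add_zero, hNw, show c v = lam • v from rfl, smul_add,
        smul_smul, add_smul]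
      abel
    rw [hα', hbas, hbas]
    funext i
    fin_cases i <;> simp [Matrix.mulVec, dotProduct, Fin.sum_univ_two]
    exact mul_comm b lam
  · show bas.equivFun (β x) = _ *ᵥ bas.equivFun x
    obtain ⟨a, b, rfl⟩ : ∃ a b : E, a • v + b • w = x := ⟨_, _, (hdec x).symm⟩
    have hβs : ∀ (e : E) (y : V), β (e • y) = e • β y := fun e y => hEβ e e.2 y
    have hβ' : β (a • v + b • w) = a • v + (a + b) • w := by
      rw [map_add, hβs, hβs, hβw v, hβw w, hMM v, add_zero, smul_add, add_smul]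
      abel
    rw [hβ', hbas, hbas]
    funext i
    fin_cases i <;> simp [Matrix.mulVec, dotProduct, Fin.sum_univ_two]

/-- An irreducible nontrivial quadratic pair contains unit transvections of a plane over the prime field. -/
theorem exists_prime_plane (hD : DicksonTwo.{u}) {V : Type u} [AddCommGroup V] [Finite V] [Nontrivial V]
    (p : ℕ) [hp : Fact p.Prime] (hp2 : p ≠ 2) {G : Type v} [Group G] {a b : G} {T : Subgroup G}
    (ρ : T →* (AddMonoid.End V)ˣ) (haT : a ∈ T) (hbT : b ∈ T) (hT : T = closure ({a, b} : Set G))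
    (hpV : ∀ v : V, p • v = 0)
    (hα : ((ρ ⟨a, haT⟩ : AddMonoid.End V) - 1) * ((ρ ⟨a, haT⟩ : AddMonoid.End V) - 1) = 0)
    (hβ : ((ρ ⟨b, hbT⟩ : AddMonoid.End V) - 1) * ((ρ ⟨b, hbT⟩ : AddMonoid.End V) - 1) = 0)
    (hirr : ∀ W : AddSubgroup V, (∀ w ∈ W, (ρ ⟨a, haT⟩ : AddMonoid.End V) w ∈ W) →
      (∀ w ∈ W, (ρ ⟨b, hbT⟩ : AddMonoid.End V) w ∈ W) → W = ⊥ ∨ W = ⊤)
    (hne : ¬ (ρ ⟨a, haT⟩ = 1 ∧ ρ ⟨b, hbT⟩ = 1)) :
    ∃ (j : (Fin 2 → ZMod p) →+ V) (g₂ : G) (h₂ : g₂ ∈ T), Function.Injective j ∧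
      (∀ s, (ρ ⟨a, haT⟩ : AddMonoid.End V) (j s) = j ((upT p).1 *ᵥ s)) ∧
      (∀ s, (ρ ⟨g₂, h₂⟩ : AddMonoid.End V) (j s) = j ((loT p).1 *ᵥ s)) := by
  classical
  obtain ⟨F, iF, iFF, iC, e, lam, hlam, hgen, hea, heb⟩ := exists_natural_pair p hpV _ _ hα hβ hirr
    (fun h => hne ⟨Units.ext h.1, Units.ext h.2⟩)
  let Rep : T → Matrix.SpecialLinearGroup (Fin 2) F → Prop := fun g A =>
    ∀ v, e ((ρ g : AddMonoid.End V) v) = A.1 *ᵥ e v
  let A : Matrix.SpecialLinearGroup (Fin 2) F := ⟨!![1, lam; 0, 1], by simp [Matrix.det_fin_two]⟩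
  let B : Matrix.SpecialLinearGroup (Fin 2) F := ⟨!![1, 0; 1, 1], by simp [Matrix.det_fin_two]⟩
  have hmul : ∀ g g' A A', Rep g A → Rep g' A' → Rep (g * g') (A * A') := by
    intro g g' A A' hg hg' v
    rw [map_mul, Units.val_mul, show ((ρ g : AddMonoid.End V) * (ρ g' : AddMonoid.End V)) v =
      (ρ g : AddMonoid.End V) ((ρ g' : AddMonoid.End V) v) from rfl, hg, hg', Matrix.mulVec_mulVec,
      Matrix.SpecialLinearGroup.coe_mul]
  have hinv : ∀ g A, Rep g A → Rep g⁻¹ A⁻¹ := by
    intro g A hg v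
    have h := hg ((ρ g⁻¹ : AddMonoid.End V) v)
    rw [show (ρ g : AddMonoid.End V) ((ρ g⁻¹ : AddMonoid.End V) v) =
      ((ρ g * ρ g⁻¹ : (AddMonoid.End V)ˣ) : AddMonoid.End V) v from rfl, ← map_mul, mul_inv_cancel,
      map_one] at h
    rw [show e v = A.1 *ᵥ e ((ρ g⁻¹ : AddMonoid.End V) v) from h, Matrix.mulVec_mulVec,
      ← Matrix.SpecialLinearGroup.coe_mul, inv_mul_cancel, Matrix.SpecialLinearGroup.coe_one,
      Matrix.one_mulVec]
  let H : Subgroup (Matrix.SpecialLinearGroup (Fin 2) F) :=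
    { carrier := {C | ∃ g, Rep g C}
      one_mem' := ⟨1, fun v => by simp⟩
      mul_mem' := fun {x y} ⟨g, hg⟩ ⟨g', hg'⟩ => ⟨g * g', hmul _ _ _ _ hg hg'⟩
      inv_mem' := fun {x} ⟨g, hg⟩ => ⟨g⁻¹, hinv _ _ hg⟩ }
  have h2 : (2 : F) ≠ 0 := by
    intro h
    have h2' : ((2 : ℕ) : F) = 0 := by exact_mod_cast h
    rw [CharP.cast_eq_zero_iff F p] at h2'
    exact hp2 ((Nat.prime_dvd_prime_iff_eq hp.out Nat.prime_two).mp h2')
  let ι : ZMod p →+* F := ZMod.castHom (dvd_refl p) F
  have hι : Function.Injective ι := RingHom.injective ι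
  -- a plane with two prime-field transvections, given by a matrix of determinant nonzero
  suffices key : ∃ (P : Matrix (Fin 2) (Fin 2) F), P.det ≠ 0 ∧ ∃ C₂ ∈ H,
      A.1 * P = P * !![1, 1; 0, 1] ∧ C₂.1 * P = P * !![1, 0; 1, 1] by
    obtain ⟨P, hP, C₂, ⟨g₂, hg₂⟩, e₁, e₂⟩ := key
    let j : (Fin 2 → ZMod p) →+ V := e.symm.toAddMonoidHom.comp
      { toFun := fun s => P *ᵥ (ι ∘ s)
        map_zero' := by
          rw [show (ι ∘ (0 : Fin 2 → ZMod p)) = 0 from funext fun _ => map_zero ι, Matrix.mulVec_zero]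
        map_add' := fun s r => by
          rw [show ι ∘ (s + r) = ι ∘ s + ι ∘ r from funext fun _ => map_add ι _ _, Matrix.mulVec_add] }
    have hj : ∀ s, e (j s) = P *ᵥ (ι ∘ s) := fun s => e.apply_symm_apply _
    have hmap : ∀ (Q : Matrix (Fin 2) (Fin 2) (ZMod p)) s, ι ∘ (Q *ᵥ s) = Q.map ι *ᵥ (ι ∘ s) :=
      fun Q s => funext fun i => RingHom.map_mulVec ι Q s i
    refine ⟨j, g₂.1, g₂.2, fun s r h => ?_, fun s => e.injective ?_, fun s => e.injective ?_⟩
    · have h' := congrArg e h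
      rw [hj, hj] at h'
      have h'' := Matrix.mulVec_injective_iff_isUnit.mpr
        ((Matrix.isUnit_iff_isUnit_det P).mpr (isUnit_iff_ne_zero.mpr hP)) h'
      exact funext fun i => hι (congrFun h'' i)
    · rw [show e ((ρ ⟨a, haT⟩ : AddMonoid.End V) (j s)) = A.1 *ᵥ e (j s) from hea _, hj, hj, hmap, Matrix.mulVec_mulVec, Matrix.mulVec_mulVec, e₁]
      congr 2
      ext i k
      fin_cases i <;> fin_cases k <;> simp [upT]
    · rw [hg₂, hj, hj, hmap, Matrix.mulVec_mulVec, Matrix.mulVec_mulVec, e₂]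
      congr 2
      ext i k
      fin_cases i <;> fin_cases k <;> simp [loT]
  have hA : A ∈ H := ⟨⟨a, haT⟩, hea⟩
  have hB : B ∈ H := ⟨⟨b, hbT⟩, heb⟩
  rcases hD F h2 lam hlam hgen with htop | hsq
  · have hH : ∀ C, C ∈ H := fun C => by
      have hle : Subgroup.closure {g : Matrix.SpecialLinearGroup (Fin 2) F |
          (g : Matrix (Fin 2) (Fin 2) F) = !![1, 0; 1, 1] ∨
          (g : Matrix (Fin 2) (Fin 2) F) = !![1, lam; 0, 1]} ≤ H := by
        rw [Subgroup.closure_le]
        rintro g (hg | hg)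
        · exact (Subtype.ext hg : g = B) ▸ hB
        · exact (Subtype.ext hg : g = A) ▸ hA
      exact hle (htop ▸ Subgroup.mem_top C)
    refine ⟨!![lam, 0; 0, 1], by simp [Matrix.det_fin_two, hlam],
      ⟨!![1, 0; lam⁻¹, 1], by simp [Matrix.det_fin_two]⟩, hH _, ?_, ?_⟩
    · ext i k
      fin_cases i <;> fin_cases k <;> simp [A, Matrix.mul_apply, Fin.sum_univ_two]
    · ext i k
      fin_cases i <;> fin_cases k <;> simp [Matrix.mul_apply, Fin.sum_univ_two, hlam]
  · refine ⟨!![1, -lam; 0, -lam], by simp [Matrix.det_fin_two, hlam], B * A * B⁻¹,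
      H.mul_mem (H.mul_mem hB hA) (H.inv_mem hB), ?_, ?_⟩
    · ext i k
      fin_cases i <;> fin_cases k <;> simp [A, Matrix.mul_apply, Fin.sum_univ_two]
      all_goals first | ring1 | linear_combination (-1 : F) * hsq | linear_combination hsq
    · have hC : (B * A * B⁻¹).1 = !![1 - lam, lam; -lam, 1 + lam] := by
        rw [Matrix.SpecialLinearGroup.coe_mul, Matrix.SpecialLinearGroup.coe_mul, Matrix.SpecialLinearGroup.coe_inv,
          Matrix.adjugate_fin_two]
        ext i k
        fin_cases i <;> fin_cases k <;> simp [A, B, Matrix.mul_apply, Fin.sum_univ_two]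
        all_goals first | ring1 | linear_combination (-1 : F) * hsq
      rw [hC]
      ext i k
      fin_cases i <;> fin_cases k <;> simp [Matrix.mul_apply, Fin.sum_univ_two]
      all_goals first | ring1 | linear_combination hsq

section Group

variable {G : Type u} [Group G] [Finite G]

/-- A plane section of `P` on which two elements of `T` act as unit transvections, the `p'`-elements of
`T` centralizing the kernel. -/
def HasPlane (p : ℕ) (P T : Subgroup G) (a : G) : Prop :=
  ∃ (K₀ : Subgroup G) (φ : K₀ →* Multiplicative (Fin 2 → ZMod p)) (g₁ g₂ : G),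
    K₀ ≤ P ∧ Function.Surjective φ ∧ g₁ ∈ T ∧ g₂ ∈ T ∧
    g₁ ∈ normalizer (K₀ : Set G) ∧ g₂ ∈ normalizer (K₀ : Set G) ∧
    (∀ (k : K₀) (h : g₁ * (k : G) * g₁⁻¹ ∈ K₀), (φ ⟨_, h⟩).toAdd = (upT p).1 *ᵥ (φ k).toAdd) ∧
    (∀ (k : K₀) (h : g₂ * (k : G) * g₂⁻¹ ∈ K₀), (φ ⟨_, h⟩).toAdd = (loT p).1 *ᵥ (φ k).toAdd) ∧
    g₁ = a ∧ ∀ t ∈ T, (orderOf t).Coprime p → ∀ k : K₀, φ k = 1 → t * (k : G) = k * t

/-- Two elements acting quadratically on a `p`-group: the `p'`-elements of the generated group act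
trivially, or there is a plane. -/
theorem centralizes_or_hasPlane (hD : DicksonTwo.{u}) {p : ℕ} [hp : Fact p.Prime] (hp2 : p ≠ 2) {P : Subgroup G}
    (hP : IsPGroup p P) {a b : G} (ha : a ∈ normalizer (P : Set G)) (hb : b ∈ normalizer (P : Set G))
    (hqa : ∀ x ∈ P, Commute a ⁅x, a⁆) (hqb : ∀ x ∈ P, Commute b ⁅x, b⁆) :
    (∀ t ∈ closure ({a, b} : Set G), (orderOf t).Coprime p → t ∈ centralizer (P : Set G)) ∨
      HasPlane p P (closure ({a, b} : Set G)) a := by
  rw [or_iff_not_imp_right]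
  intro hnqd
  set T := closure ({a, b} : Set G) with hT
  have hTP : T ≤ normalizer (P : Set G) := (closure_le _).mpr (by rintro x (rfl | rfl) <;> assumption)
  have haT : a ∈ T := subset_closure (by simp)
  have hbT : b ∈ T := subset_closure (by simp)
  suffices h : ∀ n, ∀ K : Subgroup G, Nat.card K = n → K ≤ P → P ≤ normalizer (K : Set G) →
      T ≤ normalizer (K : Set G) → ∀ t ∈ T, (orderOf t).Coprime p → t ∈ centralizer (K : Set G) from
    h _ P rfl le_rfl le_normalizer hTP
  intro n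
  induction n using Nat.strong_induction_on with
  | _ n ih =>
  intro K hn hKP hPK hTK
  rcases eq_or_ne K ⊥ with rfl | hK
  · exact fun t _ _ => mem_centralizer_of_conj_eq fun x hx => by simp [mem_bot.mp hx]
  have hLK : ⁅K, P⁆ < K :=
    Cfsg.Agent.Lib.Coprime.commutator_lt_of_isPGroup (hP.to_le hKP) hP hPK hK
  have hTL : T ≤ normalizer ((⁅K, P⁆ : Subgroup G) : Set G) := fun g hg => mem_normalizer_iff_map_conj_eq.mpr (by
    exact (map_commutator K P (MulAut.conj g : G →* G)).trans (congrArg₂ (⁅·, ·⁆)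
      (mem_normalizer_iff_map_conj_eq.mp (hTK hg)) (mem_normalizer_iff_map_conj_eq.mp (hTP hg))))
  obtain ⟨M, ⟨hMK, hLM, hTM⟩, hmax⟩ := Set.Finite.exists_maximal
    (Set.toFinite {M : Subgroup G | M < K ∧ ⁅K, P⁆ ≤ M ∧ T ≤ normalizer (M : Set G)})
    ⟨_, hLK, le_rfl, hTL⟩
  have hPM : P ≤ normalizer (M : Set G) := le_normalizer_iff_commutator_le_left.mpr
    ((commutator_mono hMK.le le_rfl).trans hLM)
  have hTMc : ∀ t ∈ T, (orderOf t).Coprime p → t ∈ centralizer (M : Set G) :=
    ih _ (hn ▸ (card_le_of_le hMK.le).lt_of_ne fun he => hMK.ne (eq_of_le_of_card_ge hMK.le he.ge))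
      M rfl (hMK.le.trans hKP) hPM hTM
  haveI hMn : (M.subgroupOf K).Normal := normal_subgroupOf_of_le_normalizer (hKP.trans hPM)
  let V := K ⧸ M.subgroupOf K
  have hcomm : ∀ x y : V, x * y = y * x := by
    intro x y
    obtain ⟨x, rfl⟩ := QuotientGroup.mk'_surjective _ x
    obtain ⟨y, rfl⟩ := QuotientGroup.mk'_surjective _ y
    rw [← commutatorElement_eq_one_iff_mul_comm, ← map_commutatorElement, QuotientGroup.mk'_apply,
      QuotientGroup.eq_one_iff, mem_subgroupOf]
    exact hLM (commutator_mem_commutator x.2 (hKP y.2))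
  letI : CommGroup V := { (inferInstance : Group V) with mul_comm := hcomm }
  have hsub : ∀ W : Subgroup V, (∀ (g : G), g ∈ ({a, b} : Set G) → ∀ (k : K) (hk : g * k * g⁻¹ ∈ K),
      QuotientGroup.mk k ∈ W → QuotientGroup.mk (⟨g * k * g⁻¹, hk⟩ : K) ∈ W) → W = ⊥ ∨ W = ⊤ := by
    intro W hW
    set M' := (W.comap (QuotientGroup.mk' (M.subgroupOf K))).map K.subtype with hM'
    have hMM' : M ≤ M' := fun m hm => ⟨⟨m, hMK.le hm⟩, by
      show QuotientGroup.mk' _ _ ∈ W
      rw [QuotientGroup.mk'_apply, (QuotientGroup.eq_one_iff _).mpr (by exact hm)]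
      exact one_mem _, rfl⟩
    have hTM' : T ≤ normalizer (M' : Set G) := (closure_le _).mpr fun g hg =>
      mem_normalizer_of_conj_mem fun x hx => by
        obtain ⟨k, hk, rfl⟩ := hx
        exact ⟨⟨g * k * g⁻¹, conj_mem_of_le_normalizer hTK (subset_closure hg) k.2⟩,
          hW g hg k _ hk, rfl⟩
    rcases lt_or_eq_of_le (map_subtype_le (W.comap (QuotientGroup.mk' (M.subgroupOf K)))) with h | h
    · left
      have he : M' = M := le_antisymm (hmax ⟨h, hLM.trans hMM', hTM'⟩ hMM') hMM'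
      refine (eq_bot_iff_forall _).mpr fun v hv => ?_
      obtain ⟨k, rfl⟩ := QuotientGroup.mk_surjective v
      rw [QuotientGroup.eq_one_iff, mem_subgroupOf, ← he]
      exact ⟨k, hv, rfl⟩
    · right
      refine (eq_top_iff' W).mpr fun v => ?_
      obtain ⟨k, rfl⟩ := QuotientGroup.mk_surjective v
      have hk : (k : G) ∈ M' := by rw [hM', h]; exact k.2
      obtain ⟨k', hk', he⟩ := hk
      rw [← Subtype.ext he]; exact hk'
  have hVp : IsPGroup p V := (hP.to_le hKP).to_quotient _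
  haveI : Nontrivial V := by
    rw [← not_subsingleton_iff_nontrivial]
    intro hs
    exact hMK.not_ge fun k hk =>
      mem_subgroupOf.mp ((QuotientGroup.eq_one_iff (⟨k, hk⟩ : K)).mp (Subsingleton.elim _ _))
  have hexp : ∀ v : V, v ^ p = 1 := by
    let W : Subgroup V :=
      { carrier := {v | v ^ p = 1}
        one_mem' := one_pow p
        mul_mem' := fun {x y} hx hy => by
          show (x * y) ^ p = 1
          rw [mul_pow, show x ^ p = 1 from hx, show y ^ p = 1 from hy, one_mul]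
        inv_mem' := fun {x} hx => by
          show x⁻¹ ^ p = 1
          rw [inv_pow, show x ^ p = 1 from hx, inv_one] }
    rcases hsub W (fun g hg k hk hkW => by
        have h1 : k ^ p ∈ M.subgroupOf K :=
          (QuotientGroup.eq_one_iff _).mp (by rw [QuotientGroup.mk_pow]; exact hkW)
        show _ ^ p = (1 : V)
        rw [← QuotientGroup.mk_pow, QuotientGroup.eq_one_iff, mem_subgroupOf]
        push_cast
        rw [conj_pow]
        exact conj_mem_of_le_normalizer hTM (subset_closure hg)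
          (by simpa [mem_subgroupOf] using h1)) with h | h
    · exfalso
      obtain ⟨j, hj⟩ := hVp.exists_card_eq
      obtain ⟨v, hv⟩ := exists_prime_orderOf_dvd_card' (G := V) p (by
        rw [hj]; refine dvd_pow_self p fun h0 => ?_
        have := Finite.one_lt_card (α := V)
        rw [hj, h0, pow_zero] at this
        exact this.ne rfl)
      have hvW : v ∈ W := show v ^ p = 1 from hv ▸ pow_orderOf_eq_one v
      rw [h, mem_bot] at hvW
      rw [hvW, orderOf_one] at hv
      exact hp.out.one_lt.ne hv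
    · intro v; exact (h ▸ mem_top v : v ∈ W)
  obtain ⟨σ, hσ⟩ := exists_quotient_action hTK hTM
  let ρ : T →* AddMonoid.End (Additive V) :=
    { toFun := fun g => MonoidHom.toAdditive (σ g)
      map_one' := by rw [map_one]; rfl
      map_mul' := fun x y => by rw [map_mul]; rfl }
  let u : T →* (AddMonoid.End (Additive V))ˣ := ρ.toHomUnits
  have hquad : ∀ (g : G) (hg : g ∈ T), (∀ x ∈ P, Commute g ⁅x, g⁆) →
      ((u ⟨g, hg⟩ : AddMonoid.End (Additive V)) - 1) *
        ((u ⟨g, hg⟩ : AddMonoid.End (Additive V)) - 1) = 0 := by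
    intro g hg hq
    refine DFunLike.ext _ _ fun w => ?_
    obtain ⟨k, hk⟩ := QuotientGroup.mk_surjective (Additive.toMul w)
    have hw : w = Additive.ofMul (QuotientGroup.mk k : V) := by rw [hk, ofMul_toMul]
    subst hw
    have hk1 : g * k * g⁻¹ ∈ K := conj_mem_of_le_normalizer hTK hg k.2
    let z : K := ⟨g * k * g⁻¹, hk1⟩ * k⁻¹
    have h1 : (ρ ⟨g, hg⟩ - 1) (Additive.ofMul (QuotientGroup.mk k : V)) =
        Additive.ofMul (QuotientGroup.mk z : V) := by
      show Additive.ofMul (σ ⟨g, hg⟩ (QuotientGroup.mk k)) - Additive.ofMul (QuotientGroup.mk k : V) = _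
      rw [hσ _ k hk1]
      show Additive.ofMul ((QuotientGroup.mk (⟨g * k * g⁻¹, hk1⟩ : K) : V) / QuotientGroup.mk k) = _
      rw [div_eq_mul_inv]; rfl
    have h2 : (ρ ⟨g, hg⟩ - 1) (Additive.ofMul (QuotientGroup.mk z : V)) = 0 := by
      have hz : g * (z : G) * g⁻¹ ∈ K := conj_mem_of_le_normalizer hTK hg z.2
      show Additive.ofMul (σ ⟨g, hg⟩ (QuotientGroup.mk z)) - Additive.ofMul (QuotientGroup.mk z : V) = 0
      rw [sub_eq_zero, hσ _ z hz]
      congr 2
      refine Subtype.ext ?_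
      have he : (z : G) = ⁅(k : G), g⁆⁻¹ := by
        show g * k * g⁻¹ * (k : G)⁻¹ = _
        rw [commutatorElement_inv, commutatorElement_def]
      show g * (z : G) * g⁻¹ = (z : G)
      rw [he, ((hq k (hKP k.2)).inv_right).eq, mul_inv_cancel_right]
    show (ρ ⟨g, hg⟩ - 1) ((ρ ⟨g, hg⟩ - 1) _) = (0 : Additive V)
    rw [h1, h2]
  have hirr : ∀ W : AddSubgroup (Additive V), (∀ w ∈ W, (u ⟨a, haT⟩ : AddMonoid.End (Additive V)) w ∈ W) →
      (∀ w ∈ W, (u ⟨b, hbT⟩ : AddMonoid.End (Additive V)) w ∈ W) → W = ⊥ ∨ W = ⊤ := fun W hWa hWb => by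
      let W' : Subgroup V :=
        { carrier := {v | Additive.ofMul v ∈ W}
          one_mem' := W.zero_mem
          mul_mem' := fun {x y} hx hy => W.add_mem hx hy
          inv_mem' := fun {x} hx => W.neg_mem hx }
      rcases hsub W' (fun g hg k hk hkW => by
          have hgT : g ∈ T := subset_closure hg
          have : ρ ⟨g, hgT⟩ (Additive.ofMul (QuotientGroup.mk k : V)) ∈ W := by
            rcases hg with rfl | rfl
            · exact hWa _ hkW
            · exact hWb _ hkW
          show Additive.ofMul _ ∈ W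
          convert this using 1
          exact congrArg Additive.ofMul (hσ ⟨g, hgT⟩ k hk).symm) with h | h
      · left
        refine (AddSubgroup.eq_bot_iff_forall _).mpr fun w hw => ?_
        have : Additive.toMul w ∈ W' := hw
        rw [h, mem_bot] at this
        exact this
      · right
        refine (AddSubgroup.eq_top_iff' W).mpr fun w => ?_
        exact (h ▸ mem_top (Additive.toMul w) : Additive.toMul w ∈ W')
  have htriv : u ⟨a, haT⟩ = 1 ∧ u ⟨b, hbT⟩ = 1 := by
    by_contra hne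
    refine hnqd ?_
    obtain ⟨j, g₂, hg₂, hj, hj1, hj2⟩ := exists_prime_plane hD p hp2 u haT hbT hT
      (fun w => hexp (Additive.toMul w)) (hquad a haT hqa) (hquad b hbT hqb) hirr
      (fun h => hne h)
    set R : Subgroup V :=
      { carrier := {v | ∃ s, j s = Additive.ofMul v}
        one_mem' := ⟨0, map_zero j⟩
        mul_mem' := fun {x y} ⟨s, hs⟩ ⟨r, hr⟩ => ⟨s + r, by rw [map_add, hs, hr]; rfl⟩
        inv_mem' := fun {x} ⟨s, hs⟩ => ⟨-s, by rw [map_neg, hs]; rfl⟩ } with hR
    set K₀ := (R.comap (QuotientGroup.mk' (M.subgroupOf K))).map K.subtype with hK₀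
    have hmem : ∀ x : K₀, ∃ s, ∃ h : (x : G) ∈ K,
        j s = Additive.ofMul (QuotientGroup.mk (⟨x, h⟩ : K) : V) := by
      rintro ⟨_, k, hk, rfl⟩
      obtain ⟨s, hs⟩ := hk
      exact ⟨s, k.2, hs⟩
    choose φ₀ hφK hφ using hmem
    have hnorm : ∀ (g : G) (hg : g ∈ T) (A : Matrix.SpecialLinearGroup (Fin 2) (ZMod p)),
        (∀ s, (u ⟨g, hg⟩ : AddMonoid.End (Additive V)) (j s) = j (A.1 *ᵥ s)) →
        g ∈ normalizer (K₀ : Set G) ∧
          ∀ (x : K₀) (h : g * (x : G) * g⁻¹ ∈ K₀), φ₀ ⟨_, h⟩ = A.1 *ᵥ φ₀ x := by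
      intro g hg A hA
      have key : ∀ x : K₀, Additive.ofMul (QuotientGroup.mk (⟨g * x * g⁻¹,
          conj_mem_of_le_normalizer hTK hg (hφK x)⟩ : K) : V) = j (A.1 *ᵥ φ₀ x) := by
        intro x
        rw [← hA, hφ]
        show _ = Additive.ofMul (σ ⟨g, hg⟩ (QuotientGroup.mk (⟨(x : G), hφK x⟩ : K)))
        rw [hσ ⟨g, hg⟩ ⟨(x : G), hφK x⟩ (conj_mem_of_le_normalizer hTK hg (hφK x))]
      refine ⟨mem_normalizer_of_conj_mem fun x hx => ?_, fun x h => hj ?_⟩
      · exact ⟨⟨g * x * g⁻¹, conj_mem_of_le_normalizer hTK hg (hφK ⟨x, hx⟩)⟩,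
          ⟨_, (key ⟨x, hx⟩).symm⟩, rfl⟩
      · rw [hφ, ← key]
    obtain ⟨hn1, ha1⟩ := hnorm a haT _ hj1
    obtain ⟨hn2, ha2⟩ := hnorm g₂ hg₂ _ hj2
    refine ⟨K₀, MonoidHom.mk' (fun x => Multiplicative.ofAdd (φ₀ x)) fun x y => ?_, a, g₂,
      (map_subtype_le _).trans hKP, ?_, haT, hg₂, hn1, hn2,
      fun x h => ha1 x h, fun x h => ha2 x h, rfl, fun t ht htp x hx => ?_⟩
    · apply Multiplicative.toAdd.injective
      refine hj ?_
      rw [toAdd_mul, toAdd_ofAdd, toAdd_ofAdd, toAdd_ofAdd, map_add, hφ, hφ, hφ]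
      rfl
    · intro s
      obtain ⟨k, hk⟩ := QuotientGroup.mk_surjective (Additive.toMul (j s.toAdd))
      have hkK₀ : (k : G) ∈ K₀ := ⟨k, ⟨s.toAdd, by
        show _ = Additive.ofMul (QuotientGroup.mk k : V)
        rw [hk, ofMul_toMul]⟩, rfl⟩
      refine ⟨⟨k, hkK₀⟩, Multiplicative.toAdd.injective (hj ?_)⟩
      show j (φ₀ ⟨k, hkK₀⟩) = _
      rw [hφ, show (⟨(k : G), hφK ⟨k, hkK₀⟩⟩ : K) = k from rfl, hk, ofMul_toMul]
    · have h0 : φ₀ x = 0 := congrArg Multiplicative.toAdd hx
      have h1 : (QuotientGroup.mk (⟨x, hφK x⟩ : K) : V) = 1 :=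
        Additive.ofMul.injective (by rw [← hφ, h0, map_zero]; rfl)
      exact (mem_centralizer_iff.mp (hTMc t ht htp) x
        (mem_subgroupOf.mp ((QuotientGroup.eq_one_iff (N := M.subgroupOf K) (⟨x, hφK x⟩ : K)).mp h1))).symm
  obtain ⟨e1, e2⟩ := htriv
  have hker : ∀ (g : G) (hg : g ∈ T), u ⟨g, hg⟩ = 1 := by
    intro g hg
    have : (⟨g, hg⟩ : T) ∈ u.ker := by
      have h' : T ≤ u.ker.map T.subtype := by
        refine (closure_le _).mpr ?_
        rintro x (rfl | rfl)
        · exact ⟨⟨x, haT⟩, e1, rfl⟩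
        · exact ⟨⟨x, hbT⟩, e2, rfl⟩
      obtain ⟨g', hg', he⟩ := h' hg
      rwa [← Subtype.ext (show (g' : G) = ((⟨g, hg⟩ : T) : G) from he)]
    exact this
  intro t ht htp
  refine le_centralizer_of_coprime_stab (K := M) (A := zpowers t) ?_ (zpowers_le.mpr (hTMc t ht htp)) ?_
    (mem_zpowers t)
  · rw [commutator_le]
    intro k hk s hs
    have hsT : s ∈ T := zpowers_le.mpr ht hs
    have hk1 : s * k * s⁻¹ ∈ K := conj_mem_of_le_normalizer hTK hsT hk
    have h1 := DFunLike.congr_fun (congrArg Units.val (hker s hsT)) (Additive.ofMul (QuotientGroup.mk ⟨k, hk⟩ : V))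
    have h2 : σ ⟨s, hsT⟩ (QuotientGroup.mk ⟨k, hk⟩) = QuotientGroup.mk ⟨k, hk⟩ := h1
    rw [hσ _ _ hk1, QuotientGroup.eq, mem_subgroupOf] at h2
    push_cast at h2
    -- `(s k s⁻¹)⁻¹ k ∈ M`
    have h3 := conj_mem_of_le_normalizer (hKP.trans hPM) hk h2
    simpa [commutatorElement_def, mul_assoc] using h3
  · obtain ⟨j, hj⟩ := (hP.to_le (hMK.le.trans hKP)).exists_card_eq
    rw [Nat.card_zpowers, hj]
    exact htp.pow_right j


/-- Two elements acting quadratically on a `p`-group generate either a group whose `p'`-elements act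
trivially or force a section isomorphic to `Qd(p)`. -/
theorem mem_centralizer_or_involves_qd (hD : DicksonTwo.{u}) {p : ℕ} [hp : Fact p.Prime] (hp2 : p ≠ 2) {P : Subgroup G}
    (hP : IsPGroup p P) {a b : G} (ha : a ∈ normalizer (P : Set G)) (hb : b ∈ normalizer (P : Set G))
    (hqa : ∀ x ∈ P, Commute a ⁅x, a⁆) (hqb : ∀ x ∈ P, Commute b ⁅x, b⁆)
    {t : G} (ht : t ∈ closure ({a, b} : Set G)) (htp : (orderOf t).Coprime p) :
    t ∈ centralizer (P : Set G) ∨ Cfsg.Involves ↥(Cfsg.qd p) G := by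
  rcases centralizes_or_hasPlane hD hp2 hP ha hb hqa hqb with h | ⟨K₀, φ, g₁, g₂, -, hφ, -, -, h1, h2, h3, h4, -⟩
  · exact Or.inl (h t ht htp)
  · exact Or.inr (involves_qd_of_gens hp2 K₀ φ hφ g₁ g₂ h1 h2 h3 h4)

/-- A quadratic element outside the `p`-core of the automiser is the first element of a plane. -/
theorem exists_hasPlane_of_not_mem (hD : DicksonTwo.{u}) {p : ℕ} [hp : Fact p.Prime] (hp2 : p ≠ 2)
    {P : Subgroup G} (hP : IsPGroup p P) {g : G} (hg : g ∈ Subgroup.normalizer (P : Set G))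
    (hq : ⁅⁅P, Subgroup.zpowers g⁆, Subgroup.zpowers g⁆ = ⊥)
    (hnot : (QuotientGroup.mk (s := (Subgroup.centralizer (P : Set G)).subgroupOf (Subgroup.normalizer (P : Set G)))
          (⟨g, hg⟩ : ↥(Subgroup.normalizer (P : Set G)))) ∉
        Cfsg.pCore p (↥(Subgroup.normalizer (P : Set G)) ⧸
          (Subgroup.centralizer (P : Set G)).subgroupOf (Subgroup.normalizer (P : Set G)))) :
    ∃ b : G, HasPlane p P (Subgroup.closure ({g, b} : Set G)) g := by
  by_contra hcon
  push Not at hcon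
  apply hnot
  set N := Subgroup.normalizer (P : Set G) with hN
  set C := (Subgroup.centralizer (P : Set G)).subgroupOf N with hC
  set π := QuotientGroup.mk' C with hπ
  set a : N := ⟨g, hg⟩ with ha
  show π a ∈ Cfsg.pCore p (↥N ⧸ C)
  have hqa : ∀ x ∈ P, Commute g ⁅x, g⁆ := fun x hx => by
    have h1 := Subgroup.commutator_mem_commutator
      (Subgroup.commutator_mem_commutator hx (Subgroup.mem_zpowers g)) (Subgroup.mem_zpowers g)
    rw [hq, Subgroup.mem_bot, commutatorElement_eq_one_iff_mul_comm] at h1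
    exact h1.symm
  obtain ⟨e, he⟩ := hP.exists_card_eq
  have hge : (π a) ^ p ^ e = 1 := by
    rw [← map_pow]
    refine (QuotientGroup.eq_one_iff _).2 ?_
    show ((a ^ p ^ e : N) : G) ∈ Subgroup.centralizer (P : Set G)
    rw [Subgroup.coe_pow, Subgroup.mem_centralizer_iff]
    intro x hx
    set c := x⁻¹ * (g * x * g⁻¹) with hc
    have hcP : c ∈ P := mul_mem (inv_mem hx) ((Subgroup.mem_normalizer_iff.1 hg x).1 hx)
    have hqd : Commute c g := by
      have h := hqa x⁻¹ (inv_mem hx)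
      rw [show ⁅x⁻¹, g⁆ = c by rw [hc, commutatorElement_def]; group] at h
      exact h.symm
    have key : ∀ i : ℕ, g ^ i * x * (g ^ i)⁻¹ = x * c ^ i := by
      intro i
      induction i with
      | zero => simp
      | succ i ihh =>
        calc g ^ (i + 1) * x * (g ^ (i + 1))⁻¹ = g ^ i * (g * x * g⁻¹) * (g ^ i)⁻¹ := by rw [pow_succ]; group
          _ = g ^ i * (x * c) * (g ^ i)⁻¹ := by rw [hc]; group
          _ = (g ^ i * x * (g ^ i)⁻¹) * (g ^ i * c * (g ^ i)⁻¹) := by group
          _ = x * c ^ i * c := by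
            rw [ihh]
            congr 1
            rw [← (hqd.pow_right i).eq, mul_inv_cancel_right]
          _ = _ := by rw [pow_succ, mul_assoc]
    have hce : c ^ p ^ e = 1 := by
      rw [← he]; exact congrArg Subtype.val (pow_card_eq_one' (x := (⟨c, hcP⟩ : P)))
    have := key (p ^ e)
    rw [hce, mul_one, mul_inv_eq_iff_eq_mul] at this
    exact this.symm
  have hX : IsPGroup p (Subgroup.zpowers (π a)) := by
    obtain ⟨j, -, hj⟩ := (Nat.dvd_prime_pow hp.out).mp (orderOf_dvd_of_pow_eq_one hge)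
    exact IsPGroup.of_card (n := j) (by rw [Nat.card_zpowers, hj])
  obtain ⟨M, hMn, hMp, hXM⟩ := Cfsg.Agent.Lib.Involutions.baer_suzuki (Subgroup.zpowers (π a)) hX (by
    intro h
    obtain ⟨h, rfl⟩ := QuotientGroup.mk'_surjective C h
    let T := Subgroup.closure ({a, h * a * h⁻¹} : Set N)
    have hle : Subgroup.zpowers (π a) ⊔ (Subgroup.zpowers (π a)).map (MulAut.conj (π h)).toMonoidHom ≤
        T.map π := by
      refine sup_le (Subgroup.zpowers_le.mpr ⟨a, Subgroup.subset_closure (by simp), rfl⟩) ?_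
      rw [MonoidHom.map_zpowers, Subgroup.zpowers_le]
      exact ⟨h * a * h⁻¹, Subgroup.subset_closure (by simp), by simp [π]⟩
    refine IsPGroup.to_le ?_ hle
    rintro ⟨_, t, ht, rfl⟩
    obtain ⟨k, hk⟩ := OddLocal.exists_orderOf_pow_coprime p t
    have hhP : ∀ x ∈ P, (h : G)⁻¹ * x * h ∈ P := fun x hx => by
      have := (Subgroup.mem_normalizer_iff.1 (inv_mem h.2) x).1 hx
      simpa using this
    have hqb : ∀ x ∈ P, Commute ((h : G) * g * (h : G)⁻¹) ⁅x, (h : G) * g * (h : G)⁻¹⁆ := by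
      intro x hx
      have h2 := (hqa _ (hhP x hx)).map (MulAut.conj (h : G)).toMonoidHom
      rw [map_commutatorElement] at h2
      simpa [mul_assoc] using h2
    have ht' : ((t ^ p ^ k : N) : G) ∈ Subgroup.closure ({g, (h : G) * g * (h : G)⁻¹} : Set G) := by
      have h3 : T.map N.subtype ≤ Subgroup.closure ({g, (h : G) * g * (h : G)⁻¹} : Set G) := by
        rw [MonoidHom.map_closure, Set.image_pair]
        exact le_rfl
      exact h3 ⟨_, pow_mem ht _, rfl⟩
    have h4 := (centralizes_or_hasPlane hD hp2 hP hg (mul_mem (mul_mem h.2 hg) (inv_mem h.2)) hqa hqb).resolve_right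
      (hcon _) _ ht' (by rw [Subgroup.orderOf_coe]; exact hk)
    refine ⟨k, Subtype.ext ?_⟩
    show (π t) ^ p ^ k = 1
    rw [← map_pow, hπ, QuotientGroup.mk'_apply, QuotientGroup.eq_one_iff]
    exact h4)
  exact Cores.le_pCore hMn hMp (hXM (Subgroup.mem_zpowers _))

/-- A group without planes is stable in the normalizer form. -/
theorem isNormalizerPStable_of_no_plane (hD : DicksonTwo.{u}) {p : ℕ} [hp : Fact p.Prime] (hp2 : p ≠ 2)
    (hfree : ∀ (P : Subgroup G) (a b : G), IsPGroup p P → ¬ HasPlane p P (Subgroup.closure ({a, b} : Set G)) a) :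
    Cfsg.IsNormalizerPStable p G := by
  intro P hP g hg hq
  by_contra hnot
  obtain ⟨b, hb⟩ := exists_hasPlane_of_not_mem hD hp2 hP hg hq hnot
  exact hfree P g b hP hb

/-- A group not involving `Qd(p)` is stable in the normalizer form. -/
theorem isNormalizerPStable_of_qdFree (hD : DicksonTwo.{u}) {p : ℕ} [hp : Fact p.Prime] (hp2 : p ≠ 2)
    (hfree : ¬ Cfsg.Involves ↥(Cfsg.qd p) G) : Cfsg.IsNormalizerPStable p G :=
  isNormalizerPStable_of_no_plane hD hp2 fun _ _ _ _ ⟨K₀, φ, g₁, g₂, _, hφ, _, _, h1, h2, h3, h4, _⟩ =>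
    hfree (involves_qd_of_gens hp2 K₀ φ hφ g₁ g₂ h1 h2 h3 h4)

/-- Sections of groups not involving `Qd(p)` are stable. -/
theorem isNormalizerPStable_of_involved (hD : DicksonTwo.{u}) {p : ℕ} [hp : Fact p.Prime] (hp2 : p ≠ 2)
    (hfree : ¬ Cfsg.Involves ↥(Cfsg.qd p) G) {Y : Type u} [Group Y] [Finite Y]
    (hY : Cfsg.Involves Y G) : Cfsg.IsNormalizerPStable p Y := by
  refine isNormalizerPStable_of_qdFree hD hp2 fun h => hfree ?_
  obtain ⟨K, R, hR, ⟨e⟩⟩ := h
  obtain ⟨K', f, hf⟩ := FusionControl.exists_hom_of_involves hY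
  refine involves_of_surjective (K := (K.comap f).map K'.subtype)
    ((e.toMonoidHom.comp (QuotientGroup.mk' (R.subgroupOf K))).comp
      ((f.subgroupComap K).comp (Subgroup.equivMapOfInjective _ _ K'.subtype_injective).symm.toMonoidHom)) ?_
  exact ((e.surjective.comp (QuotientGroup.mk'_surjective _)).comp
    ((MonoidHom.subgroupComap_surjective_of_surjective f K hf).comp (MulEquiv.surjective _)))

end Group

end Cfsg.Agent.Lib.PLocal
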