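import Cfsg.Agent.S0801
import Cfsg.Agent.Lib.PLocal.QdFree

/-! Dickson's theorem on two transvections, in the form used for `Qd(p)`. -/

set_option autoImplicit false

universe u

namespace Cfsg.Agent.Lib.PLocal

theorem dicksonTwo : DicksonTwo.{u} := fun _ _ _ h2 lam hlam hgen =>
  (S0801.result h2 lam hlam hgen).imp (fun h => h.1) fun h => h.2.1

end Cfsg.Agent.Lib.PLocal
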