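import Cfsg.Agent.Lib.PLocal.QdSection

/-! `Qd(p)` is not stable. -/

set_option autoImplicit false
set_option linter.unusedSectionVars false
set_option linter.style.haveILetI false

open Matrix
open scoped commutatorElement

namespace Cfsg.Agent.Lib.PLocal

variable {p : ℕ} [hp : Fact p.Prime]

local notation "V₂" => Fin 2 → ZMod p

/-- The translations in `Qd(p)`. -/
abbrev qdTrans (p : ℕ) [Fact p.Prime] : Subgroup ↥(Cfsg.qdOver (ZMod p)) :=
  (LocalEven.Qd.proj (F := ZMod p)).ker

lemma centralizer_qdTrans_le :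
    Subgroup.centralizer ((qdTrans p) : Set ↥(Cfsg.qdOver (ZMod p))) ≤ qdTrans p := by
  intro x hx
  obtain ⟨A, w, rfl⟩ := LocalEven.Qd.el_surj x
  rw [MonoidHom.mem_ker, LocalEven.Qd.proj_el]
  refine mulVec_ext fun v => ?_
  have h := LocalEven.Qd.conj_trans A v w
  rw [← Subgroup.mem_centralizer_iff.mp hx _ (LocalEven.Qd.mem_ker_proj_iff.mpr ⟨v, rfl⟩),
    mul_inv_cancel_right] at h
  rw [Matrix.SpecialLinearGroup.coe_one, Matrix.one_mulVec]
  exact ((LocalEven.Qd.aff_injective (congrArg Subtype.val h)).2).symm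

theorem not_isNormalizerPStable_qd : ¬ Cfsg.IsNormalizerPStable p ↥(Cfsg.qd p) := by
  show ¬ Cfsg.IsNormalizerPStable p ↥(Cfsg.qdOver (ZMod p))
  intro h
  set X := ↥(Cfsg.qdOver (ZMod p))
  set g : X := LocalEven.Qd.el (upT p) 0 with hg
  set V := qdTrans p with hV
  have hVp : IsPGroup p V := LocalEven.Qd.isPGroup_ker
  let Ln : Subgroup X :=
    { carrier := {x | ∃ v : V₂, v 1 = 0 ∧ x = LocalEven.Qd.el 1 v}
      one_mem' := ⟨0, rfl, LocalEven.Qd.el_one.symm⟩
      mul_mem' := by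
        rintro _ _ ⟨v, hv, rfl⟩ ⟨w, hw, rfl⟩
        exact ⟨v + w, by simp [hv, hw], LocalEven.Qd.trans_mul v w⟩
      inv_mem' := by
        rintro _ ⟨v, hv, rfl⟩
        refine ⟨-v, by simp [hv], ?_⟩
        rw [LocalEven.Qd.el_inv]; simp }
  have hfix : ∀ x ∈ Ln, x * g = g * x := by
    rintro _ ⟨v, hv, rfl⟩
    rw [hg, LocalEven.Qd.el_mul, LocalEven.Qd.el_mul]
    congr 1
    · simp
    · funext i
      fin_cases i <;> simp [upT, Matrix.mulVec, dotProduct, Fin.sum_univ_two, hv]
  have hgn : g ∈ Subgroup.normalizer (V : Set X) := by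
    rw [Subgroup.normalizer_eq_top]; exact Subgroup.mem_top g
  have hq : ⁅⁅V, Subgroup.zpowers g⁆, Subgroup.zpowers g⁆ = ⊥ := by
    rw [Subgroup.commutator_eq_bot_iff_le_centralizer]
    have h1 : Ln ≤ Subgroup.centralizer (Subgroup.zpowers g : Set X) := by
      intro x hx
      rw [Subgroup.mem_centralizer_iff]
      rintro y ⟨n, rfl⟩
      exact (Commute.zpow_right (show Commute x g from hfix x hx) n).eq.symm
    refine le_trans ?_ h1
    rw [Subgroup.commutator_le]
    intro x hx y hy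
    obtain ⟨v, rfl⟩ := LocalEven.Qd.mem_ker_proj_iff.mp hx
    obtain ⟨n, rfl⟩ := Subgroup.mem_zpowers_iff.mp hy
    obtain ⟨A, w, hA⟩ := LocalEven.Qd.el_surj (g ^ n)
    have hA0 : A.1 1 0 = 0 ∧ A.1 1 1 = 1 := by
      have e : A = (upT p) ^ n := by
        have := congrArg LocalEven.Qd.proj hA
        rw [map_zpow, hg, LocalEven.Qd.proj_el, LocalEven.Qd.proj_el] at this
        exact this.symm
      rw [e]
      clear hA hy e
      induction n using Int.induction_on with
      | zero => simp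
      | succ i ih =>
        rw [_root_.zpow_add_one, Matrix.SpecialLinearGroup.coe_mul]
        simp only [Matrix.mul_apply, Fin.sum_univ_two, ih.1, ih.2]
        simp [upT]
      | pred i ih =>
        rw [_root_.zpow_sub_one, Matrix.SpecialLinearGroup.coe_mul, Matrix.SpecialLinearGroup.coe_inv,
          Matrix.adjugate_fin_two]
        simp only [Matrix.mul_apply, Fin.sum_univ_two, ih.1, ih.2]
        simp [upT]
    refine ⟨v - A.1 *ᵥ v, ?_, ?_⟩
    · simp [Matrix.mulVec, dotProduct, Fin.sum_univ_two, hA0.1, hA0.2]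
    · rw [hA, commutatorElement_def, mul_assoc, mul_assoc, ← mul_assoc (LocalEven.Qd.el A w),
        LocalEven.Qd.el_inv 1 v]
      simp only [inv_one, Matrix.SpecialLinearGroup.coe_one, Matrix.one_mulVec]
      rw [LocalEven.Qd.conj_trans, LocalEven.Qd.trans_mul, Matrix.mulVec_neg, sub_eq_add_neg]
  have h2 := h V hVp g hgn hq
  set N := Subgroup.normalizer (V : Set X)
  set C := (Subgroup.centralizer (V : Set X)).subgroupOf N
  let f : ↥N ⧸ C →* Matrix.SpecialLinearGroup (Fin 2) (ZMod p) :=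
    QuotientGroup.lift C (LocalEven.Qd.proj.comp N.subtype) fun x hx => centralizer_qdTrans_le hx
  have hf : Function.Surjective f := by
    intro A
    exact ⟨QuotientGroup.mk ⟨LocalEven.Qd.el A 0, show _ ∈ Subgroup.normalizer (V : Set X) by rw [Subgroup.normalizer_eq_top]; exact Subgroup.mem_top _⟩,
      LocalEven.Qd.proj_el A 0⟩
  haveI := Subgroup.Normal.map (H := Cfsg.pCore p (↥N ⧸ C)) (Cfsg.pCore_normal p _) f hf
  have h3 := LocalEven.Qd.eq_bot_of_normal_pGroup _ ((Cores.pCore_isPGroup p (↥N ⧸ C)).map f)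
  have h4 : f (QuotientGroup.mk ⟨g, hgn⟩) ∈ (⊥ : Subgroup _) := h3 ▸ ⟨_, h2, rfl⟩
  have h5 : upT p = 1 := by
    rw [Subgroup.mem_bot] at h4
    rw [← LocalEven.Qd.proj_el (upT p) 0]
    exact h4
  have h6 := congrFun (congrFun (congrArg Subtype.val h5) 0) 1
  simp [upT] at h6

end Cfsg.Agent.Lib.PLocal
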