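import Cfsg.Prelude.Def_LocalEven
import Cfsg.Prelude.Def_PLocal
import Cfsg.Agent.Lib.LocalEven.Qd
import Cfsg.Agent.Lib.Classical.LinearSimple
import Cfsg.Agent.Lib.Transfer.Focal
import Cfsg.Agent.Lib.FusionControl.Section

/-!
A group inducing `SL₂(p)` on an abelian image of a normal subgroup has a section isomorphic to `Qd(p)`.
-/

set_option autoImplicit false
set_option linter.unusedSectionVars false
set_option linter.style.haveILetI false

open Matrix

namespace Cfsg.Agent.Lib.PLocal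

variable {p : ℕ} [hp : Fact p.Prime]

local notation "SL₂" => Matrix.SpecialLinearGroup (Fin 2) (ZMod p)
local notation "V₂" => Fin 2 → ZMod p

/-- upper unit transvection -/
def upT (p : ℕ) : Matrix.SpecialLinearGroup (Fin 2) (ZMod p) :=
  ⟨!![1, 1; 0, 1], by simp [Matrix.det_fin_two]⟩

/-- lower unit transvection -/
def loT (p : ℕ) : Matrix.SpecialLinearGroup (Fin 2) (ZMod p) :=
  ⟨!![1, 0; 1, 1], by simp [Matrix.det_fin_two]⟩

lemma closure_upT_loT : Subgroup.closure ({upT p, loT p} : Set SL₂) = ⊤ := by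
  apply Classical.SL_eq_top_of_transvection_mem
  intro i j h b
  have key : ∀ (i j : Fin 2) (h : i ≠ j) (n : ℕ),
      (SpecialLinearGroup.transvection h (n : ZMod p)) = (SpecialLinearGroup.transvection h (1 : ZMod p)) ^ n := by
    intro i j h n
    induction n with
    | zero => simp
    | succ n ih =>
      rw [pow_succ, ← ih]
      refine Subtype.ext ?_
      show _ = Matrix.transvection i j (n : ZMod p) * Matrix.transvection i j 1
      rw [Matrix.transvection_mul_transvection_same _ _ h, Nat.cast_succ]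
      rfl
  obtain ⟨n, rfl⟩ : ∃ n : ℕ, (n : ZMod p) = b := ⟨b.val, ZMod.natCast_zmod_val b⟩
  rw [key]
  refine pow_mem (Subgroup.subset_closure ?_) n
  fin_cases i <;> fin_cases j
  · exact absurd rfl h
  · left
    refine Subtype.ext (Matrix.ext fun a c => ?_)
    fin_cases a <;> fin_cases c <;> simp [upT, SpecialLinearGroup.transvection, Matrix.transvection, Matrix.single]
  · right
    refine Subtype.ext (Matrix.ext fun a c => ?_)
    fin_cases a <;> fin_cases c <;> simp [loT, SpecialLinearGroup.transvection, Matrix.transvection, Matrix.single]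
  · exact absurd rfl h

lemma mulVec_ext {A B : SL₂} (h : ∀ v : V₂, A.1 *ᵥ v = B.1 *ᵥ v) : A = B :=
  Classical.SL_ext_smul h

lemma involves_of_surjective {G H : Type*} [Group G] [Group H] {K : Subgroup G} (f : K →* H)
    (hf : Function.Surjective f) : Cfsg.Involves H G := by
  have he : (f.ker.map K.subtype).subgroupOf K = f.ker := by
    rw [Subgroup.subgroupOf, Subgroup.comap_map_eq_self_of_injective K.subtype_injective]
  refine ⟨K, f.ker.map K.subtype, by rw [he]; infer_instance, ⟨?_⟩⟩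
  haveI : ((f.ker.map K.subtype).subgroupOf K).Normal := by rw [he]; infer_instance
  exact (QuotientGroup.quotientMulEquivOfEq he).trans (QuotientGroup.quotientKerEquivOfSurjective f hf)

/-- A group inducing `SL₂(p)` on an abelian image of a normal subgroup involves `Qd(p)`. -/
theorem involves_qd_of_action (hp2 : p ≠ 2) {X : Type*} [Group X] [Finite X] (W : Subgroup X) [W.Normal]
    (φ : W →* Multiplicative V₂) (hφ : Function.Surjective φ) (ρ : X →* SL₂)
    (hρ : Function.Surjective ρ)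
    (heq : ∀ (g : X) (w : W) (h : g * (w : X) * g⁻¹ ∈ W),
      (φ ⟨g * (w : X) * g⁻¹, h⟩).toAdd = (ρ g).1 *ᵥ (φ w).toAdd) :
    Cfsg.Involves ↥(Cfsg.qd p) X := by
  classical
  have hWρ : ∀ w ∈ W, ρ w = 1 := by
    intro w hw
    refine mulVec_ext fun v => ?_
    obtain ⟨u, hu⟩ := hφ (Multiplicative.ofAdd v)
    have h1 := heq w u ((inferInstance : W.Normal).conj_mem _ u.2 w)
    have h2 : φ ⟨w * (u : X) * w⁻¹, (inferInstance : W.Normal).conj_mem _ u.2 w⟩ = φ u := by
      rw [show (⟨w * (u : X) * w⁻¹, (inferInstance : W.Normal).conj_mem _ u.2 w⟩ : W) = ⟨w, hw⟩ * u * ⟨w, hw⟩⁻¹ from rfl,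
        map_mul, map_mul, map_inv, mul_comm, inv_mul_cancel_left]
    rw [h2, hu] at h1
    simpa using h1.symm
  -- the central involution
  set m : SL₂ := -1 with hm
  have hm2 : m * m = 1 := by rw [hm, neg_mul_neg, mul_one]
  have hm1 : m ≠ 1 := by
    intro h
    have h0 := congrFun (congrFun (congrArg Subtype.val h) 0) 0
    haveI : Fact (2 < p) := ⟨lt_of_le_of_ne hp.out.two_le (Ne.symm hp2)⟩
    exact ZMod.neg_one_ne_one (n := p) (by simpa [hm] using h0)
  have hmc : ∀ A : SL₂, A * m * A⁻¹ = m := fun A => by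
    rw [hm, mul_neg, mul_one, neg_mul, mul_inv_cancel]
  obtain ⟨z₀, hz₀⟩ := hρ m
  obtain ⟨a, z, -, -, ha, ⟨k, hk⟩, haz⟩ := Transfer.exists_pPart_decomp (p := 2) z₀
  have hMn : (Subgroup.zpowers m).Normal := ⟨fun y hy g => by
    obtain ⟨i, rfl⟩ := Subgroup.mem_zpowers_iff.mp hy
    rw [← conj_zpow, hmc]; exact zpow_mem (Subgroup.mem_zpowers m) i⟩
  have hordm : orderOf m = 2 := orderOf_eq_prime (by rw [sq, hm2]) hm1
  have hρz : ρ z = m := by
    have h2 : ρ a * ρ z = m := by rw [← map_mul, ← haz, hz₀]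
    -- `ρ a` has odd order and commutes into `⟨m⟩`
    have hza : ρ a = 1 := by
      have h3 : (ρ a) ^ (2 ^ k) * (ρ z) ^ (2 ^ k) = m ^ (2 ^ k) := by
        have hc : Commute (ρ a) (ρ z) := by
          show ρ a * ρ z = ρ z * ρ a
          rw [h2]
          have h5 : ρ z = (ρ a)⁻¹ * m := by rw [← h2, inv_mul_cancel_left]
          rw [h5]
          calc m = (ρ a)⁻¹ * (ρ a * m * (ρ a)⁻¹) * ρ a := by group
            _ = _ := by rw [hmc]
        rw [← hc.mul_pow, h2]
      rw [← map_pow ρ z, show z ^ (2 ^ k) = 1 from hk ▸ pow_orderOf_eq_one z, map_one, mul_one] at h3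
      have h4 : (ρ a) ^ (2 ^ (k + 1)) = 1 := by
        rw [pow_succ, pow_mul, h3, ← pow_mul, mul_comm, pow_mul, sq, hm2, one_pow]
      rw [← orderOf_eq_one_iff]
      exact Nat.eq_one_of_dvd_coprimes ((ha.coprime_dvd_left (orderOf_map_dvd ρ a)).symm.pow_left (k + 1))
        (orderOf_dvd_of_pow_eq_one h4) dvd_rfl
    rwa [hza, one_mul] at h2
  set H := (Subgroup.zpowers m).comap ρ with hH
  haveI : H.Normal := hMn.comap ρ
  have hzH : z ∈ H := by
    rw [hH, Subgroup.mem_comap, hρz]; exact Subgroup.mem_zpowers m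
  haveI : Fact (Nat.Prime 2) := ⟨Nat.prime_two⟩
  obtain ⟨P, hP⟩ := (IsPGroup.of_card (p := 2) (n := k)
    (show Nat.card (Subgroup.zpowers (⟨z, hzH⟩ : H)) = 2 ^ k by
      rw [Nat.card_zpowers, Subgroup.orderOf_mk, hk])).exists_le_sylow
  set Z := (P : Subgroup H).map H.subtype with hZ
  have hzZ : z ∈ Z := ⟨⟨z, hzH⟩, hP (Subgroup.mem_zpowers _), rfl⟩
  have hZp : IsPGroup 2 Z := P.2.map _
  set L := Subgroup.normalizer (Z : Set X) with hL
  have hLH : L ⊔ H = ⊤ := Sylow.normalizer_sup_eq_top P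
  -- `L` meets `W` in the kernel of `φ`
  have hLW : ∀ w : W, (w : X) ∈ L → φ w = 1 := by
    intro w hw
    have h1 : (w : X) * z * (w : X)⁻¹ * z⁻¹ ∈ Z :=
      mul_mem ((Subgroup.mem_normalizer_iff.mp hw z).mp hzZ) (inv_mem hzZ)
    have h2 : z * (w : X)⁻¹ * z⁻¹ ∈ W := (inferInstance : W.Normal).conj_mem _ (inv_mem w.2) z
    have h3 : (w : X) * z * (w : X)⁻¹ * z⁻¹ ∈ W := by
      have := mul_mem w.2 h2
      simpa [mul_assoc] using this
    have h4 : φ ⟨_, h3⟩ = 1 := by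
      obtain ⟨j, hj⟩ := hZp ⟨_, h1⟩
      have hj' : (⟨_, h3⟩ : W) ^ 2 ^ j = 1 :=
        Subtype.ext (by rw [SubgroupClass.coe_pow]; exact congrArg Subtype.val hj)
      have h5 : (φ ⟨_, h3⟩) ^ 2 ^ j = 1 := by rw [← map_pow, hj', map_one]
      have h6 : (φ ⟨_, h3⟩) ^ p = 1 := by
        apply Multiplicative.toAdd.injective
        simp
      rw [← orderOf_eq_one_iff]
      exact Nat.eq_one_of_dvd_coprimes (((Nat.coprime_primes Nat.prime_two hp.out).mpr (Ne.symm hp2)).pow_left j)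
        (orderOf_dvd_of_pow_eq_one h5) (orderOf_dvd_of_pow_eq_one h6)
    have h7 : (⟨_, h3⟩ : W) = w * ⟨_, h2⟩ := Subtype.ext (by simp [mul_assoc])
    have h8 := heq z w⁻¹ h2
    rw [h7, map_mul] at h4
    have h9 : (φ w).toAdd + (φ w).toAdd = 0 := by
      have h10 := congrArg Multiplicative.toAdd h4
      rw [toAdd_mul, show (⟨z * (w : X)⁻¹ * z⁻¹, h2⟩ : W) = ⟨z * ((w⁻¹ : W) : X) * z⁻¹, h2⟩ from rfl, h8,
        hρz, map_inv, toAdd_inv, hm] at h10
      simpa [Matrix.neg_mulVec, Matrix.mulVec_neg] using h10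
    apply Multiplicative.toAdd.injective
    funext i
    have h11 := congrFun h9 i
    simp only [Pi.add_apply, Pi.zero_apply] at h11
    have h12 : (2 : ZMod p) ≠ 0 := by
      intro h
      have h13 : ((2 : ℕ) : ZMod p) = 0 := by exact_mod_cast h
      rw [ZMod.natCast_eq_zero_iff] at h13
      exact hp2 ((Nat.prime_dvd_prime_iff_eq hp.out Nat.prime_two).mp h13)
    rw [← two_mul] at h11
    simpa using (mul_eq_zero.mp h11).resolve_left h12
  have hρL : ∀ A : SL₂, ∃ l ∈ L, ρ l = A := by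
    intro A
    obtain ⟨g, rfl⟩ := hρ A
    obtain ⟨l, hl, h, hh, rfl⟩ := Subgroup.mem_sup_of_normal_right.mp (hLH ▸ Subgroup.mem_top g : g ∈ L ⊔ H)
    obtain ⟨i, hi⟩ := Subgroup.mem_zpowers_iff.mp (show ρ h ∈ Subgroup.zpowers m from hh)
    refine ⟨l * z ^ i, mul_mem hl (zpow_mem (Subgroup.le_normalizer hzZ) i), ?_⟩
    rw [map_mul, map_mul, map_zpow, hρz, hi]
  -- the map on `W L`
  set M := W ⊔ L with hM
  have hdec : ∀ x : M, ∃ w : W, ∃ l ∈ L, (w : X) * l = x := fun x => by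
    obtain ⟨w, hw, l, hl, h⟩ := Subgroup.mem_sup_of_normal_left.mp x.2
    exact ⟨⟨w, hw⟩, l, hl, h⟩
  choose wp lp hlp hwl using hdec
  have hkey : ∀ (x : M) (w : W) (l : X), l ∈ L → (w : X) * l = x →
      φ (wp x) = φ w ∧ ρ (x : X) = ρ l := by
    intro x w l hl h
    refine ⟨?_, by rw [← h, map_mul, hWρ _ w.2, one_mul]⟩
    have h1 : ((w⁻¹ * wp x : W) : X) = l * (lp x)⁻¹ := by
      rw [Subgroup.coe_mul, Subgroup.coe_inv, inv_mul_eq_iff_eq_mul, ← mul_assoc, h, ← hwl x,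
        mul_inv_cancel_right]
    have h2 := hLW (w⁻¹ * wp x) (by rw [h1]; exact mul_mem hl (inv_mem (hlp x)))
    rw [map_mul, map_inv, inv_mul_eq_one] at h2
    exact h2.symm
  let f : M → ↥(Cfsg.qdOver (ZMod p)) := fun x => LocalEven.Qd.el (ρ (x : X)) (φ (wp x)).toAdd
  have hf : ∀ x y : M, f (x * y) = f x * f y := by
    intro x y
    show _ = LocalEven.Qd.el _ _ * LocalEven.Qd.el _ _
    rw [LocalEven.Qd.el_mul]
    have hconj : lp x * (wp y : X) * (lp x)⁻¹ ∈ W := (inferInstance : W.Normal).conj_mem _ (wp y).2 _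
    have h := hkey (x * y) (wp x * ⟨_, hconj⟩) (lp x * lp y) (mul_mem (hlp x) (hlp y)) (by
      rw [Subgroup.coe_mul, Subgroup.coe_mul, ← hwl x, ← hwl y]; group)
    show LocalEven.Qd.el _ _ = _
    rw [h.1, map_mul, toAdd_mul, heq, Subgroup.coe_mul, map_mul, (hkey x _ _ (hlp x) (hwl x)).2, add_comm]
  let F : M →* ↥(Cfsg.qdOver (ZMod p)) := MonoidHom.mk' f hf
  have hF : Function.Surjective F := by
    intro y
    obtain ⟨A, v, rfl⟩ := LocalEven.Qd.el_surj y
    obtain ⟨l, hl, rfl⟩ := hρL A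
    obtain ⟨w, hw⟩ := hφ (Multiplicative.ofAdd v)
    refine ⟨⟨(w : X) * l, Subgroup.mul_mem_sup w.2 hl⟩, ?_⟩
    have h := hkey ⟨(w : X) * l, Subgroup.mul_mem_sup w.2 hl⟩ w l hl rfl
    show LocalEven.Qd.el _ _ = _
    rw [h.1, hw, map_mul, hWρ _ w.2, one_mul]
    rfl
  exact involves_of_surjective F hF

/-- Two elements inducing the unit transvections on an abelian image of a subgroup give a `Qd(p)` section. -/
theorem involves_qd_of_gens (hp2 : p ≠ 2) {G : Type*} [Group G] [Finite G] (K : Subgroup G)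
    (φ : K →* Multiplicative V₂) (hφ : Function.Surjective φ) (b c : G)
    (hb : b ∈ Subgroup.normalizer (K : Set G)) (hc : c ∈ Subgroup.normalizer (K : Set G))
    (hbφ : ∀ (k : K) (h : b * (k : G) * b⁻¹ ∈ K), (φ ⟨_, h⟩).toAdd = (upT p).1 *ᵥ (φ k).toAdd)
    (hcφ : ∀ (k : K) (h : c * (k : G) * c⁻¹ ∈ K), (φ ⟨_, h⟩).toAdd = (loT p).1 *ᵥ (φ k).toAdd) :
    Cfsg.Involves ↥(Cfsg.qd p) G := by
  classical
  let Acts : G → SL₂ → Prop := fun g A =>
    g ∈ Subgroup.normalizer (K : Set G) ∧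
      ∀ (k : K) (h : g * (k : G) * g⁻¹ ∈ K), (φ ⟨_, h⟩).toAdd = A.1 *ᵥ (φ k).toAdd
  have hone : Acts 1 1 := ⟨one_mem _, fun k h => by simp⟩
  have hmul : ∀ g g' A A', Acts g A → Acts g' A' → Acts (g * g') (A * A') := by
    intro g g' A A' hg hg'
    refine ⟨mul_mem hg.1 hg'.1, fun k h => ?_⟩
    have h1 : g' * (k : G) * g'⁻¹ ∈ K := (Subgroup.mem_normalizer_iff.mp hg'.1 _).mp k.2
    have h2 : g * (g' * (k : G) * g'⁻¹) * g⁻¹ ∈ K := (Subgroup.mem_normalizer_iff.mp hg.1 _).mp h1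
    rw [show (⟨_, h⟩ : K) = ⟨_, h2⟩ from Subtype.ext (by group), hg.2 ⟨_, h1⟩ h2, hg'.2 k h1,
      Matrix.mulVec_mulVec, ← Matrix.SpecialLinearGroup.coe_mul]
  have hinv : ∀ g A, Acts g A → Acts g⁻¹ A⁻¹ := by
    intro g A hg
    refine ⟨inv_mem hg.1, fun k h => ?_⟩
    have h1 : g * (g⁻¹ * (k : G) * g⁻¹⁻¹) * g⁻¹ ∈ K := by simp [mul_assoc]
    have h2 := hg.2 ⟨_, h⟩ h1
    rw [show (⟨_, h1⟩ : K) = k from Subtype.ext (by group)] at h2
    rw [h2, Matrix.mulVec_mulVec, ← Matrix.SpecialLinearGroup.coe_mul, inv_mul_cancel,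
      Matrix.SpecialLinearGroup.coe_one, Matrix.one_mulVec]
  have huniq : ∀ g A A', Acts g A → Acts g A' → A = A' := by
    intro g A A' hg hg'
    refine mulVec_ext fun v => ?_
    obtain ⟨k, hk⟩ := hφ (Multiplicative.ofAdd v)
    have h : g * (k : G) * g⁻¹ ∈ K := (Subgroup.mem_normalizer_iff.mp hg.1 _).mp k.2
    have e := (hg.2 k h).symm.trans (hg'.2 k h)
    simpa [hk] using e
  have hK : ∀ g ∈ K, Acts g 1 := fun g hg => ⟨Subgroup.le_normalizer hg, fun k h => by
    have e : φ (⟨g * (k : G) * g⁻¹, h⟩ : K) = φ k := by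
      rw [show (⟨g * (k : G) * g⁻¹, h⟩ : K) = ⟨g, hg⟩ * k * (⟨g, hg⟩ : K)⁻¹ from rfl, map_mul, map_mul,
        map_inv, mul_comm, inv_mul_cancel_left]
    rw [e]
    simp⟩
  set X : Subgroup G := K ⊔ Subgroup.closure {b, c} with hXdef
  have hX : ∀ x ∈ X, ∃ A, Acts x A := by
    let N : Subgroup G :=
      { carrier := {x | ∃ A, Acts x A}
        one_mem' := ⟨1, hone⟩
        mul_mem' := fun ⟨A, hA⟩ ⟨B, hB⟩ => ⟨A * B, hmul _ _ A B hA hB⟩
        inv_mem' := fun ⟨A, hA⟩ => ⟨A⁻¹, hinv _ A hA⟩ }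
    have h0 : K ≤ N := fun g hg => show ∃ A, Acts g A from ⟨1, hK g hg⟩
    have h1 : Subgroup.closure {b, c} ≤ N := by
      rw [Subgroup.closure_le]
      rintro x (rfl | rfl)
      · exact ⟨upT p, hb, hbφ⟩
      · exact ⟨loT p, hc, hcφ⟩
    exact fun x hx => (sup_le h0 h1 : X ≤ N) hx
  choose R hR using fun x : X => hX x x.2
  let ρ : X →* SL₂ := MonoidHom.mk' R fun x y =>
    huniq _ _ _ (hR (x * y)) (hmul _ _ _ _ (hR x) (hR y))
  haveI : (K.subgroupOf X).Normal := (Subgroup.normal_subgroupOf_iff_le_normalizer le_sup_left).mpr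
    fun x hx => (hR ⟨x, hx⟩).1
  have hρ : Function.Surjective ρ := by
    rw [← MonoidHom.range_eq_top, eq_top_iff, ← closure_upT_loT, Subgroup.closure_le]
    rintro A (rfl | rfl)
    · have hbX : b ∈ X := Subgroup.mem_sup_right (Subgroup.subset_closure (Or.inl rfl))
      exact ⟨⟨b, hbX⟩, huniq _ _ _ (hR _) ⟨hb, hbφ⟩⟩
    · have hcX : c ∈ X := Subgroup.mem_sup_right (Subgroup.subset_closure (Or.inr rfl))
      exact ⟨⟨c, hcX⟩, huniq _ _ _ (hR _) ⟨hc, hcφ⟩⟩
  let e := Subgroup.subgroupOfEquivOfLe (le_sup_left : K ≤ X)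
  obtain ⟨K', R', hR', ⟨iso⟩⟩ := involves_qd_of_action hp2 (K.subgroupOf X) (φ.comp e.toMonoidHom)
    (hφ.comp e.surjective) ρ hρ (fun g w h => (hR g).2 (e w) (Subgroup.mem_subgroupOf.mp h))
  -- push the section of `X` into `G`
  let f : K'.map X.subtype →* ↥(Cfsg.qd p) :=
    (iso.toMonoidHom.comp (QuotientGroup.mk' (R'.subgroupOf K'))).comp
      (K'.equivMapOfInjective X.subtype X.subtype_injective).symm.toMonoidHom
  exact involves_of_surjective f ((iso.surjective.comp (QuotientGroup.mk'_surjective _)).comp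
    (MulEquiv.surjective _))

end Cfsg.Agent.Lib.PLocal
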