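import Mathlib

/-!
Irreducible actions of a finite `q`-group over an algebraically closed field in which `q` is
invertible have `q`-power dimension.
-/

set_option autoImplicit false

namespace Cfsg.Agent.Lib.PLocal.QDim

universe u w

variable {F : Type*} [Field F] [IsAlgClosed F]

theorem schur {ι : Type*} {V : Type w} [AddCommGroup V] [Module F V] [FiniteDimensional F V]
    [Nontrivial V] (θ : ι → Module.End F V)
    (hirr : ∀ U : Submodule F V, (∀ g, ∀ v ∈ U, θ g v ∈ U) → U = ⊥ ∨ U = ⊤)
    (C : Module.End F V) (hC : ∀ g, θ g * C = C * θ g) : ∃ r : F, C = r • 1 := by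
  obtain ⟨r, hr⟩ := Module.End.exists_eigenvalue C
  refine ⟨r, ?_⟩
  have hinv : ∀ g, ∀ v ∈ Module.End.eigenspace C r, θ g v ∈ Module.End.eigenspace C r := by
    intro g v hv
    rw [Module.End.mem_eigenspace_iff] at hv ⊢
    rw [← Module.End.mul_apply, ← hC, Module.End.mul_apply, hv, map_smul]
  rcases hirr _ hinv with h | h
  · exact absurd h hr
  · exact LinearMap.ext fun w => Module.End.mem_eigenspace_iff.mp (h ▸ Submodule.mem_top : w ∈ _)

theorem finrank_eq_one {ι : Type*} {V : Type w} [AddCommGroup V] [Module F V]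
    [FiniteDimensional F V] [Nontrivial V] (θ : ι → Module.End F V)
    (hirr : ∀ U : Submodule F V, (∀ g, ∀ v ∈ U, θ g v ∈ U) → U = ⊥ ∨ U = ⊤)
    (hcomm : ∀ g h, θ g * θ h = θ h * θ g) : Module.finrank F V = 1 := by
  obtain ⟨v, hv⟩ := exists_ne (0 : V)
  refine finrank_eq_one_iff_of_nonzero v hv |>.2 ?_
  refine (hirr _ fun g u hu => ?_).resolve_left ?_
  · obtain ⟨r, hr⟩ := schur θ hirr (θ g) fun h => hcomm h g
    rw [hr]
    exact Submodule.smul_mem _ r hu
  · rw [Submodule.span_singleton_eq_bot]; exact hv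

theorem finrank_eq_pow {q : ℕ} [Fact q.Prime] (m : ℕ) :
    ∀ (P : Type u) [Group P] [Finite P], IsPGroup q P →
    ∀ (V : Type w) [AddCommGroup V] [Module F V] [FiniteDimensional F V] [Nontrivial V]
      (θ : P →* Module.End F V),
      (∀ U : Submodule F V, (∀ g, ∀ v ∈ U, θ g v ∈ U) → U = ⊥ ∨ U = ⊤) →
      Module.finrank F V = m → ∃ b : ℕ, m = q ^ b := by
  induction m using Nat.strong_induction_on with
  | _ m ih =>
    intro P _ _ hP V _ _ _ _ θ hirr hm
    by_cases hcomm : ∀ g h, θ g * θ h = θ h * θ g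
    · exact ⟨0, by rw [← hm, finrank_eq_one (fun g => θ g) hirr hcomm, pow_zero]⟩
    let Q := θ.toHomUnits.range
    have hQp : IsPGroup q Q := hP.of_surjective _ θ.toHomUnits.rangeRestrict_surjective
    let π := θ.toHomUnits.rangeRestrict
    haveI : Finite Q := Finite.of_surjective π θ.toHomUnits.rangeRestrict_surjective
    haveI : Group.IsNilpotent Q := hQp.isNilpotent
    have hθπ : ∀ g, ((π g : (Module.End F V)ˣ) : Module.End F V) = θ g := fun g => rfl
    have hsc : ∀ c : Q, c ∈ Subgroup.center Q →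
        ∃ r : F, ((c : (Module.End F V)ˣ) : Module.End F V) = r • 1 := by
      intro c hc
      refine schur (fun g => θ g) hirr _ fun g => ?_
      exact congrArg (fun q : Q => ((q : (Module.End F V)ˣ) : Module.End F V))
        ((Subgroup.mem_center_iff.mp hc) (π g))
    obtain ⟨a, haZ, hac⟩ : ∃ a : Q, a ∉ Subgroup.center Q ∧
        ∀ b, b * a * b⁻¹ * a⁻¹ ∈ Subgroup.center Q := by
      have hne : Subgroup.center Q ≠ ⊤ := fun h => hcomm fun g h' => congrArg
        (fun q : Q => ((q : (Module.End F V)ˣ) : Module.End F V))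
        ((Subgroup.mem_center_iff.mp (show π h' ∈ Subgroup.center Q by rw [h]; trivial)) (π g))
      haveI : Nontrivial (Q ⧸ Subgroup.center Q) := QuotientGroup.nontrivial_iff.mpr hne
      obtain ⟨⟨c, hc⟩, hc1⟩ := Subgroup.ne_bot_iff_exists_ne_one.mp
        ((Subgroup.nontrivial_iff_ne_bot (Subgroup.center (Q ⧸ Subgroup.center Q))).mp
          ((hQp.to_quotient _).center_nontrivial))
      obtain ⟨a, rfl⟩ := QuotientGroup.mk'_surjective _ c
      refine ⟨a, fun ha => hc1 (Subtype.ext ((QuotientGroup.eq_one_iff a).mpr ha)), fun b => ?_⟩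
      rw [← QuotientGroup.eq_one_iff, QuotientGroup.mk_mul, QuotientGroup.mk_mul,
        QuotientGroup.mk_mul, QuotientGroup.mk_inv, QuotientGroup.mk_inv]
      have := Subgroup.mem_center_iff.mp hc (b : Q ⧸ Subgroup.center Q)
      rw [QuotientGroup.mk'_apply] at this
      rw [this, mul_inv_cancel_right, mul_inv_cancel]
    let A : Module.End F V := ((a : (Module.End F V)ˣ) : Module.End F V)
    have hχ : ∀ g, ∃ r : F, θ g * A = (r • A) * θ g := by
      intro g
      obtain ⟨r, hr⟩ := hsc _ (hac (π g))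
      refine ⟨r, ?_⟩
      have e : π g * a = (π g * a * (π g)⁻¹ * a⁻¹) * a * π g := by group
      have := congrArg (fun q : Q => ((q : (Module.End F V)ˣ) : Module.End F V)) e
      simp only [Subgroup.coe_mul, Units.val_mul, hθπ] at this hr
      rw [this, hr, smul_mul_assoc r (1 : Module.End F V) A, one_mul]
    choose χ hχ using hχ
    obtain ⟨l, hl⟩ := Module.End.exists_eigenvalue A
    have hAinv : ∀ v, ((((a : (Module.End F V)ˣ))⁻¹ : (Module.End F V)ˣ) : Module.End F V) (A v) = v :=
      fun v => by rw [← Module.End.mul_apply, Units.inv_mul]; rfl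
    have hl0 : l ≠ 0 := by
      rintro rfl
      obtain ⟨v, hv⟩ := hl.exists_hasEigenvector
      have h1 := hv.apply_eq_smul
      rw [zero_smul] at h1
      exact hv.2 (by rw [← hAinv v, h1, map_zero])
    let W := Module.End.eigenspace A l
    have happ : ∀ g v, θ g (A v) = χ g • A (θ g v) := fun g v => by
      simpa using LinearMap.congr_fun (hχ g) v
    have hinjg : ∀ g, Function.Injective (θ g) := fun g v w h => by
      have := congrArg (θ g⁻¹) h
      rw [← Module.End.mul_apply, ← Module.End.mul_apply, ← map_mul, inv_mul_cancel, map_one] at this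
      exact this
    have hχ0 : ∀ g, χ g ≠ 0 := fun g h => by
      obtain ⟨v, hv⟩ := exists_ne (0 : V)
      refine hv ?_
      rw [← hAinv v, hinjg g (show θ g (A v) = θ g 0 by rw [map_zero, happ, h, zero_smul]), map_zero]
    have htr : ∀ g, ∀ v ∈ W, A (θ g v) = ((χ g)⁻¹ * l) • θ g v := by
      intro g v hv
      rw [mul_smul, ← map_smul, ← Module.End.mem_eigenspace_iff.mp hv, happ, smul_smul,
        inv_mul_cancel₀ (hχ0 g), one_smul]
    have hA : ∀ r r' : F, r • A = r' • A → r = r' := by
      intro r r' h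
      by_contra hne
      have h2 : (r - r') • A = 0 := by rw [sub_smul, h, sub_self]
      rw [smul_eq_zero, sub_eq_zero] at h2
      obtain ⟨v, hv⟩ := exists_ne (0 : V)
      exact hv (by rw [← hAinv v, h2.resolve_left hne]; exact map_zero _)
    have hχmul : ∀ g h, χ (g * h) = χ g * χ h := by
      intro g h
      apply hA
      refine LinearMap.ext fun v => ?_
      obtain ⟨w, rfl⟩ : ∃ w, θ (g * h) w = v := ⟨θ (g * h)⁻¹ v, by
        rw [← Module.End.mul_apply, ← map_mul, mul_inv_cancel, map_one]; rfl⟩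
      rw [LinearMap.smul_apply, ← happ, LinearMap.smul_apply, map_mul, Module.End.mul_apply, happ,
        map_smul, Module.End.mul_apply, happ, smul_smul, mul_comm]
    have hχ1 : χ 1 = 1 := hA _ _ (by
      have := hχ 1
      rw [map_one, one_mul, mul_one] at this
      rw [one_smul]; exact this.symm)
    let X : P →* F := { toFun := χ, map_one' := hχ1, map_mul' := hχmul }
    let M : Subgroup P := X.toHomUnits.ker
    have hXM : ∀ g, g ∈ M ↔ χ g = 1 := fun g => by
      show X.toHomUnits g = 1 ↔ _
      rw [Units.ext_iff]; rfl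
    classical
    haveI := Fintype.ofFinite (P ⧸ M)
    let rep : P ⧸ M → P := fun c => c.out
    have hmem : ∀ g, ∃ c : P ⧸ M, ∃ k ∈ M, g = rep c * k := fun g =>
      ⟨g, (rep g)⁻¹ * g, QuotientGroup.eq.1 (QuotientGroup.out_eq' _), by rw [mul_inv_cancel_left]⟩
    -- `U ↦ ⨆ translates` for invariant `U ≤ W`
    have hsum : ∀ U : Submodule F V, (∀ k ∈ M, ∀ v ∈ U, θ k v ∈ U) → U ≠ ⊥ →
        (⨆ c : P ⧸ M, U.map (θ (rep c))) = ⊤ := by
      intro U hU hU0
      refine (hirr _ fun h v hv => ?_).resolve_left fun h => hU0 ?_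
      · have : (⨆ c : P ⧸ M, U.map (θ (rep c))) ≤
            (⨆ c : P ⧸ M, U.map (θ (rep c))).comap (θ h) := iSup_le fun c => by
          rintro _ ⟨w, hw, rfl⟩
          obtain ⟨c', k, hk, he⟩ := hmem (h * rep c)
          refine Submodule.mem_comap.mpr (Submodule.mem_iSup_of_mem c' ⟨θ k w, hU k hk w hw, ?_⟩)
          rw [← Module.End.mul_apply, ← map_mul, ← he, map_mul]; rfl
        exact this hv
      · have h1 : U.map (θ (rep (QuotientGroup.mk 1))) = ⊥ :=
          eq_bot_iff.2 (h ▸ le_iSup (fun c : P ⧸ M => U.map (θ (rep c))) _)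
        exact Submodule.map_injective_of_injective (hinjg _) (h1.trans (Submodule.map_bot _).symm)
    have hWinv : ∀ k ∈ M, ∀ v ∈ W, θ k v ∈ W := fun k hk v hv => by
      rw [Module.End.mem_eigenspace_iff, htr k v hv, (hXM k).1 hk, inv_one, one_mul]
    have hWind : iSupIndep fun c : P ⧸ M => W.map (θ (rep c)) := by
      have hinj : Function.Injective fun c : P ⧸ M => (χ (rep c))⁻¹ * l := fun c c' h => by
        have h' : χ (rep c) = χ (rep c') := inv_injective (mul_right_cancel₀ hl0 h)
        rw [← QuotientGroup.out_eq' c, ← QuotientGroup.out_eq' c']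
        refine QuotientGroup.eq.2 ((hXM _).2 ?_)
        have e : χ (rep c')= χ (rep c) * χ ((rep c)⁻¹ * rep c') := by
          rw [← hχmul, mul_inv_cancel_left]
        rw [← h'] at e
        exact (mul_eq_left₀ (hχ0 _)).1 e.symm
      refine ((Module.End.eigenspaces_iSupIndep A).comp hinj).mono fun c => ?_
      rintro _ ⟨w, hw, rfl⟩
      exact Module.End.mem_eigenspace_iff.2 (htr _ w hw)
    have hdim : ∀ U : Submodule F V, U ≤ W → (∀ k ∈ M, ∀ v ∈ U, θ k v ∈ U) → U ≠ ⊥ →
        m = Fintype.card (P ⧸ M) * Module.finrank F U := by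
      intro U hUW hU hU0
      have hind : iSupIndep fun c : P ⧸ M => U.map (θ (rep c)) :=
        hWind.mono fun c => Submodule.map_mono hUW
      have hds : DirectSum.IsInternal fun c : P ⧸ M => U.map (θ (rep c)) :=
        DirectSum.isInternal_submodule_iff_iSupIndep_and_iSup_eq_top _ |>.2 ⟨hind, hsum U hU hU0⟩
      rw [← hm, ← (LinearEquiv.ofBijective (DirectSum.coeLinearMap _) hds).finrank_eq,
        Module.finrank_directSum, ← smul_eq_mul, ← Finset.card_univ, ← Finset.sum_const]
      exact Finset.sum_congr rfl fun c _ =>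
        (Submodule.equivMapOfInjective _ (hinjg _) U).finrank_eq.symm
    have hWne : W ≠ ⊥ := hl
    haveI : Nontrivial W := Submodule.nontrivial_iff_ne_bot.2 hWne
    let θM : M →* Module.End F W :=
      { toFun := fun g => (θ (g : P)).restrict (hWinv g g.2)
        map_one' := LinearMap.ext fun y => Subtype.ext (by
          show θ ((1 : M) : P) (y : V) = y; rw [Subgroup.coe_one, map_one]; rfl)
        map_mul' := fun a b => LinearMap.ext fun y => Subtype.ext (by
          show θ ((a * b : M) : P) (y : V) = θ (a : P) (θ (b : P) y)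
          rw [Subgroup.coe_mul, map_mul]; rfl) }
    have hirrW : ∀ U : Submodule F W, (∀ g, ∀ v ∈ U, θM g v ∈ U) → U = ⊥ ∨ U = ⊤ := by
      intro U hU
      rcases eq_or_ne U ⊥ with h | h
      · exact Or.inl h
      right
      have h1 := hdim (U.map W.subtype) (Submodule.map_subtype_le _ _) (fun k hk v hv => by
        obtain ⟨w, hw, rfl⟩ := hv
        exact ⟨θM ⟨k, hk⟩ w, hU _ w hw, rfl⟩) (by
        exact fun h2 => h (Submodule.map_injective_of_injective W.subtype_injective (h2.trans (Submodule.map_bot _).symm)))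
      have h2 := hdim W le_rfl hWinv hWne
      refine Submodule.eq_top_of_finrank_eq ?_
      rw [(Submodule.equivMapOfInjective _ W.subtype_injective U).finrank_eq]
      exact Nat.eq_of_mul_eq_mul_left Fintype.card_pos (h1.symm.trans h2)
    have h2 := hdim W le_rfl hWinv hWne
    obtain ⟨g₀, hg₀⟩ : ∃ g₀, χ g₀ ≠ 1 := by
      by_contra hcon
      push Not at hcon
      refine haZ (Subgroup.mem_center_iff.mpr fun b => ?_)
      obtain ⟨g, rfl⟩ := θ.toHomUnits.rangeRestrict_surjective b
      apply Subtype.ext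
      apply Units.ext
      show θ g * A = A * θ g
      rw [hχ g, hcon g, one_smul]
    obtain ⟨i, hi⟩ := hP.index M
    have hcard : Fintype.card (P ⧸ M) = q ^ i := by rw [← Nat.card_eq_fintype_card]; exact hi
    have hi1 : 1 < q ^ i := by
      rw [← hcard, Fintype.one_lt_card_iff]
      exact ⟨QuotientGroup.mk 1, QuotientGroup.mk g₀, fun h => hg₀ ((hXM _).1 (by
        simpa using QuotientGroup.eq.1 h))⟩
    have hW0 : 0 < Module.finrank F W := Module.finrank_pos
    obtain ⟨b, hb⟩ := ih (Module.finrank F W) (by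
      rw [h2, hcard]; exact lt_mul_left hW0 hi1) M (hP.to_subgroup M) W θM hirrW rfl
    exact ⟨i + b, by rw [h2, hcard, hb, pow_add]⟩

end Cfsg.Agent.Lib.PLocal.QDim
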