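import Cfsg.Agent.Lib.PLocal.GZJ

/-!
The prelude's `Z(J(S))` variants as intersections of largest (elementary) abelian subgroups.
-/

set_option autoImplicit false
set_option linter.style.haveILetI false

namespace Cfsg.Agent.Lib.PLocal

variable {G : Type*} [Group G]

lemma elemAb_zero {A : Subgroup G} (h : IsMulCommutative A) : Cfsg.IsElementaryAbelian 0 A :=
  ⟨h, fun a _ => pow_zero a⟩

lemma maxIn_zero_iff {S A : Subgroup G} :
    MaxIn 0 S A ↔ A ∈ (fun X : Subgroup S => X.map S.subtype) '' Cfsg.maxAbelianSubgroups S := by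
  constructor
  · intro hA
    have hmap : (A.subgroupOf S).map S.subtype = A := by
      rw [Subgroup.subgroupOf_map_subtype, inf_eq_left.mpr hA.1]
    refine ⟨A.subgroupOf S, ⟨(elemAb_of_map S.subtype_injective (hmap.symm ▸ hA.2.1 : Cfsg.IsElementaryAbelian 0 ((A.subgroupOf S).map S.subtype))).1, fun X hX => ?_⟩, hmap⟩
    have h1 := hA.2.2 (X.map S.subtype) (Subgroup.map_subtype_le _)
      (elemAb_map (elemAb_zero hX) _)
    rwa [← hmap, Subgroup.card_map_of_injective S.subtype_injective,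
      Subgroup.card_map_of_injective S.subtype_injective] at h1
  · rintro ⟨X, hX, rfl⟩
    have hX' : MaxIn 0 (⊤ : Subgroup S) X :=
      ⟨le_top, elemAb_zero hX.1, fun Y _ hY => hX.2 Y hY.1⟩
    have h := maxIn_map S.subtype S.subtype_injective hX'
    rwa [← MonoidHom.range_eq_map, Subgroup.range_subtype] at h

lemma maxIn_prime_iff {p : ℕ} {S A : Subgroup G} :
    MaxIn p S A ↔ A ∈ (fun X : Subgroup S => X.map S.subtype) '' Cfsg.maxElementaryAbelianSubgroups p S := by
  constructor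
  · intro hA
    have hmap : (A.subgroupOf S).map S.subtype = A := by
      rw [Subgroup.subgroupOf_map_subtype, inf_eq_left.mpr hA.1]
    refine ⟨A.subgroupOf S, ⟨elemAb_of_map S.subtype_injective (by rw [hmap]; exact hA.2.1), fun X hX => ?_⟩, hmap⟩
    have h1 := hA.2.2 (X.map S.subtype) (Subgroup.map_subtype_le _) (elemAb_map hX _)
    rwa [← hmap, Subgroup.card_map_of_injective S.subtype_injective,
      Subgroup.card_map_of_injective S.subtype_injective] at h1
  · rintro ⟨X, hX, rfl⟩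
    have hX' : MaxIn p (⊤ : Subgroup S) X := ⟨le_top, hX.1, fun Y _ hY => hX.2 Y hY⟩
    have h := maxIn_map S.subtype S.subtype_injective hX'
    rwa [← MonoidHom.range_eq_map, Subgroup.range_subtype] at h

variable [Finite G]

theorem zIn_zero_eq (S : Subgroup G) : zIn 0 S = Cfsg.centerThompsonAOf S := by
  have hle : ∀ A, MaxIn 0 S A → A ≤ Cfsg.thompsonSubgroupAOf S := by
    intro A hA
    obtain ⟨X, hX, rfl⟩ := maxIn_zero_iff.mp hA
    exact Subgroup.map_mono (le_sSup hX)
  apply le_antisymm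
  · intro x hx
    obtain ⟨A, hA⟩ := exists_maxIn 0 S
    refine Subgroup.mem_inf.mpr ⟨hle A hA (zIn_le hA hx), fun y hy => ?_⟩
    obtain ⟨y', hy', rfl⟩ := hy
    have hx' : x ∈ S := zIn_le_self 0 S hx
    have : Cfsg.thompsonSubgroupA S ≤ Subgroup.centralizer {(⟨x, hx'⟩ : S)} := by
      refine sSup_le fun X hX => ?_
      intro a ha
      rw [Subgroup.mem_centralizer_singleton_iff]
      have h1 := maxIn_zero_iff.mpr ⟨X, hX, rfl⟩
      exact Subtype.ext (commute_of_elemAb h1.2.1 ⟨a, ha, rfl⟩ (zIn_le h1 hx))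
    exact congrArg Subtype.val (Subgroup.mem_centralizer_singleton_iff.mp (this hy'))
  · intro x hx
    obtain ⟨hx1, hx2⟩ := Subgroup.mem_inf.mp hx
    refine mem_zIn (Subgroup.map_subtype_le _ hx1) (pow_zero x) fun A hA a ha => ?_
    exact (hx2 a (hle A hA ha)).symm

theorem zIn_prime_eq (p : ℕ) (S : Subgroup G) :
    zIn p S = (Cfsg.omegaCenterThompson p S).map S.subtype := by
  rw [← sInf_maxElemAb_eq]
  apply le_antisymm
  · intro x hx
    refine ⟨⟨x, zIn_le_self p S hx⟩, ?_, rfl⟩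
    rw [SetLike.mem_coe, Subgroup.mem_sInf]
    intro X hX
    obtain ⟨y, hy, hyx⟩ := zIn_le (maxIn_prime_iff.mpr ⟨X, hX, rfl⟩) hx
    have : y = ⟨x, zIn_le_self p S hx⟩ := Subtype.ext hyx
    exact this ▸ hy
  · rintro _ ⟨y, hy, rfl⟩
    rw [SetLike.mem_coe, Subgroup.mem_sInf] at hy
    rw [zIn, Subgroup.mem_sInf]
    intro A hA
    obtain ⟨X, hX, rfl⟩ := maxIn_prime_iff.mp hA
    exact ⟨y, hy X hX, rfl⟩

end Cfsg.Agent.Lib.PLocal
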