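import Cfsg.Agent.Lib.PLocal.GReplace
import Cfsg.Agent.Lib.PLocal.StableNormal
import Cfsg.Agent.Lib.Transfer.Focal
import Mathlib.GroupTheory.Nilpotent

/-!
Glauberman's `ZJ` theorem, uniformly for abelian (`e = 0`) and elementary abelian (`e = p`) subgroups
of largest order. `IsElementaryAbelian e A` reads: `A` is abelian of exponent dividing `e`.
-/

set_option autoImplicit false
set_option linter.style.haveILetI false

namespace Cfsg.Agent.Lib.PLocal

open scoped commutatorElement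

variable {G : Type*} [Group G]

/-- `A` is a largest abelian subgroup of exponent dividing `e` of `S`. -/
def MaxIn (e : ℕ) (S A : Subgroup G) : Prop :=
  A ≤ S ∧ Cfsg.IsElementaryAbelian e A ∧
    ∀ B : Subgroup G, B ≤ S → Cfsg.IsElementaryAbelian e B → Nat.card B ≤ Nat.card A

/-- The intersection of the largest abelian subgroups of exponent dividing `e`. -/
def zIn (e : ℕ) (S : Subgroup G) : Subgroup G := sInf {A | MaxIn e S A}

lemma exists_maxIn [Finite G] (e : ℕ) (S : Subgroup G) : ∃ A, MaxIn e S A := by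
  obtain ⟨A, ⟨hA1, hA2⟩, hA3⟩ := Set.exists_max_image
    {A : Subgroup G | A ≤ S ∧ Cfsg.IsElementaryAbelian e A} (fun A => Nat.card A) (Set.toFinite _)
    ⟨⊥, bot_le, elemAb_bot⟩
  exact ⟨A, hA1, hA2, fun B h1 h2 => hA3 B ⟨h1, h2⟩⟩

lemma zIn_le {e : ℕ} {S A : Subgroup G} (hA : MaxIn e S A) : zIn e S ≤ A := sInf_le hA

lemma zIn_le_self [Finite G] (e : ℕ) (S : Subgroup G) : zIn e S ≤ S := by
  obtain ⟨A, hA⟩ := exists_maxIn e S
  exact (zIn_le hA).trans hA.1

lemma mem_zIn [Finite G] {e : ℕ} {S : Subgroup G} {x : G} (hx : x ∈ S) (hxe : x ^ e = 1)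
    (hc : ∀ A, MaxIn e S A → ∀ a ∈ A, Commute x a) : x ∈ zIn e S := by
  rw [zIn, Subgroup.mem_sInf]
  intro A hA
  have hX : Cfsg.IsElementaryAbelian e (Subgroup.closure ((A : Set G) ∪ {x})) := by
    refine elemAb_closure ?_ ?_
    · rintro a (ha | rfl) b (hb | rfl)
      · exact commute_of_elemAb hA.2.1 ha hb
      · exact (hc A hA a ha).eq.symm
      · exact (hc A hA b hb).eq
      · rfl
    · rintro a (ha | rfl)
      · exact hA.2.1.2 a ha
      · exact hxe
  have hle : Subgroup.closure ((A : Set G) ∪ {x}) ≤ S :=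
    (Subgroup.closure_le _).mpr (Set.union_subset hA.1 (Set.singleton_subset_iff.mpr hx))
  have hAX : A ≤ Subgroup.closure ((A : Set G) ∪ {x}) := fun a ha =>
    Subgroup.subset_closure (Or.inl ha)
  rw [Subgroup.eq_of_le_of_card_ge hAX (hA.2.2 _ hle hX)]
  exact Subgroup.subset_closure (Or.inr rfl)

lemma maxIn_map {H : Type*} [Group H] (f : G →* H) (hf : Function.Injective f) {e : ℕ}
    {S A : Subgroup G} (hA : MaxIn e S A) : MaxIn e (S.map f) (A.map f) := by
  refine ⟨Subgroup.map_mono hA.1, elemAb_map hA.2.1 f, fun B hB hBe => ?_⟩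
  obtain ⟨B', hB'S, rfl⟩ : ∃ B' : Subgroup G, B' ≤ S ∧ B'.map f = B := by
    refine ⟨B.comap f, fun x hx => ?_, Subgroup.map_comap_eq_self (hB.trans fun y hy => ?_)⟩
    · obtain ⟨y, hy, hye⟩ := hB hx
      exact hf hye ▸ hy
    · obtain ⟨s, -, rfl⟩ := hy
      exact ⟨s, rfl⟩
  rw [Subgroup.card_map_of_injective hf, Subgroup.card_map_of_injective hf]
  exact hA.2.2 _ hB'S (elemAb_of_map hf hBe)

lemma map_zIn [Finite G] (f : G ≃* G) (e : ℕ) (S : Subgroup G) :
    (zIn e S).map f.toMonoidHom = zIn e (S.map f.toMonoidHom) := by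
  have key : ∀ (f : G ≃* G) (S : Subgroup G),
      (zIn e S).map f.toMonoidHom ≤ zIn e (S.map f.toMonoidHom) := by
    rintro f S _ ⟨x, hx, rfl⟩
    rw [zIn, Subgroup.mem_sInf]
    intro A hA
    have h1 : MaxIn e S (A.map f.symm.toMonoidHom) := by
      have h2 := maxIn_map f.symm.toMonoidHom f.symm.injective hA
      rwa [Subgroup.map_map, show f.symm.toMonoidHom.comp f.toMonoidHom = MonoidHom.id G from
        MonoidHom.ext f.symm_apply_apply, Subgroup.map_id] at h2
    obtain ⟨a, ha, hax⟩ := zIn_le h1 hx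
    have : f x = a := by rw [← hax]; exact f.apply_symm_apply a
    exact this ▸ ha
  refine le_antisymm (key f S) fun x hx => ?_
  have h1 := key f.symm (S.map f.toMonoidHom) ⟨x, hx, rfl⟩
  rw [Subgroup.map_map, show f.symm.toMonoidHom.comp f.toMonoidHom = MonoidHom.id G from
    MonoidHom.ext f.symm_apply_apply, Subgroup.map_id] at h1
  exact ⟨_, h1, f.apply_symm_apply x⟩

lemma normalizer_le_normalizer_zIn [Finite G] (e : ℕ) (S : Subgroup G) :
    Subgroup.normalizer (S : Set G) ≤ Subgroup.normalizer (zIn e S : Set G) := fun g hg => by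
  rw [Subgroup.mem_normalizer_iff_map_conj_eq] at hg ⊢
  exact (map_zIn (MulAut.conj g) e S).trans (congrArg (zIn e) hg)

/-- Glauberman's replacement, for a normal subgroup `D` and a largest subgroup `A` of `D`. -/
theorem exists_replace [Finite G] {p : ℕ} [Fact p.Prime] (hG : IsPGroup p G) (hp : p ≠ 2) {e : ℕ}
    (he : Odd e ∨ e = 0) (D : Subgroup G) [D.Normal] (B : Subgroup G) [B.Normal] {A : Subgroup G}
    (hA : MaxIn e D A) (hBA : ⁅B, B⁆ ≤ A) (hnot : ¬ B ≤ Subgroup.normalizer (A : Set G)) :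
    ∃ A', MaxIn e D A' ∧ ⁅B, B⁆ ≤ A' ∧ A ⊓ B < A' ⊓ B ∧ A' ≤ Subgroup.normalizer (A : Set G) ∧
      ¬ B ≤ A' := by
  -- an element of `B` normalizing `N(A)` but not `A`
  obtain ⟨b, hb, hbN, hbA⟩ : ∃ b ∈ B, b ∈ Subgroup.normalizer ((Subgroup.normalizer (A : Set G)) : Set G) ∧
      b ∉ Subgroup.normalizer (A : Set G) := by
    set N := Subgroup.normalizer (A : Set G) with hN
    haveI : Group.IsNilpotent ↥(B ⊔ N) := (hG.to_subgroup _).isNilpotent
    have hlt : N.subgroupOf (B ⊔ N) < ⊤ := by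
      rw [lt_top_iff_ne_top, Ne, Subgroup.subgroupOf_eq_top]
      exact fun h => hnot (le_sup_left.trans h)
    have hne := Group.normalizerCondition_of_isNilpotent (G := ↥(B ⊔ N)) _ hlt
    rw [← Subgroup.subgroupOf_normalizer_eq (le_sup_right : N ≤ B ⊔ N)] at hne
    obtain ⟨x, hx1, hx2⟩ := SetLike.exists_of_lt hne
    rw [Subgroup.mem_subgroupOf] at hx1 hx2
    obtain ⟨b, hb, n, hn, hbn⟩ := Subgroup.mem_sup_of_normal_left.mp x.2
    have hbe : b = (x : G) * n⁻¹ := by rw [← hbn]; group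
    refine ⟨b, hb, ?_, fun hbN => hx2 (hbn ▸ mul_mem hbN hn)⟩
    rw [hbe]
    exact mul_mem hx1 (inv_mem (Subgroup.le_normalizer hn))
  have hset : GSetting A B b := by
    refine ⟨inferInstance, hA.2.1.1, hBA, hb, hbN, hbA, fun u _ hu2 => ?_⟩
    obtain ⟨k, hk⟩ := IsPGroup.iff_orderOf.mp hG u
    refine orderOf_eq_one_iff.mp (Nat.eq_one_of_dvd_coprimes (a := p ^ k) (b := 2) ?_ ?_ ?_)
    · exact Nat.Coprime.pow_left k ((Nat.coprime_primes Fact.out Nat.prime_two).mpr hp)
    · rw [hk]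
    · exact orderOf_dvd_of_pow_eq_one hu2
  refine ⟨gRepl A b, ⟨hset.gRepl_le_sup.trans (sup_le hA.1 ?_), ⟨hset.gRepl_comm,
      hset.gRepl_pow he hA.2.1.2⟩, fun X hX hXe => hset.card_gRepl ▸ hA.2.2 X hX hXe⟩,
    hset.commutator_le.trans hset.inf_le_gRepl, hset.inf_lt_gRepl_inf, hset.gRepl_le_normalizer,
    fun h => hset.gRepl_inf_lt.ne (inf_eq_right.mpr h)⟩
  rintro _ ⟨a, ha, rfl⟩
  exact Subgroup.Normal.conj_mem inferInstance a (hA.1 ha) b⁻¹

/-- Among the largest subgroups of `D` containing `B'` but not `B` one is normalized by `B`. -/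
theorem exists_normalized [Finite G] {p : ℕ} [Fact p.Prime] (hG : IsPGroup p G) (hp : p ≠ 2) {e : ℕ}
    (he : Odd e ∨ e = 0) (D : Subgroup G) [D.Normal] (B : Subgroup G) [B.Normal]
    (hU : ∃ U, MaxIn e D U ∧ ⁅B, B⁆ ≤ U ∧ ¬ B ≤ U) :
    ∃ A, MaxIn e D A ∧ ⁅B, B⁆ ≤ A ∧ ¬ B ≤ A ∧ B ≤ Subgroup.normalizer (A : Set G) := by
  obtain ⟨A, ⟨hA1, hA2, hA3⟩, hmax⟩ := Set.exists_max_image
    {A : Subgroup G | MaxIn e D A ∧ ⁅B, B⁆ ≤ A ∧ ¬ B ≤ A} (fun A => Nat.card ↥(A ⊓ B))
    (Set.toFinite _) hU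
  refine ⟨A, hA1, hA2, hA3, ?_⟩
  by_contra hnot
  obtain ⟨A', h1, h2, h3, -, h5⟩ := exists_replace hG hp he D B hA1 hA2 hnot
  have h6 := hmax A' ⟨h1, h2, h5⟩
  exact h3.ne (Subgroup.eq_of_le_of_card_ge h3.le h6)

variable [Finite G] {p : ℕ} [hp : Fact p.Prime]

/-- Replacement inside a Sylow subgroup. -/
lemma exists_replace_sylow (hp2 : p ≠ 2) {e : ℕ} (he : Odd e ∨ e = 0) (S : Sylow p G)
    (B : Subgroup G) [B.Normal] (hBS : B ≤ (S : Subgroup G)) {A : Subgroup G}
    (hA : MaxIn e (S : Subgroup G) A) (hBA : ⁅B, B⁆ ≤ A)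
    (hnot : ¬ B ≤ Subgroup.normalizer (A : Set G)) :
    ∃ A', MaxIn e (S : Subgroup G) A' ∧ A ⊓ B < A' ⊓ B ∧ A' ≤ Subgroup.normalizer (A : Set G) := by
  set P := (S : Subgroup G) with hP
  set B₀ := B.subgroupOf P with hB₀
  set A₀ := A.subgroupOf P with hA₀
  have hBmap : B₀.map P.subtype = B := by
    rw [hB₀, Subgroup.subgroupOf_map_subtype, inf_eq_left.mpr hBS]
  have hAmap : A₀.map P.subtype = A := by
    rw [hA₀, Subgroup.subgroupOf_map_subtype, inf_eq_left.mpr hA.1]
  have htop : (⊤ : Subgroup P).map P.subtype = P := by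
    rw [← MonoidHom.range_eq_map, Subgroup.range_subtype]
  have hA₀max : MaxIn e (⊤ : Subgroup P) A₀ := by
    refine ⟨le_top, elemAb_of_map P.subtype_injective (hAmap ▸ hA.2.1), fun X _ hX => ?_⟩
    have h1 := hA.2.2 (X.map P.subtype) (Subgroup.map_subtype_le _) (elemAb_map hX _)
    rwa [← hAmap, Subgroup.card_map_of_injective P.subtype_injective,
      Subgroup.card_map_of_injective P.subtype_injective] at h1
  have hBA₀ : ⁅B₀, B₀⁆ ≤ A₀ := by
    rw [← Subgroup.map_le_map_iff_of_injective P.subtype_injective, Subgroup.map_commutator, hBmap,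
      hAmap]
    exact hBA
  have hnot₀ : ¬ B₀ ≤ Subgroup.normalizer (A₀ : Set P) := fun h => hnot (by
    rw [hA₀, ← Subgroup.subgroupOf_normalizer_eq hA.1] at h
    intro x hx
    exact h (show (⟨x, hBS hx⟩ : P) ∈ B₀ from hx))
  obtain ⟨A', h1, -, h3, h4, -⟩ :=
    exists_replace S.2 hp2 he (⊤ : Subgroup P) B₀ hA₀max hBA₀ hnot₀
  refine ⟨A'.map P.subtype, ?_, ?_, ?_⟩
  · have := maxIn_map P.subtype P.subtype_injective h1
    rwa [htop] at this
  · rw [← hAmap, ← hBmap, ← Subgroup.map_inf _ _ _ P.subtype_injective,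
      ← Subgroup.map_inf _ _ _ P.subtype_injective]
    exact Subgroup.map_lt_map_iff_of_injective P.subtype_injective |>.mpr h3
  · refine (Subgroup.map_mono h4).trans ?_
    rw [hA₀, ← Subgroup.subgroupOf_normalizer_eq hA.1, Subgroup.subgroupOf_map_subtype]
    exact inf_le_left

/-- The subgroup `D` with `D/C_G(B) = O_p(G/C_G(B))`. -/
lemma pStable_core {B : Subgroup G} [B.Normal] :
    ∃ D : Subgroup G, D.Normal ∧ Subgroup.centralizer (B : Set G) ≤ D ∧
      (∃ k, (Subgroup.centralizer (B : Set G)).relIndex D = p ^ k) ∧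
      (Cfsg.IsPStableOn p B →
        ∀ a : G, ⁅⁅B, Subgroup.zpowers a⁆, Subgroup.zpowers a⁆ = ⊥ → a ∈ D) := by
  set C := Subgroup.centralizer (B : Set G) with hC
  set π := QuotientGroup.mk' C with hπ
  haveI := Cfsg.pCore_normal p (G ⧸ C)
  refine ⟨(Cfsg.pCore p (G ⧸ C)).comap π, inferInstance, fun c hc => ?_, ?_, fun h a ha => h a ha⟩
  · rw [Subgroup.mem_comap, hπ, QuotientGroup.mk'_apply, (QuotientGroup.eq_one_iff c).mpr hc]
    exact one_mem _
  · obtain ⟨k, hk⟩ := IsPGroup.iff_card.mp (Cores.pCore_isPGroup p (G ⧸ C))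
    refine ⟨k, ?_⟩
    have h : ((⊥ : Subgroup (G ⧸ C)).comap π).relIndex ((Cfsg.pCore p (G ⧸ C)).comap π) =
        (⊥ : Subgroup (G ⧸ C)).relIndex (((Cfsg.pCore p (G ⧸ C)).comap π).map π) :=
      Subgroup.relIndex_comap _ _ _
    rwa [Subgroup.map_comap_eq_self_of_surjective (QuotientGroup.mk'_surjective C),
      MonoidHom.comap_bot, QuotientGroup.ker_mk', Subgroup.relIndex_bot_left, hk] at h

/-- For a normal `p`-subgroup `B` of a `p`-stable group, `Z(J(S)) ∩ B` is normal. -/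
theorem zIn_inf_normal (hp2 : p ≠ 2)
    (hst : ∀ (P : Subgroup G) [P.Normal], IsPGroup p P → Cfsg.IsPStableOn p P) {e : ℕ}
    (he : Odd e ∨ e = 0) (S : Sylow p G) : ∀ (B : Subgroup G) [B.Normal], B ≤ (S : Subgroup G) →
      (zIn e (S : Subgroup G) ⊓ B).Normal := by
  intro B
  induction hn : Nat.card B using Nat.strong_induction_on generalizing B with
  | _ n ih =>
    intro _ hBS
    subst hn
    set P := (S : Subgroup G) with hP
    set Z := zIn e P with hZ
    set Z₁ := Z ⊓ B with hZ₁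
    have hZP : P ≤ Subgroup.normalizer (Z : Set G) :=
      Subgroup.le_normalizer.trans (normalizer_le_normalizer_zIn e P)
    have hPZ₁ : P ≤ Subgroup.normalizer (Z₁ : Set G) := by
      intro s hs
      rw [Subgroup.mem_normalizer_iff]
      intro x
      rw [hZ₁, Subgroup.mem_inf, Subgroup.mem_inf, ← Subgroup.mem_normalizer_iff.mp (hZP hs) x]
      refine and_congr Iff.rfl ⟨fun hx => Subgroup.Normal.conj_mem inferInstance x hx s, fun hx => ?_⟩
      have := Subgroup.Normal.conj_mem (inferInstance : B.Normal) _ hx s⁻¹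
      rwa [show s⁻¹ * (s * x * s⁻¹) * s⁻¹⁻¹ = x by group] at this
    set B₁ := Subgroup.normalClosure (Z₁ : Set G) with hB₁
    have hB₁B : B₁ ≤ B := Subgroup.normalClosure_le_normal fun x hx => hx.2
    rcases hB₁B.lt_or_eq with hlt | heq
    · have hlt' : Nat.card B₁ < Nat.card B :=
        (Subgroup.card_le_of_le hlt.le).lt_of_ne fun h => hlt.ne (Subgroup.eq_of_le_of_card_ge hlt.le h.ge)
      have h1 := ih _ hlt' B₁ rfl (hB₁B.trans hBS)
      have : Z ⊓ B₁ = Z₁ := le_antisymm (inf_le_inf_left _ hB₁B)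
        (le_inf inf_le_left fun x hx => Subgroup.subset_normalClosure hx)
      rwa [this] at h1
    by_cases hBbot : B = ⊥
    · rw [hZ₁, hBbot, inf_bot_eq]; infer_instance
    -- `B' ≤ Z`
    have hBp : IsPGroup p B := S.2.to_le hBS
    haveI : (⁅B, B⁆).Normal := Subgroup.commutator_normal B B
    have hlt : ⁅B, B⁆ < B := Transfer.commutator_lt_self hBp hBbot
    set Z₂ := Z ⊓ ⁅B, B⁆ with hZ₂
    haveI hZ₂n : Z₂.Normal := ih _ ((Subgroup.card_le_of_le hlt.le).lt_of_ne fun h =>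
      hlt.ne (Subgroup.eq_of_le_of_card_ge hlt.le h.ge)) _ rfl (hlt.le.trans hBS)
    have hB'Z : ⁅B, B⁆ ≤ Z := by
      refine le_trans ?_ (inf_le_left : Z₂ ≤ Z)
      have key : ∀ x ∈ B₁, ∀ y ∈ B, ⁅x, y⁆ ∈ Z₂ := by
        intro x hx
        rw [hB₁, Subgroup.normalClosure] at hx
        induction hx using Subgroup.closure_induction with
        | mem x hx =>
          intro y hy
          obtain ⟨z, hz, hzx⟩ := Group.mem_conjugatesOfSet_iff.mp hx
          obtain ⟨g, rfl⟩ := isConj_iff.mp hzx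
          have hy' : g⁻¹ * y * g ∈ B := by
            simpa using Subgroup.Normal.conj_mem (inferInstance : B.Normal) y hy g⁻¹
          have h1 : ⁅z, g⁻¹ * y * g⁆ ∈ Z₂ := by
            refine Subgroup.mem_inf.mpr ⟨?_, Subgroup.commutator_mem_commutator hz.2 hy'⟩
            rw [commutatorElement_def, mul_assoc z _ z⁻¹, mul_assoc z]
            exact mul_mem hz.1
              ((Subgroup.mem_normalizer_iff.mp (hZP (hBS hy')) z⁻¹).mp (inv_mem hz.1))
          rw [show ⁅g * z * g⁻¹, y⁆ = g * ⁅z, g⁻¹ * y * g⁆ * g⁻¹ by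
            simp only [commutatorElement_def]; group]
          exact hZ₂n.conj_mem _ h1 g
        | one => intro y _; simp
        | mul a c _ _ ha hc =>
          intro y hy
          rw [show ⁅a * c, y⁆ = a * ⁅c, y⁆ * a⁻¹ * ⁅a, y⁆ by simp only [commutatorElement_def]; group]
          exact mul_mem (hZ₂n.conj_mem _ (hc y hy) a) (ha y hy)
        | inv a _ ha =>
          intro y hy
          rw [show ⁅a⁻¹, y⁆ = a⁻¹ * ⁅a, y⁆⁻¹ * a⁻¹⁻¹ by simp only [commutatorElement_def]; group]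
          exact hZ₂n.conj_mem _ (inv_mem (ha y hy)) a⁻¹
      rw [Subgroup.commutator_le]
      intro x hx y hy
      exact key x (heq.ge hx) y hy
    -- the largest normal subgroup normalizing `Z₁`
    set N₁ := Subgroup.normalizer (Z₁ : Set G) with hN₁
    set L := N₁.normalCore with hL
    have hLN : L ≤ N₁ := Subgroup.normalCore_le _
    obtain ⟨D, hD, hCD, ⟨k, hk⟩, hstab⟩ := pStable_core (p := p) (B := B)
    haveI := hD
    have hDL : D ≤ L := by
      refine (Subgroup.normal_le_normalCore).mpr ?_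
      refine (normal_le_sup_inf_sylow D _ hCD hk S).trans (sup_le ?_ (inf_le_left.trans hPZ₁))
      exact (Subgroup.centralizer_le (show (Z₁ : Set G) ⊆ B from fun x hx => hx.2)).trans
        (Subgroup.centralizer_le_normalizer _)
    set T := P ⊓ L with hT
    have hfrat : L ⊔ Subgroup.normalizer (T : Set G) = ⊤ := by
      have hp1 : IsPGroup p (T.subgroupOf L) :=
        (S.2.to_le inf_le_left).of_equiv (Subgroup.subgroupOfEquivOfLe inf_le_right).symm
      have hidx : ¬ p ∣ (T.subgroupOf L).index := by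
        rw [← Subgroup.relIndex, hT, Subgroup.inf_relIndex_right]
        exact fun h => S.not_dvd_index (h.trans (PGroups.relIndex_dvd_index_of_normal_right L _))
      have h := Sylow.normalizer_sup_eq_top (hp1.toSylow hidx)
      rw [IsPGroup.toSylow_coe, Subgroup.subgroupOf_map_subtype,
        inf_eq_left.mpr (inf_le_right : T ≤ L), sup_comm] at h
      exact h
    by_cases hall : ∀ A, MaxIn e P A → A ≤ L
    · -- `J(S) ≤ L`
      have hZT : zIn e T = Z := by
        rw [hZ, zIn, zIn]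
        congr 1
        ext A
        obtain ⟨A₁, hA₁⟩ := exists_maxIn e P
        constructor
        · intro hA
          exact ⟨hA.1.trans inf_le_left, hA.2.1, fun X hX hXe =>
            (hA₁.2.2 X hX hXe).trans (hA.2.2 A₁ (le_inf hA₁.1 (hall A₁ hA₁)) hA₁.2.1)⟩
        · intro hA
          exact ⟨le_inf hA.1 (hall A hA), hA.2.1, fun X hX hXe => hA.2.2 X (hX.trans inf_le_left) hXe⟩
      refine Subgroup.normalizer_eq_top_iff.mp (top_le_iff.mp (hfrat ▸ sup_le hLN ?_))
      intro g hg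
      have hgZ : g ∈ Subgroup.normalizer (Z : Set G) := hZT ▸ normalizer_le_normalizer_zIn e T hg
      rw [Subgroup.mem_normalizer_iff]
      intro x
      rw [hZ₁, Subgroup.mem_inf, Subgroup.mem_inf, ← Subgroup.mem_normalizer_iff.mp hgZ x]
      refine and_congr Iff.rfl ⟨fun hx => Subgroup.Normal.conj_mem inferInstance x hx g, fun hx => ?_⟩
      have := Subgroup.Normal.conj_mem (inferInstance : B.Normal) _ hx g⁻¹
      rwa [show g⁻¹ * (g * x * g⁻¹) * g⁻¹⁻¹ = x by group] at this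
    exfalso
    push Not at hall
    obtain ⟨A, ⟨hA, hAL⟩, hmax⟩ := Set.exists_max_image {A : Subgroup G | MaxIn e P A ∧ ¬ A ≤ L}
      (fun A => Nat.card ↥(A ⊓ B)) (Set.toFinite _) hall
    have hBA : ⁅B, B⁆ ≤ A := hB'Z.trans (zIn_le hA)
    by_cases hnorm : B ≤ Subgroup.normalizer (A : Set G)
    · refine hAL fun a ha => hDL (hstab (hst B hBp) a ?_)
      rw [Subgroup.commutator_eq_bot_iff_le_centralizer]
      refine le_trans ((Subgroup.commutator_mono le_rfl (Subgroup.zpowers_le.mpr ha)).trans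
        (Subgroup.le_normalizer_iff_commutator_le_right.mp hnorm)) ?_
      intro c hc z hz
      exact commute_of_elemAb hA.2.1 ((Subgroup.zpowers_le.mpr ha) hz) hc
    obtain ⟨A', hA', hlt', hA'N⟩ := exists_replace_sylow hp2 he S B hBS hA hBA hnorm
    have hA'L : A' ≤ L := by
      by_contra hne
      exact hlt'.ne (Subgroup.eq_of_le_of_card_ge hlt'.le (hmax A' ⟨hA', hne⟩))
    have hA'T : MaxIn e T A' := ⟨le_inf hA'.1 hA'L, hA'.2.1,
      fun X hX hXe => hA'.2.2 X (hX.trans inf_le_left) hXe⟩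
    have hZT : Z ≤ zIn e T := by
      refine le_sInf fun X hX => zIn_le ⟨hX.1.trans inf_le_left, hX.2.1, fun Y hY hYe => ?_⟩
      exact (hA'.2.2 Y hY hYe).trans (hX.2.2 A' hA'T.1 hA'T.2.1)
    have hBT : B₁ ≤ zIn e T := by
      rw [hB₁, Subgroup.normalClosure, Subgroup.closure_le]
      intro x hx
      obtain ⟨z, hz, hzx⟩ := Group.mem_conjugatesOfSet_iff.mp hx
      obtain ⟨g, rfl⟩ := isConj_iff.mp hzx
      obtain ⟨n, hn, l, hl, rfl⟩ : ∃ n ∈ Subgroup.normalizer (T : Set G), ∃ l ∈ L, n * l = g := by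
        have hg : g ∈ Subgroup.normalizer (T : Set G) ⊔ L := by rw [sup_comm, hfrat]; trivial
        exact Subgroup.mem_sup_of_normal_right.mp hg
      have h1 : l * z * l⁻¹ ∈ Z₁ := (Subgroup.mem_normalizer_iff.mp (hLN hl) z).mp hz
      have h2 := (Subgroup.mem_normalizer_iff.mp (normalizer_le_normalizer_zIn e T hn) _).mp
        (hZT h1.1)
      rw [SetLike.mem_coe, show n * l * z * (n * l)⁻¹ = n * (l * z * l⁻¹) * n⁻¹ by group]
      exact h2
    exact hnorm ((heq.ge.trans hBT).trans ((zIn_le hA'T).trans hA'N))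

/-- **Glauberman's `ZJ` theorem.** -/
theorem zIn_normal (hp2 : p ≠ 2)
    (hc : Subgroup.centralizer (Cfsg.pCore p G : Set G) ≤ Cfsg.pCore p G)
    (hst : ∀ (P : Subgroup G) [P.Normal], IsPGroup p P → Cfsg.IsPStableOn p P) {e : ℕ}
    (he : Odd e ∨ e = 0) (S : Sylow p G) : (zIn e (S : Subgroup G)).Normal := by
  haveI := Cfsg.pCore_normal p G
  set Q := Cfsg.pCore p G with hQ
  set Z := zIn e (S : Subgroup G) with hZ
  have hQS : Q ≤ (S : Subgroup G) := Cores.pCore_le_sylow S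
  have hZQ : Z ≤ Q := by
    obtain ⟨D, hD, hCD, ⟨k, hk⟩, hstab⟩ := pStable_core (p := p) (B := Q)
    intro z hz
    refine Cores.le_pCore hD ?_ (hstab (hst Q (Cores.pCore_isPGroup p G)) z ?_)
    · obtain ⟨m, hm⟩ := IsPGroup.iff_card.mp ((Cores.pCore_isPGroup p G).to_le hc)
      refine IsPGroup.of_card (n := m + k) ?_
      rw [pow_add, ← hm, ← hk, ← Subgroup.relIndex_bot_left, ← Subgroup.relIndex_bot_left]
      exact (Subgroup.relIndex_mul_relIndex _ _ _ bot_le hCD).symm
    · rw [Subgroup.commutator_eq_bot_iff_le_centralizer]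
      refine le_trans ((Subgroup.commutator_mono le_rfl (Subgroup.zpowers_le.mpr hz)).trans
        (Subgroup.le_normalizer_iff_commutator_le_right.mp
          (hQS.trans (Subgroup.le_normalizer.trans (normalizer_le_normalizer_zIn e _))))) ?_
      obtain ⟨A, hA⟩ := exists_maxIn e (S : Subgroup G)
      intro c hc w hw
      exact commute_of_elemAb hA.2.1 (zIn_le hA ((Subgroup.zpowers_le.mpr hz) hw)) (zIn_le hA hc)
  have h := zIn_inf_normal hp2 hst he S Q hQS
  rwa [inf_eq_left.mpr hZQ] at h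

theorem zIn_characteristic (hp2 : p ≠ 2)
    (hc : Subgroup.centralizer (Cfsg.pCore p G : Set G) ≤ Cfsg.pCore p G)
    (hst : ∀ (P : Subgroup G) [P.Normal], IsPGroup p P → Cfsg.IsPStableOn p P) {e : ℕ}
    (he : Odd e ∨ e = 0) (S : Sylow p G) : (zIn e (S : Subgroup G)).Characteristic := by
  have hn := zIn_normal hp2 hc hst he S
  rw [Subgroup.characteristic_iff_map_eq]
  intro φ
  obtain ⟨g, hg⟩ := MulAction.exists_smul_eq G S (S.mapSurjective (f := φ.toMonoidHom) φ.surjective)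
  have h1 : (S : Subgroup G).map φ.toMonoidHom = (S : Subgroup G).map (MulAut.conj g).toMonoidHom := by
    have h0 : ((S.mapSurjective (f := φ.toMonoidHom) φ.surjective : Sylow p G) : Subgroup G) =
        (S : Subgroup G).map φ.toMonoidHom := Sylow.coe_mapSurjective _ _
    rw [← h0, ← hg, Sylow.coe_subgroup_smul]
    rfl
  rw [map_zIn φ, h1, ← map_zIn (MulAut.conj g)]
  exact Subgroup.mem_normalizer_iff_map_conj_eq.mp (by rw [Subgroup.normalizer_eq_top]; trivial)

end Cfsg.Agent.Lib.PLocal
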