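import Cfsg.Agent.S0618
import Cfsg.Agent.Lib.Characters.Burnside
import Cfsg.Agent.Lib.Characters.SolvablePSolvable
import Cfsg.Agent.Lib.Blocks.PSolvable
import Cfsg.Agent.Lib.Cores.PCore
import Cfsg.Agent.Lib.PLocal.Factor
import Cfsg.Agent.Lib.Coprime.SylowNormalizes
import Cfsg.Agent.Lib.Components.Basic

/-!
# Moving characteristic subgroups of a Sylow subgroup in a group of order `p ^ a * q ^ b`
-/

set_option autoImplicit false

namespace Cfsg.Agent.Lib.PLocal.Automizer

open Cfsg Cfsg.Agent.Lib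

universe u

variable {p q : ℕ}

/-- All prime divisors of the order are `p` or `q`. -/
def IsPQ (p q : ℕ) (G : Type u) [Group G] : Prop :=
  ∀ r : ℕ, r.Prime → r ∣ Nat.card G → r = p ∨ r = q

/-- A characteristic subgroup of a subgroup, inside the group. -/
def CharIn {G : Type u} [Group G] (S K : Subgroup G) : Prop :=
  K ≤ S ∧ (K.subgroupOf S).Characteristic

theorem IsPQ.subgroup {G : Type u} [Group G] (h : IsPQ p q G) (Y : Subgroup G) : IsPQ p q Y :=
  fun r hr hd => h r hr (hd.trans (Subgroup.card_subgroup_dvd_card Y))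

theorem IsPQ.quotient {G : Type u} [Group G] (h : IsPQ p q G) (N : Subgroup G) [N.Normal] :
    IsPQ p q (G ⧸ N) :=
  fun r hr hd => h r hr (hd.trans (Subgroup.card_quotient_dvd_card N))

theorem IsPQ.isSolvable {G : Type u} [Group G] [Finite G] [hp : Fact p.Prime] [hq : Fact q.Prime]
    (hpq : p ≠ q) (h : IsPQ p q G) : Group.IsSolvable G := by
  refine Characters.isSolvable_of_card_eq_pow_mul_pow (p := p) (q := q)
    (a := (Nat.card G).factorization p) (b := (Nat.card G).factorization q) hp.out hq.out ?_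
  refine Nat.eq_of_factorization_eq Nat.card_pos.ne' (mul_pos (pow_pos hp.out.pos _) (pow_pos hq.out.pos _)).ne'
    fun r => ?_
  rw [Nat.factorization_mul (pow_pos hp.out.pos _).ne' (pow_pos hq.out.pos _).ne',
    hp.out.factorization_pow, hq.out.factorization_pow, Finsupp.add_apply]
  by_cases hr : r.Prime ∧ r ∣ Nat.card G
  · rcases h r hr.1 hr.2 with rfl | rfl
    · simp [hpq.symm]
    · simp [hpq]
  · rw [show (Nat.card G).factorization r = 0 from by
      rcases not_and_or.mp hr with h1 | h1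
      · exact Nat.factorization_eq_zero_of_not_prime _ h1
      · exact Nat.factorization_eq_zero_of_not_dvd h1]
    have h1 : ∀ s : ℕ, s.Prime → Finsupp.single s ((Nat.card G).factorization s) r = 0 := by
      intro s hs
      by_cases hsr : s = r
      · subst hsr
        simp [Nat.factorization_eq_zero_of_not_dvd (fun hd => hr ⟨hs, hd⟩)]
      · simp [Ne.symm hsr]
    rw [h1 p hp.out, h1 q hq.out]

theorem characteristic_comap {A B : Type u} [Group A] [Group B] [Finite A] {f : A →* B}
    (hf : Function.Surjective f) (hker : f.ker.Characteristic) (K : Subgroup B) [K.Characteristic] :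
    (K.comap f).Characteristic := by
  rw [Subgroup.characteristic_iff_le_comap]
  intro φ
  haveI : Finite B := Finite.of_surjective f hf
  have hle : f.ker ≤ (f.comp φ.toMonoidHom).ker := by
    intro x hx
    rw [MonoidHom.mem_ker, MonoidHom.comp_apply]
    exact Subgroup.characteristic_iff_le_comap.mp hker φ hx
  set g : { g : A →* B // f.ker ≤ g.ker } := ⟨f.comp φ.toMonoidHom, hle⟩
  set ψ := f.liftOfSurjective hf g with hψ
  have hψf : ∀ x, ψ (f x) = f (φ x) := fun x => MonoidHom.liftOfRightInverse_comp_apply f _ _ g x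
  have hsur : Function.Surjective ψ := fun b => by
    obtain ⟨x, rfl⟩ := hf b
    exact ⟨f (φ.symm x), by rw [hψf, MulEquiv.apply_symm_apply]⟩
  let e : B ≃* B := MulEquiv.ofBijective ψ (Finite.injective_iff_bijective.mp (Finite.injective_iff_surjective.mpr hsur))
  intro x hx
  show f (φ x) ∈ K
  rw [← hψf]
  exact Subgroup.characteristic_iff_le_comap.mp inferInstance e hx

/-- Characteristic subgroups pull back along maps with characteristic kernel. -/
theorem charIn_comap {G H : Type u} [Group G] [Group H] [Finite G] {S : Subgroup G} (f : G →* H)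
    (hker : ((f.comp S.subtype).ker).Characteristic) {K : Subgroup H} (hK : CharIn (S.map f) K) :
    CharIn S (S ⊓ K.comap f) := by
  refine ⟨inf_le_left, ?_⟩
  haveI := hK.2
  have hk : (f.subgroupMap S).ker.Characteristic := by
    have : (f.subgroupMap S).ker = (f.comp S.subtype).ker := by
      ext x
      simp [MonoidHom.mem_ker, Subtype.ext_iff]
    rw [this]; exact hker
  convert characteristic_comap (MonoidHom.subgroupMap_surjective f S) hk (K.subgroupOf (S.map f)) using 1
  ext x
  simp [Subgroup.mem_subgroupOf]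

theorem exists_qElement [hq : Fact q.Prime] {G : Type u} [Group G] [Finite G] (h : q ∣ Nat.card G) :
    ∃ z : G, z ≠ 1 ∧ ∃ i, orderOf z = q ^ i := by
  obtain ⟨z, hz⟩ := exists_prime_orderOf_dvd_card' (G := G) q h
  exact ⟨z, fun h1 => hq.out.one_lt.ne' (by rw [← hz, h1, orderOf_one]), 1, by rw [hz, pow_one]⟩

theorem eq_one_of_pow_pow {G : Type u} [Group G] [hp : Fact p.Prime] [hq : Fact q.Prime] (hpq : p ≠ q)
    {a : G} {i : ℕ} (hi : orderOf a ∣ q ^ i) {P : Subgroup G} (hP : IsPGroup p P) (ha : a ∈ P) : a = 1 := by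
  obtain ⟨j, hj⟩ := hP ⟨a, ha⟩
  have hj' : orderOf a ∣ p ^ j := orderOf_dvd_of_pow_eq_one (congrArg Subtype.val hj)
  exact orderOf_eq_one_iff.mp (Nat.eq_one_of_dvd_coprimes
    ((Nat.coprime_primes hp.out hq.out).mpr hpq |>.pow _ _) hj' hi)

/-- The `q`-part of a lift of a `q`-element. -/
theorem exists_qPart {G H : Type u} [Group G] [Group H] [Finite G] [hq : Fact q.Prime] (f : G →* H)
    {x : G} {i : ℕ} (hi : orderOf (f x) ∣ q ^ i) :
    ∃ z : G, z ∈ Subgroup.zpowers x ∧ (∃ j, orderOf z = q ^ j) ∧ f x ∈ Subgroup.zpowers (f z) := by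
  obtain ⟨m, n, hn, hmn⟩ := Nat.exists_eq_pow_mul_and_not_dvd (n := orderOf x) (orderOf_pos x).ne' q hq.out.ne_one
  refine ⟨x ^ n, pow_mem (Subgroup.mem_zpowers x) n, ⟨m, ?_⟩, ?_⟩
  · rw [orderOf_pow' x (by rintro rfl; simp at hn), hmn, Nat.gcd_eq_right (dvd_mul_left n (q ^ m)),
      Nat.mul_div_cancel _ (Nat.pos_of_ne_zero (by rintro rfl; simp at hn))]
  · rw [map_pow]
    have hcop : Nat.Coprime n (orderOf (f x)) :=
      Nat.Coprime.coprime_dvd_right hi (((hq.out.coprime_iff_not_dvd).mpr hn).symm.pow_right _)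
    obtain ⟨k, hk⟩ := exists_pow_eq_self_of_coprime hcop
    exact ⟨(k : ℤ), by simpa using hk⟩

theorem mem_centralizer_of_zpowers {G : Type u} [Group G] {a b : G} {s : Set G}
    (h : a ∈ Subgroup.zpowers b) (hb : b ∈ Subgroup.centralizer s) : a ∈ Subgroup.centralizer s := by
  obtain ⟨k, rfl⟩ := Subgroup.mem_zpowers_iff.mp h
  exact zpow_mem hb k

theorem exists_sl_two_order_three :
    ∃ g : Matrix.SpecialLinearGroup (Fin 2) (ZMod 2), orderOf g = 3 := by
  haveI := Fact.mk Nat.prime_three
  exact ⟨⟨!![0, 1; 1, 1], by decide⟩, orderOf_eq_prime (by decide)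
    fun h => absurd (congrArg (fun g => g.1 0 0) h) (by decide)⟩

theorem exists_sl_two_order_two :
    ∃ g : Matrix.SpecialLinearGroup (Fin 2) (ZMod 3), orderOf g = 2 := by
  haveI := Fact.mk Nat.prime_two
  exact ⟨⟨!![2, 0; 0, 2], by decide⟩, orderOf_eq_prime (by decide)
    fun h => absurd (congrArg (fun g => g.1 0 0) h) (by decide)⟩

theorem factorizable [hp : Fact p.Prime] [hq : Fact q.Prime] (hpq : p ≠ q)
    (h23 : ¬ ((p = 2 ∧ q = 3) ∨ (p = 3 ∧ q = 2))) {X : Type u} [Group X] [Finite X] (hX : IsPQ p q X)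
    (hsol : IsPSolvable p X) (hO : pPrimeCore p X = ⊥) : IsThompsonFactorizable p X := by
  by_contra hnf
  obtain ⟨hp23, E, -, -, -, hn, ⟨e⟩⟩ := Cfsg.Agent.S0618.result hsol hO hnf
  haveI := hn
  have key : ∀ (r : ℕ) (g : Matrix.SpecialLinearGroup (Fin 2) (ZMod p)), orderOf g = r → r ∣ Nat.card X := by
    intro r g hg
    rw [← hg, ← e.symm.orderOf_eq]
    exact (_root_.orderOf_dvd_natCard _).trans ((Subgroup.card_quotient_dvd_card _).trans
      (Subgroup.card_subgroup_dvd_card E))
  rcases hp23 with rfl | rfl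
  · obtain ⟨g, hg⟩ := exists_sl_two_order_three
    have h3 := key 3 g hg
    rcases hX 3 Nat.prime_three h3 with h | h
    · omega
    · exact h23 (Or.inl ⟨rfl, h.symm⟩)
  · obtain ⟨g, hg⟩ := exists_sl_two_order_two
    have h2 := key 2 g hg
    rcases hX 2 Nat.prime_two h2 with h | h
    · omega
    · exact h23 (Or.inr ⟨rfl, h.symm⟩)

/-- A `q`-element acting non-trivially on a normal `p`-subgroup gives one moving a characteristic
subgroup of a Sylow `p`-subgroup. -/
theorem exists_char_moved [hp : Fact p.Prime] [hq : Fact q.Prime] (hpq : p ≠ q)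
    (h23 : ¬ ((p = 2 ∧ q = 3) ∨ (p = 3 ∧ q = 2))) :
    ∀ (n : ℕ) (X : Type u) [Group X] [Finite X], Nat.card X = n → IsPQ p q X → ∀ (S : Sylow p X)
      (R : Subgroup X), R.Normal → IsPGroup p R → ∀ x : X, (∃ i, orderOf x = q ^ i) →
      x ∉ Subgroup.centralizer (R : Set X) →
      ∃ K : Subgroup X, CharIn (S : Subgroup X) K ∧ ∃ z : X, (∃ i, orderOf z = q ^ i) ∧
        z ∈ Subgroup.normalizer (K : Set X) ∧ z ∉ Subgroup.centralizer (K : Set X) := by
  intro n
  induction n using Nat.strong_induction_on with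
  | _ n ih =>
  intro X _ _ hn hX S R hR hRp x ⟨ix, hix⟩ hxR
  -- lifting along a quotient
  have hlift : ∀ (N : Subgroup X) [N.Normal], (N ≠ ⊥) →
      (((QuotientGroup.mk' N).comp (S : Subgroup X).subtype).ker).Characteristic →
      ∀ (R' : Subgroup X), R'.Normal → IsPGroup p R' → ∀ y : X, (∃ i, orderOf y = q ^ i) →
      QuotientGroup.mk' N y ∉ Subgroup.centralizer ((R'.map (QuotientGroup.mk' N) : Subgroup (X ⧸ N)) : Set (X ⧸ N)) →
      ∃ K : Subgroup (X ⧸ N), CharIn ((S : Subgroup X).map (QuotientGroup.mk' N)) K ∧ ∃ z : X ⧸ N,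
        (∃ i, orderOf z = q ^ i) ∧ z ∈ Subgroup.normalizer (K : Set (X ⧸ N)) ∧
        z ∉ Subgroup.centralizer (K : Set (X ⧸ N)) := by
    intro N _ hN _ R' hR' hR'p y ⟨i, hi⟩ hy
    have hlt : Nat.card (X ⧸ N) < n := by
      rw [← hn, Subgroup.card_eq_card_quotient_mul_card_subgroup N]
      exact lt_mul_of_one_lt_right Nat.card_pos (N.one_lt_card_iff_ne_bot.mpr hN)
    have hsurj := QuotientGroup.mk'_surjective N
    obtain ⟨j, -, hj⟩ := (Nat.dvd_prime_pow hq.out).mp (hi ▸ orderOf_map_dvd (QuotientGroup.mk' N) y)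
    obtain ⟨K, hK, z, hz⟩ := ih _ hlt (X ⧸ N) rfl (hX.quotient N) (S.mapSurjective hsurj)
      (R'.map (QuotientGroup.mk' N)) (hR'.map _ hsurj) (hR'p.map _) _ ⟨j, hj⟩ hy
    rw [Sylow.coe_mapSurjective] at hK
    exact ⟨K, hK, z, hz⟩
  by_cases hO : pPrimeCore p X = ⊥
  swap
  · -- a normal `p'`-subgroup
    set O := pPrimeCore p X with hOdef
    haveI hOn : O.Normal := (Cores.pPrimeCore_mem p X).1
    have hOp : ¬ p ∣ Nat.card O := Cores.not_dvd_card_pPrimeCore
    have hdis : ∀ P : Subgroup X, IsPGroup p P → ∀ w ∈ P, w ∈ O → w = 1 := by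
      intro P hP w hw hwO
      obtain ⟨j, hj⟩ := hP ⟨w, hw⟩
      exact orderOf_eq_one_iff.mp (Nat.eq_one_of_dvd_coprimes
        ((hp.out.coprime_iff_not_dvd.mpr hOp).pow_left j) (orderOf_dvd_of_pow_eq_one (congrArg Subtype.val hj))
        (Subgroup.orderOf_dvd_natCard O hwO))
    have hker : ((QuotientGroup.mk' O).comp (S : Subgroup X).subtype).ker = ⊥ := by
      rw [Subgroup.eq_bot_iff_forall]
      intro w hw
      exact Subtype.ext (hdis _ S.isPGroup' w w.2 ((QuotientGroup.eq_one_iff _).mp hw))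
    obtain ⟨K, hK, z, ⟨i, hi⟩, hzN, hzC⟩ := hlift O hO (hker ▸ inferInstance) R hR hRp x ⟨ix, hix⟩ (by
      intro hc
      refine hxR fun r hr => ?_
      have h1 : x⁻¹ * r⁻¹ * x * r ∈ R :=
        mul_mem (by simpa using hR.conj_mem _ (inv_mem hr) x⁻¹) hr
      have h2 : x⁻¹ * r⁻¹ * x * r ∈ O := by
        rw [← QuotientGroup.eq_one_iff]
        have h3 := Subgroup.mem_centralizer_iff.mp hc _ ⟨r, hr, rfl⟩
        simp only [QuotientGroup.mk'_apply] at h3
        simp only [QuotientGroup.mk_mul, QuotientGroup.mk_inv]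
        rw [mul_assoc _ (x : X ⧸ O) (r : X ⧸ O), ← h3]
        group
      have h4 := hdis R hRp _ h1 h2
      calc r * x = r * x * (x⁻¹ * r⁻¹ * x * r) := by rw [h4, mul_one]
        _ = x * r := by group)
    set f := QuotientGroup.mk' O with hf
    set K' := (S : Subgroup X) ⊓ K.comap f with hK'
    refine ⟨K', charIn_comap f (hker ▸ inferInstance) hK, ?_⟩
    obtain ⟨y, rfl⟩ := QuotientGroup.mk'_surjective O z
    have hmap : K'.map f = K := by
      refine le_antisymm (Subgroup.map_le_iff_le_comap.mpr inf_le_right) fun w hw => ?_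
      obtain ⟨v, hv, rfl⟩ := hK.1 hw
      exact ⟨v, ⟨hv, hw⟩, rfl⟩
    set T := K.comap f with hT
    have hyT : y ∈ Subgroup.normalizer (T : Set X) := by
      rw [hT, ← Subgroup.comap_normalizer_eq_of_surjective _ (QuotientGroup.mk'_surjective O)]
      exact hzN
    have hK'T : K' ≤ T := inf_le_right
    have hTsup : T = K' ⊔ O := by
      rw [hT, ← hmap, Subgroup.comap_map_eq, hf, QuotientGroup.ker_mk']
    -- `K'` is a Sylow subgroup of `T`
    have hpK : IsPGroup p (K'.subgroupOf T) :=
      (S.isPGroup'.to_le inf_le_left).of_equiv (Subgroup.subgroupOfEquivOfLe hK'T).symm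
    have hidx : ¬ p ∣ (K'.subgroupOf T).index := by
      intro hd
      have h1 : K'.relIndex (K' ⊔ O) ∣ Nat.card O := by
        rw [sup_comm, Subgroup.relIndex]
        have e1 := Cores.card_sup_mul_card_inf K' O
        rw [sup_comm K' O, inf_comm K' O, mul_comm (Nat.card K')] at e1
        have e2 : Nat.card ↥(O ⊓ K') = 1 := by
          rw [Subgroup.card_eq_one, Subgroup.eq_bot_iff_forall]
          exact fun w hw => hdis K' (S.isPGroup'.to_le inf_le_left) w hw.2 hw.1
        rw [e2, mul_one] at e1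
        have e3 := (K'.subgroupOf (O ⊔ K')).card_mul_index
        rw [Nat.card_congr (Subgroup.subgroupOfEquivOfLe le_sup_right).toEquiv, e1,
          mul_comm (Nat.card O)] at e3
        rw [Nat.eq_of_mul_eq_mul_left Nat.card_pos e3]
      rw [← hTsup] at h1
      exact hOp (hd.trans h1)
    obtain ⟨o, ho, hoy⟩ : ∃ o ∈ O, o * y ∈ Subgroup.normalizer (K' : Set X) := by
      haveI : (O.subgroupOf T).Normal := inferInstance
      have hOT : O ≤ T := hTsup ▸ le_sup_right
      set P := hpK.toSylow hidx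
      have hconj : (K'.map (MulAut.conj y).toMonoidHom) ≤ T := by
        rintro _ ⟨w, hw, rfl⟩
        exact (Subgroup.mem_normalizer_iff.mp hyT w).mp (hK'T hw)
      obtain ⟨t, ht⟩ : ∃ t : ↥T, ∀ w ∈ K', (t : X) * (y * w * y⁻¹) * (t : X)⁻¹ ∈ K' := by
        have hp2 : IsPGroup p ((K'.map (MulAut.conj y).toMonoidHom).subgroupOf T) :=
          (((S.isPGroup'.to_le inf_le_left : IsPGroup p K').map _)).of_equiv
            (Subgroup.subgroupOfEquivOfLe hconj).symm
        obtain ⟨Q, hQ⟩ := hp2.exists_le_sylow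
        obtain ⟨t, ht⟩ := MulAction.exists_smul_eq ↥T Q P
        refine ⟨t, fun w hw => ?_⟩
        have h1 : (⟨y * w * y⁻¹, hconj ⟨w, hw, rfl⟩⟩ : ↥T) ∈ (Q : Subgroup ↥T) := hQ ⟨w, hw, rfl⟩
        have h2 : t * ⟨y * w * y⁻¹, hconj ⟨w, hw, rfl⟩⟩ * t⁻¹ ∈ (P : Subgroup ↥T) := by
          rw [← ht, Sylow.coe_subgroup_smul]
          exact Subgroup.smul_mem_pointwise_smul _ (MulAut.conj t) _ h1
        rwa [IsPGroup.toSylow_coe] at h2
      have hmemT : (t : X) ∈ K' ⊔ O := hTsup ▸ t.2
      rw [← SetLike.mem_coe, Subgroup.mul_normal K' O] at hmemT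
      obtain ⟨k, hk, o, ho, hko⟩ := hmemT
      refine ⟨o, ho, ?_⟩
      rw [Components.mem_normalizer_iff_map_conj]
      refine Subgroup.eq_of_le_of_card_ge ?_ (Subgroup.card_map_of_injective (MulAut.conj _).injective).ge
      rintro _ ⟨w, hw, rfl⟩
      have hko' : k * o = (t : X) := hko
      have := mul_mem (mul_mem (inv_mem hk) (ht w hw)) hk
      rw [← hko'] at this
      simpa [mul_assoc] using this
    have hfy : f (o * y) = f y := by
      rw [map_mul, show f o = 1 from (QuotientGroup.eq_one_iff o).mpr ho, one_mul]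
    obtain ⟨z', hz'x, hz'o, hz'f⟩ := exists_qPart f (x := o * y) (i := i) (by rw [hfy]; exact hi.dvd)
    refine ⟨z', hz'o, ?_, fun hc => hzC ?_⟩
    · obtain ⟨k, rfl⟩ := Subgroup.mem_zpowers_iff.mp hz'x
      exact zpow_mem hoy k
    · rw [hfy] at hz'f
      refine mem_centralizer_of_zpowers hz'f ?_
      rw [← hmap]
      rintro _ ⟨w, hw, rfl⟩
      rw [← map_mul, ← map_mul, hc w hw]
  -- trivial `p'`-core
  haveI := hX.isSolvable hpq
  have hsol : IsPSolvable p X := Characters.isPSolvable_of_isSolvable p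
  have hC : Subgroup.centralizer (pCore p X : Set X) ≤ pCore p X :=
    Blocks.centralizer_pCore_le_of_isPSolvable p hsol hO
  have hPn : (pCore p X).Normal := inferInstance
  have hqC : ∀ z : X, z ≠ 1 → (∃ i, orderOf z = q ^ i) → z ∉ Subgroup.centralizer (pCore p X : Set X) :=
    fun z hz ⟨i, hi⟩ hc => hz (eq_one_of_pow_pow hpq hi.dvd (Cores.pCore_isPGroup p X) (hC hc))
  -- a characteristic subgroup normalized by a `q`-element
  have step : ∀ A : Subgroup X, CharIn (S : Subgroup X) A → A ≠ ⊥ →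
      (∃ z : X, z ∈ Subgroup.normalizer (A : Set X) ∧ z ≠ 1 ∧ ∃ i, orderOf z = q ^ i) →
      ∃ K : Subgroup X, CharIn (S : Subgroup X) K ∧ ∃ z : X, (∃ i, orderOf z = q ^ i) ∧
        z ∈ Subgroup.normalizer (K : Set X) ∧ z ∉ Subgroup.centralizer (K : Set X) := by
    rintro A hA hA0 ⟨z, hzA, hz1, hzq⟩
    by_cases hzc : z ∈ Subgroup.centralizer (A : Set X)
    swap
    · exact ⟨A, hA, z, hzq, hzA, hzc⟩
    have hSN : (S : Subgroup X) ≤ Subgroup.normalizer (A : Set X) := by
      haveI := hA.2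
      exact (Subgroup.normal_subgroupOf_iff_le_normalizer hA.1).mp inferInstance
    set N := Subgroup.normalizer (A : Set X) with hN
    by_cases hNtop : N = ⊤
    · haveI : A.Normal := Subgroup.normalizer_eq_top_iff.mp hNtop
      have hker : ((QuotientGroup.mk' A).comp (S : Subgroup X).subtype).ker = A.subgroupOf (S : Subgroup X) := by
        ext w; simp [MonoidHom.mem_ker, Subgroup.mem_subgroupOf]
      obtain ⟨i, hi⟩ := hzq
      obtain ⟨K, hK, w, ⟨j, hj⟩, hwN, hwC⟩ := hlift A hA0 (hker ▸ hA.2) (pCore p X) hPn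
        (Cores.pCore_isPGroup p X) z ⟨i, hi⟩ (by
          intro hc
          refine hqC z hz1 ⟨i, hi⟩ fun r hr => ?_
          have ha : r⁻¹ * (z * r * z⁻¹) ∈ A := by
            rw [← QuotientGroup.eq_one_iff]
            have h3 := Subgroup.mem_centralizer_iff.mp hc _ ⟨r, hr, rfl⟩
            simp only [QuotientGroup.mk'_apply] at h3
            simp only [QuotientGroup.mk_mul, QuotientGroup.mk_inv]
            rw [← h3]; group
          set a := r⁻¹ * (z * r * z⁻¹) with hadef
          have hza : Commute z a := (hzc a ha).symm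
          have hrz : z * r * z⁻¹ = r * a := by rw [hadef]; group
          have hpow : ∀ m : ℕ, z ^ m * r * (z ^ m)⁻¹ = r * a ^ m := by
            intro m
            induction m with
            | zero => simp
            | succ m ihm =>
              calc z ^ (m + 1) * r * (z ^ (m + 1))⁻¹
                  = z * (z ^ m * r * (z ^ m)⁻¹) * z⁻¹ := by rw [pow_succ']; group
                _ = (z * r * z⁻¹) * (z * a ^ m * z⁻¹) := by rw [ihm]; group
                _ = r * a * a ^ m := by rw [hrz, (hza.pow_right m).eq, mul_inv_cancel_right]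
                _ = r * a ^ (m + 1) := by rw [mul_assoc, ← pow_succ']
          have h1 := hpow (q ^ i)
          rw [← hi, pow_orderOf_eq_one, one_mul, inv_one, mul_one, eq_comm, mul_eq_left, hi] at h1
          have ha1 : a = 1 := eq_one_of_pow_pow hpq (orderOf_dvd_of_pow_eq_one h1)
            (S.isPGroup'.to_le hA.1) ha
          rw [ha1, mul_one, mul_inv_eq_iff_eq_mul] at hrz
          exact hrz.symm)
      set f := QuotientGroup.mk' A with hf
      refine ⟨(S : Subgroup X) ⊓ K.comap f, charIn_comap f (hker ▸ hA.2) hK, ?_⟩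
      obtain ⟨y, rfl⟩ := QuotientGroup.mk'_surjective A w
      have hcomap : (S : Subgroup X) ⊓ K.comap f = K.comap f := inf_eq_right.mpr (by
        intro v hv
        obtain ⟨s, hs, hsv⟩ := hK.1 hv
        have : s⁻¹ * v ∈ A := by
          rw [← QuotientGroup.eq_one_iff]; simp only [QuotientGroup.mk_mul, QuotientGroup.mk_inv]
          rw [inv_mul_eq_one]; exact hsv
        simpa using mul_mem hs (hA.1 this))
      obtain ⟨z', hz'x, hz'o, hz'f⟩ := exists_qPart f (x := y) (i := j) hj.dvd
      refine ⟨z', hz'o, ?_, fun hc => hwC (mem_centralizer_of_zpowers hz'f ?_)⟩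
      · obtain ⟨m, rfl⟩ := Subgroup.mem_zpowers_iff.mp hz'x
        refine zpow_mem ?_ m
        rw [hcomap, ← Subgroup.comap_normalizer_eq_of_surjective _ (QuotientGroup.mk'_surjective A)]
        exact hwN
      · intro v hv
        obtain ⟨v', rfl⟩ := QuotientGroup.mk'_surjective A v
        rw [← map_mul, ← map_mul, hc v' (hcomap.ge hv)]
    · have hlt : Nat.card N < n := by
        rw [← hn]
        exact lt_of_le_of_ne N.card_le_card_group fun h => hNtop (Subgroup.eq_top_of_card_eq N h)
      obtain ⟨i, hi⟩ := hzq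
      have hP : pCore p X ≤ N := (Cores.pCore_le_sylow S).trans hSN
      obtain ⟨K, hK, w, ⟨j, hj⟩, hwN, hwC⟩ := ih _ hlt N rfl (hX.subgroup N) (S.subtype hSN)
        ((pCore p X).subgroupOf N) inferInstance
        ((Cores.pCore_isPGroup p X).of_equiv (Subgroup.subgroupOfEquivOfLe hP).symm) ⟨z, hzA⟩
        ⟨i, by rw [← hi, ← Subgroup.orderOf_coe]⟩ (fun hc => hqC z hz1 ⟨i, hi⟩ fun r hr =>
          congrArg Subtype.val (hc ⟨r, hP hr⟩ hr))
      refine ⟨K.map N.subtype, ⟨?_, ?_⟩, w, ⟨j, by rw [← hj, Subgroup.orderOf_coe]⟩, ?_, fun hc => hwC ?_⟩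
      · rintro _ ⟨v, hv, rfl⟩
        exact hK.1 hv
      · let e : ↥((S.subtype hSN : Sylow p N) : Subgroup N) ≃* ↥(S : Subgroup X) :=
          Subgroup.subgroupOfEquivOfLe hSN
        haveI := hK.2
        haveI hker : (e.symm.toMonoidHom).ker.Characteristic := by
          rw [(MonoidHom.ker_eq_bot_iff _).mpr e.symm.injective]; infer_instance
        convert characteristic_comap (f := e.symm.toMonoidHom) e.symm.surjective hker
          (K.subgroupOf ((S.subtype hSN : Sylow p N) : Subgroup N)) using 1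
        ext v
        simp only [Subgroup.mem_subgroupOf, Subgroup.mem_comap]
        constructor
        · rintro ⟨v', hv', hvv⟩
          have hv2 : ((e.symm v : ↥((S.subtype hSN : Sylow p N) : Subgroup N)) : ↥N) = v' :=
            Subtype.ext hvv.symm
          show ((e.symm v : ↥((S.subtype hSN : Sylow p N) : Subgroup N)) : ↥N) ∈ K
          rw [hv2]; exact hv'
        · intro hv'
          exact ⟨_, hv', rfl⟩
      · exact Subgroup.le_normalizer_map N.subtype ⟨w, hwN, rfl⟩
      · intro v hv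
        exact Subtype.ext (hc v ⟨v, hv, rfl⟩)
  have hqdvd : q ∣ Nat.card X := by
    have h1 : ix ≠ 0 := fun h => hxR (by
      rw [h, pow_zero, orderOf_eq_one_iff] at hix
      rw [hix]; exact one_mem _)
    exact ((dvd_pow_self q h1).trans (hix ▸ _root_.orderOf_dvd_natCard x))
  have hS0 : (S : Subgroup X) ≠ ⊥ := fun h => by
    have hP : pCore p X = ⊥ := le_bot_iff.mp (h ▸ Cores.pCore_le_sylow S)
    obtain ⟨z, hz1, hzq⟩ := exists_qElement hqdvd
    refine hqC z hz1 hzq fun r hr => ?_
    rw [hP, SetLike.mem_coe, Subgroup.mem_bot] at hr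
    simp [hr]
  set Z := omegaOne p ((S : Subgroup X) ⊓ Subgroup.centralizer ((S : Subgroup X) : Set X)) with hZ
  have hZle : Z ≤ (S : Subgroup X) := (omegaOne_le _ _).trans inf_le_left
  have hmapC : (S : Subgroup X) ⊓ Subgroup.centralizer ((S : Subgroup X) : Set X) =
      (Subgroup.center ↥(S : Subgroup X)).map (S : Subgroup X).subtype := by
    ext v
    constructor
    · rintro ⟨hv, hc⟩
      exact ⟨⟨v, hv⟩, Subgroup.mem_center_iff.mpr fun w => Subtype.ext (hc w w.2), rfl⟩
    · rintro ⟨v', hv', rfl⟩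
      exact ⟨v'.2, fun w hw => congrArg Subtype.val (Subgroup.mem_center_iff.mp hv' ⟨w, hw⟩)⟩
  have hZeq : Z = (omegaOne p (Subgroup.center ↥(S : Subgroup X))).map (S : Subgroup X).subtype := by
    rw [hZ, hmapC, map_omegaOne _ (S : Subgroup X).subtype_injective]
  have hZchar : CharIn (S : Subgroup X) Z := by
    refine ⟨hZle, ?_⟩
    rw [hZeq, Subgroup.subgroupOf, Subgroup.comap_map_eq_self_of_injective (Subgroup.subtype_injective _)]
    refine Subgroup.characteristic_iff_map_eq.mpr fun φ => ?_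
    rw [map_omegaOne φ.toMonoidHom φ.injective, Subgroup.characteristic_iff_map_eq.mp inferInstance φ]
  have hZne : Z ≠ ⊥ := by
    rw [hZeq, Ne, Subgroup.map_eq_bot_iff_of_injective _ (Subgroup.subtype_injective _)]
    intro h
    haveI : Nontrivial ↥(S : Subgroup X) := (Subgroup.nontrivial_iff_ne_bot _).mpr hS0
    haveI : Nontrivial ↥(Subgroup.center ↥(S : Subgroup X)) := S.isPGroup'.center_nontrivial
    obtain ⟨m, hm0, hm⟩ := (IsPGroup.nontrivial_iff_card (S.isPGroup'.to_subgroup (Subgroup.center ↥(S : Subgroup X)))).mp inferInstance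
    obtain ⟨c, hc⟩ := exists_prime_orderOf_dvd_card' (G := ↥(Subgroup.center ↥(S : Subgroup X))) p
      (hm ▸ dvd_pow_self p hm0.ne')
    have := mem_omegaOne (p := p) c.2 (by
      exact orderOf_dvd_iff_pow_eq_one.mp (by rw [Subgroup.orderOf_coe, hc]))
    rw [h, Subgroup.mem_bot] at this
    exact hp.out.one_lt.ne' (hc ▸ orderOf_eq_one_iff.mpr (Subtype.ext this))
  set J := thompsonSubgroupOf p (S : Subgroup X) with hJ
  have hJchar : CharIn (S : Subgroup X) J := by
    refine ⟨thompsonSubgroupOf_le _, ?_⟩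
    rw [hJ, thompsonSubgroupOf, Subgroup.subgroupOf,
      Subgroup.comap_map_eq_self_of_injective (Subgroup.subtype_injective _)]
    infer_instance
  have hJne : J ≠ ⊥ := by
    rw [hJ, thompsonSubgroupOf, Ne, Subgroup.map_eq_bot_iff_of_injective _ (Subgroup.subtype_injective _)]
    refine thompsonSubgroup_ne_bot ?_
    obtain ⟨m, hm0, hm⟩ := (IsPGroup.nontrivial_iff_card S.isPGroup').mp
      ((Subgroup.nontrivial_iff_ne_bot _).mpr hS0)
    exact hm ▸ dvd_pow_self p hm0.ne'
  -- a `q`-element normalizes `Z` or `J`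
  by_contra hcon
  have hno : ∀ A : Subgroup X, CharIn (S : Subgroup X) A → A ≠ ⊥ →
      Subgroup.normalizer (A : Set X) ≤ (S : Subgroup X) := by
    intro A hA hA0
    have hSN : (S : Subgroup X) ≤ Subgroup.normalizer (A : Set X) := by
      haveI := hA.2
      exact (Subgroup.normal_subgroupOf_iff_le_normalizer hA.1).mp inferInstance
    have hnq : ¬ q ∣ Nat.card (Subgroup.normalizer (A : Set X)) := fun hd => by
      obtain ⟨z, hz1, i, hi⟩ := exists_qElement hd
      exact hcon (step A hA hA0 ⟨z, z.2, fun h => hz1 (Subtype.ext h), i, by rw [Subgroup.orderOf_coe, hi]⟩)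
    have h1 : ((S : Subgroup X).subgroupOf (Subgroup.normalizer (A : Set X))).index = 1 := by
      rw [Nat.eq_one_iff_not_exists_prime_dvd]
      intro r hr hd
      rcases hX r hr (hd.trans ((Subgroup.index_dvd_card _).trans (Subgroup.card_subgroup_dvd_card _))) with rfl | rfl
      · exact (S.subtype hSN).not_dvd_index hd
      · exact hnq (hd.trans (Subgroup.index_dvd_card _))
    exact Subgroup.relIndex_eq_one.mp h1
  have hall : ∀ w : X, w ∈ (S : Subgroup X) := by
    intro w
    obtain ⟨a, ha, c, hc, m, hm, rfl⟩ := factorizable hpq h23 hX hsol hO S w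
    rw [hO, Subgroup.mem_bot] at ha
    rw [ha, one_mul]
    exact mul_mem (hno Z hZchar hZne (Subgroup.centralizer_le_normalizer _ hc)) (hno J hJchar hJne hm)
  exact hpq (eq_comm.mp ((Nat.prime_dvd_prime_iff_eq hq.out hp.out).mp (by
    obtain ⟨m, hm⟩ := S.isPGroup'.exists_card_eq
    refine hq.out.dvd_of_dvd_pow (n := m) ?_
    rw [← hm]
    rw [show (S : Subgroup X) = ⊤ from eq_top_iff.mpr fun w _ => hall w, Subgroup.card_top]
    exact hqdvd)))

end Cfsg.Agent.Lib.PLocal.Automizer
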