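import Cfsg.Agent.Lib.PLocal.Automizer
import Cfsg.Agent.Lib.BlockHeights.PConstrainedCores
import Cfsg.Agent.Lib.Transfer.Frobenius
import Mathlib.GroupTheory.SchurZassenhaus

/-!
# Prime divisors of automizers of `p`-subgroups
-/

set_option autoImplicit false

namespace Cfsg.Agent.Lib.PLocal.Automizer

open Cfsg Cfsg.Agent.Lib Pointwise

universe u

variable {p q : ℕ}

/-- Some conjugate contains a given Sylow subgroup, when the index is prime to `p`. -/
theorem exists_conj_sylow_le [hp : Fact p.Prime] {M : Type u} [Group M] [Finite M] (Y : Subgroup M)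
    (hY : ¬ p ∣ Y.index) (S : Sylow p M) : ∃ g : M, (S : Subgroup M) ≤ Y.map (MulAut.conj g).toMonoidHom := by
  obtain ⟨T⟩ : Nonempty (Sylow p Y) := inferInstance
  obtain ⟨Q, hQ⟩ := Coprime.SylowNormalizes.exists_sylow_eq_map Y hY T
  obtain ⟨g, hg⟩ := MulAction.exists_smul_eq M Q S
  refine ⟨g, ?_⟩
  rw [← hg, Sylow.coe_subgroup_smul, hQ]
  exact Subgroup.map_mono (Subgroup.map_subtype_le _)

/-- Lifting a `{p, q}`-group over a normal `p'`-subgroup. -/
theorem exists_pq_over [hp : Fact p.Prime] [hq : Fact q.Prime] (hpq : p ≠ q) {M : Type u} [Group M] [Finite M]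
    (N : Subgroup M) [N.Normal] (hN : ¬ p ∣ Nat.card N) (hM : IsPQ p q (M ⧸ N)) (S : Sylow p M) :
    ∃ Y : Subgroup M, (S : Subgroup M) ≤ Y ∧ IsPQ p q Y ∧ ¬ q ∣ Y.index := by
  obtain ⟨Q⟩ : Nonempty (Sylow q N) := inferInstance
  set Q0 := (Q : Subgroup N).map N.subtype with hQ0
  set R := Subgroup.normalizer (Q0 : Set M) with hR
  have hRN : R ⊔ N = ⊤ := Sylow.normalizer_sup_eq_top Q
  have hQN : Q0 ≤ N := Subgroup.map_subtype_le _
  have hQR : Q0 ≤ R := Subgroup.le_normalizer
  have hcQ : Nat.card Q0 = q ^ (Nat.card N).factorization q := by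
    rw [hQ0, Subgroup.card_map_of_injective N.subtype_injective, Q.card_eq_multiplicity]
  set QR := Q0.subgroupOf R with hQRdef
  haveI : QR.Normal := Subgroup.normal_in_normalizer
  set π := QuotientGroup.mk' QR with hπ
  set N' := (N.subgroupOf R).map π with hN'
  haveI : N'.Normal := Subgroup.Normal.map inferInstance π (QuotientGroup.mk'_surjective QR)
  have hNR : N.relIndex R = N.index := by
    rw [← Subgroup.relIndex_sup_right R N, hRN, Subgroup.relIndex_top_right]
  have hN'idx : N'.index = N.index := by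
    rw [hN', Subgroup.index_map_eq _ (QuotientGroup.mk'_surjective QR) (by
      rw [QuotientGroup.ker_mk']; exact Subgroup.comap_mono hQN), ← hNR]
    rfl
  have hN'card : Nat.card N' ∣ Nat.card N / Nat.card Q0 := by
    have hle : QR ≤ N.subgroupOf R := Subgroup.comap_mono hQN
    have h1 : Nat.card N' * Nat.card Q0 = Nat.card (N.subgroupOf R) := by
      rw [hN', ← Nat.card_congr (Subgroup.subgroupOfEquivOfLe hQR).toEquiv, ← hQRdef]
      have := Subgroup.card_eq_card_quotient_mul_card_subgroup (QR.subgroupOf (N.subgroupOf R))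
      rw [Nat.card_congr (Subgroup.subgroupOfEquivOfLe hle).toEquiv] at this
      rw [this]
      congr 1
      rw [← Subgroup.relIndex_ker, QuotientGroup.ker_mk']
      rfl
    have h2 : Nat.card (N.subgroupOf R) ∣ Nat.card N := by
      rw [← Subgroup.inf_subgroupOf_right, Nat.card_congr (Subgroup.subgroupOfEquivOfLe inf_le_right).toEquiv]
      exact Subgroup.card_dvd_of_le inf_le_left
    rw [← h1] at h2
    exact Nat.dvd_div_of_mul_dvd (by rwa [mul_comm] at h2)
  have hqN : ¬ q ∣ Nat.card N / Nat.card Q0 := by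
    rw [hcQ]; exact Nat.not_dvd_ordCompl hq.out Nat.card_pos.ne'
  have hpN : ¬ p ∣ Nat.card N / Nat.card Q0 := fun h => hN (h.trans (Nat.div_dvd_of_dvd
    (Subgroup.card_dvd_of_le hQN)))
  have hM' : ∀ r : ℕ, r.Prime → r ∣ N.index → r = p ∨ r = q := fun r hr hd => hM r hr hd
  have hcop : Nat.Coprime (Nat.card N') N'.index := by
    refine Nat.coprime_of_dvd fun r hr h1 h2 => ?_
    rw [hN'idx] at h2
    rcases hM' r hr h2 with rfl | rfl
    · exact hpN (h1.trans hN'card)
    · exact hqN (h1.trans hN'card)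
  obtain ⟨C, hC⟩ := Subgroup.exists_right_complement'_of_coprime hcop
  have hCcard : Nat.card C = N.index := by
    rw [← hN'idx]
    have h := hC.index_eq_card
    have hc := Subgroup.card_mul_index C
    have hc2 := hC.card_mul
    exact Nat.eq_of_mul_eq_mul_left (Nat.card_pos (α := ↥N')) (by rw [hc2, Subgroup.card_mul_index])
  set Y := (C.comap π).map R.subtype with hY
  have hYcard : Nat.card Y = N.index * Nat.card Q0 := by
    rw [hY, Subgroup.card_map_of_injective R.subtype_injective, ← hCcard,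
      ← Nat.card_congr (Subgroup.subgroupOfEquivOfLe hQR).toEquiv, ← hQRdef]
    have hle : QR ≤ C.comap π := fun x hx => by
      rw [Subgroup.mem_comap, hπ, QuotientGroup.mk'_apply, (QuotientGroup.eq_one_iff x).mpr hx]
      exact one_mem _
    have := Subgroup.card_eq_card_quotient_mul_card_subgroup (QR.subgroupOf (C.comap π))
    rw [Nat.card_congr (Subgroup.subgroupOfEquivOfLe hle).toEquiv] at this
    rw [this]
    congr 1
    conv_rhs => rw [← Subgroup.map_comap_eq_self_of_surjective (QuotientGroup.mk'_surjective QR) C]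
    rw [← Subgroup.relIndex_ker, QuotientGroup.ker_mk']
    rfl
  have hYpq : ∀ r : ℕ, r.Prime → r ∣ Nat.card Y → r = p ∨ r = q := by
    intro r hr hd
    rw [hYcard, hr.dvd_mul] at hd
    rcases hd with hd | hd
    · exact hM' r hr hd
    · rw [hcQ] at hd
      exact Or.inr ((Nat.prime_dvd_prime_iff_eq hr hq.out).mp (hr.dvd_of_dvd_pow hd))
  have hYidx : Y.index = Nat.card N / Nat.card Q0 := by
    have h1 := Y.card_mul_index
    rw [hYcard, ← N.card_mul_index] at h1
    symm
    rw [Nat.div_eq_iff_eq_mul_left Nat.card_pos (Subgroup.card_dvd_of_le hQN)]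
    refine Nat.eq_of_mul_eq_mul_right (Nat.pos_of_ne_zero (Subgroup.index_ne_zero_of_finite (H := N))) ?_
    rw [← h1]; ring
  obtain ⟨g, hg⟩ := exists_conj_sylow_le Y (hYidx ▸ hpN) S
  refine ⟨_, hg, fun r hr hd => hYpq r hr ?_, ?_⟩
  · rwa [Subgroup.card_map_of_injective (MulAut.conj g).injective] at hd
  · rw [Subgroup.index_map_of_bijective (MulAut.conj g).bijective, hYidx]
    exact hqN

theorem isPQ_map {G H : Type u} [Group G] [Group H] [Finite G] (f : G →* H) {Y : Subgroup G}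
    (h : IsPQ p q Y) : IsPQ p q ↥(Y.map f) :=
  fun r hr hd => h r hr (hd.trans (Subgroup.card_map_dvd _ f))

/-- A `p`-soluble group of order divisible by `q` has a `{p, q}`-subgroup containing a given Sylow
`p`-subgroup and of order divisible by `q`. -/
theorem exists_pq [hp : Fact p.Prime] [hq : Fact q.Prime] (hpq : p ≠ q) :
    ∀ (n : ℕ) (M : Type u) [Group M] [Finite M], Nat.card M = n → IsPSolvable p M → q ∣ Nat.card M →
      ∀ S : Sylow p M, ∃ Y : Subgroup M, (S : Subgroup M) ≤ Y ∧ IsPQ p q Y ∧ q ∣ Nat.card Y := by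
  intro n
  induction n using Nat.strong_induction_on with
  | _ n ih =>
  intro M _ _ hn hsol hqM S
  haveI : Nontrivial M := Finite.one_lt_card_iff_nontrivial.mp
    (lt_of_lt_of_le hq.out.one_lt (Nat.le_of_dvd Nat.card_pos hqM))
  obtain ⟨N, hNn, hN1, hNf⟩ := Coprime.SylowNormalizes.exists_normal_chain_factor hsol
  haveI := hNn
  have hsurj := QuotientGroup.mk'_surjective N
  set π := QuotientGroup.mk' N
  have hlt : Nat.card (M ⧸ N) < n := by
    rw [← hn, Subgroup.card_eq_card_quotient_mul_card_subgroup N]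
    exact lt_mul_of_one_lt_right Nat.card_pos (N.one_lt_card_iff_ne_bot.mpr hN1)
  -- a suitable subgroup of the quotient
  obtain ⟨Yb, hSY, hYpq, hqY⟩ : ∃ Yb : Subgroup (M ⧸ N), (S : Subgroup M).map π ≤ Yb ∧ IsPQ p q Yb ∧
      q ∣ Nat.card (Yb.comap π) := by
    by_cases hq' : q ∣ Nat.card (M ⧸ N)
    · obtain ⟨Yb, h1, h2, h3⟩ := ih _ hlt (M ⧸ N) rfl (BlockHeights.isPSolvable_quot N hsol) hq'
        (S.mapSurjective hsurj)
      rw [Sylow.coe_mapSurjective] at h1
      refine ⟨Yb, h1, h2, h3.trans ?_⟩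
      conv_lhs => rw [← Subgroup.map_comap_eq_self_of_surjective hsurj Yb]
      exact Subgroup.card_map_dvd _ π
    · refine ⟨(S : Subgroup M).map π, le_rfl, fun r hr hd => Or.inl ?_, ?_⟩
      · obtain ⟨j, hj⟩ := S.isPGroup'.exists_card_eq
        exact (Nat.prime_dvd_prime_iff_eq hr hp.out).mp (hr.dvd_of_dvd_pow (n := j)
          (hj ▸ hd.trans (Subgroup.card_map_dvd _ π)))
      · have hle : N ≤ ((S : Subgroup M).map π).comap π := by
          rw [Subgroup.comap_map_eq, QuotientGroup.ker_mk']; exact le_sup_right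
        refine dvd_trans ?_ (Subgroup.card_dvd_of_le hle)
        rw [Subgroup.card_eq_card_quotient_mul_card_subgroup N] at hqM
        exact (hq.out.dvd_mul.mp hqM).resolve_left hq'
  set L := Yb.comap π with hL
  have hSL : (S : Subgroup M) ≤ L := Subgroup.map_le_iff_le_comap.mp hSY
  have hNL : N ≤ L := fun x hx => by
    rw [hL, Subgroup.mem_comap, QuotientGroup.mk'_apply, (QuotientGroup.eq_one_iff x).mpr hx]
    exact one_mem _
  by_cases hNp : p ∣ Nat.card N
  · obtain ⟨m, hm⟩ := hNf.resolve_right fun h => (hp.out.coprime_iff_not_dvd.mp h.symm) hNp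
    refine ⟨L, hSL, fun r hr hd => ?_, hqY⟩
    have h := Subgroup.card_eq_card_quotient_mul_card_subgroup (N.subgroupOf L)
    rw [Nat.card_congr (Subgroup.subgroupOfEquivOfLe hNL).toEquiv, hm,
      show Nat.card (↥L ⧸ N.subgroupOf L) = Nat.card Yb by
        rw [← Subgroup.index, ← Subgroup.relIndex]
        conv_rhs => rw [← Subgroup.map_comap_eq_self_of_surjective hsurj Yb]
        rw [← Subgroup.relIndex_ker, QuotientGroup.ker_mk']] at h
    rw [h, hr.dvd_mul] at hd
    rcases hd with hd | hd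
    · exact hYpq r hr hd
    · exact Or.inl ((Nat.prime_dvd_prime_iff_eq hr hp.out).mp (hr.dvd_of_dvd_pow hd))
  · have hcN : ¬ p ∣ Nat.card (N.subgroupOf L) := by
      rwa [Nat.card_congr (Subgroup.subgroupOfEquivOfLe hNL).toEquiv]
    have hLpq : IsPQ p q (↥L ⧸ N.subgroupOf L) := fun r hr hd => hYpq r hr (by
      rw [show Nat.card (↥L ⧸ N.subgroupOf L) = Nat.card Yb by
        rw [← Subgroup.index, ← Subgroup.relIndex]
        conv_rhs => rw [← Subgroup.map_comap_eq_self_of_surjective hsurj Yb]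
        rw [← Subgroup.relIndex_ker, QuotientGroup.ker_mk']] at hd
      exact hd)
    obtain ⟨Y, hSY', hY', hqidx⟩ := exists_pq_over hpq (N.subgroupOf L) hcN hLpq (S.subtype hSL)
    refine ⟨Y.map L.subtype, fun x hx => ⟨⟨x, hSL hx⟩, hSY' hx, rfl⟩, isPQ_map _ hY', ?_⟩
    rw [Subgroup.card_map_of_injective L.subtype_injective]
    rw [← Y.card_mul_index] at hqY
    exact (hq.out.dvd_mul.mp hqY).resolve_right hqidx

/-- A `q`-element outside the centralizer gives the prime in the index, and conversely. -/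
theorem dvd_index_iff [hq : Fact q.Prime] {G : Type u} [Group G] [Finite G] (H : Subgroup G) :
    q ∣ ((Subgroup.centralizer (H : Set G)).subgroupOf (Subgroup.normalizer (H : Set G))).index ↔
      ∃ z : G, (∃ i, orderOf z = q ^ i) ∧ z ∈ Subgroup.normalizer (H : Set G) ∧
        z ∉ Subgroup.centralizer (H : Set G) := by
  set N := Subgroup.normalizer (H : Set G)
  set C := (Subgroup.centralizer (H : Set G)).subgroupOf N
  haveI : C.Normal := inferInstance
  constructor
  · intro hd
    obtain ⟨c, hc⟩ := exists_prime_orderOf_dvd_card' (G := ↥N ⧸ C) q hd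
    obtain ⟨x, rfl⟩ := QuotientGroup.mk'_surjective C c
    obtain ⟨z, hzx, ⟨i, hi⟩, hzf⟩ := exists_qPart (QuotientGroup.mk' C) (x := x) (i := 1) (by rw [hc, pow_one])
    refine ⟨z, ⟨i, by rw [Subgroup.orderOf_coe, hi]⟩, z.2, fun hzc => ?_⟩
    have h1 : QuotientGroup.mk' C z = 1 := (QuotientGroup.eq_one_iff z).mpr hzc
    rw [h1, Subgroup.zpowers_one_eq_bot, Subgroup.mem_bot] at hzf
    rw [hzf, orderOf_one] at hc
    exact hq.out.one_lt.ne hc
  · rintro ⟨z, ⟨i, hi⟩, hzN, hzC⟩
    have h1 : orderOf (QuotientGroup.mk' C ⟨z, hzN⟩) ∣ q ^ i := by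
      refine (orderOf_map_dvd _ _).trans ?_
      rw [Subgroup.orderOf_mk, hi]
    obtain ⟨j, -, hj⟩ := (Nat.dvd_prime_pow hq.out).mp h1
    have hj0 : j ≠ 0 := fun h => hzC (by
      rw [h, pow_zero, orderOf_eq_one_iff] at hj
      exact (QuotientGroup.eq_one_iff (⟨z, hzN⟩ : ↥N)).mp hj)
    exact (dvd_pow_self q hj0).trans (hj ▸ _root_.orderOf_dvd_natCard _)

theorem main {G : Type u} [Group G] [Finite G] (p q : ℕ) [hp : Fact p.Prime] [hq : Fact q.Prime] (hpq : p ≠ q)
    (h23 : ¬ ((p = 2 ∧ q = 3) ∨ (p = 3 ∧ q = 2)))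
    (hsol : ∀ H : Subgroup G, IsPGroup p ↥H →
      IsPSolvable p (↥(Subgroup.normalizer (H : Set G)) ⧸ (Subgroup.centralizer (H : Set G)).subgroupOf (Subgroup.normalizer (H : Set G))))
    (H₀ : Subgroup G) (hH₀ : IsPGroup p ↥H₀)
    (hq₀ : q ∣ ((Subgroup.centralizer (H₀ : Set G)).subgroupOf (Subgroup.normalizer (H₀ : Set G))).index)
    (Gp : Sylow p G) :
    ∃ K : Subgroup G, K ≤ (Gp : Subgroup G) ∧ (Gp : Subgroup G) ≤ Subgroup.normalizer (K : Set G) ∧
      q ∣ ((Subgroup.centralizer (K : Set G)).subgroupOf (Subgroup.normalizer (K : Set G))).index := by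
  classical
  -- maximize the `p`-part of the normalizer
  set P : Set (Subgroup G × Subgroup G) := {x | IsPGroup p x.1 ∧ IsPGroup p x.2 ∧
    x.2 ≤ Subgroup.normalizer (x.1 : Set G) ∧
    q ∣ ((Subgroup.centralizer (x.1 : Set G)).subgroupOf (Subgroup.normalizer (x.1 : Set G))).index} with hP
  obtain ⟨⟨H, S⟩, ⟨hHp, hSp, hSN, hqH⟩, hmax⟩ := Set.exists_max_image P (fun x => Nat.card x.2)
    (Set.toFinite P) ⟨(H₀, H₀), hH₀, hH₀, Subgroup.le_normalizer, hq₀⟩
  simp only at hHp hSp hSN hqH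
  have hmax' : ∀ K T : Subgroup G, IsPGroup p K → IsPGroup p T → T ≤ Subgroup.normalizer (K : Set G) →
      q ∣ ((Subgroup.centralizer (K : Set G)).subgroupOf (Subgroup.normalizer (K : Set G))).index →
      Nat.card T ≤ Nat.card S := fun K T h1 h2 h3 h4 => hmax (K, T) ⟨h1, h2, h3, h4⟩
  have hHS : H ≤ S := by
    have h1 : IsPGroup p ↥(H ⊔ S) := hHp.to_sup_of_normal_left' hSp hSN
    have h2 := hmax' H (H ⊔ S) hHp h1 (sup_le Subgroup.le_normalizer hSN) hqH
    exact le_sup_left.trans (Subgroup.eq_of_le_of_card_ge le_sup_right h2).ge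
  obtain ⟨P0, hP0⟩ := hSp.exists_le_sylow
  obtain ⟨g₀, hg⟩ := MulAction.exists_smul_eq G P0 Gp
  -- it suffices to treat a subgroup whose normalizer contains a Sylow subgroup
  suffices hS : Nat.card (Gp : Subgroup G) ≤ Nat.card S by
    have hSP : S = (P0 : Subgroup G) := Subgroup.eq_of_le_of_card_ge hP0 (by
      rw [← hg, Sylow.coe_subgroup_smul] at hS
      refine le_trans (le_of_eq ?_) hS
      exact (Subgroup.card_map_of_injective (MulAut.conj g₀).injective).symm)
    refine ⟨H.map (MulAut.conj g₀).toMonoidHom, ?_, ?_, ?_⟩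
    · rw [← hg, Sylow.coe_subgroup_smul, ← hSP]
      exact Subgroup.map_mono hHS
    · rw [← hg, Sylow.coe_subgroup_smul, ← hSP]
      exact (Subgroup.map_mono hSN).trans (Subgroup.le_normalizer_map _)
    · obtain ⟨z, ⟨i, hi⟩, hzN, hzC⟩ := (dvd_index_iff H).mp hqH
      refine (dvd_index_iff _).mpr ⟨MulAut.conj g₀ z, ⟨i, by rw [MulEquiv.orderOf_eq, hi]⟩,
        Subgroup.le_normalizer_map (MulAut.conj g₀).toMonoidHom ⟨z, hzN, rfl⟩, fun hc => hzC fun h hh => ?_⟩
      refine (MulAut.conj g₀).injective ?_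
      rw [map_mul, map_mul]
      exact hc _ ⟨h, hh, rfl⟩
  by_contra hlt
  -- the normalizer of `H` and its Sylow subgroup `S`
  set L := Subgroup.normalizer (H : Set G) with hL
  set C := (Subgroup.centralizer (H : Set G)).subgroupOf L with hC
  have hSL : ∀ T : Sylow p ↥L, Nat.card ((T : Subgroup ↥L).map L.subtype) ≤ Nat.card S := fun T =>
    hmax' H _ hHp (T.isPGroup'.map _) (Subgroup.map_subtype_le _) hqH
  have hSidx : ¬ p ∣ (S.subgroupOf L).index := by
    obtain ⟨T⟩ : Nonempty (Sylow p ↥L) := inferInstance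
    have h1 := hSL T
    rw [Subgroup.card_map_of_injective L.subtype_injective, T.card_eq_multiplicity] at h1
    obtain ⟨j, hj⟩ := hSp.exists_card_eq
    have h2 := (S.subgroupOf L).card_mul_index
    rw [Nat.card_congr (Subgroup.subgroupOfEquivOfLe hSN).toEquiv, hj] at h2
    intro hd
    rw [hj] at h1
    have h3 : p ^ (j + 1) ∣ Nat.card L := by
      rw [← h2, pow_succ]; exact Nat.mul_dvd_mul_left _ hd
    have h4 := (Nat.pow_le_pow_iff_right hp.out.one_lt).mp h1
    have h5 := (hp.out.pow_dvd_iff_le_factorization Nat.card_pos.ne').mp h3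
    omega
  have hSpL : IsPGroup p (S.subgroupOf L) := hSp.of_equiv (Subgroup.subgroupOfEquivOfLe hSN).symm
  set SL : Sylow p ↥L := hSpL.toSylow hSidx with hSLdef
  haveI : C.Normal := inferInstance
  set π := QuotientGroup.mk' C with hπ
  obtain ⟨Xb, hSX, hXpq, hqX⟩ := exists_pq hpq _ (↥L ⧸ C) rfl (hsol H hHp) hqH
    (SL.mapSurjective (QuotientGroup.mk'_surjective C))
  rw [Sylow.coe_mapSurjective] at hSX
  set L1 := Xb.comap π with hL1
  have hSL1 : (SL : Subgroup ↥L) ≤ L1 := Subgroup.map_le_iff_le_comap.mp hSX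
  set S1 := SL.subtype hSL1 with hS1
  set C1 := C.subgroupOf L1 with hC1
  have hCL1 : C ≤ L1 := fun x hx => by
    rw [hL1, Subgroup.mem_comap, hπ, QuotientGroup.mk'_apply, (QuotientGroup.eq_one_iff x).mpr hx]
    exact one_mem _
  have hC1idx : C1.index = Nat.card Xb := by
    rw [hC1, ← Subgroup.relIndex]
    conv_rhs => rw [← Subgroup.map_comap_eq_self_of_surjective (QuotientGroup.mk'_surjective C) Xb]
    rw [← Subgroup.relIndex_ker, QuotientGroup.ker_mk']
  -- pass to the normalizer of a Sylow subgroup of the centralizer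
  obtain ⟨T0⟩ : Nonempty (Sylow p ↥C1) := inferInstance
  set T := (T0 : Subgroup ↥C1).map C1.subtype with hT
  set R := Subgroup.normalizer (T : Set ↥L1) with hR
  have hRC : R ⊔ C1 = ⊤ := Sylow.normalizer_sup_eq_top T0
  set TR := T.subgroupOf R with hTR
  haveI : TR.Normal := Subgroup.normal_in_normalizer
  set ρ := QuotientGroup.mk' TR with hρ
  set CR := (C1.subgroupOf R).map ρ with hCR
  haveI : CR.Normal := Subgroup.Normal.map inferInstance ρ (QuotientGroup.mk'_surjective TR)
  have hTC : T ≤ C1 := Subgroup.map_subtype_le _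
  have hTRle : TR ≤ C1.subgroupOf R := Subgroup.comap_mono hTC
  have hCRidx : CR.index = C1.index := by
    rw [hCR, Subgroup.index_map_eq _ (QuotientGroup.mk'_surjective TR) (by rw [QuotientGroup.ker_mk']; exact hTRle),
      ← Subgroup.relIndex, ← Subgroup.relIndex_sup_right R C1, hRC, Subgroup.relIndex_top_right]
  have hCRp : ¬ p ∣ Nat.card CR := by
    rw [hCR, ← Subgroup.relIndex_ker, QuotientGroup.ker_mk', hTR,
      ← Subgroup.inf_subgroupOf_right C1 R, Subgroup.relIndex_subgroupOf inf_le_right]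
    intro hd
    refine T0.not_dvd_index (hd.trans ?_)
    have h1 : (T0 : Subgroup ↥C1) = T.subgroupOf C1 :=
      (Subgroup.comap_map_eq_self_of_injective C1.subtype_injective _).symm
    rw [h1]
    exact ⟨(C1 ⊓ R).relIndex C1, (Subgroup.relIndex_mul_relIndex T (C1 ⊓ R) C1
      (le_inf hTC Subgroup.le_normalizer) inf_le_left).symm⟩
  obtain ⟨SR⟩ : Nonempty (Sylow p (↥R ⧸ TR)) := inferInstance
  obtain ⟨Yb, hSRYb, hYb, hYbq⟩ := exists_pq_over hpq CR hCRp (fun r hr hd => hXpq r hr (by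
    rw [← hC1idx, ← hCRidx]; exact hd)) SR
  -- the `{p, q}`-subgroup in `L1`
  set Y := (Yb.comap ρ).map R.subtype with hY
  have hTYb : TR ≤ Yb.comap ρ := fun x hx => by
    rw [Subgroup.mem_comap, hρ, QuotientGroup.mk'_apply, (QuotientGroup.eq_one_iff x).mpr hx]
    exact one_mem _
  have hYpq : IsPQ p q Y := by
    intro r hr hd
    rw [hY, Subgroup.card_map_of_injective R.subtype_injective,
      Subgroup.card_eq_card_quotient_mul_card_subgroup (TR.subgroupOf (Yb.comap ρ)), hr.dvd_mul] at hd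
    rcases hd with hd | hd
    · refine hYb r hr ?_
      conv_rhs => rw [← Subgroup.map_comap_eq_self_of_surjective (QuotientGroup.mk'_surjective TR) Yb]
      rw [← Subgroup.relIndex_ker, QuotientGroup.ker_mk']
      exact hd
    · refine Or.inl ?_
      obtain ⟨j, hj⟩ := (T0.isPGroup'.map C1.subtype).exists_card_eq
      rw [Nat.card_congr (Subgroup.subgroupOfEquivOfLe hTYb).toEquiv,
        Nat.card_congr (Subgroup.subgroupOfEquivOfLe Subgroup.le_normalizer).toEquiv, hj] at hd
      exact (Nat.prime_dvd_prime_iff_eq hr hp.out).mp (hr.dvd_of_dvd_pow hd)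
  -- a `q`-element of `Y` outside the centralizer
  obtain ⟨z, ⟨i, hi⟩, hzY, hzC⟩ : ∃ z : ↥L1, (∃ i, orderOf z = q ^ i) ∧ z ∈ Y ∧ z ∉ C1 := by
    obtain ⟨Q⟩ : Nonempty (Sylow q Yb) := inferInstance
    obtain ⟨Q', hQ'⟩ := Coprime.SylowNormalizes.exists_sylow_eq_map Yb hYbq Q
    have hQC : ¬ (Q' : Subgroup (↥R ⧸ TR)) ≤ CR := fun h => Q'.not_dvd_index (dvd_trans (by
      rw [hCRidx, hC1idx]; exact hqX) (Subgroup.index_dvd_of_le h))
    obtain ⟨y, hyQ, hyC⟩ := SetLike.not_le_iff_exists.mp hQC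
    have hyY : y ∈ Yb := by
      rw [hQ'] at hyQ
      obtain ⟨y', -, rfl⟩ := hyQ
      exact y'.2
    obtain ⟨j, hj⟩ := Q'.isPGroup' ⟨y, hyQ⟩
    obtain ⟨x, rfl⟩ := QuotientGroup.mk'_surjective TR y
    obtain ⟨w, hwx, ⟨m, hm⟩, hwf⟩ := exists_qPart ρ (x := x) (i := j)
      (orderOf_dvd_of_pow_eq_one (congrArg Subtype.val hj))
    refine ⟨w, ⟨m, by rw [Subgroup.orderOf_coe, hm]⟩, ⟨w, ?_, rfl⟩, fun hw => hyC ?_⟩
    · obtain ⟨k, rfl⟩ := Subgroup.mem_zpowers_iff.mp hwx
      exact zpow_mem (show x ∈ Yb.comap ρ from hyY) k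
    · obtain ⟨k, hk⟩ := Subgroup.mem_zpowers_iff.mp hwf
      rw [← hk]
      exact zpow_mem (show ρ w ∈ (C1.subgroupOf R).map ρ from ⟨w, hw, rfl⟩) k
  -- move it so that it contains `S`
  set YL := Y.map L1.subtype with hYL
  have hYp : ¬ p ∣ YL.index := by
    rw [hYL, Subgroup.index_map, Subgroup.ker_subtype, sup_bot_eq, Subgroup.range_subtype, hY,
      Subgroup.index_map, Subgroup.ker_subtype, sup_bot_eq, Subgroup.range_subtype,
      Subgroup.index_comap_of_surjective _ (QuotientGroup.mk'_surjective TR), hp.out.dvd_mul,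
      hp.out.dvd_mul]
    rintro ((h | h) | h)
    · exact SR.not_dvd_index (h.trans (Subgroup.index_dvd_of_le hSRYb))
    · have h1 := Subgroup.relIndex_sup_right R C1
      rw [hRC, Subgroup.relIndex_top_right] at h1
      have h2 : R.index = R.relIndex C1 := by
        have e1 := Subgroup.relIndex_mul_index (inf_le_left : R ⊓ C1 ≤ R)
        have e2 := Subgroup.relIndex_mul_index (inf_le_right : R ⊓ C1 ≤ C1)
        rw [Subgroup.inf_relIndex_left, ← h1] at e1
        rw [Subgroup.inf_relIndex_right, ← e1, mul_comm C1.index] at e2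
        exact Nat.eq_of_mul_eq_mul_right (Nat.pos_of_ne_zero (Subgroup.index_ne_zero_of_finite (H := C1))) e2.symm
      rw [h2] at h
      refine T0.not_dvd_index (h.trans ?_)
      rw [show (T0 : Subgroup ↥C1) = T.subgroupOf C1 from
        (Subgroup.comap_map_eq_self_of_injective C1.subtype_injective _).symm]
      exact Subgroup.relIndex_dvd_of_le_left C1 Subgroup.le_normalizer
    · exact SL.not_dvd_index (h.trans (Subgroup.index_dvd_of_le hSL1))
  obtain ⟨g, hg'⟩ := exists_conj_sylow_le YL hYp SL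
  set YG := (YL.map (MulAut.conj g).toMonoidHom).map L.subtype with hYG
  have hYGpq : IsPQ p q YG := isPQ_map _ (isPQ_map _ (isPQ_map _ hYpq))
  have hYGL : YG ≤ L := Subgroup.map_subtype_le _
  have hSY : S ≤ YG := fun x hx => ⟨⟨x, hSN hx⟩, hg' (show (⟨x, hSN hx⟩ : ↥L) ∈ S.subgroupOf L from hx), rfl⟩
  set w : ↥L := MulAut.conj g (z : ↥L) with hw
  have hwY : (w : G) ∈ YG := ⟨w, ⟨(z : ↥L), ⟨z, hzY, rfl⟩, rfl⟩, rfl⟩
  have hwC : (w : G) ∉ Subgroup.centralizer (H : Set G) := fun hc => hzC (by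
    show (z : ↥L) ∈ C
    have h2 : w ∈ C := hc
    rw [show (z : ↥L) = g⁻¹ * w * g⁻¹⁻¹ by rw [hw, MulAut.conj_apply]; group]
    exact Subgroup.Normal.conj_mem inferInstance _ h2 _)
  -- apply the key lemma inside `YG`
  have hSp' : IsPGroup p (S.subgroupOf YG) := hSp.of_equiv (Subgroup.subgroupOfEquivOfLe hSY).symm
  have hSi : ¬ p ∣ (S.subgroupOf YG).index := fun h =>
    hSidx (h.trans ⟨YG.relIndex L, (Subgroup.relIndex_mul_relIndex S YG L hSY hYGL).symm⟩)
  haveI : (H.subgroupOf YG).Normal := Subgroup.normal_subgroupOf_of_le_normalizer hYGL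
  obtain ⟨K, hK, y, ⟨j, hj⟩, hyN, hyC⟩ := exists_char_moved hpq h23 _ ↥YG rfl hYGpq (hSp'.toSylow hSi)
    (H.subgroupOf YG) inferInstance (hHp.of_equiv (Subgroup.subgroupOfEquivOfLe (hHS.trans hSY)).symm)
    ⟨w, hwY⟩ ⟨i, by rw [← hi, Subgroup.orderOf_mk, Subgroup.orderOf_coe, hw, MulEquiv.orderOf_eq,
      Subgroup.orderOf_coe]⟩ (fun hc => hwC fun v hv =>
      congrArg Subtype.val (hc ⟨v, hSY (hHS hv)⟩ hv))
  set K' := K.map YG.subtype with hK'
  have hK'S : K' ≤ S := by
    rintro _ ⟨v, hv, rfl⟩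
    exact hK.1 hv
  have hNK : Subgroup.normalizer (S : Set G) ≤ Subgroup.normalizer (K' : Set G) := by
    let e : ↥(S.subgroupOf YG) ≃* ↥S := Subgroup.subgroupOfEquivOfLe hSY
    haveI := hK.2
    haveI hker : (e.symm.toMonoidHom).ker.Characteristic := by
      rw [(MonoidHom.ker_eq_bot_iff _).mpr e.symm.injective]; infer_instance
    haveI hchar : (K'.subgroupOf S).Characteristic := by
      haveI : (K.subgroupOf (S.subgroupOf YG)).Characteristic := hK.2
      convert characteristic_comap (f := e.symm.toMonoidHom) e.symm.surjective hker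
        (K.subgroupOf (S.subgroupOf YG)) using 1
      ext v
      simp only [Subgroup.mem_subgroupOf, Subgroup.mem_comap]
      constructor
      · rintro ⟨v', hv', hvv⟩
        have hv2 : ((e.symm v : ↥(S.subgroupOf YG)) : ↥YG) = v' := Subtype.ext hvv.symm
        show ((e.symm v : ↥(S.subgroupOf YG)) : ↥YG) ∈ K
        rw [hv2]; exact hv'
      · intro hv'
        exact ⟨_, hv', rfl⟩
    have h1 := Cores.normalizer_le_normalizer_map_subtype S (K'.subgroupOf S)
    rwa [Subgroup.subgroupOf_map_subtype, inf_eq_left.mpr hK'S] at h1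
  have hlt' : S < (P0 : Subgroup G) := lt_of_le_of_ne hP0 fun h => hlt (by
    rw [← hg, Sylow.coe_subgroup_smul, h]
    exact le_of_eq (Subgroup.card_map_of_injective (MulAut.conj g₀).injective))
  have hgrow := Cfsg.Agent.Lib.Transfer.lt_inf_normalizer P0.isPGroup' hlt'
  refine absurd (hmax' K' _ (hSp.to_le hK'S) (P0.isPGroup'.to_le inf_le_left) (inf_le_right.trans hNK)
    ((dvd_index_iff K').mpr ⟨y, ⟨j, by rw [Subgroup.orderOf_coe, hj]⟩,
      Subgroup.le_normalizer_map YG.subtype ⟨y, hyN, rfl⟩, fun hc => hyC fun v hv =>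
        Subtype.ext (hc v ⟨v, hv, rfl⟩)⟩)) (not_le.mpr ?_)
  exact lt_of_not_ge fun hge => hgrow.not_ge (Subgroup.eq_of_le_of_card_ge hgrow.le hge).ge

end Cfsg.Agent.Lib.PLocal.Automizer
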