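import Cfsg.Agent.Lib.PLocal.GZJAxiom
import Cfsg.Agent.Lib.PLocal.ClosedTest

/-!
The nilpotency test of the axiomatic `ZJ` theorem.
-/

set_option autoImplicit false
set_option linter.unusedSectionVars false
set_option linter.style.haveILetI false

universe u

namespace Cfsg.Agent.Lib.PLocal

open Cfsg.Agent.Lib.FusionControl
open scoped commutatorElement

lemma RepFam.map_inter {X Y : Type*} [Group X] [Group Y] {P' : Subgroup Y} {𝒜 : Set (Subgroup Y)}
    (h : RepFam P' 𝒜) (f : X →* Y) (hf : Function.Injective f) {P : Subgroup X}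
    (hP : P.map f = P') {Q : Subgroup X} (hQ : Q ≤ P) :
    (inter ((fun A : Subgroup Y => A.comap f) '' 𝒜) Q).map f ⊓ f.range =
      inter 𝒜 (Q.map f) ⊓ f.range := by
  have hr : ∀ A ∈ 𝒜, A ≤ f.range := fun A hA => (h.le A hA).trans (hP.ge.trans (Subgroup.map_le_range _ _))
  have hmem : ∀ x : X, x ∈ inter ((fun A : Subgroup Y => A.comap f) '' 𝒜) Q ↔
      f x ∈ inter 𝒜 (Q.map f) := by
    intro x
    rw [inter, inter, Subgroup.mem_sInf, Subgroup.mem_sInf]
    constructor
    · rintro hx A ⟨hA, hAQ⟩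
      exact hx _ ⟨⟨A, hA, rfl⟩, fun y hy => by
        obtain ⟨q, hq, hqy⟩ := hAQ hy
        exact hf hqy ▸ hq⟩
    · rintro hx _ ⟨⟨A, hA, rfl⟩, hAQ⟩
      refine hx A ⟨hA, ?_⟩
      rw [← Subgroup.map_comap_eq_self (hr A hA)]
      exact Subgroup.map_mono hAQ
  ext y
  simp only [Subgroup.mem_inf]
  constructor
  · rintro ⟨⟨x, hx, rfl⟩, h2⟩
    exact ⟨(hmem x).1 hx, h2⟩
  · rintro ⟨h1, x, rfl⟩
    exact ⟨⟨x, (hmem x).2 h1, rfl⟩, x, rfl⟩

lemma inter_le_range {X Y : Type*} [Group X] [Group Y] {P' : Subgroup Y} {𝒜 : Set (Subgroup Y)}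
    (h : RepFam P' 𝒜) {f : X →* Y} (hP : P' ≤ f.range) {Q : Subgroup Y}
    (hA : ∃ A ∈ 𝒜, A ≤ Q) : inter 𝒜 Q ≤ f.range := by
  obtain ⟨A, hA, hAQ⟩ := hA
  exact (inter_le hA hAQ).trans ((h.le A hA).trans hP)

lemma RepFam.map_inter' {X Y : Type*} [Group X] [Group Y] {P' : Subgroup Y} {𝒜 : Set (Subgroup Y)}
    (h : RepFam P' 𝒜) (f : X →* Y) (hf : Function.Injective f) {P : Subgroup X}
    (hP : P.map f = P') {Q : Subgroup X} (hQ : Q ≤ P) (hA : ∃ A ∈ 𝒜, A ≤ Q.map f) :
    (inter ((fun A : Subgroup Y => A.comap f) '' 𝒜) Q).map f = inter 𝒜 (Q.map f) := by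
  have h1 := h.map_inter f hf hP hQ
  rwa [inf_eq_left.2 (Subgroup.map_le_range _ _),
    inf_eq_left.2 (inter_le_range h (hP.ge.trans (Subgroup.map_le_range _ _)) hA)] at h1

lemma RepFam.comap {X Y : Type*} [Group X] [Group Y] {P' : Subgroup Y} {𝒜 : Set (Subgroup Y)}
    (h : RepFam P' 𝒜) (f : X →* Y) (hf : Function.Injective f) {P : Subgroup X}
    (hP : P.map f = P') : RepFam P ((fun A : Subgroup Y => A.comap f) '' 𝒜) := by
  have hr : ∀ A ∈ 𝒜, (A.comap f).map f = A := fun A hA =>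
    Subgroup.map_comap_eq_self ((h.le A hA).trans (hP.ge.trans (Subgroup.map_le_range _ _)))
  have hle : ∀ A ∈ 𝒜, A.comap f ≤ P := fun A hA => by
    rw [← Subgroup.map_le_map_iff_of_injective hf, hr A hA, hP]
    exact h.le A hA
  refine ⟨?_, ?_, h.ne.image _, ?_, ?_⟩
  · rintro _ ⟨A, hA, rfl⟩
    exact hle A hA
  · rintro _ ⟨A, hA, rfl⟩ a ha b hb
    exact hf (by rw [map_mul, map_mul]; exact h.comm A hA _ ha _ hb)
  · rintro Q hQ ⟨_, ⟨A, hA, rfl⟩, hAQ⟩ g hg x hx
    have hAQ' : A ≤ Q.map f := (hr A hA).ge.trans (Subgroup.map_mono hAQ)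
    have h1 : f x ∈ inter 𝒜 (Q.map f) ⊓ f.range :=
      (h.map_inter f hf hP hQ).le ⟨⟨x, hx, rfl⟩, x, rfl⟩
    have h2 := h.inv (Q.map f) ((Subgroup.map_mono hQ).trans hP.le) ⟨A, hA, hAQ'⟩ (f g)
      (Subgroup.le_normalizer_map f ⟨g, hg, rfl⟩) (f x) h1.1
    rw [← map_inv, ← map_mul, ← map_mul] at h2
    obtain ⟨⟨y, hy, hye⟩, -⟩ := (h.map_inter f hf hP hQ).ge ⟨h2, _, rfl⟩
    exact hf hye ▸ hy
  · rintro B hB hc ⟨_, ⟨A, hA, rfl⟩, hBA, hBnA⟩
    have hcm : ∀ A ∈ 𝒜, (⁅B, B⁆ ≤ A.comap f ↔ ⁅B.map f, B.map f⁆ ≤ A) := fun A _ => by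
      rw [← Subgroup.map_commutator, Subgroup.map_le_iff_le_comap]
    have hbm : ∀ A ∈ 𝒜, (B ≤ A.comap f ↔ B.map f ≤ A) := fun A _ => Subgroup.map_le_iff_le_comap.symm
    obtain ⟨A', hA', h1, h2, h3⟩ := h.rep (B.map f) ((Subgroup.map_mono hB).trans hP.le)
      (by rw [← Subgroup.map_commutator, ← Subgroup.map_commutator, hc, Subgroup.map_bot])
      ⟨A, hA, (hcm A hA).1 hBA, fun h => hBnA ((hbm A hA).2 h)⟩
    refine ⟨_, ⟨A', hA', rfl⟩, (hcm A' hA').2 h1, fun h => h2 ((hbm A' hA').1 h), fun b hb => ?_⟩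
    rw [Subgroup.mem_normalizer_iff]
    intro x
    simp only [Subgroup.mem_comap, map_mul, map_inv]
    exact Subgroup.mem_normalizer_iff.1 (h3 ⟨b, hb, rfl⟩) (f x)

variable {p : ℕ} [Fact p.Prime]

/-- The test for a family with invariance and replacement. -/
theorem isPGroup_of_repFam (hp : p ≠ 2) : ∀ (n : ℕ) (L : Type u) [Group L] [Finite L],
    Nat.card L = n → ∀ (T : Sylow p L) (𝒜 : Set (Subgroup L)), RepFam (T : Subgroup L) 𝒜 →
    CharPType p L →
    (∀ g ∈ Subgroup.normalizer (inter 𝒜 (T : Subgroup L) : Set L), ∃ k : ℕ, g ^ p ^ k = 1) →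
    IsPGroup p L := by
  intro n
  induction n using Nat.strong_induction_on with
  | _ n ih =>
    intro L _ _ hn T 𝒜 hF hC hN
    by_cases htop : (T : Subgroup L) = ⊤
    · exact (htop ▸ T.2).of_equiv Subgroup.topEquiv
    -- if `Z` is normal we are done
    have hdone : Subgroup.normalizer (inter 𝒜 (T : Subgroup L) : Set L) = ⊤ → IsPGroup p L := fun h g =>
      hN g (h ▸ Subgroup.mem_top g)
    haveI hQn := Cfsg.pCore_normal p L
    have hQT : Cfsg.pCore p L ≤ (T : Subgroup L) := Cores.pCore_le_sylow T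
    have hco : IsCoatom (T : Subgroup L) := by
      refine ⟨htop, fun H hTH => ?_⟩
      by_contra hH
      have hHp : IsPGroup p H := by
        have hlt : Nat.card H < n := hn ▸ lt_of_le_of_ne (Subgroup.card_le_card_group H)
          fun e => hH (Subgroup.eq_top_of_card_eq H e)
        have hPmap : ((T.subtype hTH.le : Sylow p H) : Subgroup H).map H.subtype = (T : Subgroup L) := by
          rw [Sylow.coe_subtype, Subgroup.subgroupOf_map_subtype, inf_eq_left.2 hTH.le]
        refine ih _ hlt H rfl (T.subtype hTH.le) _ (hF.comap H.subtype H.subtype_injective hPmap) ?_ ?_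
        · have h1 : (Cfsg.pCore p L).subgroupOf H ≤ Cfsg.pCore p H :=
            Cores.le_pCore inferInstance ((Cores.pCore_isPGroup p L).of_equiv
              (Subgroup.subgroupOfEquivOfLe (hQT.trans hTH.le)).symm)
          intro x hx
          refine h1 (Subgroup.mem_subgroupOf.2 (hC fun z hz => ?_))
          exact congrArg Subtype.val (hx ⟨z, hTH.le (hQT hz)⟩ (h1 hz))
        · intro g hg
          have h3 : (g : L) ∈ Subgroup.normalizer (inter 𝒜 (T : Subgroup L) : Set L) := by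
            obtain ⟨A, hA⟩ := hF.ne
            rw [← hPmap, ← hF.map_inter' H.subtype H.subtype_injective hPmap le_rfl
              ⟨A, hA, (hF.le A hA).trans hPmap.ge⟩]
            exact Subgroup.le_normalizer_map H.subtype ⟨g, hg, rfl⟩
          obtain ⟨k, hk⟩ := hN g h3
          exact ⟨k, Subtype.ext (by simpa using hk)⟩
      exact hTH.ne (T.3 hHp hTH.le).symm
    set π := QuotientGroup.mk' (Cfsg.pCore p L) with hπ
    have hsurj : Function.Surjective π := QuotientGroup.mk'_surjective _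
    have hnpc : Cfsg.HasNormalPComplement p (L ⧸ Cfsg.pCore p L) := by
      set U := T.mapSurjective hsurj with hU
      refine npc_zjA hp U ?_
      set H := (Subgroup.normalizer ((Cfsg.centerThompsonAOf (U : Subgroup (L ⧸ Cfsg.pCore p L)) :
        Subgroup (L ⧸ Cfsg.pCore p L)) : Set (L ⧸ Cfsg.pCore p L))) with hH
      have hUH : (U : Subgroup (L ⧸ Cfsg.pCore p L)) ≤ H := by
        rw [hH, ← zIn_zero_eq]
        exact Subgroup.le_normalizer.trans (normalizer_le_normalizer_zIn 0 _)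
      have hTH : (T : Subgroup L) ≤ H.comap π := fun x hx =>
        hUH (by rw [hU, Sylow.coe_mapSurjective]; exact ⟨x, hx, rfl⟩)
      rcases hTH.eq_or_lt with e | hlt
      · refine hasNormalPComplement_of_isPGroup ?_
        have h1 : IsPGroup p ↥((H.comap π).map π) := (e ▸ T.2).map π
        rwa [Subgroup.map_comap_eq_self_of_surjective hsurj] at h1
      · have hHtop : H = ⊤ := by
          rw [← Subgroup.map_comap_eq_self_of_surjective hsurj H, hco.2 _ hlt,
            Subgroup.map_top_of_surjective π hsurj]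
        haveI : (Cfsg.centerThompsonAOf (U : Subgroup (L ⧸ Cfsg.pCore p L))).Normal :=
          Subgroup.normalizer_eq_top_iff.1 hHtop
        -- then the Sylow subgroup is trivial
        have hZ : Cfsg.centerThompsonAOf (U : Subgroup (L ⧸ Cfsg.pCore p L)) = ⊥ := by
          refine le_bot_iff.1 ((Cores.le_pCore inferInstance (U.2.to_le ?_)).trans
            (Cores.pCore_quotient_pCore p L).le)
          rw [← zIn_zero_eq]
          exact zIn_le_self 0 _
        have hUbot : (U : Subgroup (L ⧸ Cfsg.pCore p L)) = ⊥ := by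
          by_contra hne
          haveI := (Subgroup.nontrivial_iff_ne_bot _).2 hne
          obtain ⟨⟨z, hz⟩, hz1⟩ := @exists_ne (Subgroup.center ↥(U : Subgroup (L ⧸ Cfsg.pCore p L)))
            U.2.center_nontrivial 1
          refine hz1 (Subtype.ext (Subtype.ext (Subgroup.mem_bot.1 ?_)))
          rw [← hZ, ← zIn_zero_eq]
          exact center_le_zIn_zero _ ⟨z.2, fun y hy =>
            congrArg Subtype.val (Subgroup.mem_center_iff.1 hz ⟨y, hy⟩)⟩
        have hTQ : (T : Subgroup L) = Cfsg.pCore p L := by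
          refine le_antisymm (fun x hx => ?_) hQT
          have h1 : π x ∈ (U : Subgroup (L ⧸ Cfsg.pCore p L)) := by
            rw [hU, Sylow.coe_mapSurjective]; exact ⟨x, hx, rfl⟩
          rw [hUbot, Subgroup.mem_bot] at h1
          exact (QuotientGroup.eq_one_iff x).1 h1
        refine hasNormalPComplement_of_isPGroup (((hdone ?_).of_surjective π hsurj).to_subgroup _)
        rw [eq_top_iff]
        intro g _
        obtain ⟨A, hA⟩ := hF.ne
        refine hF.mem_normalizer le_rfl ⟨A, hA, hF.le A hA⟩ ?_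
        rw [hTQ, Subgroup.normalizer_eq_top]
        trivial
    have hst := isNormalizerPStable_of_hasAbTop hp (hasAbTop_minimal hnpc T hco)
    refine hdone (Subgroup.normalizer_eq_top_iff.2 ?_)
    exact inter_normal hC (fun P _ hP => isPStableOn_of_normalizerPStable hst P hP) T hF

end Cfsg.Agent.Lib.PLocal
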