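import Cfsg.Agent.Lib.PLocal.CommFixCentral

/-!
Fixed points in the commutator subgroup of a coprime automorphism of odd prime order: the theorem.
-/

set_option autoImplicit false

open scoped commutatorElement

namespace Cfsg.Agent.Lib.PLocal.CommFix

universe u

variable {p : ℕ} [hp : Fact p.Prime]

theorem fix_le_pieces_step (hp2 : p ≠ 2) {G : Type u} [Group G] [Finite G] [Group.IsSolvable G]
    {x : MulAut G} (IH : HoldsBelow.{u} p (Nat.card G)) (hx : x ^ p = 1)
    (hc : ¬ p ∣ Nat.card G) (htop : genIn x ⊤ = ⊤) : fix x ≤ pieces x := by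
  classical
  by_contra hbad
  have nogood : ∀ (V : Subgroup G), V.Normal → Inv x V → V ⊓ fix x ≤ pieces x → V = ⊥ :=
    fun V hn hV hgood => by_contra fun hne => hbad (fix_le_of_good IH hx hc htop hV hne hgood)
  -- a minimal invariant abelian normal subgroup
  let S : Set (Subgroup G) := {V | V.Normal ∧ Inv x V ∧ V ≠ ⊥ ∧ ∀ a ∈ V, ∀ b ∈ V, a * b = b * a}
  have hS : S.Nonempty := by
    obtain ⟨n, hn⟩ := (Group.isSolvable_def G).mp ‹_›
    have hex : ∃ n, derivedSeries G n = ⊥ := ⟨n, hn⟩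
    obtain ⟨m, hm⟩ : ∃ m, Nat.find hex = m + 1 := by
      refine Nat.exists_eq_succ_of_ne_zero fun h0 => hbad fun c _ => ?_
      have h1 := Nat.find_spec hex
      rw [h0, derivedSeries_zero] at h1
      rw [Subgroup.mem_bot.mp (h1 ▸ Subgroup.mem_top c : c ∈ (⊥ : Subgroup G))]
      exact one_mem _
    refine ⟨derivedSeries G m, derivedSeries_normal G m, inv_of_characteristic _,
      Nat.find_min hex (by omega), ?_⟩
    have h2 := Nat.find_spec hex
    rw [hm, derivedSeries_succ, Subgroup.commutator_eq_bot_iff_le_centralizer] at h2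
    exact fun a ha b hb => (h2 hb a ha)
  obtain ⟨V, ⟨hVn, hVi, hVne, hVab⟩, hVmin⟩ := (wellFounded_lt (α := Subgroup G)).has_min S hS
  have hmin : ∀ W : Subgroup G, W ≤ V → W.Normal → Inv x W → W = ⊥ ∨ W = V := fun W hW hWn hWi => by
    by_contra! h
    exact hVmin W ⟨hWn, hWi, h.1, fun a ha b hb => hVab a (hW ha) b (hW hb)⟩
      (lt_of_le_of_ne hW h.2)
  set q := (Nat.card V).minFac with hq_def
  have hV1 : 1 < Nat.card V := (Subgroup.one_lt_card_iff_ne_bot V).mpr hVne
  have hq : q.Prime := Nat.minFac_prime hV1.ne'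
  have hqF : Fact q.Prime := ⟨hq⟩
  have hVq : ∀ v ∈ V, v ^ q = 1 := by
    let T : Subgroup G :=
      { carrier := {v | v ∈ V ∧ v ^ q = 1}
        one_mem' := ⟨one_mem _, one_pow _⟩
        mul_mem' := fun {a b} ha hb => ⟨mul_mem ha.1 hb.1, by
          rw [(show Commute a b from hVab a ha.1 b hb.1).mul_pow, ha.2, hb.2, one_mul]⟩
        inv_mem' := fun {a} ha => ⟨inv_mem ha.1, by rw [inv_pow, ha.2, inv_one]⟩ }
    have hT : T = V := by
      refine (hmin T (fun v hv => hv.1) ⟨fun v hv g => ⟨hVn.conj_mem v hv.1 g, ?_⟩⟩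
        (fun v hv => ⟨hVi v hv.1, by rw [← map_pow, hv.2, map_one]⟩)).resolve_left fun h => ?_
      · rw [conj_pow, hv.2, mul_one, mul_inv_cancel]
      · obtain ⟨v, hv⟩ := exists_prime_orderOf_dvd_card' (G := V) q (Nat.minFac_dvd _)
        have : (v : G) ∈ T := ⟨v.2, congrArg Subtype.val (hv ▸ pow_orderOf_eq_one v : v ^ q = 1)⟩
        rw [h, Subgroup.mem_bot] at this
        rw [show v = 1 from Subtype.ext this, orderOf_one] at hv
        exact hq.one_lt.ne hv
    exact fun v hv => (hT.ge hv).2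
  haveI := hVn
  letI : CommGroup V :=
    { (inferInstance : Group V) with mul_comm := fun a b => Subtype.ext (hVab a a.2 b b.2) }
  set τ : MulAut V := resAut x hVi with hτ_def
  have hτ : τ ^ p = 1 := by
    refine MulEquiv.ext fun s => Subtype.ext ?_
    rw [hτ_def, coe_resAut_pow, hx]
    rfl
  let φ : G →* MulAut V := MulAut.conjNormal
  have heq : ∀ g (v : V), τ (φ g v) = φ (x g) (τ v) := fun g v => Subtype.ext (by
    show x ((φ g v : V) : G) = x g * x (v : G) * (x g)⁻¹
    rw [MulAut.conjNormal_apply, map_mul, map_mul, map_inv])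
  set ker : Subgroup V := ((pieces x).subgroupOf V).comap (norm' τ p) with hker_def
  let I : Subgroup G :=
    { carrier := {g | ∀ v : V, φ g v * v⁻¹ ∈ ker}
      one_mem' := fun v => by simp
      mul_mem' := fun {a b} ha hb v => by
        have := mul_mem (ha (φ b v)) (hb v)
        rwa [← MulAut.mul_apply, ← map_mul, mul_assoc, inv_mul_cancel_left] at this
      inv_mem' := fun {a} ha v => by
        have := inv_mem (ha (φ a⁻¹ v))
        rwa [mul_inv_rev, inv_inv, ← MulAut.mul_apply, ← map_mul, mul_inv_cancel, map_one,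
          MulAut.one_apply] at this }
  have hVI : V ≤ I := fun w hw v => by
    have : φ w v = v := Subtype.ext (by
      show w * (v : G) * w⁻¹ = v
      rw [hVab w hw v v.2, mul_inv_cancel_right])
    rw [this, mul_inv_cancel]
    exact one_mem _
  have hnfix : ∀ v : V, x ((norm' τ p v : V) : G) = (norm' τ p v : V) := fun v =>
    congrArg Subtype.val (norm'_fixed hτ v)
  have hfixI : fix x ≤ I := by
    intro c hcf
    obtain ⟨d, hd, hdc⟩ := exists_pieces_mul IH hx hc htop hVi hVne (mem_fix.mp hcf)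
    have hdI : d ∈ I := by
      intro v
      have hcomm : ∀ i, ∀ w : V, (τ ^ i) (φ d w) = φ d ((τ ^ i) w) := fun i w => by
        induction i with
        | zero => rfl
        | succ i ih => rw [pow_succ_apply', pow_succ_apply', ih, heq, mem_fix.mp (pieces_le_fix hd)]
      have hn : norm' τ p (φ d v) = φ d (norm' τ p v) := by
        rw [norm'_apply, norm'_apply, map_prod]
        exact Finset.prod_congr rfl fun i _ => hcomm i v
      show ((norm' τ p (φ d v * v⁻¹) : V) : G) ∈ pieces x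
      rw [map_mul, map_inv, hn, Subgroup.coe_mul, Subgroup.coe_inv, MulAut.conjNormal_apply]
      have h1 := fix_conj_pieces (hnfix v) ((pieces x).inv_mem hd)
      rw [show d * ((norm' τ p v : V) : G) * d⁻¹ * ((norm' τ p v : V) : G)⁻¹ =
        d * (((norm' τ p v : V) : G) * d⁻¹ * ((norm' τ p v : V) : G)⁻¹) by group]
      exact mul_mem hd h1
    simpa using mul_mem hdI (hVI hdc)
  have hclI : ∀ h, cl x h ⊔ V ≠ ⊤ → cl x h ≤ I := by
    intro h hne g hg v
    have hMi : Inv x (cl x h ⊔ V) := (cl_inv h).sup hVi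
    have hgM : g ∈ genIn x (cl x h ⊔ V) := cl_le_genIn_of_le hx hc le_sup_left hg
    have hu : ((φ g v * v⁻¹ : V) : G) ∈ genIn x (cl x h ⊔ V) := by
      have h1 := mul_mem hgM
        (genIn_conj_mem (v : G) (Subgroup.mem_sup_right v.2) (inv_mem hgM))
      rwa [Subgroup.coe_mul, Subgroup.coe_inv, MulAut.conjNormal_apply,
        show g * (v : G) * g⁻¹ * (v : G)⁻¹ = g * ((v : G) * g⁻¹ * (v : G)⁻¹) by group]
    show ((norm' τ p (φ g v * v⁻¹) : V) : G) ∈ pieces x
    refine genIn_inf_fix_le IH hx hc hMi hne ⟨?_, hnfix _⟩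
    show norm' τ p (φ g v * v⁻¹) ∈ (genIn x (cl x h ⊔ V)).subgroupOf V
    rw [norm'_apply]
    refine Subgroup.prod_mem _ fun i _ => ?_
    show ((((τ ^ i) (φ g v * v⁻¹)) : V) : G) ∈ genIn x (cl x h ⊔ V)
    rw [hτ_def, coe_resAut_pow]
    exact (genIn_inv _).pow_mem i hu
  -- not every element lies in `I`
  have hI : I ≠ ⊤ := by
    intro hI
    have hK : ker.map V.subtype = ⊥ ∨ ker.map V.subtype = V := by
      refine hmin _ (Subgroup.map_subtype_le _) ⟨?_⟩ ?_
      · rintro _ ⟨v, hv, rfl⟩ g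
        refine ⟨φ g v, ?_, MulAut.conjNormal_apply g v⟩
        have := mul_mem ((hI ▸ Subgroup.mem_top g : g ∈ I) v) hv
        rwa [inv_mul_cancel_right] at this
      · rintro _ ⟨v, hv, rfl⟩
        refine ⟨τ v, ?_, rfl⟩
        show norm' τ p (τ v) ∈ (pieces x).subgroupOf V
        rw [norm'_apply_aut hτ]
        exact hv
    rcases hK with hK | hK
    · have hker : ∀ v ∈ ker, v = (1 : V) := fun v hv =>
        Subtype.ext (Subgroup.mem_bot.mp (hK ▸ ⟨v, hv, rfl⟩))
      obtain ⟨v, hv⟩ := exists_prime_orderOf_dvd_card' (G := V) q (Nat.minFac_dvd _)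
      have hvc : (v : G) ∈ Subgroup.center G := Subgroup.mem_center_iff.mpr fun g => by
        have := mul_inv_eq_one.mp (hker _ ((hI ▸ Subgroup.mem_top g : g ∈ I) v))
        have h1 := congrArg Subtype.val this
        rw [MulAut.conjNormal_apply, mul_inv_eq_iff_eq_mul] at h1
        exact h1
      have hvf : x (v : G) = v := by
        have h1 : τ v * v⁻¹ ∈ ker := by
          show norm' τ p (τ v * v⁻¹) ∈ (pieces x).subgroupOf V
          rw [map_mul, map_inv, norm'_apply_aut hτ, mul_inv_cancel]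
          exact one_mem _
        exact congrArg Subtype.val (mul_inv_eq_one.mp (hker _ h1))
      refine false_of_central IH hx hc hp2 htop hbad hvc hvf ?_
      rw [Subgroup.orderOf_coe, hv]
      exact hq
    · refine hVne (nogood V hVn hVi fun w ⟨hwV, hwf⟩ => mem_of_pow_mem hc ?_)
      obtain ⟨v, hv, rfl⟩ := hK.ge hwV
      have hvf : τ v = v := Subtype.ext (mem_fix.mp hwf)
      have : norm' τ p v ∈ (pieces x).subgroupOf V := hv
      rw [norm'_of_fixed hvf] at this
      exact this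
  obtain ⟨h, hh, hhI⟩ : ∃ h, cl x h ⊔ V = ⊤ ∧ ¬ cl x h ≤ I := by
    by_contra! hall
    refine hI (eq_top_iff.mpr (htop ▸ (Subgroup.closure_le _).mpr ?_))
    rintro _ ⟨g, -, i, rfl⟩
    by_cases hg : cl x g ⊔ V = ⊤
    · exact hall g hg (del_mem_cl i g)
    · exact hclI g hg (del_mem_cl i g)
  set K := cl x h with hK_def
  have hKi : Inv x K := cl_inv h
  have split : ∀ L : Subgroup G, L ⊔ V = ⊤ → ∀ g : G, ∃ k ∈ L, ∃ w ∈ V, k * w = g :=
    fun L hL g => Subgroup.mem_sup_of_normal_right.mp (hL ▸ Subgroup.mem_top g)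
  have hdisj : ∀ g, cl x g ⊔ V = ⊤ → ∀ a, a ∈ cl x g → a ∈ V → a = 1 := by
    intro g hg a ha haV
    have hn : (cl x g ⊓ V).Normal := by
      refine ⟨fun b hb t => ⟨?_, hVn.conj_mem b hb.2 t⟩⟩
      obtain ⟨k, hk, w, hw, rfl⟩ := split _ hg t
      rw [show k * w * b * (k * w)⁻¹ = k * (w * b * w⁻¹) * k⁻¹ by group, hVab w hw b hb.2,
        mul_inv_cancel_right]
      exact (cl x g).mul_mem ((cl x g).mul_mem hk hb.1) ((cl x g).inv_mem hk)
    rcases hmin _ inf_le_right hn ((cl_inv g).inf hVi) with h1 | h1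
    · exact Subgroup.mem_bot.mp (h1 ▸ ⟨ha, haV⟩)
    · have h2 : cl x g = ⊤ := by
        rw [← hg, sup_eq_left.mpr (inf_eq_right.mp h1)]
      exact absurd (fun c hcf => cl_inf_fix_le_pieces g ⟨h2.symm ▸ Subgroup.mem_top c, hcf⟩) hbad
  have huniq : ∀ k k' w w', k ∈ K → k' ∈ K → w ∈ V → w' ∈ V → k * w = k' * w' → k = k' ∧ w = w' := by
    intro k k' w w' hk hk' hw hw' he
    have h1 : k'⁻¹ * k = w' * w⁻¹ := by
      rw [inv_mul_eq_iff_eq_mul, ← mul_assoc, ← he, mul_inv_cancel_right]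
    have h2 := hdisj h hh (k'⁻¹ * k) (mul_mem (inv_mem hk') hk) (h1 ▸ mul_mem hw' (inv_mem hw))
    have h3 : k = k' := (inv_mul_eq_one.mp h2).symm
    exact ⟨h3, mul_left_cancel (h3 ▸ he)⟩
  have hsmall : ∀ L : Subgroup G, L ≤ K → Inv x L → L ≠ K → L ≤ I := by
    intro L hLK hLi hLne y hy
    obtain ⟨k, hk, hcf, -⟩ := exists_self_rep hx hc y
    have hne : cl x y ⊔ V ≠ ⊤ := fun htop' => hLne (le_antisymm hLK fun a ha => by
      obtain ⟨l, hl, w, hw, he⟩ := split _ htop' a
      have hlL := cl_le_of_inv hLi hy hl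
      have : w = 1 := hdisj h hh w (by
        rw [← inv_mul_eq_iff_eq_mul.mpr he.symm]
        exact mul_mem (inv_mem (hLK hlL)) ha) hw
      rw [← he, this, mul_one]
      exact hlL)
    have := mul_mem (hfixI hcf) (hclI y hne hk)
    rwa [inv_mul_cancel_right] at this
  -- `K` is an `r`-group
  have hKp : ∃ r, r.Prime ∧ IsPGroup r K := by
    by_contra! hnp
    refine hhI ?_
    have key : (I.subgroupOf K).index = 1 := by
      refine Nat.eq_one_iff_not_exists_prime_dvd.mpr fun r hr hdvd => ?_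
      have : Fact r.Prime := ⟨hr⟩
      have hxK : resAut x hKi ^ p = 1 := by
        refine MulEquiv.ext fun s => Subtype.ext ?_
        rw [coe_resAut_pow, hx]
        rfl
      obtain ⟨R, hR⟩ := exists_inv_sylow hxK (not_dvd_card_subgroup hc K) r
      refine R.not_dvd_index (hdvd.trans (Subgroup.index_dvd_of_le fun a ha => ?_))
      refine hsmall ((R : Subgroup K).map K.subtype) (Subgroup.map_subtype_le _) ?_ ?_
        ⟨a, ha, rfl⟩
      · rintro _ ⟨b, hb, rfl⟩
        exact ⟨resAut x hKi b, hR b hb, rfl⟩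
      · intro he
        refine hnp r hr fun b => ?_
        obtain ⟨b', hb', hbb⟩ : (b : G) ∈ (R : Subgroup K).map K.subtype := he.ge b.2
        obtain rfl : b' = b := Subtype.ext hbb
        obtain ⟨n, hn⟩ := R.isPGroup' ⟨b', hb'⟩
        exact ⟨n, congrArg Subtype.val hn⟩
    exact Subgroup.subgroupOf_eq_top.mp (Subgroup.index_eq_one.mp key)
  obtain ⟨r, hr, hKr⟩ := hKp
  have hrF : Fact r.Prime := ⟨hr⟩
  have hKne : K ≠ ⊥ := fun hbot => hhI (hbot.le.trans bot_le)
  have hctr : ∀ U : Subgroup G, U ≤ V → U.Normal → Inv x U → U ≠ ⊥ →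
      (∀ k ∈ K, ∀ u ∈ U, k * u = u * k) → False := by
    intro U hUV hUn hUi hUne hcomm
    obtain rfl := (hmin U hUV hUn hUi).resolve_left hUne
    refine hI (eq_top_iff.mpr fun g _ v => ?_)
    obtain ⟨k, hk, w, hw, rfl⟩ := split K hh g
    have : φ (k * w) v = v := Subtype.ext (by
      show k * w * (v : G) * (k * w)⁻¹ = v
      rw [mul_assoc k, hVab w hw v v.2, ← mul_assoc, hcomm k hk v v.2]
      group)
    rw [this, mul_inv_cancel]
    exact one_mem _
  have hrq : r ≠ q := by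
    rintro rfl
    have hG : IsPGroup (Nat.card V).minFac G := fun g => by
      obtain ⟨k, hk, w, hw, rfl⟩ := split K hh g
      obtain ⟨n, hn⟩ := hKr ⟨k, hk⟩
      refine ⟨n + 1, ?_⟩
      rw [pow_succ, pow_mul]
      refine hVq _ ?_
      rw [← QuotientGroup.eq_one_iff, QuotientGroup.mk_pow, QuotientGroup.mk_mul,
        (QuotientGroup.eq_one_iff w).mpr hw, mul_one, ← QuotientGroup.mk_pow,
        show k ^ (Nat.card V).minFac ^ n = 1 from congrArg Subtype.val hn, QuotientGroup.mk_one]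
    haveI : Group.IsNilpotent G := hG.isNilpotent
    exact hctr (V ⊓ Subgroup.center G) inf_le_left (normal_of_le_center inf_le_right)
      (hVi.inf (inv_of_characteristic _)) (Solvable.inf_center_ne_bot hVne)
      fun k _ u hu => Subgroup.mem_center_iff.mp hu.2 k
  -- the derived subgroup of `K` centralizes `V`
  have hK'lt : ⁅K, K⁆ < K := Group.IsSolvable.commutator_lt_of_ne_bot hKne
  have hK'i : Inv x ⁅K, K⁆ := Inv.of_le (by
    rw [Subgroup.map_commutator]; exact Subgroup.commutator_mono hKi.map_le hKi.map_le)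
  have hK'I : ⁅K, K⁆ ≤ I := hsmall _ hK'lt.le hK'i hK'lt.ne
  have hK'c : ∀ a ∈ ⁅K, K⁆, φ a = 1 := by
    set U := fixedBySub φ ⁅K, K⁆ with hU
    have hKU : ∀ g : G, ∀ u ∈ U, φ g u ∈ U := by
      intro g u hu a ha
      obtain ⟨k, hk, w, hw, rfl⟩ := split K hh g
      have hw1 : φ w = 1 := MulEquiv.ext fun v => Subtype.ext (by
        show w * (v : G) * w⁻¹ = v
        rw [hVab w hw v v.2, mul_inv_cancel_right])
      rw [map_mul, hw1, mul_one, ← MulAut.mul_apply, ← map_mul,
        show a * k = k * (k⁻¹ * a * k) by group, map_mul, MulAut.mul_apply, hu]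
      have h1 : ⁅K, K⁆.map (MulAut.conj k⁻¹).toMonoidHom ≤ ⁅K, K⁆ := by
        rw [Subgroup.map_commutator]
        have : K.map (MulAut.conj k⁻¹).toMonoidHom ≤ K := by
          rintro _ ⟨b, hb, rfl⟩
          exact mul_mem (mul_mem (inv_mem hk) hb) (inv_mem (inv_mem hk))
        exact Subgroup.commutator_mono this this
      have := h1 ⟨a, ha, rfl⟩
      simpa [MulAut.conj_apply] using this
    rcases hmin (U.map V.subtype) (Subgroup.map_subtype_le _)
        ⟨by rintro _ ⟨u, hu, rfl⟩ g; exact ⟨φ g u, hKU g u hu, MulAut.conjNormal_apply g u⟩⟩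
        (by
          rintro _ ⟨u, hu, rfl⟩
          refine ⟨τ u, fun a ha => ?_, rfl⟩
          have hax : x.symm a ∈ ⁅K, K⁆ := by
            obtain ⟨b, hb, rfl⟩ := hK'i.map_eq.ge ha
            rwa [show x.symm (x.toMonoidHom b) = b from x.symm_apply_apply b]
          have := heq (x.symm a) u
          rw [hu _ hax, x.apply_symm_apply] at this
          exact this.symm) with hU0 | hUV
    · exfalso
      refine hVne (nogood V hVn hVi fun w ⟨hwV, hwf⟩ => ?_)
      let v : V := ⟨w, hwV⟩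
      haveI := Fintype.ofFinite ↥⁅K, K⁆
      set P := ∏ a : ↥⁅K, K⁆, φ (a : G) v with hP
      have hPU : P ∈ U := fun b hb => by
        rw [hP, map_prod]
        exact Fintype.prod_equiv (Equiv.mulLeft (⟨b, hb⟩ : ↥⁅K, K⁆)) _ _ fun a => by
          rw [← MulAut.mul_apply, ← map_mul]
          rfl
      have hP1 : P = 1 := Subtype.ext (Subgroup.mem_bot.mp (hU0 ▸ ⟨P, hPU, rfl⟩))
      have h1 : P * (v ^ Nat.card ↥⁅K, K⁆)⁻¹ ∈ ker := by
        rw [hP, Nat.card_eq_fintype_card, ← Finset.card_univ, ← Finset.prod_const,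
          ← Finset.prod_inv_distrib, ← Finset.prod_mul_distrib]
        exact Subgroup.prod_mem _ fun a _ => hK'I a.2 v
      rw [hP1, one_mul, inv_mem_iff, hker_def, Subgroup.mem_comap, map_pow,
        norm'_of_fixed (Subtype.ext hwf : τ v = v), Subgroup.mem_subgroupOf] at h1
      refine mem_of_pow_mem hc ?_
      obtain ⟨n, hn⟩ := IsPGroup.iff_card.mp (hKr.to_le hK'lt.le)
      have hcop : (orderOf (w ^ p)).Coprime (Nat.card ↥⁅K, K⁆) := by
        rw [hn]
        have hd : orderOf (w ^ p) ∣ q := orderOf_dvd_of_pow_eq_one (hVq _ (pow_mem hwV p))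
        exact (((Nat.coprime_primes hq hr).mpr hrq.symm).pow_right n).coprime_dvd_left hd
      obtain ⟨m, hm⟩ := exists_pow_eq_self_of_coprime hcop.symm
      rw [← hm]
      exact pow_mem (by simpa [v, ← pow_mul] using h1) m
    · intro a ha
      refine MulEquiv.ext fun v => ?_
      obtain ⟨u, hu, huv⟩ := hUV.ge v.2
      obtain rfl : u = v := Subtype.ext huv
      exact hu a ha
  -- the action on `V`
  set σ : MulAut K := resAut x hKi
  let φK : K →* MulAut V := φ.comp K.subtype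
  have hσ : σ ^ p = 1 := by
    refine MulEquiv.ext fun s => Subtype.ext ?_
    rw [coe_resAut_pow, hx]
    rfl
  have hcomm : ∀ a b : K, φK a * φK b = φK b * φK a := fun a b => by
    rw [← commutatorElement_eq_one_iff_mul_comm, ← map_commutatorElement]
    exact hK'c _ (Subgroup.commutator_mem_commutator a.2 b.2)
  have hminV : ∀ W : Subgroup V, (∀ k, ∀ v ∈ W, φK k v ∈ W) → (∀ v ∈ W, τ v ∈ W) →
      W = ⊥ ∨ W = ⊤ := by
    intro W hW1 hW2
    have hn : (W.map V.subtype).Normal := ⟨by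
      rintro _ ⟨v, hv, rfl⟩ g
      obtain ⟨k, hk, w, hw, rfl⟩ := split K hh g
      refine ⟨φK ⟨k, hk⟩ v, hW1 _ v hv, ?_⟩
      show k * (v : G) * k⁻¹ = k * w * (v : G) * (k * w)⁻¹
      rw [mul_assoc k w, hVab w hw v v.2]
      group⟩
    rcases hmin (W.map V.subtype) (Subgroup.map_subtype_le _) hn
      (by rintro _ ⟨v, hv, rfl⟩; exact ⟨τ v, hW2 v hv, rfl⟩) with h1 | h1
    · exact Or.inl ((Subgroup.map_eq_bot_iff_of_injective W V.subtype_injective).mp h1)
    · refine Or.inr (eq_top_iff.mpr fun v _ => ?_)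
      obtain ⟨u, hu, huv⟩ := h1.ge v.2
      obtain rfl : u = v := Subtype.ext huv
      exact hu
  obtain ⟨k₀, hk₀, hk₀f, hk₀d⟩ := exists_self_rep hx hc h
  have h01 : φ k₀ ≠ φ (x k₀) := by
    intro he
    have hd1 : φ (del x 1 h) = 1 := by
      rw [← hk₀d 1, del, pow_one, map_mul, map_inv, he, inv_mul_cancel]
    have hall : ∀ a, φ a = 1 → φ (x a) = 1 := fun a ha => MulEquiv.ext fun v => by
      have := heq a (τ.symm v)
      rw [ha, MulAut.one_apply, τ.apply_symm_apply] at this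
      exact this.symm
    have hi : ∀ i, φ (del x i h) = 1 := fun i => by
      induction i with
      | zero => simp [del]
      | succ i ih =>
        have := hall _ ih
        rwa [apply_del, map_mul, map_inv, hd1, inv_one, one_mul] at this
    refine hctr V le_rfl hVn hVi hVne fun k hk u hu => ?_
    have h1 : K ≤ φ.ker := (Subgroup.closure_le _).mpr (by rintro _ ⟨i, rfl⟩; exact hi i)
    have := congrArg Subtype.val (DFunLike.congr_fun (MonoidHom.mem_ker.mp (h1 hk)) ⟨u, hu⟩)
    rw [MulAut.conjNormal_apply, MulAut.one_apply, mul_inv_eq_iff_eq_mul] at this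
    exact this
  have hinjx : ∀ a b, φ (x a) = φ (x b) → φ a = φ b := fun a b he => MulEquiv.ext fun v =>
    τ.injective (by rw [heq, heq, he])
  have h02 : φ k₀ ≠ φ (x (x k₀)) := by
    intro he
    apply h01
    obtain ⟨m, hm⟩ := hp.out.odd_of_ne_two hp2
    have hxeq : ∀ a b, φ a = φ b → φ (x a) = φ (x b) := fun a b h' => MulEquiv.ext fun v => by
      have h1 := heq a (τ.symm v)
      have h2 := heq b (τ.symm v)
      rw [τ.apply_symm_apply] at h1 h2
      rw [← h1, ← h2, h']
    have hn : ∀ n : ℕ, φ ((x ^ (2 * n)) k₀) = φ k₀ := by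
      intro n
      induction n with
      | zero => rfl
      | succ n ih =>
        rw [show 2 * (n + 1) = 2 * n + 1 + 1 by ring, pow_succ_apply', pow_succ_apply']
        exact (hxeq _ _ (hxeq _ _ ih)).trans he.symm
    have := hn (m + 1)
    rw [show 2 * (m + 1) = p + 1 by omega, pow_succ_apply', hx] at this
    exact this.symm
  have h12 : φ (x k₀) ≠ φ (x (x k₀)) := fun he => h01 (hinjx _ _ he)
  have hVnt : Nontrivial V := (Subgroup.nontrivial_iff_ne_bot V).mpr hVne
  have hbound : Nat.card (fix τ) * Nat.card (fix τ) < Nat.card V :=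
    card_fix_sq_lt φK (σ := σ) hp2 hτ hσ (not_dvd_card_subgroup hc V)
      (fun k v => heq (k : G) v) hcomm hminV ⟨k₀, hk₀⟩ h01 h02 h12
  -- every complement `cl x (h * v)` is a fixed conjugate of `K`
  refine absurd hbound (not_lt.mpr ?_)
  let F : fix τ × fix τ → V := fun ab => φ k₀⁻¹ (ab.1 : V) * (ab.2 : V)
  have hF : Function.Surjective F := by
    intro v
    set L := cl x (k₀ * (v : G)) with hL
    have hLtop : L ⊔ V = ⊤ := by
      rw [eq_top_iff, ← hh]
      refine sup_le ((Subgroup.closure_le _).mpr ?_) le_sup_right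
      rintro _ ⟨i, rfl⟩
      show del x i h ∈ L ⊔ V
      rw [← hk₀d i, show del x i k₀ = (v : G) * del x i (k₀ * v) * ((x ^ i) (v : G))⁻¹ by
        simp [del, map_mul, mul_assoc]]
      exact mul_mem (mul_mem (Subgroup.mem_sup_right v.2)
        (Subgroup.mem_sup_left (del_mem_cl i _)))
        (inv_mem (Subgroup.mem_sup_right (hVi.pow_mem i v.2)))
    have hcompl : ∀ g, cl x g ⊔ V = ⊤ → Subgroup.IsComplement' (cl x g) V := fun g hg =>
      Subgroup.isComplement'_of_disjoint_and_mul_eq_univ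
        (Subgroup.disjoint_def.mpr fun {a} ha ha' => hdisj g hg a ha ha')
        (Set.eq_univ_of_forall fun a => by
          obtain ⟨k, hk, w, hw, rfl⟩ := split _ hg a
          exact Set.mul_mem_mul hk hw)
    have hcard : Nat.card L = Nat.card K :=
      Nat.eq_of_mul_eq_mul_right (Nat.card_pos (α := V))
        ((hcompl _ hLtop).card_mul.trans (hcompl h hh).card_mul.symm)
    have hKidx : ∀ g, cl x g ⊔ V = ⊤ → ¬ r ∣ (cl x g).index := by
      intro g hg
      rw [(hcompl g hg).symm.index_eq_card]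
      intro hdvd
      obtain ⟨w, hw⟩ := exists_prime_orderOf_dvd_card' (G := V) r hdvd
      have h1 : orderOf w ∣ q := orderOf_dvd_of_pow_eq_one (Subtype.ext (hVq _ w.2))
      exact hrq ((Nat.prime_dvd_prime_iff_eq hr hq).mp (hw ▸ h1))
    have hLr : IsPGroup r L := by
      obtain ⟨n, hn⟩ := IsPGroup.iff_card.mp hKr
      exact IsPGroup.of_card (hcard.trans hn)
    obtain ⟨g, hg⟩ := MulAction.exists_smul_eq G (hKr.toSylow (hKidx h hh))
      (hLr.toSylow (hKidx _ hLtop))
    have hLeq : L = K.map (MulAut.conj g).toMonoidHom := by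
      have := congrArg (fun S : Sylow r G => (S : Subgroup G)) hg
      exact this.symm
    obtain ⟨w₀, hw₀, k₁, hk₁, rfl⟩ : ∃ w ∈ V, ∃ k ∈ K, w * k = g :=
      Subgroup.mem_sup_of_normal_left.mp (by rw [sup_comm, hh]; exact Subgroup.mem_top g)
    have hLmem : ∀ b, b ∈ L ↔ w₀⁻¹ * b * w₀ ∈ K := by
      intro b
      rw [hLeq]
      constructor
      · rintro ⟨c, hcK, rfl⟩
        have e : w₀⁻¹ * ((MulAut.conj (w₀ * k₁)).toMonoidHom c) * w₀ = k₁ * c * k₁⁻¹ := by
          simp [MulAut.conj_apply, mul_assoc]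
        rw [e]
        exact mul_mem (mul_mem hk₁ hcK) (inv_mem hk₁)
      · intro hb
        exact ⟨k₁⁻¹ * (w₀⁻¹ * b * w₀) * k₁, mul_mem (mul_mem (inv_mem hk₁) hb) hk₁,
          by simp [MulAut.conj_apply, mul_assoc]⟩
    -- the conjugating element is fixed
    have hw₀f : x w₀ = w₀ := by
      have hu : w₀⁻¹ * x w₀ ∈ V := mul_mem (inv_mem hw₀) (hVi _ hw₀)
      by_contra hne
      let U : Subgroup G :=
        { carrier := {u | u ∈ V ∧ ∀ k ∈ K, k * u = u * k}
          one_mem' := ⟨one_mem _, fun k _ => by simp⟩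
          mul_mem' := fun {a b} ha hb => ⟨mul_mem ha.1 hb.1, fun k hk => by
            rw [← mul_assoc, ha.2 k hk, mul_assoc, hb.2 k hk, mul_assoc]⟩
          inv_mem' := fun {a} ha => ⟨inv_mem ha.1, fun k hk =>
            (show Commute k a from ha.2 k hk).inv_right.eq⟩ }
      have hUc : ∀ g : G, ∀ u ∈ U, g * u * g⁻¹ = u := fun g u hu' => by
        obtain ⟨k, hk, w, hw, rfl⟩ := split K hh g
        rw [show k * w * u * (k * w)⁻¹ = k * (w * u * w⁻¹) * k⁻¹ by group,
          hVab w hw u hu'.1, mul_inv_cancel_right, hu'.2 k hk, mul_inv_cancel_right]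
      refine hctr U (fun u hu' => hu'.1) ⟨fun u hu' g => by rw [hUc g u hu']; exact hu'⟩
        (fun u hu' => ⟨hVi u hu'.1, fun k hk => ?_⟩) (fun hbot => hne ?_) fun k hk u hu' => hu'.2 k hk
      · obtain ⟨k', hk', rfl⟩ := hKi.map_eq.ge hk
        show x k' * x u = x u * x k'
        rw [← map_mul, ← map_mul, hu'.2 k' hk']
      · have hmem : w₀⁻¹ * x w₀ ∈ U := by
          refine ⟨hu, fun k hk => ?_⟩
          obtain ⟨k', hk', rfl⟩ := hKi.map_eq.ge hk
          have h1 : w₀ * k' * w₀⁻¹ ∈ L := (hLmem _).mpr (by simpa [mul_assoc] using hk')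
          have h2 := (hLmem _).mp (cl_inv (k₀ * (v : G)) _ h1)
          rw [map_mul, map_mul, map_inv] at h2
          show x k' * (w₀⁻¹ * x w₀) = w₀⁻¹ * x w₀ * x k'
          set u := w₀⁻¹ * x w₀
          set k := x k'
          have h3 : u * k * u⁻¹ ∈ K := by simpa [u, mul_assoc] using h2
          have h4 : u * (k * u⁻¹ * k⁻¹) ∈ V := mul_mem hu (hVn.conj_mem _ (inv_mem hu) k)
          have h5 := hdisj h hh (u * (k * u⁻¹ * k⁻¹))
            (by rw [show u * (k * u⁻¹ * k⁻¹) = u * k * u⁻¹ * k⁻¹ by group]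
                exact mul_mem h3 (inv_mem (hKi k' hk'))) h4
          rw [show u * (k * u⁻¹ * k⁻¹) = ⁅u, k⁆ by rw [commutatorElement_def]; group,
            commutatorElement_eq_one_iff_mul_comm] at h5
          exact h5.symm
        rw [hbot, Subgroup.mem_bot, inv_mul_eq_one] at hmem
        exact hmem.symm
    obtain ⟨l, hl, hcf, -⟩ := exists_self_rep hx hc (k₀ * (v : G))
    set c := k₀ * (v : G) * l⁻¹ with hc_def
    obtain ⟨k₂, hk₂, w₁, hw₁, hcw⟩ := split K hh c
    have hfix2 : x k₂ = k₂ ∧ x w₁ = w₁ :=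
      huniq _ _ _ _ (hKi _ hk₂) hk₂ (hVi _ hw₁) hw₁ (by rw [← map_mul, hcw, hcf])
    set k₃ := w₀⁻¹ * l * w₀ with hk₃_def
    have hk₃ : k₃ ∈ K := (hLmem l).mp hl
    have hA : k₃⁻¹ * (w₁ * w₀) * k₃ * w₀⁻¹ ∈ V := by
      have h1 := hVn.conj_mem _ (mul_mem hw₁ hw₀) k₃⁻¹
      rw [inv_inv] at h1
      exact mul_mem h1 (inv_mem hw₀)
    have heq2 : k₀ * (v : G) = k₂ * k₃ * (k₃⁻¹ * (w₁ * w₀) * k₃ * w₀⁻¹) := by
      rw [show k₀ * (v : G) = c * l by rw [hc_def, inv_mul_cancel_right], ← hcw, hk₃_def]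
      group
    obtain ⟨e1, e2⟩ := huniq _ _ _ _ hk₀ (mul_mem hk₂ hk₃) v.2 hA heq2
    have hk₃e : k₃ = k₂⁻¹ * k₀ := by rw [e1, inv_mul_cancel_left]
    refine ⟨(⟨φ k₂ ⟨w₁ * w₀, mul_mem hw₁ hw₀⟩, ?_⟩, ⟨⟨w₀, hw₀⟩⁻¹, ?_⟩), Subtype.ext ?_⟩
    · refine Subtype.ext ?_
      show x (k₂ * (w₁ * w₀) * k₂⁻¹) = k₂ * (w₁ * w₀) * k₂⁻¹
      rw [map_mul, map_mul, map_mul, map_inv, hfix2.1, hfix2.2, hw₀f]
    · refine Subtype.ext ?_
      show x w₀⁻¹ = w₀⁻¹
      rw [map_inv, hw₀f]
    · show k₀⁻¹ * (k₂ * (w₁ * w₀) * k₂⁻¹) * k₀⁻¹⁻¹ * w₀⁻¹ = v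
      rw [e2, hk₃e]
      group
  have := Nat.card_le_card_of_surjective F hF
  rwa [Nat.card_prod] at this

/-- **Fixed points in the commutator subgroup are generated elementwise.** -/
theorem holds (hp2 : p ≠ 2) : ∀ m, HoldsBelow.{u} p m := by
  intro m
  induction m using Nat.strong_induction_on with
  | _ m ih =>
    intro G _ _ _ x hlt hx hc
    have IH : HoldsBelow.{u} p (Nat.card G) := ih _ hlt
    by_cases htop : genIn x ⊤ = ⊤
    · exact inf_le_right.trans (fix_le_pieces_step hp2 IH hx hc htop)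
    · refine le_trans (le_of_eq ?_) (genIn_inf_fix_le IH hx hc (genIn_inv ⊤) htop)
      congr 1
      refine le_antisymm ?_ (genIn_mono le_top)
      refine (Subgroup.closure_le _).mpr ?_
      rintro _ ⟨g, -, i, rfl⟩
      exact cl_le_genIn_of_le hx hc (cl_le_genIn (Subgroup.mem_top g)) (del_mem_cl i g)

theorem genIn_inf_fix_eq (hp2 : p ≠ 2) {G : Type u} [Group G] [Finite G] [Group.IsSolvable G]
    {x : MulAut G} (hx : x ^ p = 1) (hc : ¬ p ∣ Nat.card G) :
    genIn x ⊤ ⊓ fix x = pieces x := by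
  refine le_antisymm (holds hp2 _ G x (Nat.lt_succ_self _) hx hc) (le_inf ?_ pieces_le_fix)
  exact iSup_le fun h => inf_le_left.trans (cl_le_genIn (Subgroup.mem_top h))

end Cfsg.Agent.Lib.PLocal.CommFix
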