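import Mathlib

/-!
# Commutators with a coprime automorphism of prime order

`cl x h` is the subgroup generated by the `h⁻¹ xⁱ(h)`, `genIn x S` the subgroup generated by all of
them with `h ∈ S`, and `pieces x` the join of the fixed points of `x` in the `cl x h`.
-/

set_option autoImplicit false

namespace Cfsg.Agent.Lib.PLocal.CommFix

universe u

variable {G : Type u} [Group G]

/-- The subgroup `S` is mapped into itself by `x`. -/
def Inv (x : MulAut G) (S : Subgroup G) : Prop := ∀ g ∈ S, x g ∈ S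

/-- `h⁻¹ xⁱ(h)`. -/
def del (x : MulAut G) (i : ℕ) (h : G) : G := h⁻¹ * (x ^ i) h

/-- The subgroup generated by the `h⁻¹ xⁱ(h)`. -/
def cl (x : MulAut G) (h : G) : Subgroup G := Subgroup.closure (Set.range fun i => del x i h)

/-- The subgroup generated by the `h⁻¹ xⁱ(h)`, `h ∈ S`. -/
def genIn (x : MulAut G) (S : Subgroup G) : Subgroup G :=
  Subgroup.closure {g | ∃ h ∈ S, ∃ i, g = del x i h}

/-- The fixed points. -/
def fix (x : MulAut G) : Subgroup G := (x : G →* G).eqLocus (MonoidHom.id G)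

/-- The join of the fixed points in the `cl x h`. -/
def pieces (x : MulAut G) : Subgroup G := ⨆ h : G, cl x h ⊓ fix x

variable {x : MulAut G}

theorem mem_fix {g : G} : g ∈ fix x ↔ x g = g := Iff.rfl

theorem pow_succ_apply' (x : MulAut G) (i : ℕ) (g : G) : (x ^ (i + 1)) g = x ((x ^ i) g) := by
  rw [pow_succ']
  rfl

theorem pow_fixed {g : G} (hg : x g = g) (i : ℕ) : (x ^ i) g = g := by
  induction i with
  | zero => rfl
  | succ i ih => rw [pow_succ_apply', ih, hg]

theorem Inv.pow_mem {S : Subgroup G} (hS : Inv x S) (i : ℕ) {g : G} (hg : g ∈ S) :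
    (x ^ i) g ∈ S := by
  induction i with
  | zero => exact hg
  | succ i ih => rw [pow_succ_apply']; exact hS _ ih

theorem Inv.inf {S T : Subgroup G} (hS : Inv x S) (hT : Inv x T) : Inv x (S ⊓ T) :=
  fun g hg => ⟨hS g hg.1, hT g hg.2⟩

theorem Inv.map_le {S : Subgroup G} (hS : Inv x S) : S.map x.toMonoidHom ≤ S := by
  rintro _ ⟨g, hg, rfl⟩
  exact hS g hg

theorem Inv.of_le {S : Subgroup G} (h : S.map x.toMonoidHom ≤ S) : Inv x S :=
  fun g hg => h ⟨g, hg, rfl⟩

theorem Inv.sup {S T : Subgroup G} (hS : Inv x S) (hT : Inv x T) : Inv x (S ⊔ T) :=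
  Inv.of_le (by rw [Subgroup.map_sup]; exact sup_le_sup hS.map_le hT.map_le)

theorem inv_of_characteristic (S : Subgroup G) [hS : S.Characteristic] : Inv x S :=
  fun g hg => (SetLike.ext_iff.mp (hS.fixed x) g).mpr hg

theorem Inv.closure {s : Set G} (h : ∀ g ∈ s, x g ∈ Subgroup.closure s) :
    Inv x (Subgroup.closure s) := by
  refine Inv.of_le (Subgroup.map_le_iff_le_comap.mpr ((Subgroup.closure_le _).mpr ?_))
  exact h

theorem Inv.map_eq [Finite G] {S : Subgroup G} (hS : Inv x S) : S.map x.toMonoidHom = S :=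
  Subgroup.eq_of_le_of_card_ge hS.map_le
    (le_of_eq (Nat.card_congr (S.equivMapOfInjective _ x.injective).toEquiv))

theorem del_fixed_mul {c : G} (hc : x c = c) (i : ℕ) (k : G) :
    del x i (c * k) = del x i k := by
  simp [del, map_mul, pow_fixed hc, mul_assoc]

theorem conj_del {c : G} (hc : x c = c) (i : ℕ) (h : G) :
    c * del x i h * c⁻¹ = del x i (h * c⁻¹) := by
  simp [del, map_mul, pow_fixed hc, mul_assoc]

theorem apply_del (i : ℕ) (h : G) : x (del x i h) = (del x 1 h)⁻¹ * del x (i + 1) h := by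
  simp [del, pow_succ_apply', mul_assoc]

theorem del_mem_cl (i : ℕ) (h : G) : del x i h ∈ cl x h := Subgroup.subset_closure ⟨i, rfl⟩

theorem cl_inv (h : G) : Inv x (cl x h) := by
  refine Inv.closure ?_
  rintro _ ⟨i, rfl⟩
  rw [apply_del]
  exact mul_mem (inv_mem (del_mem_cl 1 h)) (del_mem_cl (i + 1) h)

theorem del_mem_genIn {S : Subgroup G} {h : G} (hh : h ∈ S) (i : ℕ) : del x i h ∈ genIn x S :=
  Subgroup.subset_closure ⟨h, hh, i, rfl⟩

theorem genIn_inv (S : Subgroup G) : Inv x (genIn x S) := by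
  refine Inv.closure ?_
  rintro _ ⟨h, hh, i, rfl⟩
  rw [apply_del]
  exact mul_mem (inv_mem (del_mem_genIn hh 1)) (del_mem_genIn hh (i + 1))

theorem cl_le_genIn {S : Subgroup G} {h : G} (hh : h ∈ S) : cl x h ≤ genIn x S := by
  refine (Subgroup.closure_le _).mpr ?_
  rintro _ ⟨i, rfl⟩
  exact del_mem_genIn hh i

theorem del_mem_of_inv {S : Subgroup G} (hS : Inv x S) {h : G} (hh : h ∈ S) (i : ℕ) :
    del x i h ∈ S :=
  mul_mem (inv_mem hh) (hS.pow_mem i hh)

theorem cl_le_of_inv {S : Subgroup G} (hS : Inv x S) {h : G} (hh : h ∈ S) : cl x h ≤ S := by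
  refine (Subgroup.closure_le _).mpr ?_
  rintro _ ⟨i, rfl⟩
  exact del_mem_of_inv hS hh i

theorem genIn_le {S : Subgroup G} (hS : Inv x S) : genIn x S ≤ S := by
  refine (Subgroup.closure_le _).mpr ?_
  rintro _ ⟨h, hh, i, rfl⟩
  exact del_mem_of_inv hS hh i

theorem genIn_mono {S T : Subgroup G} (h : S ≤ T) : genIn x S ≤ genIn x T :=
  Subgroup.closure_mono fun _ ⟨k, hk, i, hi⟩ => ⟨k, h hk, i, hi⟩

theorem genIn_conj_mem {S : Subgroup G} (g : G) (hg : g ∈ S) {y : G} (hy : y ∈ genIn x S) :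
    g * y * g⁻¹ ∈ genIn x S := by
  induction hy using Subgroup.closure_induction with
  | mem z hz =>
    obtain ⟨k, hk, i, rfl⟩ := hz
    have e : g * del x i k * g⁻¹ = del x i (k * g⁻¹) * (del x i g⁻¹)⁻¹ := by
      simp [del, map_mul, mul_assoc]
    rw [e]
    exact mul_mem (del_mem_genIn (mul_mem hk (inv_mem hg)) i)
      (inv_mem (del_mem_genIn (inv_mem hg) i))
  | one => simp
  | mul a b _ _ iha ihb =>
    rw [show g * (a * b) * g⁻¹ = g * a * g⁻¹ * (g * b * g⁻¹) by group]
    exact mul_mem iha ihb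
  | inv a _ iha =>
    rw [show g * a⁻¹ * g⁻¹ = (g * a * g⁻¹)⁻¹ by group]
    exact inv_mem iha

theorem cl_inf_fix_le_pieces (h : G) : cl x h ⊓ fix x ≤ pieces x := le_iSup (fun h => cl x h ⊓ fix x) h

theorem pieces_le_fix : pieces x ≤ fix x := iSup_le fun _ => inf_le_right

theorem fix_conj_pieces {c : G} (hc : x c = c) {d : G} (hd : d ∈ pieces x) :
    c * d * c⁻¹ ∈ pieces x := by
  refine Subgroup.iSup_induction _ (C := fun d => c * d * c⁻¹ ∈ pieces x) hd ?_ ?_ ?_
  · intro h y hy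
    refine cl_inf_fix_le_pieces (h * c⁻¹) ⟨?_, ?_⟩
    · refine Subgroup.closure_induction (p := fun y _ => c * y * c⁻¹ ∈ cl x (h * c⁻¹))
        ?_ ?_ ?_ ?_ hy.1
      · rintro _ ⟨i, rfl⟩
        rw [conj_del hc]
        exact del_mem_cl i _
      · simp
      · intro a b _ _ iha ihb
        rw [show c * (a * b) * c⁻¹ = c * a * c⁻¹ * (c * b * c⁻¹) by group]
        exact mul_mem iha ihb
      · intro a _ iha
        rw [show c * a⁻¹ * c⁻¹ = (c * a * c⁻¹)⁻¹ by group]
        exact inv_mem iha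
    · show x _ = _
      simp [map_mul, hc, mem_fix.mp hy.2]
  · simp
  · intro a b iha ihb
    rw [show c * (a * b) * c⁻¹ = c * a * c⁻¹ * (c * b * c⁻¹) by group]
    exact mul_mem iha ihb

variable [Finite G] {p : ℕ} [hp : Fact p.Prime]

theorem not_dvd_card_subgroup (hc : ¬ p ∣ Nat.card G) (S : Subgroup G) : ¬ p ∣ Nat.card S :=
  fun h => hc (h.trans S.card_subgroup_dvd_card)

/-- An `x`-invariant coset of an invariant subgroup contains a fixed point. -/
theorem exists_fixed_mul (hx : x ^ p = 1) (hc : ¬ p ∣ Nat.card G) {K : Subgroup G} (hK : Inv x K)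
    {g : G} (hg : del x 1 g ∈ K) : ∃ k ∈ K, x (g * k) = g * k := by
  let f : K → K := fun k => ⟨del x 1 g * x k, mul_mem hg (hK _ k.2)⟩
  have hf : ∀ (n : ℕ) (k : K), ((f^[n] k : K) : G) = del x n g * (x ^ n) (k : G) := by
    intro n k
    induction n with
    | zero => simp [del]
    | succ n ih =>
      rw [Function.iterate_succ_apply']
      show del x 1 g * x (f^[n] k : K) = _
      rw [ih]
      simp [del, map_mul, pow_succ_apply', mul_assoc]
  have hinj : Function.Injective f := fun a b h =>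
    Subtype.ext (x.injective (mul_left_cancel (congrArg Subtype.val h)))
  let σ : Equiv.Perm K := Equiv.ofBijective f (Finite.injective_iff_bijective.mp hinj)
  have hσ : σ ^ p ^ 1 = 1 := by
    ext k
    rw [pow_one, Equiv.Perm.coe_pow, Equiv.Perm.one_apply]
    show ((f^[p] k : K) : G) = k
    rw [hf, hx]
    simp [del, hx]
  haveI := Fintype.ofFinite K
  obtain ⟨k, hk⟩ := Equiv.Perm.exists_fixed_point_of_prime
    (by rw [Fintype.card_eq_nat_card]; exact not_dvd_card_subgroup hc K) hσ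
  refine ⟨k, k.2, ?_⟩
  have h1 : del x 1 g * x (k : G) = (k : G) := congrArg Subtype.val hk
  calc x (g * k) = g * (del x 1 g * x (k : G)) := by simp [del, map_mul, mul_assoc]
    _ = g * k := by rw [h1]

/-- The generators of `cl x h` are those of an element of `cl x h`. -/
theorem exists_self_rep (hx : x ^ p = 1) (hc : ¬ p ∣ Nat.card G) (h : G) :
    ∃ k ∈ cl x h, x (h * k⁻¹) = h * k⁻¹ ∧ ∀ i, del x i k = del x i h := by
  obtain ⟨k, hk, hfix⟩ := exists_fixed_mul hx hc (cl_inv h) (del_mem_cl 1 h)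
  refine ⟨k⁻¹, inv_mem hk, by rwa [inv_inv], fun i => ?_⟩
  conv_rhs => rw [show h = (h * k) * k⁻¹ by group]
  rw [del_fixed_mul hfix]

theorem cl_le_genIn_of_le (hx : x ^ p = 1) (hc : ¬ p ∣ Nat.card G) {S : Subgroup G} {h : G}
    (hS : cl x h ≤ S) : cl x h ≤ genIn x S := by
  obtain ⟨k, hk, -, hd⟩ := exists_self_rep hx hc h
  refine (Subgroup.closure_le _).mpr ?_
  rintro _ ⟨i, rfl⟩
  show del x i h ∈ _
  rw [← hd]
  exact del_mem_genIn (hS hk) i

theorem mem_of_pow_mem {S : Subgroup G} (hc : ¬ p ∣ Nat.card G) {g : G} (h : g ^ p ∈ S) : g ∈ S := by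
  obtain ⟨m, hm⟩ := exists_pow_eq_self_of_coprime (x := g) (n := p)
    ((hp.out.coprime_iff_not_dvd).mpr fun h => hc (h.trans (orderOf_dvd_natCard g)))
  rw [← hm]
  exact pow_mem h m

/-- An automorphism fixes what its square fixes. -/
theorem fixed_of_sq (hx : x ^ p = 1) (hp2 : p ≠ 2) {g : G} (h : x (x g) = g) : x g = g := by
  obtain ⟨m, hm⟩ := hp.out.odd_of_ne_two hp2
  have hk : ∀ n : ℕ, (x ^ (2 * n)) g = g := by
    intro n
    induction n with
    | zero => rfl
    | succ n ih => rw [show 2 * (n + 1) = 2 * n + 1 + 1 by ring, pow_succ_apply', pow_succ_apply',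
        ih, h]
  have : (x ^ p) g = x g := by rw [hm, pow_succ_apply', hk]
  rw [← this, hx]
  rfl

/-- The restriction of `x` to an invariant subgroup. -/
noncomputable def resAut (x : MulAut G) {S : Subgroup G} (hS : Inv x S) : MulAut S :=
  (x.subgroupMap S).trans (MulEquiv.subgroupCongr hS.map_eq)

theorem coe_resAut {S : Subgroup G} (hS : Inv x S) (s : S) :
    ((resAut x hS s : S) : G) = x (s : G) := rfl

theorem coe_resAut_pow {S : Subgroup G} (hS : Inv x S) (i : ℕ) (s : S) :
    (((resAut x hS ^ i) s : S) : G) = (x ^ i) (s : G) := by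
  induction i with
  | zero => rfl
  | succ i ih => rw [pow_succ_apply', pow_succ_apply', coe_resAut, ih]

/-- Every prime has an invariant Sylow subgroup in an invariant subgroup. -/
theorem exists_inv_sylow (hx : x ^ p = 1) (hc : ¬ p ∣ Nat.card G) (q : ℕ) [Fact q.Prime] :
    ∃ Q : Sylow q G, Inv x (Q : Subgroup G) := by
  have hσ : (MulAction.toPermHom (MulAut G) (Sylow q G) x) ^ p ^ 1 = 1 := by
    rw [pow_one, ← map_pow, hx, map_one]
  haveI := Fintype.ofFinite (Sylow q G)
  obtain ⟨Q, hQ⟩ := Equiv.Perm.exists_fixed_point_of_prime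
    (by
      rw [Fintype.card_eq_nat_card]
      obtain ⟨Q₀⟩ := (inferInstance : Nonempty (Sylow q G))
      exact fun h => hc (h.trans (Q₀.card_dvd_index.trans (Q₀ : Subgroup G).index_dvd_card))) hσ
  refine ⟨Q, fun g hg => ?_⟩
  have hmem : x g ∈ ((x • Q : Sylow q G) : Subgroup G) := ⟨g, hg, rfl⟩
  rwa [show x • Q = Q from hQ] at hmem

end Cfsg.Agent.Lib.PLocal.CommFix
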