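import Cfsg.Agent.Lib.PLocal.CommFixBasic

/-!
An abelian group acted on by a commuting family of automorphisms permuted by `τ`: the fixed points
of `τ` are less than a square root of the group.
-/

set_option autoImplicit false

namespace Cfsg.Agent.Lib.PLocal.CommFix

universe u

variable {V : Type u} [CommGroup V]

/-- The norm of an automorphism. -/
noncomputable def norm' (τ : MulAut V) (p : ℕ) : V →* V :=
  ∏ i ∈ Finset.range p, (τ ^ i).toMonoidHom

theorem norm'_apply (τ : MulAut V) (p : ℕ) (v : V) :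
    norm' τ p v = ∏ i ∈ Finset.range p, (τ ^ i) v := by
  simp [norm', MonoidHom.finsetProd_apply]

theorem norm'_fixed {τ : MulAut V} {p : ℕ} (hτ : τ ^ p = 1) (v : V) :
    τ (norm' τ p v) = norm' τ p v := by
  rw [norm'_apply, map_prod]
  simp_rw [← pow_succ_apply']
  obtain _ | n := p
  · simp
  · rw [Finset.prod_range_succ, Finset.prod_range_succ' (fun i => (τ ^ i) v), hτ]
    rfl

theorem norm'_of_fixed {τ : MulAut V} {p : ℕ} {v : V} (hv : τ v = v) : norm' τ p v = v ^ p := by
  rw [norm'_apply]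
  simp [pow_fixed hv]

theorem norm'_apply_aut {τ : MulAut V} {p : ℕ} (hτ : τ ^ p = 1) (v : V) :
    norm' τ p (τ v) = norm' τ p v := by
  have h : ∀ i : ℕ, (τ ^ i) (τ v) = τ ((τ ^ i) v) := fun i => by
    rw [← MulAut.mul_apply, ← MulAut.mul_apply, ← pow_succ, ← pow_succ']
  rw [norm'_apply]
  simp_rw [h]
  rw [← map_prod, ← norm'_apply, norm'_fixed hτ]

variable {K : Type u} [Group K] (φ : K →* MulAut V)

/-- The points fixed by a subgroup of the acting group. -/
def fixedBySub (A : Subgroup K) : Subgroup V where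
  carrier := {v | ∀ a ∈ A, φ a v = v}
  one_mem' a _ := map_one _
  mul_mem' {u v} hu hv a ha := by rw [map_mul, hu a ha, hv a ha]
  inv_mem' {u} hu a ha := by rw [map_inv, hu a ha]

variable [Finite V] [Finite K] {p : ℕ} [hp : Fact p.Prime] {τ : MulAut V} {σ : MulAut K}

theorem card_fix_sq_lt [Nontrivial V] (hp2 : p ≠ 2) (hτ : τ ^ p = 1) (hσ : σ ^ p = 1)
    (hc : ¬ p ∣ Nat.card V) (heq : ∀ k v, τ (φ k v) = φ (σ k) (τ v))
    (hcomm : ∀ a b : K, φ a * φ b = φ b * φ a)
    (hmin : ∀ W : Subgroup V, (∀ k, ∀ v ∈ W, φ k v ∈ W) → (∀ v ∈ W, τ v ∈ W) → W = ⊥ ∨ W = ⊤)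
    (h : K) (h01 : φ h ≠ φ (σ h)) (h02 : φ h ≠ φ (σ (σ h))) (h12 : φ (σ h) ≠ φ (σ (σ h))) :
    Nat.card (fix τ) * Nat.card (fix τ) < Nat.card V := by
  suffices hkey : Nat.card (fix τ) * Nat.card (fix τ) * Nat.card (fix τ) ≤ Nat.card V by
    rcases Nat.eq_or_lt_of_le (Nat.one_le_iff_ne_zero.mpr
      (Nat.card_pos (α := fix τ)).ne') with h1 | h1
    · rw [← h1]
      simpa using Finite.one_lt_card (α := V)
    · calc Nat.card (fix τ) * Nat.card (fix τ)
          < Nat.card (fix τ) * Nat.card (fix τ) * Nat.card (fix τ) :=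
            lt_mul_of_one_lt_right (Nat.mul_pos Nat.card_pos Nat.card_pos) h1
        _ ≤ Nat.card V := hkey
  have hcomm' : ∀ a b v, φ a (φ b v) = φ b (φ a v) := fun a b v =>
    DFunLike.congr_fun (hcomm a b) v
  by_cases hcase : ∀ k, φ k ≠ 1 → ∀ v, φ k v = v → v = 1
  · -- three different conjugates separate three copies of the fixed points
    have hinj : ∀ a b, φ a ≠ φ b → ∀ v, φ a v = φ b v → v = 1 := by
      intro a b hab v hv
      refine hcase (b⁻¹ * a) (fun h' => hab ?_) v ?_
      · rw [map_mul, map_inv, inv_mul_eq_one] at h'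
        exact h'.symm
      · rw [map_mul, MulAut.mul_apply, hv, map_inv]
        exact (φ b).symm_apply_apply v
    let F : fix τ × fix τ × fix τ →* V :=
      (fix τ).subtype.coprod
        (((φ h).toMonoidHom.comp (fix τ).subtype).coprod
          (((φ h).toMonoidHom.comp (φ h).toMonoidHom).comp (fix τ).subtype))
    have hF : Function.Injective F := by
      rw [injective_iff_map_eq_one]
      rintro ⟨c₀, c₁, c₂⟩ hc3
      have t0 : (c₀ : V) * (φ h (c₁ : V) * φ h (φ h (c₂ : V))) = 1 := hc3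
      have step : ∀ g, (c₀ : V) * (φ g (c₁ : V) * φ g (φ g (c₂ : V))) = 1 →
          (c₀ : V) * (φ (σ g) (c₁ : V) * φ (σ g) (φ (σ g) (c₂ : V))) = 1 := by
        intro g hg
        have := congrArg τ hg
        rwa [map_mul, map_mul, map_one, heq, heq, heq, mem_fix.mp c₀.2, mem_fix.mp c₁.2,
          mem_fix.mp c₂.2] at this
      have t1 := step _ t0
      have t2 := step _ t1
      have sep : ∀ a b, φ a ≠ φ b →
          (c₀ : V) * (φ a (c₁ : V) * φ a (φ a (c₂ : V))) = 1 →
          (c₀ : V) * (φ b (c₁ : V) * φ b (φ b (c₂ : V))) = 1 →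
          (c₁ : V) * (φ a (c₂ : V) * φ b (c₂ : V)) = 1 := by
        intro a b hab ha hb
        refine hinj a b hab _ ?_
        simp only [map_mul]
        have hab' := mul_left_cancel (ha.trans hb.symm)
        calc φ a (c₁ : V) * (φ a (φ a (c₂ : V)) * φ a (φ b (c₂ : V)))
            = φ a (c₁ : V) * φ a (φ a (c₂ : V)) * φ a (φ b (c₂ : V)) := (mul_assoc _ _ _).symm
          _ = φ b (c₁ : V) * φ b (φ b (c₂ : V)) * φ b (φ a (c₂ : V)) := by rw [hab', hcomm' a b]
          _ = φ b (c₁ : V) * (φ b (φ a (c₂ : V)) * φ b (φ b (c₂ : V))) := by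
            rw [mul_comm (φ b (φ a (c₂ : V))), mul_assoc]
      have u1 := sep _ _ h01 t0 t1
      have u2 := sep _ _ h02 t0 t2
      have e2 : (c₂ : V) = 1 :=
        hinj _ _ h12 _ (mul_left_cancel (mul_left_cancel (u1.trans u2.symm)))
      have e1 : (c₁ : V) = 1 := by simpa [e2] using u1
      have e0 : (c₀ : V) = 1 := by simpa [e1, e2] using t0
      exact Prod.ext (Subtype.ext e0) (Prod.ext (Subtype.ext e1) (Subtype.ext e2))
    have := Nat.card_le_card_of_injective F hF
    rw [Nat.card_prod, Nat.card_prod, ← mul_assoc] at this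
    exact this
  · -- an orbit of fixed point subspaces
    push Not at hcase
    obtain ⟨a, ha, v, hv, hv1⟩ := hcase
    let S : Set (Subgroup K) := {A | a ∈ A ∧ fixedBySub φ A ≠ ⊥}
    have hS : S.Nonempty := by
      refine ⟨Subgroup.zpowers a, Subgroup.mem_zpowers a, fun h' => hv1 ?_⟩
      have : v ∈ fixedBySub φ (Subgroup.zpowers a) := by
        rintro b ⟨i, rfl⟩
        have h1 : φ a ∈ MulAction.stabilizer (MulAut V) v := hv
        simpa [map_zpow] using Subgroup.zpow_mem _ h1 i
      simpa [h'] using this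
    obtain ⟨A, ⟨haA, hU⟩, hmax⟩ := (wellFounded_gt (α := Subgroup K)).has_min S hS
    set U := fixedBySub φ A with hUdef
    have hUK : ∀ k, ∀ u ∈ U, φ k u ∈ U := fun k u hu b hb => by rw [hcomm', hu b hb]
    have hττ : ∀ v, τ.symm (τ v) = v := τ.symm_apply_apply
    have hfix1 : ∀ (B : Subgroup K) (w : V),
        w ∈ (fixedBySub φ B).map τ.toMonoidHom ↔ w ∈ fixedBySub φ (B.map σ.toMonoidHom) := by
      intro B w
      constructor
      · rintro ⟨u, hu, rfl⟩ _ ⟨b, hb, rfl⟩
        show φ (σ b) (τ u) = τ u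
        rw [← heq, hu b hb]
      · intro hw
        refine ⟨τ.symm w, fun b hb => τ.injective ?_, τ.apply_symm_apply w⟩
        rw [heq, τ.apply_symm_apply]
        exact hw _ ⟨b, hb, rfl⟩
    have hσA : A.map σ.toMonoidHom ≠ A := by
      intro h'
      have hUτ : ∀ u ∈ U, τ u ∈ U := fun u hu => by
        have := (hfix1 A (τ u)).mp ⟨u, hu, rfl⟩
        rwa [h'] at this
      rcases hmin U hUK hUτ with h1 | h1
      · exact hU h1
      · exact ha (MulEquiv.ext fun w => (h1 ▸ Subgroup.mem_top w : w ∈ U) a haA)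
    have hσσA : (A.map σ.toMonoidHom).map σ.toMonoidHom ≠ A := by
      intro h'
      apply hσA
      have hk : ∀ b ∈ A, σ b ∈ A := by
        intro b hb
        obtain ⟨m, hm⟩ := hp.out.odd_of_ne_two hp2
        have hn : ∀ n : ℕ, (σ ^ (2 * n)) b ∈ A := by
          intro n
          induction n with
          | zero => exact hb
          | succ n ih =>
            rw [show 2 * (n + 1) = 2 * n + 1 + 1 by ring, pow_succ_apply', pow_succ_apply']
            exact h'.le ⟨_, ⟨_, ih, rfl⟩, rfl⟩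
        have h1 := hn (m + 1)
        rwa [show 2 * (m + 1) = p + 1 by omega, pow_succ_apply', hσ] at h1
      exact Inv.map_eq (x := σ) hk
    have hdisj : ∀ B : Subgroup K, B ≠ A → Nat.card B = Nat.card A →
        ∀ w, w ∈ U → w ∈ fixedBySub φ B → w = 1 := by
      intro B hBA hcard w hw hwB
      by_contra hw1
      refine hmax (A ⊔ B) ⟨Subgroup.mem_sup_left haA, fun h' => hw1 ?_⟩ ?_
      · have : w ∈ fixedBySub φ (A ⊔ B) := by
          have hle : A ⊔ B ≤ (MulAction.stabilizer (MulAut V) w).comap φ :=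
            sup_le (fun b hb => hw b hb) (fun b hb => hwB b hb)
          exact fun b hb => hle hb
        simpa [h'] using this
      · refine lt_of_le_of_ne le_sup_left fun h' => hBA ?_
        exact Subgroup.eq_of_le_of_card_ge (h' ▸ le_sup_right) hcard.ge
    have hcard1 : Nat.card (A.map σ.toMonoidHom) = Nat.card A :=
      Subgroup.card_map_of_injective σ.injective
    have hcard2 : Nat.card ((A.map σ.toMonoidHom).map σ.toMonoidHom) = Nat.card A := by
      rw [Subgroup.card_map_of_injective σ.injective, hcard1]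
    set U1 := U.map τ.toMonoidHom with hU1
    set U2 := U1.map τ.toMonoidHom with hU2
    have d01 : ∀ w, w ∈ U → w ∈ U1 → w = 1 := fun w h0 h1 =>
      hdisj _ hσA hcard1 w h0 ((hfix1 A w).mp h1)
    have d12 : ∀ w, w ∈ U1 → w ∈ U2 → w = 1 := by
      rintro w ⟨u, hu, rfl⟩ ⟨u', hu', h'⟩
      rw [τ.injective h'] at hu'
      rw [d01 u hu hu', map_one]
    have hfix2 : ∀ w, w ∈ U2 ↔ w ∈ fixedBySub φ ((A.map σ.toMonoidHom).map σ.toMonoidHom) := by
      intro w
      rw [← hfix1, hU2, show U1 = fixedBySub φ (A.map σ.toMonoidHom) from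
        Subgroup.ext fun z => hfix1 A z]
    have d02 : ∀ w, w ∈ U → w ∈ U2 → w = 1 := fun w h0 h2 =>
      hdisj _ hσσA hcard2 w h0 ((hfix2 w).mp h2)
    have hU1K : ∀ k, ∀ u ∈ U1, φ k u ∈ U1 := by
      rintro k _ ⟨u, hu, rfl⟩
      refine ⟨φ (σ.symm k) u, hUK _ u hu, ?_⟩
      show τ (φ (σ.symm k) u) = _
      rw [heq, σ.apply_symm_apply]
      rfl
    let F : U × U × U →* V :=
      U.subtype.coprod ((τ.toMonoidHom.comp U.subtype).coprod
        ((τ.toMonoidHom.comp τ.toMonoidHom).comp U.subtype))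
    have hF : Function.Injective F := by
      rw [injective_iff_map_eq_one]
      rintro ⟨u₀, u₁, u₂⟩ h3
      have t : (u₀ : V) * (τ (u₁ : V) * τ (τ (u₂ : V))) = 1 := h3
      have m1 : τ (u₁ : V) ∈ U1 := ⟨_, u₁.2, rfl⟩
      have m2 : τ (τ (u₂ : V)) ∈ U2 := ⟨_, ⟨_, u₂.2, rfl⟩, rfl⟩
      have e0 : (u₀ : V) = 1 := by
        refine d02 _ u₀.2 ((hfix2 _).mpr fun b hb => ?_)
        have hb2 : φ b (τ (τ (u₂ : V))) = τ (τ (u₂ : V)) := (hfix2 _).mp m2 b hb
        have h' := congrArg (φ b) t
        rw [map_mul, map_mul, map_one, hb2] at h'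
        have h'' : φ b (u₀ : V) * φ b (τ (u₁ : V)) = (u₀ : V) * τ (u₁ : V) := by
          refine mul_right_cancel (b := τ (τ (u₂ : V))) ?_
          rw [mul_assoc, h', mul_assoc, t]
        have hz : φ b (u₀ : V) * (u₀ : V)⁻¹ = τ (u₁ : V) * (φ b (τ (u₁ : V)))⁻¹ := by
          rw [mul_inv_eq_iff_eq_mul, mul_comm _ (u₀ : V), ← mul_assoc, eq_mul_inv_iff_mul_eq]
          exact h''
        have h1 := d01 (φ b (u₀ : V) * (u₀ : V)⁻¹) (mul_mem (hUK b _ u₀.2) (inv_mem u₀.2))
          (hz ▸ mul_mem m1 (inv_mem (hU1K b _ m1)))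
        exact mul_inv_eq_one.mp h1
      rw [e0, one_mul] at t
      have e1 : τ (u₁ : V) = 1 := by
        refine d12 _ m1 ?_
        rw [eq_inv_of_mul_eq_one_left t]
        exact inv_mem m2
      rw [e1, one_mul] at t
      exact Prod.ext (Subtype.ext e0)
        (Prod.ext (Subtype.ext (by simpa using e1)) (Subtype.ext (by simpa using t)))
    have hVU : Nat.card U * Nat.card U * Nat.card U ≤ Nat.card V := by
      have := Nat.card_le_card_of_injective F hF
      rwa [Nat.card_prod, Nat.card_prod, ← mul_assoc] at this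
    -- the fixed points are norms of one of the subspaces
    set W : Subgroup V := ⨆ i : ℕ, U.map (τ ^ i).toMonoidHom with hW
    have hWtop : W = ⊤ := by
      refine (hmin W ?_ ?_).resolve_left fun h' => hU ?_
      · have hi : ∀ (i : ℕ) k, ∀ w ∈ U.map (τ ^ i).toMonoidHom,
            φ k w ∈ U.map (τ ^ i).toMonoidHom := by
          intro i
          induction i with
          | zero =>
            rintro k _ ⟨u, hu, rfl⟩
            exact ⟨φ k u, hUK k u hu, rfl⟩
          | succ i ih =>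
            rintro k _ ⟨u, hu, rfl⟩
            obtain ⟨u', hu', he⟩ := ih (σ.symm k) _ ⟨u, hu, rfl⟩
            refine ⟨u', hu', ?_⟩
            show (τ ^ (i + 1)) u' = φ k ((τ ^ (i + 1)) u)
            rw [pow_succ_apply', pow_succ_apply']
            rw [show (τ ^ i) u' = φ (σ.symm k) ((τ ^ i) u) from he, heq, σ.apply_symm_apply]
        intro k w hw
        refine Subgroup.iSup_induction _ (C := fun w => φ k w ∈ W) hw
          (fun i w hw => Subgroup.mem_iSup_of_mem i (hi i k w hw)) ?_ ?_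
        · rw [map_one]; exact one_mem _
        · intro b c hb hc
          rw [map_mul]; exact mul_mem hb hc
      · intro w hw
        refine Subgroup.iSup_induction _ (C := fun w => τ w ∈ W) hw ?_ ?_ ?_
        · rintro i _ ⟨u, hu, rfl⟩
          exact Subgroup.mem_iSup_of_mem (i + 1) ⟨u, hu, pow_succ_apply' τ i u⟩
        · rw [map_one]; exact one_mem _
        · intro b c hb hc
          rw [map_mul]; exact mul_mem hb hc
      · refine eq_bot_iff.mpr (le_trans ?_ h'.le)
        exact fun u hu => Subgroup.mem_iSup_of_mem 0 ⟨u, hu, rfl⟩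
    have hNW : W.map (norm' τ p) ≤ U.map (norm' τ p) := by
      rw [Subgroup.map_iSup]
      refine iSup_le fun i => ?_
      rintro _ ⟨_, ⟨u, hu, rfl⟩, rfl⟩
      refine ⟨u, hu, ?_⟩
      show norm' τ p u = norm' τ p ((τ ^ i) u)
      induction i with
      | zero => rfl
      | succ i ih => rw [pow_succ_apply', norm'_apply_aut hτ, ih]
    have hfixU : fix τ ≤ U.map (norm' τ p) := fun c hc' =>
      mem_of_pow_mem hc (by
        rw [← norm'_of_fixed (mem_fix.mp hc')]
        exact hNW ⟨c, hWtop ▸ Subgroup.mem_top c, rfl⟩)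
    have hle : Nat.card (fix τ) ≤ Nat.card U :=
      (Subgroup.card_le_of_le hfixU).trans
        (Nat.card_le_card_of_surjective _ ((norm' τ p).subgroupMap_surjective U))
    exact le_trans (Nat.mul_le_mul (Nat.mul_le_mul hle hle) hle) hVU

end Cfsg.Agent.Lib.PLocal.CommFix
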