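import Cfsg.Agent.Lib.PLocal.CommFixBasic

/-!
Induction steps for the fixed points of a coprime automorphism in the commutator subgroup.
-/

set_option autoImplicit false

namespace Cfsg.Agent.Lib.PLocal.CommFix

universe u

variable {G H : Type u} [Group G] [Group H] {x : MulAut G} {y : MulAut H} {f : H →* G}

theorem map_pow_apply (hf : ∀ h, f (y h) = x (f h)) (i : ℕ) (h : H) :
    f ((y ^ i) h) = (x ^ i) (f h) := by
  induction i with
  | zero => rfl
  | succ i ih => rw [pow_succ_apply', pow_succ_apply', hf, ih]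

theorem map_del (hf : ∀ h, f (y h) = x (f h)) (i : ℕ) (h : H) :
    f (del y i h) = del x i (f h) := by
  simp [del, map_pow_apply hf]

theorem map_cl (hf : ∀ h, f (y h) = x (f h)) (h : H) : (cl y h).map f = cl x (f h) := by
  rw [cl, MonoidHom.map_closure, ← Set.range_comp, cl]
  exact congrArg _ (congrArg Set.range (funext fun i => map_del hf i h))

theorem map_genIn (hf : ∀ h, f (y h) = x (f h)) (S : Subgroup H) :
    (genIn y S).map f = genIn x (S.map f) := by
  rw [genIn, MonoidHom.map_closure, genIn]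
  refine congrArg _ ?_
  ext g
  constructor
  · rintro ⟨_, ⟨h, hh, i, rfl⟩, rfl⟩
    exact ⟨f h, ⟨h, hh, rfl⟩, i, map_del hf i h⟩
  · rintro ⟨_, ⟨h, hh, rfl⟩, i, rfl⟩
    exact ⟨del y i h, ⟨h, hh, i, rfl⟩, map_del hf i h⟩

theorem map_pieces_le (hf : ∀ h, f (y h) = x (f h)) : (pieces y).map f ≤ pieces x := by
  rw [pieces, Subgroup.map_iSup]
  refine iSup_le fun h => ?_
  rintro _ ⟨g, ⟨hg1, hg2⟩, rfl⟩
  refine cl_inf_fix_le_pieces (f h) ⟨(map_cl hf h).le ⟨g, hg1, rfl⟩, ?_⟩
  show x (f g) = f g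
  rw [← hf, mem_fix.mp hg2]

variable [Finite G] {p : ℕ} [Fact p.Prime]

/-- The statement for the groups of order less than `m`. -/
def HoldsBelow (p m : ℕ) : Prop :=
  ∀ (K : Type u) [Group K] [Finite K] [Group.IsSolvable K] (z : MulAut K), Nat.card K < m →
    z ^ p = 1 → ¬ p ∣ Nat.card K → genIn z ⊤ ⊓ fix z ≤ pieces z

variable [Group.IsSolvable G]

theorem genIn_inf_fix_le (IH : HoldsBelow.{u} p (Nat.card G)) (hx : x ^ p = 1)
    (hc : ¬ p ∣ Nat.card G) {S : Subgroup G} (hS : Inv x S) (hne : S ≠ ⊤) :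
    genIn x S ⊓ fix x ≤ pieces x := by
  have hlt : Nat.card S < Nat.card G := by
    rcases lt_or_eq_of_le S.card_le_card_group with h | h
    · exact h
    · exact absurd (Subgroup.eq_top_of_card_eq S h) hne
  have hy : resAut x hS ^ p = 1 := by
    refine MulEquiv.ext fun s => Subtype.ext ?_
    rw [coe_resAut_pow, hx]
    rfl
  have key := IH ↥S (resAut x hS) hlt hy (not_dvd_card_subgroup hc S)
  have hf : ∀ s : S, S.subtype (resAut x hS s) = x (S.subtype s) := fun s => rfl
  intro g hg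
  obtain ⟨hg1, hg2⟩ := hg
  have hSmap : (⊤ : Subgroup S).map S.subtype = S := by
    rw [← MonoidHom.range_eq_map, Subgroup.range_subtype]
  obtain ⟨s, hs, rfl⟩ : g ∈ (genIn (resAut x hS) ⊤).map S.subtype := by
    rw [map_genIn hf, hSmap]
    exact hg1
  exact map_pieces_le hf ⟨s, key ⟨hs, Subtype.ext (mem_fix.mp hg2)⟩, rfl⟩

/-- Modulo an invariant normal subgroup, every fixed point is a product of pieces. -/
theorem exists_pieces_mul (IH : HoldsBelow.{u} p (Nat.card G)) (hx : x ^ p = 1)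
    (hc : ¬ p ∣ Nat.card G) (htop : genIn x ⊤ = ⊤) {V : Subgroup G} [V.Normal] (hV : Inv x V)
    (hne : V ≠ ⊥) {c : G} (hcf : x c = c) : ∃ d ∈ pieces x, d⁻¹ * c ∈ V := by
  set y : MulAut (G ⧸ V) := QuotientGroup.congr V V x hV.map_eq with hy
  have hf : ∀ g : G, QuotientGroup.mk' V (x g) = y (QuotientGroup.mk' V g) := fun g => rfl
  have hyp : y ^ p = 1 := by
    refine MulEquiv.ext fun a => ?_
    obtain ⟨g, rfl⟩ := QuotientGroup.mk'_surjective V a
    rw [← map_pow_apply hf, hx]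
    rfl
  have hlt : Nat.card (G ⧸ V) < Nat.card G := by
    rw [Subgroup.card_eq_card_quotient_mul_card_subgroup V]
    have h1 : 1 < Nat.card V := (Subgroup.one_lt_card_iff_ne_bot V).mpr hne
    have h2 : 0 < Nat.card (G ⧸ V) := Nat.card_pos
    nlinarith
  have key := IH (G ⧸ V) y hlt hyp fun h => hc (h.trans (Subgroup.card_quotient_dvd_card V))
  have hgtop : genIn y ⊤ = ⊤ := by
    have h := map_genIn hf ⊤
    rw [htop, ← MonoidHom.range_eq_map, QuotientGroup.range_mk'] at h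
    exact h.symm
  have hcy : QuotientGroup.mk' V c ∈ pieces y :=
    key ⟨by rw [hgtop]; exact Subgroup.mem_top _, by
      show y (QuotientGroup.mk' V c) = _
      rw [← hf, hcf]
      rfl⟩
  have hle : pieces y ≤ (pieces x).map (QuotientGroup.mk' V) := by
    refine iSup_le fun a => ?_
    obtain ⟨h, rfl⟩ := QuotientGroup.mk'_surjective V a
    rintro b ⟨hb1, hb2⟩
    rw [← map_cl hf] at hb1
    obtain ⟨g, hg, rfl⟩ := hb1
    have hgV : del x 1 g ∈ V := by
      have h1 : QuotientGroup.mk' V (x g) = QuotientGroup.mk' V g := by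
        rw [hf]
        exact mem_fix.mp hb2
      rw [del, pow_one]
      exact QuotientGroup.eq.mp h1.symm
    obtain ⟨k, hk, hfix⟩ := exists_fixed_mul hx hc (hV.inf (cl_inv h))
      (g := g) ⟨hgV, del_mem_of_inv (cl_inv h) hg 1⟩
    refine ⟨g * k, cl_inf_fix_le_pieces h ⟨mul_mem hg hk.2, hfix⟩, ?_⟩
    rw [map_mul, (QuotientGroup.eq_one_iff k).mpr hk.1 |> (show QuotientGroup.mk' V k = 1 from ·),
      mul_one]
  obtain ⟨d, hd, hdc⟩ := hle hcy
  exact ⟨d, hd, QuotientGroup.eq.mp hdc⟩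

/-- One invariant normal subgroup whose fixed points are pieces suffices. -/
theorem fix_le_of_good (IH : HoldsBelow.{u} p (Nat.card G)) (hx : x ^ p = 1)
    (hc : ¬ p ∣ Nat.card G) (htop : genIn x ⊤ = ⊤) {V : Subgroup G} [V.Normal] (hV : Inv x V)
    (hne : V ≠ ⊥) (hgood : V ⊓ fix x ≤ pieces x) : fix x ≤ pieces x := by
  intro c hcf
  obtain ⟨d, hd, hdc⟩ := exists_pieces_mul IH hx hc htop hV hne hcf
  have h1 : d⁻¹ * c ∈ pieces x :=
    hgood ⟨hdc, (fix x).mul_mem ((fix x).inv_mem (pieces_le_fix hd)) hcf⟩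
  simpa using mul_mem hd h1

end Cfsg.Agent.Lib.PLocal.CommFix
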