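import Cfsg.Agent.Lib.PLocal.CommFixBound
import Cfsg.Agent.Lib.PLocal.CommFixReduce
import Cfsg.Agent.Lib.Solvable.Nilpotent
import Cfsg.Agent.Lib.Cores.Frattini

/-!
Fixed points in the commutator subgroup of a coprime automorphism of odd prime order are generated
by those in the subgroups generated by the commutators of single elements.
-/

set_option autoImplicit false

open scoped commutatorElement

namespace Cfsg.Agent.Lib.PLocal.CommFix

universe u

variable {G : Type u} [Group G] [Finite G] [Group.IsSolvable G] {x : MulAut G} {p : ℕ}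
  [hp : Fact p.Prime]

omit [Group.IsSolvable G] in
theorem normal_of_le_center {V : Subgroup G} (h : V ≤ Subgroup.center G) : V.Normal :=
  ⟨fun n hn g => by rw [Subgroup.mem_center_iff.mp (h hn) g, mul_inv_cancel_right]; exact hn⟩

omit [Group.IsSolvable G] in
theorem inv_of_le_fix {V : Subgroup G} (h : V ≤ fix x) : Inv x V :=
  fun g hg => by rw [mem_fix.mp (h hg)]; exact hg

omit [Finite G] [Group.IsSolvable G] hp in
theorem hom_eq_one_of_genIn_top {A : Type*} [CommGroup A] (hx : x ^ p = 1)
    (htop : genIn x ⊤ = ⊤) (τ : G →* A) {g : G} (hg : x g = g) : τ g ^ p = 1 := by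
  let ψ : G →* A := ∏ i ∈ Finset.range p, τ.comp (x ^ i).toMonoidHom
  have hψ : ∀ a, ψ a = ∏ i ∈ Finset.range p, τ ((x ^ i) a) := fun a => by
    simp [ψ, MonoidHom.finsetProd_apply]
  have hshift : ∀ a, ψ (x a) = ψ a := fun a => by
    rw [hψ, hψ]
    have h : ∀ i : ℕ, (x ^ i) (x a) = (x ^ (i + 1)) a := fun i => by
      rw [← MulAut.mul_apply, ← pow_succ]
    simp_rw [h]
    obtain _ | n := p
    · simp
    · rw [Finset.prod_range_succ, Finset.prod_range_succ' (fun i => τ ((x ^ i) a)), hx]
      rfl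
  have hker : genIn x ⊤ ≤ ψ.ker := by
    refine (Subgroup.closure_le _).mpr ?_
    rintro _ ⟨h, -, i, rfl⟩
    show ψ (del x i h) = 1
    rw [del, map_mul, map_inv]
    rw [inv_mul_eq_one]
    induction i with
    | zero => rfl
    | succ i ih => rw [pow_succ_apply', hshift, ih]
  have h1 : ψ g = 1 := hker (htop.symm ▸ Subgroup.mem_top g)
  rw [hψ] at h1
  simpa [pow_fixed hg] using h1

/-- No fixed central element of prime order lies outside the pieces. -/
theorem false_of_central (IH : HoldsBelow.{u} p (Nat.card G)) (hx : x ^ p = 1)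
    (hc : ¬ p ∣ Nat.card G) (hp2 : p ≠ 2) (htop : genIn x ⊤ = ⊤) (hbad : ¬ fix x ≤ pieces x)
    {v : G} (hvc : v ∈ Subgroup.center G) (hvf : x v = v) (hq : (orderOf v).Prime) : False := by
  classical
  have nogood : ∀ (V : Subgroup G), V.Normal → Inv x V → V ⊓ fix x ≤ pieces x → V = ⊥ :=
    fun V hn hV hgood => by_contra fun hne => hbad (fix_le_of_good IH hx hc htop hV hne hgood)
  set V := Subgroup.zpowers v with hV
  have hVc : V ≤ Subgroup.center G := Subgroup.zpowers_le.mpr hvc
  have hVf : V ≤ fix x := Subgroup.zpowers_le.mpr hvf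
  have hVn := normal_of_le_center hVc
  have hVi := inv_of_le_fix hVf
  have hVne : V ≠ ⊥ := fun h =>
    hq.one_lt.ne' (orderOf_eq_one_iff.mpr (Subgroup.zpowers_eq_bot.mp h))
  have hVD : ∀ w ∈ V, w ∈ pieces x → w = 1 := fun w hw hwD => by
    have h := nogood (V ⊓ pieces x) (normal_of_le_center (inf_le_left.trans hVc))
      (inv_of_le_fix (inf_le_left.trans hVf)) (inf_le_left.trans inf_le_right)
    exact Subgroup.mem_bot.mp (h ▸ ⟨hw, hwD⟩)
  have : Fact (orderOf v).Prime := ⟨hq⟩
  obtain ⟨Q, hQi⟩ := exists_inv_sylow hx hc (orderOf v)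
  have hVQ : V ≤ (Q : Subgroup G) := by
    have hVp : IsPGroup (orderOf v) V :=
      IsPGroup.of_card (n := 1) (by rw [hV, Nat.card_zpowers, pow_one])
    obtain ⟨Q', hQ'⟩ := hVp.exists_le_sylow
    obtain ⟨g, rfl⟩ := MulAction.exists_smul_eq G Q' Q
    intro w hw
    exact ⟨w, hQ' hw, by simp [Subgroup.mem_center_iff.mp (hVc hw) g]⟩
  by_cases hQ : (Q : Subgroup G) = ⊤
  · -- the group is a `q`-group
    have hG : IsPGroup (orderOf v) G := fun g => by
      obtain ⟨k, hk⟩ := Q.isPGroup' ⟨g, hQ ▸ Subgroup.mem_top g⟩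
      exact ⟨k, congrArg Subtype.val hk⟩
    haveI : Group.IsNilpotent G := hG.isNilpotent
    -- every central element is a fixed element of `V`
    have hZfix : ∀ z ∈ Subgroup.center G, x z = z := by
      intro z hz
      have hZi : Inv x (Subgroup.center G) := inv_of_characteristic _
      have h0 := nogood (genIn x (Subgroup.center G))
        (normal_of_le_center (genIn_le hZi)) (genIn_inv _) ?_
      · have h := del_mem_genIn (x := x) hz 1
        rw [h0, Subgroup.mem_bot, del, pow_one, inv_mul_eq_one] at h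
        exact h.symm
      · rintro u ⟨hu, huf⟩
        letI : CommGroup ↥(Subgroup.center G) :=
          { (inferInstance : Group ↥(Subgroup.center G)) with
            mul_comm := fun a b => Subtype.ext (Subgroup.mem_center_iff.mp b.2 (a : G)) }
        let ν : Subgroup.center G →* Subgroup.center G :=
          norm' (V := ↥(Subgroup.center G)) (resAut x hZi) p
        have hxp : resAut x hZi ^ p = 1 := by
          refine MulEquiv.ext fun s => Subtype.ext ?_
          rw [coe_resAut_pow, hx]
          rfl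
        have hker : genIn x (Subgroup.center G) ≤ ν.ker.map (Subgroup.center G).subtype := by
          refine (Subgroup.closure_le _).mpr ?_
          rintro _ ⟨k, hk, i, rfl⟩
          refine ⟨⟨del x i k, del_mem_of_inv hZi hk i⟩, ?_, rfl⟩
          have hi : ∀ j : ℕ, ν ((resAut x hZi ^ j) ⟨k, hk⟩) = ν ⟨k, hk⟩ := fun j => by
            induction j with
            | zero => rfl
            | succ j ih => rw [pow_succ_apply', norm'_apply_aut hxp, ih]
          rw [SetLike.mem_coe, MonoidHom.mem_ker, show (⟨del x i k, del_mem_of_inv hZi hk i⟩ :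
            Subgroup.center G) = ⟨k, hk⟩⁻¹ * (resAut x hZi ^ i) ⟨k, hk⟩ from
              Subtype.ext (by simp [del, coe_resAut_pow]), map_mul, map_inv, hi, inv_mul_cancel]
        obtain ⟨w, hw, rfl⟩ := hker hu
        have hwf : resAut x hZi w = w := Subtype.ext (mem_fix.mp huf)
        have hw1 : (w : Subgroup.center G) ^ p = 1 := (norm'_of_fixed hwf).symm.trans hw
        have : (w : G) = 1 := Subgroup.mem_bot.mp (mem_of_pow_mem hc (S := ⊥)
          (Subgroup.mem_bot.mpr (congrArg Subtype.val hw1)))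
        show (w : G) ∈ pieces x
        rw [this]
        exact one_mem _
    have hZD : ∀ z ∈ Subgroup.center G, z ∈ pieces x → z = 1 := fun z hz hzD => by
      have h := nogood (Subgroup.center G ⊓ pieces x) (normal_of_le_center inf_le_left)
        (inv_of_le_fix (inf_le_right.trans pieces_le_fix)) (inf_le_left.trans inf_le_right)
      exact Subgroup.mem_bot.mp (h ▸ ⟨hz, hzD⟩)
    have hZV : ∀ z ∈ Subgroup.center G, z ∈ V := by
      intro z hz
      obtain ⟨d, hd, hdz⟩ := exists_pieces_mul IH hx hc htop hVi hVne (hZfix z hz)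
      have hdc : d ∈ Subgroup.center G := by
        have := mul_mem hz (inv_mem (hVc hdz))
        rwa [mul_inv_rev, mul_inv_cancel_left, inv_inv] at this
      rw [hZD d hdc hd, inv_one, one_mul] at hdz
      exact hdz
    -- commutators lie in `V`
    have hcomm : ∀ a b : G, ⁅a, b⁆ ∈ V := by
      by_contra! hcon
      set N := (commutator G).map (QuotientGroup.mk' V) with hN
      have hNne : N ≠ ⊥ := fun h => by
        obtain ⟨a, b, hab⟩ := hcon
        exact hab ((QuotientGroup.eq_one_iff _).mp (Subgroup.mem_bot.mp (h ▸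
          ⟨_, Subgroup.commutator_mem_commutator (Subgroup.mem_top a) (Subgroup.mem_top b), rfl⟩)))
      have : N.Normal := Subgroup.Normal.map inferInstance _ (QuotientGroup.mk'_surjective V)
      haveI : Group.IsNilpotent (G ⧸ V) := (hG.to_quotient V).isNilpotent
      obtain ⟨m, ⟨hmN, hmc⟩, hm1⟩ := (Subgroup.ne_bot_iff_exists_ne_one.mp
        (Solvable.inf_center_ne_bot hNne) : ∃ m : ↥(N ⊓ Subgroup.center (G ⧸ V)), m ≠ 1)
        |> fun ⟨⟨m, hm⟩, h1⟩ => (⟨m, hm, fun h => h1 (Subtype.ext h)⟩ :
          ∃ m, (m ∈ N ∧ m ∈ Subgroup.center (G ⧸ V)) ∧ m ≠ 1)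
      obtain ⟨y, hy, rfl⟩ := hmN
      set Y := commutator G ⊓ (Subgroup.center (G ⧸ V)).comap (QuotientGroup.mk' V) with hY
      have hYi : Inv x Y := by
        intro a ⟨ha1, ha2⟩
        refine ⟨inv_of_characteristic (commutator G) a ha1, Subgroup.mem_center_iff.mpr fun g => ?_⟩
        obtain ⟨g, rfl⟩ := QuotientGroup.mk'_surjective V g
        rw [← map_mul, ← map_mul]
        refine QuotientGroup.eq.mpr ?_
        rw [← x.apply_symm_apply g, ← map_mul x, ← map_mul x, ← map_inv, ← map_mul x]
        refine hVi _ (QuotientGroup.eq.mp ?_)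
        exact (map_mul (QuotientGroup.mk' V) _ _).trans ((Subgroup.mem_center_iff.mp ha2 _).trans
          (map_mul (QuotientGroup.mk' V) _ _).symm)
      have hYV : ∀ a ∈ Y, ∀ g, ⁅a, g⁆ ∈ V := fun a ha g => by
        refine (QuotientGroup.eq_one_iff _).mp ?_
        show QuotientGroup.mk' V _ = 1
        rw [map_commutatorElement, commutatorElement_eq_one_iff_mul_comm]
        exact (Subgroup.mem_center_iff.mp ha.2 _).symm
      have hyc : y ∈ Subgroup.center G := by
        suffices hle : genIn x ⊤ ≤ Subgroup.centralizer {y} by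
          refine Subgroup.mem_center_iff.mpr fun g => ?_
          have := hle (htop.symm ▸ Subgroup.mem_top g)
          exact Subgroup.mem_centralizer_singleton_iff.mp this
        refine (Subgroup.closure_le _).mpr ?_
        rintro _ ⟨g, -, i, rfl⟩
        rw [SetLike.mem_coe, Subgroup.mem_centralizer_singleton_iff]
        set M := cl x g ⊔ Y with hM
        have hMi : Inv x M := (cl_inv g).sup hYi
        have hMne : M ≠ ⊤ := fun h => by
          have h1 : cl x g = ⊤ := by
            refine frattini_nongenerating (eq_top_iff.mpr ?_)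
            rw [← h]
            exact sup_le_sup_left (inf_le_left.trans Cores.commutator_le_frattini) _
          exact hbad fun c hc' => cl_inf_fix_le_pieces g ⟨h1.symm ▸ Subgroup.mem_top c, hc'⟩
        obtain ⟨k, hk, hcf, -⟩ := exists_self_rep hx hc y
        have hyY : y ∈ Y := ⟨hy, hmc⟩
        have hkY : k ∈ Y := cl_le_of_inv hYi hyY hk
        have hkM : k ∈ genIn x M :=
          cl_le_genIn_of_le hx hc ((cl_le_of_inv hYi hyY).trans le_sup_right) hk
        have hdM : del x i g ∈ genIn x M :=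
          cl_le_genIn_of_le hx hc le_sup_left (del_mem_cl i g)
        have h1 : ⁅k, del x i g⁆ = 1 := by
          have hin := hYV k hkY (del x i g)
          refine hVD _ hin (genIn_inf_fix_le IH hx hc hMi hMne ⟨?_, hVf hin⟩)
          rw [commutatorElement_def]
          exact (genIn x M).mul_mem ((genIn x M).mul_mem ((genIn x M).mul_mem hkM hdM) ((genIn x M).inv_mem hkM)) ((genIn x M).inv_mem hdM)
        have hc2 : Commute (y * k⁻¹) (del x i g) := by
          set c := y * k⁻¹ with hcdef
          have hzV : ⁅c, g⁆ ∈ V := hYV c (mul_mem hyY (inv_mem hkY)) g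
          have e1 : c * g * c⁻¹ = ⁅c, g⁆ * g := by
            rw [commutatorElement_def]; group
          have e2 : c * (x ^ i) g * c⁻¹ = ⁅c, g⁆ * (x ^ i) g := by
            have := congrArg (x ^ i) e1
            rwa [map_mul (x ^ i) (c * g), map_mul (x ^ i) c, map_inv, map_mul (x ^ i) ⁅c, g⁆,
              pow_fixed hcf, pow_fixed (hVf hzV)] at this
          show c * del x i g = del x i g * c
          rw [← mul_inv_eq_iff_eq_mul]
          calc c * (g⁻¹ * (x ^ i) g) * c⁻¹ = (c * g * c⁻¹)⁻¹ * (c * (x ^ i) g * c⁻¹) := by group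
            _ = g⁻¹ * (x ^ i) g := by rw [e1, e2]; group
        have hk2 : Commute k (del x i g) := commutatorElement_eq_one_iff_mul_comm.mp h1
        have := (hc2.mul_left hk2)
        rw [inv_mul_cancel_right] at this
        exact this.symm.eq
      exact hm1 ((QuotientGroup.eq_one_iff y).mpr (hZV y hyc))
    -- fixed points lie in `V`
    letI : CommGroup (G ⧸ V) :=
      { (inferInstance : Group (G ⧸ V)) with
        mul_comm := fun a b => by
          obtain ⟨a, rfl⟩ := QuotientGroup.mk'_surjective V a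
          obtain ⟨b, rfl⟩ := QuotientGroup.mk'_surjective V b
          rw [← commutatorElement_eq_one_iff_mul_comm, ← map_commutatorElement]
          exact (QuotientGroup.eq_one_iff _).mpr (hcomm a b) }
    have hfixV : ∀ c, x c = c → c ∈ V := fun c hcf => by
      refine (QuotientGroup.eq_one_iff c).mp ?_
      have h := hom_eq_one_of_genIn_top hx htop (QuotientGroup.mk' V) hcf
      rw [← map_pow] at h
      exact (QuotientGroup.eq_one_iff c).mpr (mem_of_pow_mem hc ((QuotientGroup.eq_one_iff _).mp h))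
    have hqfix : ∀ g, del x 1 g ∈ V → g ∈ V := fun g hg => by
      obtain ⟨k, hk, hkf⟩ := exists_fixed_mul hx hc hVi hg
      simpa using mul_mem (hfixV _ hkf) (inv_mem hk)
    have surj : ∀ (f : G → G), (∀ a b, (f b)⁻¹ * f a ∈ V → b⁻¹ * a ∈ V) →
        (∀ a b, b⁻¹ * a ∈ V → (f b)⁻¹ * f a ∈ V) → ∀ g, ∃ a, (f a)⁻¹ * g ∈ V := by
      intro f hinj hwd g
      let F : G ⧸ V → G ⧸ V := fun a => (f a.out : G ⧸ V)
      have hF : Function.Injective F := fun a b h => by
        rw [← QuotientGroup.out_eq' a, ← QuotientGroup.out_eq' b]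
        exact (QuotientGroup.eq.mpr (hinj a.out b.out (QuotientGroup.eq.mp h.symm))).symm
      obtain ⟨a, ha⟩ := (Finite.injective_iff_surjective.mp hF) (g : G ⧸ V)
      exact ⟨a.out, QuotientGroup.eq.mp ha⟩
    have hVnorm : ∀ g : G, ∀ w ∈ V, g * w = w * g := fun g w hw =>
      Subgroup.mem_center_iff.mp (hVc hw) g
    have quot : ∀ a b : G, b⁻¹ * a ∈ V ↔ (a : G ⧸ V) = (b : G ⧸ V) := fun a b =>
      ⟨fun h => (QuotientGroup.eq.mpr h).symm, fun h => QuotientGroup.eq.mp h.symm⟩
    have quotx : ∀ a b : G, (a : G ⧸ V) = b → ((x a : G) : G ⧸ V) = (x b : G) := fun a b h => by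
      rw [QuotientGroup.eq] at h ⊢
      rw [← map_inv, ← map_mul]
      exact hVi _ h
    -- every element commutes with its image
    have hsq : ∀ a, ⁅a, x a⁆ = 1 := by
      intro a
      obtain ⟨b, hb⟩ := surj (del x 1)
        (fun a b h => by
          rw [quot] at h ⊢
          rw [← quot]
          refine hqfix _ ?_
          rw [← QuotientGroup.eq_one_iff]
          simp only [del, pow_one, map_mul, map_inv, QuotientGroup.mk_mul,
            QuotientGroup.mk_inv] at h ⊢
          rw [inv_mul_eq_iff_eq_mul] at h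
          rw [h]
          simp [mul_comm, mul_left_comm, mul_assoc])
        (fun a b h => by
          rw [quot] at h ⊢
          simp only [del, pow_one, QuotientGroup.mk_mul, QuotientGroup.mk_inv]
          rw [h, quotx a b h]) a
      set d := del x 1 b with hd
      set w := d⁻¹ * a with hw
      have hkey : ⁅d, x d⁆ = 1 := hVD _ (hcomm d (x d)) (cl_inf_fix_le_pieces b ⟨by
        rw [commutatorElement_def]
        have h1 : d ∈ cl x b := del_mem_cl 1 b
        have h2 := cl_inv b d h1
        exact (cl x b).mul_mem ((cl x b).mul_mem ((cl x b).mul_mem h1 h2) ((cl x b).inv_mem h1)) ((cl x b).inv_mem h2), hVf (hcomm _ _)⟩)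
      rw [commutatorElement_eq_one_iff_mul_comm] at hkey ⊢
      have hwf : x w = w := hVf hb
      have hwc : ∀ g, g * w = w * g := fun g => hVnorm g w hb
      rw [show a = d * w by rw [hw, mul_inv_cancel_left], map_mul, hwf]
      exact ((Commute.mul_right hkey (hwc d)).mul_left
        (Commute.mul_right (hwc (x d)).symm (Commute.refl w))).eq
    -- linearise
    have hmulL : ∀ a b c : G, ⁅a * b, c⁆ = ⁅b, c⁆ * ⁅a, c⁆ := fun a b c => by
      have := hVnorm a _ (hcomm b c)
      calc ⁅a * b, c⁆ = a * ⁅b, c⁆ * a⁻¹ * ⁅a, c⁆ := by simp only [commutatorElement_def]; group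
        _ = ⁅b, c⁆ * ⁅a, c⁆ := by rw [this, mul_inv_cancel_right]
    have hmulR : ∀ a b c : G, ⁅a, b * c⁆ = ⁅a, b⁆ * ⁅a, c⁆ := fun a b c => by
      have := hVnorm b _ (hcomm a c)
      calc ⁅a, b * c⁆ = ⁅a, b⁆ * (b * ⁅a, c⁆ * b⁻¹) := by simp only [commutatorElement_def]; group
        _ = ⁅a, b⁆ * ⁅a, c⁆ := by rw [this, mul_inv_cancel_right]
    have hflip : ∀ a c : G, ⁅a, x c⁆ = ⁅x a, c⁆ := fun a c => by
      have h := hsq (a * c)
      rw [map_mul, hmulL, hmulR, hmulR, hsq a, hsq c, one_mul, mul_one] at h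
      rw [← inv_eq_of_mul_eq_one_right h, commutatorElement_inv]
    have hxx : ∀ a c : G, ⁅a, x (x c)⁆ = ⁅a, c⁆ := fun a c => by
      rw [hflip, ← map_commutatorElement]
      exact hVf (hcomm a c)
    have hab : ∀ a g : G, ⁅a, g⁆ = 1 := by
      intro a g
      obtain ⟨b, hb⟩ := surj (fun b => b⁻¹ * x (x b))
        (fun a b h => by
          rw [quot] at h ⊢
          rw [← quot]
          refine hqfix _ ?_
          set e := b⁻¹ * a with he
          have h2 : ((x (x e) : G) : G ⧸ V) = (e : G ⧸ V) := by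
            simp only [QuotientGroup.mk_mul, QuotientGroup.mk_inv] at h
            simp only [he, map_mul, map_inv, QuotientGroup.mk_mul, QuotientGroup.mk_inv]
            rw [eq_comm, ← mul_inv_eq_one] at h ⊢
            simpa [mul_comm, mul_left_comm, mul_assoc] using h
          obtain ⟨k, hk, hkf⟩ := exists_fixed_mul (x := x ^ 2) (by rw [← pow_mul, mul_comm,
            pow_mul, hx, one_pow]) hc (K := V)
            (fun g hg => by rw [pow_succ_apply', pow_one]; exact hVi _ (hVi _ hg)) (g := e) (by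
              rw [del, pow_one, pow_succ_apply', pow_one]
              exact QuotientGroup.eq.mp h2.symm)
          rw [pow_succ_apply', pow_one] at hkf
          have h3 := fixed_of_sq hx hp2 hkf
          rw [map_mul, mem_fix.mp (hVf hk)] at h3
          rw [del, pow_one, mul_right_cancel h3, inv_mul_cancel]
          exact one_mem _)
        (fun a b h => by
          rw [quot] at h ⊢
          simp only [QuotientGroup.mk_mul, QuotientGroup.mk_inv]
          rw [h, quotx _ _ (quotx a b h)]) g
      set w := (b⁻¹ * x (x b))⁻¹ * g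
      have hw1 : ∀ a, ⁅a, w⁆ = 1 := fun a =>
        commutatorElement_eq_one_iff_mul_comm.mpr (hVnorm a w hb)
      rw [show g = b⁻¹ * x (x b) * w by simp [w, mul_assoc], hmulR, hw1, mul_one, hmulR, hxx, ← hmulR,
        inv_mul_cancel, commutatorElement_one_right]
    refine hbad fun c hc' => ?_
    have h1 : del x 1 c = 1 := by rw [del, pow_one, mem_fix.mp hc', inv_mul_cancel]
    have hall : ∀ g, g ∈ V := fun g => hZV g (Subgroup.mem_center_iff.mpr fun a =>
      commutatorElement_eq_one_iff_mul_comm.mp (hab a g))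
    have htriv : genIn x ⊤ ≤ (⊥ : Subgroup G) := by
      refine (Subgroup.closure_le _).mpr ?_
      rintro _ ⟨g, -, i, rfl⟩
      show del x i g = 1
      rw [del, pow_fixed (hVf (hall g)), inv_mul_cancel]
    have hc1 : c ∈ genIn x ⊤ := by rw [htop]; exact Subgroup.mem_top c
    rw [Subgroup.mem_bot.mp (htriv hc1)]
    exact one_mem _
  · -- transfer to a Sylow subgroup
    set R := (genIn x (Q : Subgroup G)).subgroupOf (Q : Subgroup G) with hR
    have hRn : R.Normal := ⟨fun n hn g => genIn_conj_mem (g : G) g.2 hn⟩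
    set D := (pieces x).subgroupOf (Q : Subgroup G) with hD
    have hRD : genIn x (Q : Subgroup G) ⊓ fix x ≤ pieces x := genIn_inf_fix_le IH hx hc hQi hQ
    have hdec : ∀ y : (Q : Subgroup G), ∃ w : (Q : Subgroup G), (w : G) ∈ V ∧ w⁻¹ * y ∈ R ⊔ D := by
      intro y
      obtain ⟨k, hk, hcf, -⟩ := exists_self_rep hx hc (y : G)
      have hkQ : k ∈ (Q : Subgroup G) := cl_le_of_inv hQi y.2 hk
      obtain ⟨d, hd, hdc⟩ := exists_pieces_mul IH hx hc htop hVi hVne hcf
      have hdQ : d ∈ (Q : Subgroup G) := by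
        have := mul_mem (mul_mem y.2 (inv_mem hkQ)) (inv_mem (hVQ hdc))
        rwa [mul_inv_rev, mul_inv_cancel_left, inv_inv] at this
      refine ⟨⟨d⁻¹ * ((y : G) * k⁻¹), hVQ hdc⟩, hdc, ?_⟩
      have e : (⟨d⁻¹ * ((y : G) * k⁻¹), hVQ hdc⟩ : (Q : Subgroup G))⁻¹ * y = ⟨d, hdQ⟩ * ⟨k, hkQ⟩ := by
        rw [inv_mul_eq_iff_eq_mul]
        refine Subtype.ext ?_
        show (y : G) = d⁻¹ * ((y : G) * k⁻¹) * (d * k)
        rw [← mul_assoc (d⁻¹ * ((y : G) * k⁻¹)) d, ← Subgroup.mem_center_iff.mp (hVc hdc) d]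
        group
      rw [e]
      exact mul_mem (Subgroup.mem_sup_right hd) (Subgroup.mem_sup_left (cl_le_genIn y.2 hk))
    have hcen : ∀ w : (Q : Subgroup G), (w : G) ∈ V → ∀ z, w * z * w⁻¹ = z := fun w hw z =>
      Subtype.ext (show (w : G) * z * (w : G)⁻¹ = z by
        rw [← Subgroup.mem_center_iff.mp (hVc hw) (z : G), mul_inv_cancel_right])
    have hWn : (R ⊔ D).Normal := by
      refine ⟨fun n hn g => ?_⟩
      obtain ⟨w, hw, hwy⟩ := hdec g
      rw [show g * n * g⁻¹ = w * ((w⁻¹ * g) * n * (w⁻¹ * g)⁻¹) * w⁻¹ by group, hcen w hw]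
      exact mul_mem (mul_mem hwy hn) (inv_mem hwy)
    have hWV : ∀ z ∈ R ⊔ D, (z : G) ∈ V → z = 1 := by
      intro z hz hzV
      obtain ⟨r, hr, d, hd, rfl⟩ := Subgroup.mem_sup_of_normal_left.mp hz
      have hrf : (r : G) ∈ fix x := by
        have := (fix x).mul_mem (hVf hzV) ((fix x).inv_mem (pieces_le_fix hd))
        simpa using this
      exact Subtype.ext (hVD _ hzV (mul_mem (hRD ⟨hr, hrf⟩) hd))
    letI : CommGroup (↥(Q : Subgroup G) ⧸ (R ⊔ D)) :=
      { (inferInstance : Group (↥(Q : Subgroup G) ⧸ (R ⊔ D))) with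
        mul_comm := fun a b => by
          obtain ⟨a, rfl⟩ := QuotientGroup.mk'_surjective (R ⊔ D) a
          obtain ⟨b, rfl⟩ := QuotientGroup.mk'_surjective (R ⊔ D) b
          obtain ⟨wa, hwa, ha⟩ := hdec a
          obtain ⟨wb, hwb, hb⟩ := hdec b
          rw [show QuotientGroup.mk' (R ⊔ D) a = QuotientGroup.mk' (R ⊔ D) wa from
              (QuotientGroup.eq.mpr ha).symm,
            show QuotientGroup.mk' (R ⊔ D) b = QuotientGroup.mk' (R ⊔ D) wb from
              (QuotientGroup.eq.mpr hb).symm, ← map_mul, ← map_mul]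
          exact congrArg _ (mul_inv_eq_iff_eq_mul.mp (hcen wa hwa wb)) }
    have h := hom_eq_one_of_genIn_top hx htop
      (MonoidHom.transfer (QuotientGroup.mk' (R ⊔ D))) hvf
    have key : ∀ (k : ℕ) (g₀ : G), g₀⁻¹ * v ^ k * g₀ ∈ (Q : Subgroup G) →
        g₀⁻¹ * v ^ k * g₀ = v ^ k := fun k g₀ _ => by
      rw [mul_assoc, ← Subgroup.mem_center_iff.mp (pow_mem hvc k) g₀, inv_mul_cancel_left]
    rw [MonoidHom.transfer_eq_pow _ v key, ← map_pow] at h
    have h1 := hWV _ ((QuotientGroup.eq_one_iff _).mp h)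
      (pow_mem (pow_mem (Subgroup.mem_zpowers v) _) p)
    have h2 : v ^ ((Q : Subgroup G).index * p) = 1 := by
      rw [pow_mul]
      exact congrArg Subtype.val h1
    rcases hq.dvd_mul.mp (orderOf_dvd_of_pow_eq_one h2) with h3 | h3
    · exact Q.not_dvd_index h3
    · exact hc ((Nat.prime_dvd_prime_iff_eq hq hp.out).mp h3 ▸ orderOf_dvd_natCard v)

end Cfsg.Agent.Lib.PLocal.CommFix
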