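import Cfsg.Agent.Lib.Fusion.Inner
import Cfsg.Agent.Lib.Fusion.Closed

/-!
A saturated system over a 2-group all of whose elements are conjugate to central ones.
-/

set_option autoImplicit false

namespace Cfsg.Agent.Lib.PLocal.ConjCenter

open Cfsg Cfsg.FusionSystem Cfsg.Agent.Lib.Fusion
open scoped commutatorElement

variable {Ω : Type*} [Group Ω] {S : Subgroup Ω} [Finite S]

/-- Maps between central elements come from automorphisms of odd effect on the centre. -/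
theorem exists_aut (hS : IsPGroup 2 S) {F : FusionSystem S} (hF : F.IsSaturated 2) {z : Ω}
    (hz : z ∈ centralizerIn S S) {χ : Subgroup.zpowers z →* Ω}
    (hχ : χ ∈ F.Hom (Subgroup.zpowers z))
    (hw : χ ⟨z, Subgroup.mem_zpowers z⟩ ∈ centralizerIn S S) :
    ∃ (α : MulAut S) (m : ℕ), α ∈ F.autGroup S ∧ Odd m ∧
      ((α ⟨z, hz.1⟩ : S) : Ω) = χ ⟨z, Subgroup.mem_zpowers z⟩ ∧
      (α ^ m) ⟨z, hz.1⟩ = ⟨z, hz.1⟩ := by
  have hfc : F.IsFullyCentralized χ.range := by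
    refine ⟨range_le hχ, fun Q hQ => ?_⟩
    have hall : centralizerIn S χ.range = S := by
      refine le_antisymm (centralizerIn_le _ _) fun g hg => mem_centralizerIn.2 ⟨hg, ?_⟩
      rintro _ ⟨⟨_, k, rfl⟩, rfl⟩
      have hc : Commute g (χ ⟨z, Subgroup.mem_zpowers z⟩) := (mem_centralizerIn.1 hw).2 g hg
      have e : χ ⟨z ^ k, k, rfl⟩ = χ ⟨z, Subgroup.mem_zpowers z⟩ ^ k := by
        rw [← map_zpow]; rfl
      have hk := hc.zpow_right k
      rw [← e] at hk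
      first | exact hk.eq | exact hk.eq.symm
    rw [hall]
    exact Nat.card_le_card_of_injective (Subgroup.inclusion (centralizerIn_le S Q))
      (Subgroup.inclusion_injective _)
  obtain ⟨ψ, hψ, hext⟩ := (IsSaturated.receptive hS hF hfc).2 _ χ hχ rfl
  have hSN : S ≤ extender S (Subgroup.zpowers z) χ := by
    refine le_trans (fun g hg => ?_) (centralizerIn_le_extender (S := S) χ)
    refine mem_centralizerIn.2 ⟨hg, ?_⟩
    rintro _ ⟨k, rfl⟩
    have hc : Commute g z := (mem_centralizerIn.1 hz).2 g hg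
    have hk := hc.zpow_right k
    first | exact hk.eq | exact hk.eq.symm
  let θ := restr hSN ψ
  have hθ : θ ∈ F.Hom S := restr_mem F hψ hSN
  let θ' : S →* S := θ.codRestrict S (fun x => apply_mem hθ x)
  have hinj : Function.Injective θ' := fun a b hab =>
    F.injective_of_mem hθ (congrArg Subtype.val hab)
  let α : MulAut S := MulEquiv.ofBijective θ' (Finite.injective_iff_bijective.1 hinj)
  have hα : α ∈ F.autGroup S := mem_autGroup_of_hom F (show autHom α ∈ F.Hom S from hθ)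
  have hval : ((α ⟨z, hz.1⟩ : S) : Ω) = χ ⟨z, Subgroup.mem_zpowers z⟩ :=
    hext z (Subgroup.mem_zpowers z) (hSN hz.1)
  haveI : Finite (MulAut S) := finite_mulAut le_rfl
  obtain ⟨k, m, hm, hord⟩ := Nat.exists_eq_two_pow_mul_odd (orderOf_pos α).ne'
  refine ⟨α, m, hα, hm, hval, ?_⟩
  have hfn : F.IsFullyNormalized S := by
    refine ⟨le_rfl, fun Q _ => ?_⟩
    rw [normalizerIn_self]
    exact Nat.card_le_card_of_injective (Subgroup.inclusion (normalizerIn_le S Q))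
      (Subgroup.inclusion_injective _)
  have hX : IsPGroup 2 (Subgroup.zpowers (α ^ m)) := by
    intro x
    refine ⟨k, Subtype.ext ?_⟩
    obtain ⟨j, hj⟩ := x.2
    simp only [SubgroupClass.coe_pow, OneMemClass.coe_one]
    rw [← hj]
    show ((α ^ m) ^ j) ^ 2 ^ k = 1
    rw [← zpow_natCast, ← zpow_natCast, ← zpow_mul, ← zpow_mul,
      show (m : ℤ) * (j * ((2 ^ k : ℕ) : ℤ)) = (orderOf α : ℤ) * j by rw [hord]; push_cast; ring,
      zpow_mul, zpow_natCast, pow_orderOf_eq_one, one_zpow]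
  obtain ⟨γ, -, hγ⟩ := IsFullyAutomized.exists_conj
    (IsSaturated.automized_receptive hS hF hfn).1
    (Subgroup.zpowers_le.2 (pow_mem hα m)) hX
  have h1 := hγ _ (Subgroup.mem_zpowers _)
  rw [autInducedBy_self] at h1
  obtain ⟨g, hg⟩ := h1
  have hzc : (⟨z, hz.1⟩ : S) ∈ Subgroup.center S := Subgroup.mem_center_iff.2 fun y => Subtype.ext <| by
    have hc : Commute (y : Ω) z := (mem_centralizerIn.1 hz).2 y y.2
    exact hc.eq
  have hgz : γ ⟨z, hz.1⟩ ∈ Subgroup.center S := by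
    refine Subgroup.mem_center_iff.2 fun y => γ.symm.injective ?_
    rw [map_mul, map_mul, γ.symm_apply_apply]
    exact Subgroup.mem_center_iff.1 hzc _
  have h2 := DFunLike.congr_fun hg (γ ⟨z, hz.1⟩)
  have h3 : γ ((α ^ m) ⟨z, hz.1⟩) = γ ⟨z, hz.1⟩ := by
    rw [MulAut.mul_apply, MulAut.mul_apply, MulAut.inv_def, MulEquiv.symm_apply_apply] at h2
    rw [← h2]
    show g * _ * g⁻¹ = _
    rw [Subgroup.mem_center_iff.1 hgz g, mul_inv_cancel_right]
  exact γ.injective h3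

variable (hS : IsPGroup 2 S) {F : FusionSystem S} (hF : F.IsSaturated 2)
  (h : ∀ x ∈ S, ∃ z ∈ centralizerIn S S, F.IsConjElt x z)

include h in
omit [Finite S] in
theorem normal_le_center {Q : Subgroup Ω} (hQ : F.IsNormal Q) : Q ≤ centralizerIn S S := by
  intro q hq
  refine mem_centralizerIn.2 ⟨hQ.1 hq, fun g hg => ?_⟩
  obtain ⟨z, hz, φ, hφ, hzφ⟩ := h g hg
  obtain ⟨ψ, hψ, hext, -⟩ := hQ.2 _ φ hφ
  let g' : ↥(Subgroup.zpowers g ⊔ Q) := ⟨g, Subgroup.mem_sup_left (Subgroup.mem_zpowers g)⟩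
  let q' : ↥(Subgroup.zpowers g ⊔ Q) := ⟨q, Subgroup.mem_sup_right hq⟩
  have h1 : ψ g' = z := hzφ ▸ hext ⟨g, Subgroup.mem_zpowers g⟩
  have hc : Commute (ψ q') z := (mem_centralizerIn.1 hz).2 _ (apply_mem hψ q')
  have h2 : g' * q' = q' * g' := F.injective_of_mem hψ (by rw [map_mul, map_mul, h1]; exact hc.eq.symm)
  have h3 := congrArg Subtype.val h2
  first | exact h3 | exact h3.symm

include hS hF h in
theorem sq_mem {T : Subgroup Ω} (hT : F.IsNormal T) {u x : Ω} (hu : u ∈ S) (hx : x ∈ S)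
    (ht : x * u * x⁻¹ * u ∈ T) : u ^ 2 ∈ T := by
  have hTsc := IsNormal.stronglyClosed hT
  have hTc := normal_le_center h hT
  obtain ⟨z, hz, φ, hφ, hzφ⟩ := h u hu
  obtain ⟨ψ, hψ, hext, -⟩ := hT.2 _ φ hφ
  let W := Subgroup.zpowers u ⊔ T
  let u' : W := ⟨u, Subgroup.mem_sup_left (Subgroup.mem_zpowers u)⟩
  let t' : W := ⟨x * u * x⁻¹ * u, Subgroup.mem_sup_right ht⟩
  have hψu : ψ u' = z := hzφ ▸ hext ⟨u, Subgroup.mem_zpowers u⟩
  obtain ⟨c, hc, hcr, hcl, -⟩ := exists_inv F hφ rfl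
  have hzr : Subgroup.zpowers z ≤ φ.range := Subgroup.zpowers_le.2 ⟨_, hzφ⟩
  have hcz : c ⟨z, hzr (Subgroup.mem_zpowers z)⟩ = u := by
    have := hcl ⟨u, Subgroup.mem_zpowers u⟩ ⟨_, rfl⟩
    simpa only [hzφ] using this
  have hcW : ∀ y : φ.range, c y ∈ S := fun y => apply_mem hc y
  have huS : Subgroup.zpowers u ≤ S := Subgroup.zpowers_le.2 hu
  have hcu : ∀ y : Subgroup.zpowers z, restr hzr c y ∈ Subgroup.zpowers u := fun y => by
    exact hcr.le ⟨_, rfl⟩
  have hconj : ∀ y : Subgroup.zpowers u, conjHom (Subgroup.zpowers u) x y ∈ W := by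
    rintro ⟨_, k, rfl⟩
    show x * u ^ k * x⁻¹ ∈ W
    rw [show x * u ^ k * x⁻¹ = (x * u * x⁻¹) ^ k from conj_zpow.symm,
      show x * u * x⁻¹ = (t' : Ω) * (u' : Ω)⁻¹ from (mul_inv_cancel_right _ _).symm]
    exact zpow_mem (mul_mem t'.2 (inv_mem u'.2)) k
  let χ := compose (compose (restr hzr c) (conjHom (Subgroup.zpowers u) x) hcu) ψ
    (fun y => hconj _)
  have hχ : χ ∈ F.Hom (Subgroup.zpowers z) :=
    compose_mem F (compose_mem F (restr_mem F hc hzr) (F.conj_mem huS hx) hcu) hψ _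
  have hχz : χ ⟨z, Subgroup.mem_zpowers z⟩ = ψ t' * z⁻¹ := by
    refine Eq.trans ?_ ((map_mul ψ t' u'⁻¹).trans (by rw [map_inv, hψu]))
    show ψ ⟨x * c ⟨z, _⟩ * x⁻¹, _⟩ = _
    congr 1
    refine Subtype.ext ?_
    show x * c ⟨z, _⟩ * x⁻¹ = x * u * x⁻¹ * u * u⁻¹
    rw [hcz, mul_inv_cancel_right]
  have htT : ψ t' ∈ T := StronglyClosed.map_mem hTsc hψ t' ht
  obtain ⟨α, m, hα, hm, hαz, hαm⟩ := exists_aut hS hF hz hχ
    (hχz ▸ mul_mem (hTc htT) (inv_mem hz))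
  rw [hχz] at hαz
  set z₁ : S := ⟨z, hz.1⟩
  have hαT : ∀ s : S, (s : Ω) ∈ T → ((α s : S) : Ω) ∈ T := fun s hs =>
    StronglyClosed.map_mem hTsc (autHom_mem F le_rfl hα) s hs
  have hstep : ∀ s : S, (s : Ω) * z ∈ T → ((α s : S) : Ω) * z⁻¹ ∈ T := by
    intro s hs
    have h1 := hαT (s * z₁) hs
    rw [map_mul, Subgroup.coe_mul, hαz] at h1
    have hzt : Commute (ψ t') z⁻¹ := by
      have : Commute z (ψ t') := (mem_centralizerIn.1 (hTc htT)).2 z hz.1
      exact this.symm.inv_right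
    rw [hzt.eq, ← mul_assoc] at h1
    exact (Subgroup.mul_mem_cancel_right T htT).1 h1
  have hstep' : ∀ s : S, (s : Ω) * z⁻¹ ∈ T → ((α s : S) : Ω) * z ∈ T := by
    intro s hs
    have h1 := hαT (s * z₁⁻¹) hs
    rw [map_mul, map_inv, Subgroup.coe_mul, Subgroup.coe_inv, hαz, mul_inv_rev, inv_inv,
      ← mul_assoc] at h1
    exact (Subgroup.mul_mem_cancel_right T (inv_mem htT)).1 h1
  have hev : ∀ j : ℕ, (((α ^ (2 * j)) z₁ : S) : Ω) * z⁻¹ ∈ T ∧
      (((α ^ (2 * j + 1)) z₁ : S) : Ω) * z ∈ T := by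
    intro j
    induction j with
    | zero =>
      have h0 : ((z₁ : S) : Ω) * z⁻¹ ∈ T := by
        show z * z⁻¹ ∈ T
        rw [mul_inv_cancel]; exact one_mem T
      refine ⟨h0, ?_⟩
      rw [pow_succ']; exact hstep' _ h0
    | succ j ih =>
      have h1 : (((α ^ (2 * (j + 1))) z₁ : S) : Ω) * z⁻¹ ∈ T := by
        rw [show 2 * (j + 1) = 2 * j + 1 + 1 by ring, pow_succ']
        exact hstep _ ih.2
      refine ⟨h1, ?_⟩
      rw [pow_succ']; exact hstep' _ h1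
  obtain ⟨j, rfl⟩ := hm
  have hz2 := (hev j).2
  rw [hαm, ← pow_two] at hz2
  have h4 : ψ (u' ^ 2) ∈ T := by rwa [map_pow, hψu]
  exact (StronglyClosed.map_mem_iff hTsc hψ (u' ^ 2)).1 h4

include hS hF h in
theorem abelian : IsMulCommutative S := by
  set T := F.core
  have hT : F.IsNormal T := isNormal_core F
  have hTc := normal_le_center h hT
  have hcen : ∀ t ∈ T, ∀ g ∈ S, Commute t g := fun t ht g hg => by
    have : Commute g t := (mem_centralizerIn.1 (hTc ht)).2 g hg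
    exact this.symm
  let U : Subgroup Ω :=
    { carrier := {x | x ∈ S ∧ x ^ 2 ∈ T}
      one_mem' := ⟨one_mem S, by rw [one_pow]; exact one_mem T⟩
      inv_mem' := fun {x} hx => ⟨inv_mem hx.1, by rw [inv_pow]; exact inv_mem hx.2⟩
      mul_mem' := fun {x y} hx hy => ⟨mul_mem hx.1 hy.1, sq_mem hS hF h hT (mul_mem hx.1 hy.1) hx.1 (by
        rw [show x * (x * y) * x⁻¹ * (x * y) = x ^ 2 * y ^ 2 by simp [pow_two, mul_assoc]]
        exact mul_mem hx.2 hy.2)⟩ }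
  have hTU : T ≤ U := fun t ht => ⟨hT.1 ht, pow_mem ht 2⟩
  have hUsc : F.StronglyClosed U := by
    refine ⟨fun x hx => hx.1, fun R hR φ hφ x => ⟨apply_mem hφ x, ?_⟩⟩
    rw [← map_pow]
    exact StronglyClosed.map_mem (IsNormal.stronglyClosed hT) hφ _ (hR x.2).2
  have hcomm : ⁅U, U⁆ ≤ T := by
    rw [Subgroup.commutator_le]
    intro x hx y hy
    have hxy : (x * y) ^ 2 ∈ T := (mul_mem hx hy : x * y ∈ U).2
    have hc : (x ^ 2)⁻¹ * y = y * (x ^ 2)⁻¹ := (hcen _ (inv_mem hx.2) _ hy.1).eq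
    have e : ⁅x, y⁆ = (x * y) ^ 2 * ((x ^ 2)⁻¹ * (y ^ 2)⁻¹) :=
      calc x * y * x⁻¹ * y⁻¹ = x * y * x * ((x ^ 2)⁻¹ * y) * (y ^ 2)⁻¹ := by
            simp [pow_two, mul_assoc]
        _ = x * y * x * (y * (x ^ 2)⁻¹) * (y ^ 2)⁻¹ := by rw [hc]
        _ = (x * y) ^ 2 * ((x ^ 2)⁻¹ * (y ^ 2)⁻¹) := by simp [pow_two, mul_assoc]
    rw [e]
    exact mul_mem hxy (mul_mem (inv_mem hx.2) (inv_mem hy.2))
  have hU : F.IsNormal U := by
    refine normal_of_series hS hF hUsc (n := 2) ![⊥, T, U] rfl rfl ?_ ?_ ?_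
    · intro a b hab
      fin_cases a <;> fin_cases b <;> simp_all
    · intro i
      fin_cases i
      · show ⁅T, U⁆ ≤ ⊥
        refine le_of_eq (Subgroup.commutator_eq_bot_iff_le_centralizer.2 fun t ht y hy => ?_)
        exact (hcen t ht y hy.1).symm.eq
      · exact hcomm
    · intro i
      fin_cases i
      · exact StronglyClosed.weaklyClosed (IsNormal.stronglyClosed (isNormal_bot F))
      · exact StronglyClosed.weaklyClosed (IsNormal.stronglyClosed hT)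
  have hUT : U ≤ T := le_core hU
  have hall : ∀ (k : ℕ) (x : Ω), x ∈ S → x ^ 2 ^ k = 1 → x ∈ T := by
    intro k
    induction k with
    | zero => intro x _ hx; rw [pow_zero, pow_one] at hx; exact hx ▸ one_mem T
    | succ k ih =>
      intro x hxS hx
      refine hUT ⟨hxS, ih _ (pow_mem hxS 2) ?_⟩
      rwa [← pow_mul, ← pow_succ']
  refine ⟨⟨fun a b => Subtype.ext ?_⟩⟩
  obtain ⟨k, hk⟩ := hS a
  exact (hcen _ (hall k a a.2 (congrArg Subtype.val hk)) b b.2).eq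

end Cfsg.Agent.Lib.PLocal.ConjCenter
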