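import Cfsg.Agent.Lib.PLocal.ConjCenter
import Cfsg.Agent.Lib.Fusion.GroupSystem

/-!
Groups in which every element of a Sylow 2-subgroup centralises a Sylow 2-subgroup.
-/

set_option autoImplicit false

namespace Cfsg.Agent.Lib.PLocal.ConjCenter

open Cfsg Cfsg.FusionSystem Cfsg.Agent.Lib.Fusion

variable {G : Type*} [Group G] [Finite G]

/-- Every 2-element central in some Sylow 2-subgroup forces abelian Sylow 2-subgroups. -/
theorem sylow_abelian (P : Sylow 2 G)
    (h : ∀ x ∈ (P : Subgroup G), ∃ Q : Sylow 2 G,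
      (Q : Subgroup G) ≤ Subgroup.centralizer ({x} : Set G)) :
    IsMulCommutative (P : Subgroup G) := by
  refine abelian P.2 (group_isSaturated P) fun x hx => ?_
  obtain ⟨Q, hQ⟩ := h x hx
  obtain ⟨g, rfl⟩ := MulAction.exists_smul_eq G P Q
  set z := g⁻¹ * x * g with hz
  have hc : ∀ y ∈ (P : Subgroup G), y * z = z * y := by
    intro y hy
    have hy' : g * y * g⁻¹ ∈ Subgroup.centralizer ({x} : Set G) :=
      hQ (by rw [Sylow.coe_subgroup_smul]; exact ⟨y, hy, rfl⟩)
    rw [Subgroup.mem_centralizer_singleton_iff] at hy'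
    calc y * z = g⁻¹ * ((g * y * g⁻¹) * x) * g := by rw [hz]; group
      _ = g⁻¹ * (x * (g * y * g⁻¹)) * g := by rw [hy']
      _ = z * y := by rw [hz]; group
  have hzP : z ∈ (P : Subgroup G) := by
    have hzp : IsPGroup 2 (Subgroup.zpowers z) := by
      have hh : (Subgroup.zpowers x).map (MulAut.conj g⁻¹).toMonoidHom = Subgroup.zpowers z := by
        rw [MonoidHom.map_zpowers]
        simp [hz]
      rw [← hh]
      exact (P.2.to_le (Subgroup.zpowers_le.2 hx)).map _
    have hn : Subgroup.zpowers z ≤ Subgroup.normalizer ((P : Subgroup G) : Set G) :=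
      Subgroup.zpowers_le.2 (Subgroup.mem_normalizer_iff.2 fun y => by
        constructor
        · intro hy
          rwa [← hc y hy, mul_inv_cancel_right]
        · intro hy
          have h2 := hc _ hy
          rw [inv_mul_cancel_right, ← mul_assoc] at h2
          have h3 : y = z * y * z⁻¹ := by
            have := mul_left_cancel (h2.trans (mul_assoc z (z * y) z⁻¹))
            simpa [mul_assoc] using this
          rw [h3]; exact hy)
    have hsup : IsPGroup 2 (Subgroup.zpowers z ⊔ (P : Subgroup G) : Subgroup G) :=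
      hzp.to_sup_of_normal_right' P.2 hn
    exact P.3 hsup le_sup_right ▸ Subgroup.mem_sup_left (Subgroup.mem_zpowers z)
  refine ⟨z, mem_centralizerIn.2 ⟨hzP, hc⟩,
    conjHom (Subgroup.zpowers x) g⁻¹, conjHom_mem_group (Subgroup.zpowers_le.2 hx) ?_, ?_⟩
  · rw [MonoidHom.map_zpowers, Subgroup.zpowers_le]
    simpa [hz] using hzP
  · rw [conjHom_apply]; simp [hz]

end Cfsg.Agent.Lib.PLocal.ConjCenter
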