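import Cfsg.Agent.Lib.PLocal.FixCount
import Cfsg.Agent.Lib.PLocal.NoSLTwo
import Cfsg.Agent.Lib.Cores.Frattini
import Cfsg.Agent.Lib.Cores
import Cfsg.Agent.Lib.Solvable.ShultGross.Eigen
import Cfsg.Agent.Lib.Solvable.FPF.Module
import Cfsg.Agent.Lib.Characters.SolvablePSolvable

/-!
An element of prime order at least five whose conjugates generate a solvable irreducible linear group
fixes less than half of the space.
-/

set_option autoImplicit false

namespace Cfsg.Agent.Lib.PLocal.FixHalf

open Module MulAction Cfsg.Agent.Lib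
open scoped commutatorElement

/-- A quadratic element of prime order at least five centralizes the abelian chief factor, if its
conjugates generate the solvable group. -/
theorem commute_of_quadratic {p : ℕ} [Fact p.Prime] (hp : 5 ≤ p) {G : Type*} [Group G] [Finite G]
    [Group.IsSolvable G] {x : G} {V : Subgroup G} [V.Normal] (hV : IsPGroup p V)
    (hmin : ∀ W : Subgroup G, W.Normal → W ≤ V → W = ⊥ ∨ W = V) (hne : V ≠ ⊥)
    (hq : ⁅⁅V, Subgroup.zpowers x⁆, Subgroup.zpowers x⁆ = ⊥) :
    x ∈ Subgroup.centralizer (V : Set G) := by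
  have hst := isPStableOn_of_normalizerPStable ((noSLTwo_of_pSolvable hp
    (Characters.isPSolvable_of_isSolvable p (G := G))).normalizerPStable (by omega)) V hV
  have hx := hst x hq
  set C := Subgroup.centralizer (V : Set G) with hC
  set π := QuotientGroup.mk' C
  set D := (Cfsg.pCore p (G ⧸ C)).comap π with hD
  haveI : (Cfsg.pCore p (G ⧸ C)).Normal := Cfsg.pCore_normal p _
  haveI : D.Normal := inferInstance
  let α : G →* MulAut V := MulAut.conjNormal
  have hker : C ≤ α.ker := fun c hc => MulEquiv.ext fun v => Subtype.ext (by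
    rw [MulAut.conjNormal_apply, MulAut.one_apply]
    rw [← Subgroup.mem_centralizer_iff.mp hc v v.2, mul_inv_cancel_right])
  set P := D.map α with hP
  have hPp : IsPGroup p P := by
    intro a
    obtain ⟨g, hg, hga⟩ := a.2
    obtain ⟨n, hn⟩ := (Cores.pCore_isPGroup p (G ⧸ C)) ⟨π g, hg⟩
    refine ⟨n, Subtype.ext ?_⟩
    rw [Subgroup.coe_pow, ← hga, ← map_pow, OneMemClass.coe_one, ← MonoidHom.mem_ker]
    refine hker ((QuotientGroup.eq_one_iff _).mp ?_)
    exact congrArg Subtype.val hn
  haveI : Nontrivial V := (Subgroup.nontrivial_iff_ne_bot V).mpr hne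
  haveI : Fintype V := Fintype.ofFinite _
  have hVd : p ∣ Nat.card V := by
    obtain ⟨n, hn⟩ := IsPGroup.iff_card.mp hV
    rcases Nat.eq_zero_or_pos n with rfl | h
    · exact absurd hn (Finite.one_lt_card.ne' : Nat.card V ≠ 1)
    · exact hn ▸ dvd_pow_self p h.ne'
  have h1 : (1 : V) ∈ fixedPoints P V := fun a => map_one (a : MulAut V)
  obtain ⟨v, hv, hv1⟩ := hPp.exists_fixed_point_of_prime_dvd_card_of_fixed_point V hVd h1
  let W : Subgroup G :=
    { carrier := {w | w ∈ V ∧ ∀ d ∈ D, d * w = w * d}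
      one_mem' := ⟨one_mem _, fun d _ => by simp⟩
      mul_mem' := fun {a b} ha hb => ⟨mul_mem ha.1 hb.1, fun d hd => by
        rw [← mul_assoc, ha.2 d hd, mul_assoc, hb.2 d hd, mul_assoc]⟩
      inv_mem' := fun {a} ha => ⟨inv_mem ha.1, fun d hd =>
        (show Commute d a from ha.2 d hd).inv_right.eq⟩ }
  have hWn : W.Normal := ⟨fun w hw g => ⟨(inferInstance : V.Normal).conj_mem w hw.1 g, fun d hd => by
    have h2 := hw.2 _ ((inferInstance : D.Normal).conj_mem d hd g⁻¹)
    rw [inv_inv] at h2
    calc d * (g * w * g⁻¹) = g * (g⁻¹ * d * g * w) * g⁻¹ := by group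
      _ = g * (w * (g⁻¹ * d * g)) * g⁻¹ := by rw [h2]
      _ = _ := by group⟩⟩
  have hW : W ≠ ⊥ := fun h => by
    have hvW : (v : G) ∈ W := ⟨v.2, fun d hd => by
      have h2 : (MulAut.conjNormal d : MulAut V) v = v := hv ⟨α d, d, hd, rfl⟩
      have := congrArg Subtype.val h2
      rw [MulAut.conjNormal_apply, mul_inv_eq_iff_eq_mul] at this
      exact this⟩
    rw [h, Subgroup.mem_bot] at hvW
    exact hv1 (Subtype.ext hvW.symm)
  have hWV := (hmin W hWn fun w hw => hw.1).resolve_left hW
  intro w hw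
  exact ((hWV.ge hw).2 x hx).symm

section

variable {k : Type*} [Field k] {V : Type*} [AddCommGroup V] [Module k V] [FiniteDimensional k V]
  {G : Type*} [Group G] [Finite G] (ρ : G →* End k V)

include ρ in
theorem mem_center_of_scalar (hρ : Function.Injective ρ) {g : G} {c : k} (h : ρ g = c • 1) :
    g ∈ Subgroup.center G :=
  Subgroup.mem_center_iff.mpr fun a => hρ (by
    rw [map_mul, map_mul, h, mul_smul_comm, smul_mul_assoc, mul_one, one_mul])

theorem ρ_inv_apply (g : G) (v : V) : ρ g⁻¹ (ρ g v) = v := by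
  rw [← End.mul_apply, ← map_mul, inv_mul_cancel, map_one, End.one_apply]

variable [IsAlgClosed k] [Nontrivial V]
  (hirr : ∀ U : Submodule k V, (∀ g, ∀ v ∈ U, ρ g v ∈ U) → U = ⊥ ∨ U = ⊤)

include hirr in
theorem exists_scalar {g : G} (hg : g ∈ Subgroup.center G) : ∃ c : k, ρ g = c • 1 := by
  obtain ⟨μ, hμ⟩ := End.exists_eigenvalue (ρ g)
  refine ⟨μ, LinearMap.ext fun v => ?_⟩
  have htop := (hirr (End.eigenspace (ρ g) μ) fun a w hw => by
    rw [End.mem_eigenspace_iff] at hw ⊢
    rw [← End.mul_apply, ← map_mul, ← Subgroup.mem_center_iff.mp hg a, map_mul, End.mul_apply, hw,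
      map_smul]).resolve_left hμ
  exact End.mem_eigenspace_iff.mp (htop.ge Submodule.mem_top)

include hirr in
/-- The order of an abelian normal subgroup is prime to the characteristic. -/
theorem natCast_card_ne_zero (hρ : Function.Injective ρ) (A : Subgroup G) [A.Normal]
    (hA : ∀ a ∈ A, ∀ b ∈ A, a * b = b * a) : (Nat.card A : k) ≠ 0 := by
  intro h0
  obtain ⟨ℓ, hℓ⟩ := CharP.exists k
  have hd : ℓ ∣ Nat.card A := (CharP.cast_eq_zero_iff k ℓ _).mp h0
  rcases CharP.char_is_prime_or_zero k ℓ with hℓp | rfl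
  swap
  · exact Nat.card_pos.ne' (zero_dvd_iff.mp hd)
  haveI := Fact.mk hℓp
  obtain ⟨a, ha⟩ := exists_prime_orderOf_dvd_card' (G := A) ℓ hd
  let B : Subgroup G :=
    { carrier := {b | b ∈ A ∧ b ^ ℓ = 1}
      one_mem' := ⟨one_mem _, one_pow _⟩
      mul_mem' := fun {b c} hb hc => ⟨mul_mem hb.1 hc.1, by
        rw [(show Commute b c from hA b hb.1 c hc.1).mul_pow, hb.2, hc.2, one_mul]⟩
      inv_mem' := fun {b} hb => ⟨inv_mem hb.1, by rw [inv_pow, hb.2, inv_one]⟩ }
  have haB : (a : G) ∈ B := ⟨a.2, congrArg Subtype.val (ha ▸ pow_orderOf_eq_one a : a ^ ℓ = 1)⟩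
  obtain ⟨χ, w, -, hw0, hw⟩ := Solvable.FPF.exists_common_eigenvector (fun b : B => ρ (b : G))
    (fun b c => (show Commute (b : G) c from hA _ b.2.1 _ c.2.1).map ρ) _ ⊤ rfl
    (top_ne_bot (α := Submodule k V)) fun _ _ _ => Submodule.mem_top
  have hfix : ∀ b : B, ρ (b : G) w = w := by
    intro b
    have hpow : ∀ n : ℕ, ρ ((b : G) ^ n) w = χ b ^ n • w := by
      intro n
      induction n with
      | zero => simp
      | succ n ih =>
        rw [pow_succ, map_mul, End.mul_apply, hw, map_smul, ih, smul_smul, ← pow_succ']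
    have h1 : χ b ^ ℓ = 1 := smul_left_injective k hw0 (by
      show χ b ^ ℓ • w = (1 : k) • w
      rw [← hpow, b.2.2, map_one, one_smul, End.one_apply])
    have : (χ b - 1) ^ ℓ = 0 := by
      haveI : ExpChar k ℓ := ExpChar.prime hℓp
      rw [sub_pow_expChar, h1, one_pow, sub_self]
    rw [hw, sub_eq_zero.mp (eq_zero_of_pow_eq_zero this), one_smul]
  let F : Submodule k V :=
    { carrier := {v | ∀ b : B, ρ (b : G) v = v}
      zero_mem' := fun b => map_zero _
      add_mem' := fun {u v} hu hv b => by rw [map_add, hu b, hv b]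
      smul_mem' := fun c v hv b => by rw [map_smul, hv b] }
  have htop := (hirr F fun g v hv b => by
    have hb : g⁻¹ * (b : G) * g ∈ B := ⟨by simpa using (inferInstance : A.Normal).conj_mem _ b.2.1 g⁻¹, by
      rw [show g⁻¹ * (b : G) * g = g⁻¹ * (b : G) * g⁻¹⁻¹ by rw [inv_inv], conj_pow, b.2.2, mul_one,
        mul_inv_cancel]⟩
    have h2 := congrArg (ρ g) (hv ⟨_, hb⟩)
    rw [← End.mul_apply, ← map_mul] at h2
    rw [← End.mul_apply, ← map_mul]
    simpa [mul_assoc] using h2).resolve_left fun h => hw0 ((Submodule.eq_bot_iff F).mp h w hfix)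
  have : (a : G) = 1 := hρ (by
    rw [map_one]
    exact LinearMap.ext fun v => (htop.ge (Submodule.mem_top : v ∈ ⊤)) ⟨a, haB⟩)
  rw [show a = 1 from Subtype.ext this, orderOf_one] at ha
  exact hℓp.one_lt.ne ha

variable {p : ℕ} [hp : Fact p.Prime] (hp5 : 5 ≤ p) {x : G} (hxp : x ^ p = 1)
  (hgen : Subgroup.normalClosure ({x} : Set G) = ⊤)

include hirr hxp hgen hp5 in
/-- The imprimitive case. -/
theorem fix_lt_of_abelian [Group.IsSolvable G] (hρ : Function.Injective ρ) (A : Subgroup G)
    [A.Normal] (hA : ∀ a ∈ A, ∀ b ∈ A, a * b = b * a) (hAc : ¬ A ≤ Subgroup.center G) :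
    2 * finrank k (LinearMap.ker (ρ x - 1)) < finrank k V := by
  classical
  obtain ⟨χ, w0, -, hw0, hχ⟩ := Solvable.FPF.exists_common_eigenvector (fun a : A => ρ (a : G))
    (fun b c => (show Commute (b : G) c from hA _ b.2 _ c.2).map ρ) _ ⊤ rfl
    (top_ne_bot (α := Submodule k V)) fun _ _ _ => Submodule.mem_top
  have hcm : ∀ (g : G) (a : A), g⁻¹ * (a : G) * g ∈ A := fun g a => by
    simpa using (inferInstance : A.Normal).conj_mem _ a.2 g⁻¹
  let cj : G → A → A := fun g a => ⟨g⁻¹ * (a : G) * g, hcm g a⟩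
  have hcj : ∀ g h a, cj h (cj g a) = cj (g * h) a := fun g h a => Subtype.ext (by
    simp [cj, mul_assoc])
  have hcj1 : ∀ a, cj 1 a = a := fun a => Subtype.ext (by simp [cj])
  let I : Subgroup G :=
    { carrier := {g | ∀ a, χ (cj g a) = χ a}
      one_mem' := fun a => by rw [hcj1]
      mul_mem' := fun {g h} hg hh a => by rw [← hcj, hh, hg]
      inv_mem' := fun {g} hg a => by
        conv_rhs => rw [← hcj1 a, ← inv_mul_cancel g, ← hcj, hg] }
  let W0 : Submodule k V := ⨅ a : A, End.eigenspace (ρ (a : G)) (χ a)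
  have hW0m : ∀ {v}, v ∈ W0 ↔ ∀ a : A, ρ (a : G) v = χ a • v := by
    simp [W0, Submodule.mem_iInf, End.mem_eigenspace_iff]
  have hmove : ∀ (g : G), ∀ v ∈ W0, ∀ a : A, ρ (a : G) (ρ g v) = χ (cj g a) • ρ g v := by
    intro g v hv a
    rw [← map_smul, ← hW0m.mp hv (cj g a), ← End.mul_apply, ← End.mul_apply, ← map_mul, ← map_mul]
    simp [cj, mul_assoc]
  have hI : ∀ g ∈ I, ∀ v ∈ W0, ρ g v ∈ W0 := fun g hg v hv => hW0m.mpr fun a => by
    rw [hmove g v hv a, hg a]
  have hW0 : W0 ≠ ⊥ := (Submodule.ne_bot_iff _).mpr ⟨w0, hW0m.mpr hχ, hw0⟩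
  let W : G ⧸ I → Submodule k V := fun u => W0.map (ρ u.out)
  haveI : Fintype (G ⧸ I) := Fintype.ofFinite _
  have hmap : ∀ g u, ∀ v ∈ W u, ρ g v ∈ W (g • u) := by
    rintro g u _ ⟨v, hv, rfl⟩
    have hmem : (g • u).out⁻¹ * (g * u.out) ∈ I := QuotientGroup.eq.mp (by
      rw [QuotientGroup.out_eq']
      conv_lhs => rw [← QuotientGroup.out_eq' u]
      rfl)
    refine ⟨_, hI _ hmem v hv, ?_⟩
    rw [← End.mul_apply, ← map_mul, mul_inv_cancel_left, map_mul, End.mul_apply]
  have htop : ⨆ u, W u = ⊤ := by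
    refine (hirr _ fun g v hv => ?_).resolve_left fun h => hW0 ?_
    · refine Submodule.iSup_induction (p := W) (motive := fun v => ρ g v ∈ ⨆ u, W u) hv
        (fun u v hv => Submodule.mem_iSup_of_mem _ (hmap g u v hv)) (by simp) ?_
      intro a b ha hb
      rw [map_add]
      exact add_mem ha hb
    · rw [eq_bot_iff] at h ⊢
      intro v hv
      have h2 := h (Submodule.mem_iSup_of_mem ((1 : G) : G ⧸ I) ⟨v, hv, rfl⟩)
      rw [Submodule.mem_bot] at h2 ⊢
      rw [← ρ_inv_apply ρ ((1 : G) : G ⧸ I).out v, h2, map_zero]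
  have hind : iSupIndep W := by
    rw [iSupIndep_iff_finsetSum_eq_zero_imp_eq_zero]
    intro s w hw hsum
    refine Solvable.FPF.eq_zero_of_sum_eq_zero (fun a : A => ρ (a : G)) s w
      (fun u a => χ (cj u.out a)) (fun u hu a => ?_) (fun u _ v _ huv => ?_) hsum
    · obtain ⟨v, hv, hvw⟩ := hw u hu
      rw [← hvw]
      exact hmove _ v hv a
    · rw [← QuotientGroup.out_eq' u, ← QuotientGroup.out_eq' v]
      refine QuotientGroup.eq.mpr fun a => ?_
      have := congrFun huv (cj u.out⁻¹ a)
      simp only [hcj, inv_mul_cancel, hcj1] at this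
      exact this.symm
  haveI : Nontrivial (G ⧸ I) := by
    by_contra hsub
    rw [not_nontrivial_iff_subsingleton] at hsub
    haveI := hsub
    have hall : ∀ g, g ∈ I := fun g => (QuotientGroup.eq (s := I)).mp
      (Subsingleton.elim ((1 : G) : G ⧸ I) (g : G ⧸ I)) |> fun h => by simpa using h
    have hW0top := (hirr W0 fun g v hv => hI g (hall g) v hv).resolve_left hW0
    refine hAc fun a ha => mem_center_of_scalar ρ hρ (c := χ ⟨a, ha⟩) (LinearMap.ext fun v => ?_)
    exact hW0m.mp (hW0top.ge Submodule.mem_top) ⟨a, ha⟩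
  let σ : Equiv.Perm (G ⧸ I) := MulAction.toPermHom G (G ⧸ I) x
  have hσ : σ ^ p = 1 := by rw [← map_pow, hxp, map_one]
  obtain ⟨hd, hc⟩ := card_fix_le W hind htop (finrank k W0)
    (fun u => (Submodule.equivMapOfInjective (ρ u.out) (Function.LeftInverse.injective
      (g := ρ u.out⁻¹) (ρ_inv_apply ρ u.out)) W0).finrank_eq.symm) (ρ x) σ hσ
    (fun u v hv => hmap x u v hv)
  have hf : p * Nat.card {u // σ u = u} ≤ Fintype.card (G ⧸ I) := by
    rw [← Nat.card_eq_fintype_card]
    exact card_fixed_le hxp hgen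
  have he : 0 < finrank k W0 := Nat.pos_of_ne_zero fun h => hW0 (Submodule.finrank_eq_zero.mp h)
  set f := Nat.card {u // σ u = u}
  set c := finrank k (LinearMap.ker (ρ x - 1))
  set m := Fintype.card (G ⧸ I)
  set e := finrank k W0
  have hm : 0 < m * e := Nat.mul_pos Fintype.card_pos he
  rw [hd]
  have h1 : p * p * c ≤ (2 * p - 1) * (m * e) := by
    calc p * p * c = p * (p * c) := mul_assoc _ _ _
      _ ≤ p * ((m + (p - 1) * f) * e) := Nat.mul_le_mul_left _ hc
      _ = (p * m + (p - 1) * (p * f)) * e := by ring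
      _ ≤ (p * m + (p - 1) * m) * e := by
          exact Nat.mul_le_mul_right _ (Nat.add_le_add_left (Nat.mul_le_mul_left _ hf) _)
      _ = _ := by rw [← add_mul, show p + (p - 1) = 2 * p - 1 by omega, mul_assoc]
  by_contra hcon
  push Not at hcon
  have h2 : p * p * (m * e) ≤ 2 * ((2 * p - 1) * (m * e)) := by
    calc p * p * (m * e) ≤ p * p * (2 * c) := Nat.mul_le_mul_left _ hcon
      _ = 2 * (p * p * c) := by ring
      _ ≤ _ := Nat.mul_le_mul_left _ h1
  rw [← mul_assoc 2] at h2
  have h3 := Nat.le_of_mul_le_mul_right h2 hm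
  have : 5 * p ≤ p * p := Nat.mul_le_mul_right _ hp5
  omega

/-- The elementary inequality of the class two case. -/
theorem four_mul_le {p t q k : ℕ} (hp : p.Prime) (hq : q.Prime) (hp5 : 5 ≤ p) (ht : t = q ^ k)
    (hk : 2 ≤ k) (hcase : q = p ∨ t % p = 1) : 4 * (p - 1) ≤ (p - 4) * t := by
  have ht4 : q * q ≤ t := by
    rw [ht, ← sq]; exact Nat.pow_le_pow_right hq.pos hk
  rcases hcase with rfl | hmod
  · calc 4 * (q - 1) ≤ 4 * q := by omega
      _ ≤ q * q := Nat.mul_le_mul_right _ (by omega)
      _ ≤ t := ht4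
      _ ≤ (q - 4) * t := Nat.le_mul_of_pos_left _ (by omega)
  · have ht1 : 4 ≤ t := le_trans (Nat.mul_le_mul hq.two_le hq.two_le) ht4
    have htp : p + 1 ≤ t := by
      by_contra h
      rcases Nat.lt_or_ge t p with h' | h'
      · rw [Nat.mod_eq_of_lt h'] at hmod; omega
      · rw [show t = p by omega, Nat.mod_self] at hmod; omega
    rcases Nat.lt_or_ge p 7 with h7 | h7
    · have hp' : p = 5 := by
        by_contra h
        rw [show p = 6 by omega] at hp
        norm_num at hp
      subst hp'
      have hsq : q * q ∣ t := ht ▸ sq q ▸ pow_dvd_pow q hk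
      have h16 : t ≠ 6 ∧ t ≠ 11 := by
        constructor <;> intro h <;> rw [h] at hsq ht4 <;>
          have : q ≤ 3 := (by nlinarith) <;>
          have := hq.two_le <;> interval_cases q <;> norm_num at hsq
      omega
    · have h1 : (p - 4) * (p + 1) ≤ (p - 4) * t := Nat.mul_le_mul_left _ htp
      have h2 : 3 * (p + 1) ≤ (p - 4) * (p + 1) := Nat.mul_le_mul_right _ (by omega)
      rcases Nat.lt_or_ge p 8 with h8 | h8
      · omega
      · have h3 : 4 * (p + 1) ≤ (p - 4) * (p + 1) := Nat.mul_le_mul_right _ (by omega)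
        omega

set_option maxHeartbeats 800000 in
include hirr hxp hgen hp5 in
/-- The primitive case. -/
theorem fix_lt_of_class_two [Group.IsSolvable G] (hρ : Function.Injective ρ) {q : ℕ} (hq : q.Prime)
    (hab : ∀ A : Subgroup G, A.Normal → (∀ a ∈ A, ∀ b ∈ A, a * b = b * a) → A ≤ Subgroup.center G)
    (N : Subgroup G) [N.Normal] (hNc : ¬ N ≤ Subgroup.center G)
    (hmin : ∀ M : Subgroup G, M.Normal → M ≤ N → M ≤ Subgroup.center G ∨ M = N)
    (hNq : IsPGroup q N) (hcomm : ⁅N, N⁆ ≤ Subgroup.center G) :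
    2 * finrank k (LinearMap.ker (ρ x - 1)) < finrank k V := by
  classical
  haveI := Fact.mk hq
  haveI : Fintype N := Fintype.ofFinite N
  have hNne : N ≠ ⊥ := fun h => hNc (h ▸ bot_le)
  haveI : Nontrivial N := (Subgroup.nontrivial_iff_ne_bot N).mpr hNne
  have hQ : (Fintype.card N : k) ≠ 0 := by
    have hz := natCast_card_ne_zero ρ hirr hρ ((Subgroup.center N).map N.subtype)
      (by rintro _ ⟨a, ha, rfl⟩ _ ⟨b, hb, rfl⟩
          exact congrArg Subtype.val (Subgroup.mem_center_iff.mp hb a))
    obtain ⟨n, hn⟩ := IsPGroup.iff_card.mp hNq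
    obtain ⟨i, hi⟩ := IsPGroup.iff_card.mp (hNq.to_subgroup (Subgroup.center N))
    rw [← Nat.card_eq_fintype_card, hn, Nat.cast_pow]
    refine pow_ne_zero _ fun h0 => hz ?_
    rw [Subgroup.card_map_of_injective N.subtype_injective, hi, Nat.cast_pow, h0, zero_pow]
    rintro rfl
    haveI := IsPGroup.center_nontrivial hNq
    exact (Finite.one_lt_card (α := Subgroup.center N)).ne' (by simpa using hi)
  have hsc : ∀ a b : N, ∃ c : k, ρ ((a : G) * b) = c • ρ ((b : G) * a) := fun a b => by
    obtain ⟨c, hc⟩ := exists_scalar ρ hirr (hcomm (Subgroup.commutator_mem_commutator a.2 b.2))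
    refine ⟨c, ?_⟩
    rw [show (a : G) * b = ⁅(a : G), (b : G)⁆ * ((b : G) * a) by rw [commutatorElement_def]; group,
      map_mul _ ⁅(a : G), (b : G)⁆, hc, smul_mul_assoc, one_mul]
  choose β hβ using hsc
  let φ : MulAut N := MulAut.conjNormal x
  let D : Solvable.ShultGross.Data k V N :=
    { E := ρ.comp N.subtype
      T := ρ x
      φ := φ
      m := p
      β := β
      hm := hp.out.odd_of_ne_two (by omega)
      hT := by rw [← map_pow, hxp, map_one]
      hφ := by rw [← map_pow, hxp, map_one]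
      hTE := fun a => by
        show ρ x * ρ (a : G) = ρ ((φ a : N) : G) * ρ x
        rw [← map_mul, ← map_mul, MulAut.conjNormal_apply, inv_mul_cancel_right]
      hβ := fun a b => by
        show ρ (a : G) * ρ (b : G) = β a b • (ρ (b : G) * ρ (a : G))
        rw [← map_mul, ← map_mul, hβ] }
  have hRc : ∀ r ∈ D.R, (r : G) ∈ Subgroup.center G := by
    have hRn : (D.R.map N.subtype).Normal := ⟨by
      rintro _ ⟨r, hr, rfl⟩ g
      refine ⟨MulAut.conjNormal g r, fun y => ?_, MulAut.conjNormal_apply g r⟩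
      have h1 := hβ r (MulAut.conjNormal g⁻¹ y)
      rw [show β r (MulAut.conjNormal g⁻¹ y) = 1 from hr _, one_smul] at h1
      refine D.β_unique ?_
      show ρ ((MulAut.conjNormal g r : N) : G) * ρ (y : G) =
        (1 : k) • (ρ (y : G) * ρ ((MulAut.conjNormal g r : N) : G))
      rw [one_smul, ← map_mul, ← map_mul, MulAut.conjNormal_apply]
      have h2 := congrArg (fun z => ρ g * z * ρ g⁻¹) h1
      simp only [← map_mul, MulAut.conjNormal_apply] at h2
      convert h2 using 2 <;> group⟩
    intro r hr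
    refine hab _ hRn ?_ ⟨r, hr, rfl⟩
    rintro _ ⟨a, ha, rfl⟩ _ ⟨b, -, rfl⟩
    have := hβ a b
    rw [show β a b = 1 from ha b, one_smul] at this
    exact hρ this
  have hcR : ∀ r : N, (r : G) ∈ Subgroup.center G → r ∈ D.R := fun r hr y => D.β_unique (by
    show ρ (r : G) * ρ (y : G) = (1 : k) • (ρ (y : G) * ρ (r : G))
    rw [one_smul, ← map_mul, ← map_mul, Subgroup.mem_center_iff.mp hr y])
  have hR : D.RadScalar := fun r hr => exists_scalar ρ hirr (hRc r hr)
  letI : CommGroup (N ⧸ D.R) :=
    { (inferInstance : Group (N ⧸ D.R)) with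
      mul_comm := fun u v => by
        induction u using QuotientGroup.induction_on with
        | H a =>
          induction v using QuotientGroup.induction_on with
          | H b =>
            rw [← QuotientGroup.mk_mul, ← QuotientGroup.mk_mul, QuotientGroup.eq]
            refine hcR _ (hcomm ?_)
            have h1 := Subgroup.commutator_mem_commutator (inv_mem b.2) (inv_mem a.2)
            simpa [commutatorElement_def, mul_assoc] using h1 }
  -- the quotient has exponent `q`
  have hpowR : ∀ a : N, a ^ q ∈ D.R := by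
    intro a
    refine hcR _ ?_
    rcases hmin ((frattini N).map N.subtype) inferInstance (Subgroup.map_subtype_le _) with h | h
    · exact h ⟨_, Cores.pow_mem_frattini hNq a, rfl⟩
    · exfalso
      refine Cores.frattini_ne_top (G := N) (Subgroup.map_injective N.subtype_injective ?_)
      rw [h, ← MonoidHom.range_eq_map, Subgroup.range_subtype]
  let θh : N ⧸ D.R →* N ⧸ D.R := QuotientGroup.map D.R D.R φ.toMonoidHom fun r hr =>
    hcR _ (by
      rw [MulEquiv.coe_toMonoidHom, MulAut.conjNormal_apply]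
      exact (inferInstance : (Subgroup.center G).Normal).conj_mem _ (hRc r hr) x)
  have hstep : ∀ u, θh u = D.step u := fun u => by
    induction u using QuotientGroup.induction_on with
    | H a => rw [D.step_mk]; rfl
  let θ : MulAut (N ⧸ D.R) := MulEquiv.ofBijective θh (by
    rw [show (θh : N ⧸ D.R → N ⧸ D.R) = D.step from funext hstep]
    exact D.step_bijective)
  have hθmk : ∀ a : N, θ (a : N ⧸ D.R) = ((φ a : N) : N ⧸ D.R) := fun a => rfl
  have hθp : θ ^ p = 1 := MulEquiv.ext fun u => by
    induction u using QuotientGroup.induction_on with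
    | H a =>
      have hj : ∀ j : ℕ, (θ ^ j) (a : N ⧸ D.R) = (((φ ^ j) a : N) : N ⧸ D.R) := by
        intro j
        induction j with
        | zero => rfl
        | succ j ih => rw [pow_succ', MulAut.mul_apply, ih, hθmk, pow_succ', MulAut.mul_apply]
      rw [hj, ← map_pow, hxp, map_one]
      rfl
  have hθne : θ ≠ 1 := by
    intro h1
    let Z0 : Subgroup G :=
      { carrier := {g | ∀ a : N, (a : G)⁻¹ * (g * a * g⁻¹) ∈ Subgroup.center G}
        one_mem' := fun a => by simp
        mul_mem' := fun {g h} hg hh a => by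
          have e : (a : G)⁻¹ * (g * h * a * (g * h)⁻¹) =
              ((a : G)⁻¹ * (g * a * g⁻¹)) * (g * ((a : G)⁻¹ * (h * a * h⁻¹)) * g⁻¹) := by group
          rw [e]
          exact mul_mem (hg a) ((inferInstance : (Subgroup.center G).Normal).conj_mem _ (hh a) g)
        inv_mem' := fun {g} hg a => by
          have h2 := (inferInstance : (Subgroup.center G).Normal).conj_mem _
            (inv_mem (hg a)) g⁻¹
          convert h2 using 1
          group }
    haveI : Z0.Normal := ⟨fun g hg h a => by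
      have hb : h⁻¹ * (a : G) * h ∈ N := by
        simpa using (inferInstance : N.Normal).conj_mem _ a.2 h⁻¹
      have h2 := (inferInstance : (Subgroup.center G).Normal).conj_mem _ (hg ⟨_, hb⟩) h
      convert h2 using 1
      group⟩
    have hxZ : x ∈ Z0 := fun a => by
      have h2 := DFunLike.congr_fun h1 (a : N ⧸ D.R)
      rw [hθmk, MulAut.one_apply, eq_comm, QuotientGroup.eq] at h2
      have h3 := hRc _ h2
      rwa [Subgroup.coe_mul, Subgroup.coe_inv, MulAut.conjNormal_apply] at h3
    have hall : ∀ g : G, g ∈ Z0 := fun g => Subgroup.normalClosure_le_normal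
      (Set.singleton_subset_iff.mpr hxZ) (hgen ▸ Subgroup.mem_top g)
    obtain ⟨a, haN, ha⟩ := SetLike.not_le_iff_exists.mp hNc
    have hAn : (Subgroup.zpowers a ⊔ Subgroup.center G).Normal := ⟨fun b hb g => by
      obtain ⟨u, hu, z, hz, rfl⟩ := Subgroup.mem_sup_of_normal_right.mp hb
      obtain ⟨n, rfl⟩ := hu
      have h2 := hall g ⟨a ^ n, zpow_mem haN n⟩
      rw [show g * (a ^ n * z) * g⁻¹ = a ^ n * ((a ^ n)⁻¹ * (g * a ^ n * g⁻¹)) * z by
        rw [← mul_assoc g, mul_assoc _ z, ← Subgroup.mem_center_iff.mp hz g⁻¹]; group]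
      exact mul_mem (mul_mem (Subgroup.mem_sup_left ⟨n, rfl⟩) (Subgroup.mem_sup_right h2))
        (Subgroup.mem_sup_right hz)⟩
    refine ha (hab _ hAn ?_ (Subgroup.mem_sup_left (Subgroup.mem_zpowers a)))
    intro b hb c hc
    obtain ⟨_, ⟨n, rfl⟩, z, hz, rfl⟩ := Subgroup.mem_sup_of_normal_right.mp hb
    obtain ⟨_, ⟨m, rfl⟩, z', hz', rfl⟩ := Subgroup.mem_sup_of_normal_right.mp hc
    exact (((Commute.refl a).zpow_zpow n m).mul_right
      (show Commute (a ^ n) z' from Subgroup.mem_center_iff.mp hz' _)).mul_left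
      ((show Commute z (a ^ m) from (Subgroup.mem_center_iff.mp hz _).symm).mul_right
        (show Commute z z' from Subgroup.mem_center_iff.mp hz' z))
  -- the decomposition of the endomorphisms
  haveI : Fintype (N ⧸ D.R) := Fintype.ofFinite _
  let W : N ⧸ D.R → Submodule k (End k V) := fun u => LinearMap.range (D.P u.out)
  have hWm : ∀ u f, f ∈ W u ↔ D.InPart u.out f := fun u f =>
    ⟨fun ⟨g, hg⟩ => hg ▸ D.inPart_P _ g, fun h => ⟨f, by rw [D.P_of_inPart hQ _ _ h, if_pos rfl]⟩⟩
  have hind : iSupIndep W := by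
    rw [iSupIndep_iff_finsetSum_eq_zero_imp_eq_zero]
    intro s w hw hsum u hu
    have := congrArg (D.P u.out) hsum
    rw [map_sum, map_zero, Finset.sum_eq_single u, D.P_of_inPart hQ _ _ ((hWm u _).mp (hw u hu)),
      if_pos rfl] at this
    · exact this
    · intro v hv hvu
      rw [D.P_of_inPart hQ _ _ ((hWm v _).mp (hw v hv)), if_neg]
      rw [QuotientGroup.out_eq', QuotientGroup.out_eq']
      exact Ne.symm hvu
    · exact fun h => absurd hu h
  have htop : ⨆ u, W u = ⊤ := eq_top_iff.mpr fun f _ => by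
    rw [← D.sum_P hQ hR f]
    exact Submodule.sum_mem _ fun u _ => Submodule.mem_iSup_of_mem u ⟨f, rfl⟩
  have hshift : ∀ (a b : N) (f : End k V), D.InPart b f → D.InPart (a * b) (D.E a * f) := by
    intro a b f hf z
    rw [← mul_assoc, D.hβ z a, smul_mul_assoc, mul_assoc (D.E a) (D.E z), hf, mul_smul_comm,
      smul_smul, ← D.β_mul_right, mul_assoc]
  have hcongr : ∀ (a b : N) (f : End k V), (a : N ⧸ D.R) = b → D.InPart a f → D.InPart b f :=
    fun a b f h hf z => by rw [← D.β_congr_right h z]; exact hf z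
  have hdim : ∀ u v, finrank k (W u) ≤ finrank k (W v) := by
    intro u v
    let L : End k V →ₗ[k] End k V := LinearMap.mulLeft k (D.E (v.out * u.out⁻¹))
    have hL : Function.Injective L := fun f g h => by
      have := congrArg (D.E (v.out * u.out⁻¹)⁻¹ * ·) h
      simp only [L, LinearMap.mulLeft_apply, ← mul_assoc, D.E_inv_mul, one_mul] at this
      exact this
    refine (Submodule.equivMapOfInjective L hL (W u)).finrank_eq.trans_le ?_
    refine Submodule.finrank_mono ?_
    rintro _ ⟨f, hf, rfl⟩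
    have := hshift (v.out * u.out⁻¹) _ f ((hWm u f).mp hf)
    rw [inv_mul_cancel_right] at this
    exact (hWm v _).mpr this
  obtain ⟨hd, hc⟩ := card_fix_le W hind htop (finrank k (W 1))
    (fun u => le_antisymm (hdim u 1) (hdim 1 u)) D.K θ.toEquiv
    (by
      refine Equiv.ext fun u => ?_
      have hj : ∀ (j : ℕ), (θ.toEquiv ^ j) u = (θ ^ j) u := by
        intro j
        induction j with
        | zero => rfl
        | succ j ih => rw [pow_succ', pow_succ', Equiv.Perm.mul_apply, ih, MulAut.mul_apply]; rfl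
      rw [hj, hθp]; rfl)
    (fun u f hf => by
      obtain ⟨g, rfl⟩ := hf
      rw [D.K_P]
      refine (hWm _ _).mpr (hcongr _ _ _ ?_ (D.inPart_P _ _))
      rw [← hθmk, QuotientGroup.out_eq', QuotientGroup.out_eq']
      rfl)
  -- the index of the fixed points
  let d : N ⧸ D.R →* N ⧸ D.R :=
    { toFun := fun a => θ a / a
      map_one' := by simp
      map_mul' := fun a b => by rw [map_mul, mul_div_mul_comm] }
  have hdk : ∀ u, u ∈ d.ker ↔ θ u = u := fun u => div_eq_one
  have hit : ∀ u, θ (d u) = d u → ∀ j : ℕ, (θ ^ j) u = u * d u ^ j := by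
    intro u hu j
    induction j with
    | zero => simp
    | succ j ih =>
      rw [pow_succ', MulAut.mul_apply, ih, map_mul, map_pow, hu,
        show θ u = u * d u from (mul_div_cancel u (θ u)).symm, mul_assoc, ← pow_succ']
  have hUq : IsPGroup q (N ⧸ D.R) := hNq.to_quotient _
  obtain ⟨κ, hκ⟩ := IsPGroup.iff_card.mp (hUq.to_subgroup d.range)
  have hpq : ∀ i ∈ d.range, θ i = i → i ≠ 1 → q = p := by
    rintro _ ⟨u, rfl⟩ hfix hne
    have h1 := hit u hfix p
    rw [hθp, MulAut.one_apply, left_eq_mul] at h1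
    have h2 := orderOf_eq_prime h1 hne
    obtain ⟨j, hj⟩ := IsPGroup.iff_orderOf.mp hUq (d u)
    rw [h2] at hj
    exact ((Nat.prime_dvd_prime_iff_eq hp.out hq).mp (hp.out.dvd_of_dvd_pow (dvd_of_eq hj))).symm
  have hdpos := le_card_range hθp hθne d fun a => rfl
  have hk1 : κ ≠ 1 := by
    rintro rfl
    rw [pow_one] at hκ
    by_cases hfix : ∀ i ∈ d.range, θ i = i
    · -- a transvection
      obtain ⟨i, hi, hi1⟩ : ∃ i ∈ d.range, i ≠ 1 := by
        by_contra! h
        have : d.range = ⊥ := (Subgroup.eq_bot_iff_forall _).mpr h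
        rw [this, Subgroup.card_bot] at hdpos
        omega
      obtain rfl := hpq i hi (hfix i hi) hi1
      set π := QuotientGroup.mk' (Subgroup.center G) with hπ
      have hπs : Function.Surjective π := QuotientGroup.mk'_surjective _
      haveI : (N.map π).Normal := Subgroup.Normal.map inferInstance π hπs
      have hVm : ∀ M : Subgroup (G ⧸ Subgroup.center G), M.Normal → M ≤ N.map π →
          M = ⊥ ∨ M = N.map π := by
        intro M hMn hM
        rcases hmin (M.comap π ⊓ N) inferInstance inf_le_right with h | h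
        · refine Or.inl ((Subgroup.eq_bot_iff_forall _).mpr fun m hm => ?_)
          obtain ⟨n, hn, rfl⟩ := hM hm
          exact (QuotientGroup.eq_one_iff n).mpr (h ⟨hm, hn⟩)
        · refine Or.inr (le_antisymm hM ?_)
          rintro _ ⟨n, hn, rfl⟩
          exact (h.ge hn).1
      have hVne : N.map π ≠ ⊥ := fun h => hNc (by
        rw [Subgroup.map_eq_bot_iff, QuotientGroup.ker_mk'] at h; exact h)
      have hquad : ⁅⁅N.map π, Subgroup.zpowers (π x)⁆, Subgroup.zpowers (π x)⁆ = ⊥ := by
        rw [← MonoidHom.map_zpowers, ← Subgroup.map_commutator, ← Subgroup.map_commutator,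
          Subgroup.map_eq_bot_iff, QuotientGroup.ker_mk', Subgroup.commutator_le]
        intro w hw b hb
        let J : Subgroup G :=
          { carrier := {w | w ∈ N ∧ ∀ h : w ∈ N, θ ((⟨w, h⟩ : N) : N ⧸ D.R) = (⟨w, h⟩ : N)}
            one_mem' := ⟨one_mem _, fun h => map_one θ⟩
            mul_mem' := fun {a b} ha hb => ⟨mul_mem ha.1 hb.1, fun h => by
              rw [show (⟨a * b, h⟩ : N) = ⟨a, ha.1⟩ * ⟨b, hb.1⟩ from rfl, QuotientGroup.mk_mul,
                map_mul, ha.2, hb.2]⟩
            inv_mem' := fun {a} ha => ⟨inv_mem ha.1, fun h => by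
              rw [show (⟨a⁻¹, h⟩ : N) = ⟨a, ha.1⟩⁻¹ from rfl, QuotientGroup.mk_inv, map_inv, ha.2]⟩ }
        have hJ : ⁅N, Subgroup.zpowers x⁆ ≤ J := by
          refine Subgroup.commutator_le.mpr fun n hn c hc => ?_
          obtain ⟨j, rfl⟩ := (IsOfFinOrder.mem_powers_iff_mem_zpowers
            (isOfFinOrder_of_finite x)).mpr hc
          show ⁅n, x ^ j⁆ ∈ J
          have hmem : ⁅n, x ^ j⁆ ∈ N := by
            rw [commutatorElement_def, mul_assoc, mul_assoc, ← mul_assoc (x ^ j)]
            exact mul_mem hn ((inferInstance : N.Normal).conj_mem _ (inv_mem hn) _)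
          refine ⟨hmem, fun h => ?_⟩
          have e : (⟨⁅n, x ^ j⁆, h⟩ : N) = ⟨n, hn⟩ * ((φ ^ j) ⟨n, hn⟩)⁻¹ := Subtype.ext (by
            rw [← map_pow, Subgroup.coe_mul, Subgroup.coe_inv, MulAut.conjNormal_apply]
            show ⁅n, x ^ j⁆ = n * (x ^ j * n * (x ^ j)⁻¹)⁻¹
            rw [commutatorElement_def]
            group)
          have hj : ∀ j : ℕ, (((φ ^ j) ⟨n, hn⟩ : N) : N ⧸ D.R) =
              (θ ^ j) ((⟨n, hn⟩ : N) : N ⧸ D.R) := by
            intro j
            induction j with
            | zero => rfl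
            | succ j ih => rw [pow_succ', MulAut.mul_apply, ← hθmk, ih, pow_succ' θ, MulAut.mul_apply]
          rw [e, QuotientGroup.mk_mul, QuotientGroup.mk_inv, hj,
            hit _ (hfix _ ⟨_, rfl⟩) j, mul_inv_rev, ← mul_assoc, mul_comm ((⟨n, hn⟩ : N) : N ⧸ D.R),
            mul_inv_cancel_right, map_inv, map_pow, hfix _ ⟨_, rfl⟩]
        obtain ⟨hwN, hwfix⟩ := hJ hw
        obtain ⟨j, rfl⟩ := (IsOfFinOrder.mem_powers_iff_mem_zpowers
          (isOfFinOrder_of_finite x)).mpr hb
        have h1 := hwfix hwN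
        have hj : ∀ j : ℕ, (((φ ^ j) ⟨w, hwN⟩ : N) : N ⧸ D.R) = (⟨w, hwN⟩ : N) := by
          intro j
          induction j with
          | zero => rfl
          | succ j ih => rw [pow_succ', MulAut.mul_apply, ← hθmk, ih, h1]
        have h2 := hRc _ (QuotientGroup.eq.mp (hj j))
        rw [Subgroup.coe_mul, Subgroup.coe_inv, ← map_pow, MulAut.conjNormal_apply] at h2
        have h3 := (inferInstance : (Subgroup.center G).Normal).conj_mem _ h2 (x ^ j)
        -- rewrite the commutator
        have h4 := (inferInstance : (Subgroup.center G).Normal).conj_mem _ h2 (x ^ j * w * (x ^ j)⁻¹)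
        rw [commutatorElement_def]
        convert h4 using 1
        group
      have hcen := commute_of_quadratic hp5 ((hNq).map π) hVm hVne hquad
      refine hθne (MulEquiv.ext fun u => ?_)
      induction u using QuotientGroup.induction_on with
      | H a =>
        rw [hθmk, MulAut.one_apply, eq_comm, QuotientGroup.eq]
        refine hcR _ ((QuotientGroup.eq_one_iff _).mp ?_)
        have h5 : π (a : G) * π x = π x * π (a : G) := hcen _ ⟨a, a.2, rfl⟩
        show π ((a⁻¹ * φ a : N) : G) = 1
        rw [Subgroup.coe_mul, Subgroup.coe_inv, MulAut.conjNormal_apply, map_mul, map_mul, map_mul,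
          map_inv, map_inv, ← h5]
        group
    · push Not at hfix
      obtain ⟨i₀, hi₀, hne₀⟩ := hfix
      -- `i₀` is orthogonal to the fixed points, which form a maximal subgroup
      apply hne₀
      let B : Subgroup N :=
        { carrier := {a | D.β a i₀.out = 1}
          one_mem' := D.β_one_left _
          mul_mem' := fun {a b} ha hb => by
            show D.β (a * b) _ = 1
            rw [D.β_mul_left, ha, hb, one_mul]
          inv_mem' := fun {a} ha => by
            have := D.β_mul_left a⁻¹ a i₀.out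
            rwa [inv_mul_cancel, D.β_one_left, ha, mul_one, eq_comm] at this }
      set C := d.ker.comap (QuotientGroup.mk' D.R) with hC
      have hle : C ≤ B := by
        intro c hc
        obtain ⟨u, hu⟩ := hi₀
        induction u using QuotientGroup.induction_on with
        | H b =>
          have h1 : (i₀.out : N ⧸ D.R) = ((φ b * b⁻¹ : N) : N ⧸ D.R) := by
            rw [QuotientGroup.out_eq', ← hu, QuotientGroup.mk_mul, QuotientGroup.mk_inv, ← hθmk,
              ← div_eq_mul_inv]
            rfl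
          show D.β c i₀.out = 1
          rw [D.β_congr_right h1, D.β_mul_right]
          have h2 : ((φ c : N) : N ⧸ D.R) = c := (hθmk c).symm.trans ((hdk _).mp hc)
          rw [← D.β_congr_left h2, D.β_map, ← D.β_mul_right, mul_inv_cancel, D.β_one_right]
      have hi1 : i₀.out ∉ D.R := fun h => hne₀ (by
        rw [← QuotientGroup.out_eq' i₀, (QuotientGroup.eq_one_iff _).mpr h, map_one])
      have hBne : B ≠ ⊤ := fun h => hi1 fun y => by
        have h1 := D.β_mul_swap y i₀.out
        rwa [show D.β y i₀.out = 1 from h.ge (Subgroup.mem_top y), one_mul] at h1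
      have hidx : C.index = q := by
        rw [hC, Subgroup.index_comap_of_surjective _ (QuotientGroup.mk'_surjective _),
          Subgroup.index_ker, hκ]
      have hBC : B = C := by
        have h1 := Subgroup.relIndex_mul_index hle
        rw [hidx] at h1
        rcases hq.eq_one_or_self_of_dvd _ (Dvd.intro _ h1) with h2 | h2
        · exact le_antisymm (Subgroup.relIndex_eq_one.mp h2) hle
        · rw [h2, Nat.mul_eq_left hq.ne_zero] at h1
          exact absurd (Subgroup.index_eq_one.mp h1) hBne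
      have h1 : i₀.out ∈ B := D.β_self _
      rw [hBC, hC, Subgroup.mem_comap, hdk] at h1
      simpa using h1
  have hcase : q = p ∨ Nat.card d.range % p = 1 := by
    by_cases h : ∃ i ∈ d.range, θ i = i ∧ i ≠ 1
    · obtain ⟨i, hi, hfix, hi1⟩ := h
      exact Or.inl (hpq i hi hfix hi1)
    · push Not at h
      refine Or.inr ?_
      let σ' : Equiv.Perm d.range :=
        Equiv.ofBijective (fun i => ⟨θ i, by obtain ⟨u, hu⟩ := i.2; exact ⟨θ u, by
            rw [← hu]; show θ (θ u) / θ u = θ (θ u / u); rw [map_div]⟩⟩)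
          (Finite.injective_iff_bijective.mp fun a b hab =>
            Subtype.ext (θ.injective (congrArg Subtype.val hab)))
      have hσ' : σ' ^ p = 1 := Equiv.ext fun i => Subtype.ext (by
        have hj : ∀ j : ℕ, (((σ' ^ j) i : d.range) : N ⧸ D.R) = (θ ^ j) i := by
          intro j
          induction j with
          | zero => rfl
          | succ j ih => rw [pow_succ', Equiv.Perm.mul_apply, pow_succ', MulAut.mul_apply, ← ih]; rfl
        rw [hj, hθp]; rfl)
      obtain ⟨S, hS, -⟩ := exists_reps σ' hσ'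
      have hone : Nat.card {i // σ' i = i} = 1 := Nat.card_eq_one_iff_unique.mpr
        ⟨⟨fun a b => Subtype.ext (Subtype.ext ((h _ a.1.2 (congrArg Subtype.val a.2)).trans
          (h _ b.1.2 (congrArg Subtype.val b.2)).symm))⟩, ⟨⟨1, Subtype.ext (map_one θ)⟩⟩⟩
      rw [hone, mul_one] at hS
      have hS0 : 1 ≤ S.card := by
        rcases Nat.eq_zero_or_pos S.card with h0 | h0
        · rw [h0] at hS; have := hp.out.one_lt; simp at hS; omega
        · exact h0
      rw [show Nat.card d.range = 1 + p * (S.card - 1) by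
        rw [Nat.mul_sub, mul_one]; have := Nat.le_mul_of_pos_right p hS0; omega,
        Nat.add_mul_mod_self_left, Nat.mod_eq_of_lt hp.out.one_lt]
  have hk2 : 2 ≤ κ := by
    rcases Nat.lt_or_ge κ 2 with h | h
    · have : κ = 0 := by omega
      subst this
      rw [pow_zero] at hκ
      omega
    · exact h
  have hineq := four_mul_le hp.out hq hp5 hκ hk2 hcase
  have hm : Fintype.card (N ⧸ D.R) = Nat.card {u // θ.toEquiv u = u} * Nat.card d.range := by
    rw [← Nat.card_eq_fintype_card, Subgroup.card_eq_card_quotient_mul_card_subgroup d.ker,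
      Nat.card_congr (QuotientGroup.quotientKerEquivRange d).toEquiv, mul_comm]
    congr 1
    exact Nat.card_congr (Equiv.subtypeEquivRight hdk)
  have hK : finrank k (LinearMap.ker (LinearMap.mulLeft k (ρ x) - LinearMap.mulRight k (ρ x))) ≤
      finrank k (LinearMap.ker (D.K - 1)) := by
    refine Submodule.finrank_mono fun f hf => ?_
    rw [LinearMap.mem_ker, LinearMap.sub_apply, sub_eq_zero, LinearMap.mulLeft_apply,
      LinearMap.mulRight_apply] at hf
    rw [LinearMap.mem_ker, LinearMap.sub_apply, End.one_apply, sub_eq_zero, D.K_apply, ← mul_assoc,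
      show D.T * f = f * D.T from hf, mul_assoc, D.T_mul_pred, mul_one]
  have hx1 : ρ x ≠ 1 := fun h => by
    have hx : x = 1 := hρ (h.trans (map_one ρ).symm)
    rw [hx] at hgen
    have h1 : Subgroup.normalClosure ({1} : Set G) ≤ ⊥ := Subgroup.normalClosure_le_normal (by simp)
    rw [hgen] at h1
    exact hNne (eq_bot_iff.mpr (le_top.trans h1))
  have hlow := (card_fix_sq_lt (ρ x) hx1).trans hK
  rw [Module.finrank_linearMap] at hd
  set c := finrank k (LinearMap.ker (ρ x - 1))
  set n := finrank k V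
  set e := finrank k (W 1)
  set f := Nat.card {u // θ.toEquiv u = u}
  set t := Nat.card d.range
  set F := finrank k (LinearMap.ker (D.K - 1))
  rw [hm] at hd hc
  have h1 : p * (4 * F) ≤ p * (n * n) := by
    calc p * (4 * F) = 4 * (p * F) := by ring
      _ ≤ 4 * ((f * t + (p - 1) * f) * e) := Nat.mul_le_mul_left _ hc
      _ = (4 * (f * t) + (4 * (p - 1)) * f) * e := by ring
      _ ≤ (4 * (f * t) + (p - 4) * t * f) * e :=
          Nat.mul_le_mul_right _ (Nat.add_le_add_left (Nat.mul_le_mul_right _ hineq) _)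
      _ = (4 + (p - 4)) * (f * t * e) := by ring
      _ = _ := by rw [Nat.add_sub_cancel' (by omega), ← hd]
  have h2 := Nat.le_of_mul_le_mul_left h1 hp.out.pos
  by_contra hcon
  push Not at hcon
  have h3 : n * n ≤ 4 * (c * c) := by
    calc n * n ≤ (2 * c) * (2 * c) := Nat.mul_le_mul hcon hcon
      _ = _ := by ring
  omega

include hirr hxp hgen hp5 in
/-- The fixed space of an element of prime order at least five whose conjugates generate. -/
theorem fix_lt [Group.IsSolvable G] (hρ : Function.Injective ρ) (hx : x ≠ 1) :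
    2 * finrank k (LinearMap.ker (ρ x - 1)) < finrank k V := by
  classical
  by_cases hxc : x ∈ Subgroup.center G
  · obtain ⟨c, hc⟩ := exists_scalar ρ hirr hxc
    have hbot : LinearMap.ker (ρ x - 1) = ⊥ := (Submodule.eq_bot_iff _).mpr fun v hv => by
      rw [LinearMap.mem_ker, LinearMap.sub_apply, End.one_apply, hc, LinearMap.smul_apply,
        End.one_apply, sub_eq_zero] at hv
      by_contra h0
      refine hx (hρ ?_)
      rw [map_one, hc, smul_left_injective k h0 (hv.trans (one_smul k v).symm), one_smul]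
    rw [hbot, finrank_bot, mul_zero]
    exact finrank_pos
  by_cases hA : ∃ A : Subgroup G, A.Normal ∧ (∀ a ∈ A, ∀ b ∈ A, a * b = b * a) ∧
      ¬ A ≤ Subgroup.center G
  · obtain ⟨A, hAn, hAc, hAne⟩ := hA
    exact fix_lt_of_abelian ρ hirr hp5 hxp hgen hρ A hAc hAne
  push Not at hA
  obtain ⟨N, ⟨hNn, hNc⟩, hNmin⟩ := (wellFounded_lt (α := Subgroup G)).has_min
    {N | N.Normal ∧ ¬ N ≤ Subgroup.center G} ⟨⊤, inferInstance, fun h => hxc (h (Subgroup.mem_top x))⟩
  haveI := hNn
  have hmin : ∀ M : Subgroup G, M.Normal → M ≤ N → M ≤ Subgroup.center G ∨ M = N := fun M hM hMN => by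
    by_contra! h
    exact hNmin M ⟨hM, h.1⟩ (lt_of_le_of_ne hMN h.2)
  have hNne : N ≠ ⊥ := fun h => hNc (h ▸ bot_le)
  have hcomm : ⁅N, N⁆ ≤ Subgroup.center G :=
    (hmin _ (Subgroup.commutator_normal N N) (Subgroup.commutator_le_left N N)).resolve_right
      (Group.IsSolvable.commutator_lt_of_ne_bot hNne).ne
  haveI : Group.IsNilpotent N := by
    refine Subgroup.isNilpotent_of_ker_le_center (Abelianization.of (G := N)) ?_
    rw [Abelianization.ker_of]
    intro a ha
    refine Subgroup.mem_center_iff.mpr fun b => Subtype.ext ?_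
    have h1 : (a : G) ∈ ⁅N, N⁆ := by
      rw [← Subgroup.map_subtype_commutator]
      exact ⟨a, ha, rfl⟩
    exact Subgroup.mem_center_iff.mp (hcomm h1) b
  obtain ⟨q, hq, P, hPc⟩ : ∃ q, q.Prime ∧ ∃ P : Sylow q N,
      ¬ (P : Subgroup N).map N.subtype ≤ Subgroup.center G := by
    by_contra! h
    refine hNc (Subgroup.subgroupOf_eq_top.mp (Subgroup.index_eq_one.mp
      (Nat.eq_one_iff_not_exists_prime_dvd.mpr fun r hr hdvd => ?_)))
    haveI := Fact.mk hr
    obtain ⟨P⟩ : Nonempty (Sylow r N) := inferInstance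
    exact P.not_dvd_index (hdvd.trans (Subgroup.index_dvd_of_le fun a ha => h r hr P ⟨a, ha, rfl⟩))
  haveI := Fact.mk hq
  haveI : (P : Subgroup N).Normal := inferInstance
  haveI : (P : Subgroup N).Characteristic := P.characteristic_of_normal ‹_›
  have hPN := (hmin _ inferInstance (Subgroup.map_subtype_le _)).resolve_left hPc
  have hNq : IsPGroup q N := (P.2.map N.subtype).of_equiv (MulEquiv.subgroupCongr hPN)
  exact fix_lt_of_class_two ρ hirr hp5 hxp hgen hρ hq hA N hNc hmin hNq hcomm

end

end Cfsg.Agent.Lib.PLocal.FixHalf
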