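import Mathlib

/-!
Fixed spaces of an operator of prime order: counting lemmas.
-/

set_option autoImplicit false

namespace Cfsg.Agent.Lib.PLocal.FixHalf

open Module MulAction

variable {p : ℕ} [hp : Fact p.Prime]

/-- For an automorphism of prime order of a finite abelian group, the image of `a ↦ θ a / a` has at
least `p` elements. -/
theorem le_card_range {A : Type*} [CommGroup A] [Finite A] {θ : MulAut A} (hθ : θ ^ p = 1)
    (hne : θ ≠ 1) (d : A →* A) (hd : ∀ a, d a = θ a / a) : p ≤ Nat.card d.range := by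
  have hit : ∀ (j : ℕ) (a : A), (θ : A → A)^[j] a = (θ ^ j) a := by
    intro j
    induction j with
    | zero => intro a; rfl
    | succ j ih => intro a; rw [Function.iterate_succ_apply', ih, pow_succ', MulAut.mul_apply]
  have hI : ∀ i ∈ d.range, θ i ∈ d.range := by
    rintro _ ⟨a, rfl⟩
    exact ⟨θ a, by rw [hd, hd, map_div]⟩
  by_cases hfix : ∀ i ∈ d.range, θ i = i
  · obtain ⟨a, ha⟩ : ∃ a, d a ≠ 1 := by
      by_contra! h
      exact hne (MulEquiv.ext fun a => by
        have := h a
        rw [hd, div_eq_one] at this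
        rw [this, MulAut.one_apply])
    have hj : ∀ j : ℕ, (θ ^ j) a = a * d a ^ j := by
      intro j
      induction j with
      | zero => simp
      | succ j ih =>
        rw [pow_succ', MulAut.mul_apply, ih, map_mul, map_pow, hfix _ ⟨a, rfl⟩,
          show θ a = a * d a by rw [hd, mul_div_cancel], mul_assoc, ← pow_succ']
    have hpow := hj p
    rw [hθ, MulAut.one_apply, left_eq_mul] at hpow
    calc p = orderOf (⟨d a, a, rfl⟩ : d.range) := by
          rw [← Subgroup.orderOf_coe]
          exact (orderOf_eq_prime hpow ha).symm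
      _ ≤ Nat.card d.range := Nat.le_of_dvd Nat.card_pos (orderOf_dvd_natCard _)
  · push Not at hfix
    obtain ⟨i, hi, hne'⟩ := hfix
    have hper : Function.minimalPeriod (θ : A → A) i = p :=
      (Function.IsPeriodicPt.minimalPeriod_dvd (n := p) (f := (θ : A → A)) (x := i) (by
        show (θ : A → A)^[p] i = i
        rw [hit, hθ, MulAut.one_apply]) |> hp.out.eq_one_or_self_of_dvd _).resolve_left
        fun h => hne' (Function.minimalPeriod_eq_one_iff_isFixedPt.mp h)
    have hmem : ∀ j : ℕ, (θ : A → A)^[j] i ∈ d.range := by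
      intro j
      induction j with
      | zero => exact hi
      | succ j ih => rw [Function.iterate_succ_apply']; exact hI _ ih
    calc p = Nat.card (Fin p) := (Nat.card_fin p).symm
      _ ≤ Nat.card d.range := Nat.card_le_card_of_injective
          (fun j => (⟨(θ : A → A)^[(j : ℕ)] i, hmem j⟩ : d.range)) fun a b hab => Fin.ext
          (Function.iterate_injOn_Iio_minimalPeriod (x := i) (hper.symm ▸ a.isLt : (a : ℕ) < _)
            (hper.symm ▸ b.isLt : (b : ℕ) < _) (congrArg Subtype.val hab))

/-- Representatives for the orbits of a permutation of prime order. -/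
theorem exists_reps {ι : Type*} [Finite ι] (σ : Equiv.Perm ι) (hσ : σ ^ p = 1) :
    ∃ S : Finset ι, p * S.card = Nat.card ι + (p - 1) * Nat.card {i // σ i = i} ∧
      ∀ i, ∃ s ∈ S, ∃ j : ℕ, (σ ^ j) s = i := by
  classical
  haveI := Fintype.ofFinite ι
  by_cases h1 : σ = 1
  · refine ⟨Finset.univ, ?_, fun i => ⟨i, Finset.mem_univ _, 0, rfl⟩⟩
    subst h1
    rw [Finset.card_univ, Nat.card_congr (Equiv.subtypeUnivEquiv (fun i => by simp)),
      Nat.card_eq_fintype_card]
    conv_rhs => rw [← one_add_mul]
    rw [Nat.add_sub_cancel' hp.out.one_le]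
  set H := Subgroup.zpowers σ
  have hH : Nat.card H = p := by rw [Nat.card_zpowers, orderOf_eq_prime hσ h1]
  haveI : Fintype H := Fintype.ofFinite H
  haveI : Fintype (orbitRel.Quotient H ι) := Fintype.ofFinite _
  refine ⟨Finset.univ.image (fun o : orbitRel.Quotient H ι => o.out), ?_, fun i => ?_⟩
  · rw [Finset.card_image_of_injective _ Quotient.out_injective, Finset.card_univ]
    have hb := MulAction.sum_card_fixedBy_eq_card_orbits_mul_card_group H ι
    rw [← Nat.card_eq_fintype_card (α := H), hH, mul_comm] at hb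
    refine Eq.trans hb.symm ?_
    rw [← Finset.add_sum_erase _ _ (Finset.mem_univ (1 : H))]
    have he : ∀ g ∈ Finset.univ.erase (1 : H), Fintype.card (fixedBy ι g) =
        Nat.card {i // σ i = i} := by
      intro g hg
      have hg1 : g ≠ 1 := (Finset.mem_erase.mp hg).1
      rw [← Nat.card_eq_fintype_card]
      refine Nat.card_congr (Equiv.subtypeEquivRight fun i => ?_)
      obtain ⟨n, hn⟩ := Subgroup.mem_zpowers_iff.mp g.2
      show (g : Equiv.Perm ι) i = i ↔ σ i = i
      constructor
      · intro hgi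
        have hmem : σ ∈ Subgroup.zpowers (g : Equiv.Perm ι) := by
          have h2 : orderOf (g : Equiv.Perm ι) = p := by
            refine orderOf_eq_prime ?_ fun e => hg1 (Subtype.ext e)
            rw [← hn, ← zpow_natCast, ← zpow_mul, mul_comm, zpow_mul, zpow_natCast, hσ, one_zpow]
          have h3 : Subgroup.zpowers (g : Equiv.Perm ι) = H :=
            Subgroup.eq_of_le_of_card_ge (Subgroup.zpowers_le.mpr g.2)
              (by rw [hH, Nat.card_zpowers, h2])
          exact h3.ge (Subgroup.mem_zpowers σ)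
        obtain ⟨m, hm⟩ := Subgroup.mem_zpowers_iff.mp hmem
        rw [← hm]
        exact Equiv.Perm.zpow_apply_eq_self_of_apply_eq_self hgi m
      · intro hsi
        rw [← hn]
        exact Equiv.Perm.zpow_apply_eq_self_of_apply_eq_self hsi n
    rw [Finset.sum_congr rfl he, Finset.sum_const, Finset.card_erase_of_mem (Finset.mem_univ _),
      Finset.card_univ, ← Nat.card_eq_fintype_card (α := H), hH, smul_eq_mul]
    congr 1
    rw [Nat.card_eq_fintype_card]
    exact Fintype.card_of_bijective (f := fun i : fixedBy ι (1 : H) => (i : ι))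
      ⟨Subtype.val_injective, fun i => ⟨⟨i, one_smul _ i⟩, rfl⟩⟩
  · obtain ⟨g, hg⟩ : i ∈ orbit H (Quotient.mk (orbitRel H ι) i).out := by
      have := Quotient.mk_out (s := orbitRel H ι) i
      exact MulAction.mem_orbit_symm.mp (orbitRel_apply.mp this)
    obtain ⟨j, hj⟩ := (IsOfFinOrder.mem_powers_iff_mem_zpowers (isOfFinOrder_of_finite σ)).mpr g.2
    refine ⟨(Quotient.mk (orbitRel H ι) i).out,
      Finset.mem_image.mpr ⟨Quotient.mk (orbitRel H ι) i, Finset.mem_univ _, rfl⟩, j, ?_⟩
    have h2 : σ ^ j = (g : Equiv.Perm ι) := hj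
    rw [h2]
    exact hg

variable {k : Type*} [Field k] {V : Type*} [AddCommGroup V] [Module k V] [FiniteDimensional k V]

theorem finrank_iSup_finset_le {ι : Type*} (W : ι → Submodule k V) (e : ℕ)
    (he : ∀ i, finrank k (W i) = e) (S : Finset ι) :
    finrank k (⨆ i ∈ S, W i : Submodule k V) ≤ S.card * e := by
  classical
  induction S using Finset.induction with
  | empty => simp
  | insert a S ha ih =>
    rw [Finset.iSup_insert, Finset.card_insert_of_notMem ha, add_mul, one_mul, add_comm _ e]
    exact (Submodule.finrank_add_le_finrank_add_finrank _ _).trans (by rw [he]; omega)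

/-- An operator of prime order permuting a decomposition into pieces of equal dimension. -/
theorem card_fix_le {ι : Type*} [Fintype ι] (W : ι → Submodule k V) (hind : iSupIndep W)
    (htop : ⨆ i, W i = ⊤) (e : ℕ) (he : ∀ i, finrank k (W i) = e) (T : End k V)
    (σ : Equiv.Perm ι) (hσ : σ ^ p = 1) (hT : ∀ i, ∀ w ∈ W i, T w ∈ W (σ i)) :
    finrank k V = Fintype.card ι * e ∧
      p * finrank k (LinearMap.ker (T - 1)) ≤
        (Fintype.card ι + (p - 1) * Nat.card {i // σ i = i}) * e := by
  classical
  have hd : finrank k V = Fintype.card ι * e := by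
    have hint := DirectSum.isInternal_submodule_of_iSupIndep_of_iSup_eq_top hind htop
    rw [← (LinearEquiv.ofBijective (DirectSum.coeLinearMap W) hint).finrank_eq,
      Module.finrank_directSum, Finset.sum_congr rfl fun i _ => he i, Finset.sum_const,
      Finset.card_univ, smul_eq_mul]
  refine ⟨hd, ?_⟩
  obtain ⟨S, hS, hrep⟩ := exists_reps σ hσ
  rw [← Nat.card_eq_fintype_card, ← hS, mul_assoc]
  refine Nat.mul_le_mul_left p ?_
  set U : Submodule k V := ⨆ i ∈ Sᶜ, W i with hU
  have hdis : LinearMap.ker (T - 1) ⊓ U = ⊥ := by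
    refine (Submodule.eq_bot_iff _).mpr fun v hv => ?_
    obtain ⟨hv1, hv2⟩ := hv
    rw [SetLike.mem_coe, LinearMap.mem_ker, LinearMap.sub_apply, End.one_apply, sub_eq_zero] at hv1
    obtain ⟨μ, hμ⟩ := (Submodule.mem_iSup_finset_iff_exists_sum (s := Sᶜ) W v).mp hv2
    let c : ι → V := fun i => if i ∈ Sᶜ then (μ i : V) else 0
    have hcW : ∀ i, c i ∈ W i := fun i => by
      simp only [c]; split_ifs
      · exact (μ i).2
      · exact zero_mem _
    have hsum : ∑ i, c i = v := by
      rw [← hμ]
      simp only [c]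
      rw [← Finset.sum_filter]
      exact Finset.sum_congr (by ext; simp) fun _ _ => rfl
    have heq : ∀ i, c (σ i) = T (c i) := by
      intro i
      have h1 : ∑ j, T (c (σ.symm j)) = ∑ j, c j := by
        rw [Equiv.sum_comp σ.symm (fun j => T (c j)), ← map_sum, hsum, hv1]
      have h2 := (iSupIndep_iff_finsetSum_eq_imp_eq W).mp hind Finset.univ
        (fun j => c j) (fun j => T (c (σ.symm j)))
        (fun j _ => ⟨hcW j, by simpa using hT _ _ (hcW (σ.symm j))⟩) h1.symm (σ i) (Finset.mem_univ _)
      simpa using h2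
    have hzero : ∀ i, c i = 0 := by
      intro i
      obtain ⟨s, hs, j, rfl⟩ := hrep i
      induction j with
      | zero => simp [c, hs]
      | succ j ih => rw [pow_succ', Equiv.Perm.mul_apply, heq, ih, map_zero]
    rw [← hsum]
    exact Finset.sum_eq_zero fun i _ => hzero i
  have h3 : finrank k (LinearMap.ker (T - 1)) + finrank k U ≤ finrank k V := by
    have := Submodule.finrank_sup_add_finrank_inf_eq (LinearMap.ker (T - 1)) U
    rw [hdis, finrank_bot, add_zero] at this
    rw [← this]
    exact Submodule.finrank_le _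
  have h4 : finrank k V ≤ finrank k (⨆ i ∈ S, W i : Submodule k V) + finrank k U := by
    have hsup : (⨆ i ∈ S, W i : Submodule k V) ⊔ U = ⊤ := by
      rw [eq_top_iff, ← htop, iSup_le_iff]
      intro i
      by_cases hi : i ∈ S
      · exact le_sup_of_le_left (le_iSup₂ (f := fun i (_ : i ∈ S) => W i) i hi)
      · exact le_sup_of_le_right (le_iSup₂ (f := fun i (_ : i ∈ Sᶜ) => W i) i
          (Finset.mem_compl.mpr hi))
    have := Submodule.finrank_add_le_finrank_add_finrank (⨆ i ∈ S, W i : Submodule k V) U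
    rwa [hsup, finrank_top] at this
  have h5 := finrank_iSup_finset_le W e he S
  omega

/-- A fixed space of more than half the dimension makes the commutant large. -/
theorem card_fix_sq_lt (T : End k V) (hT : T ≠ 1) :
    finrank k (LinearMap.ker (T - 1)) * finrank k (LinearMap.ker (T - 1)) + 1 ≤
      finrank k (LinearMap.ker (LinearMap.mulLeft k T - LinearMap.mulRight k T)) := by
  classical
  set C := LinearMap.ker (T - 1) with hC
  set R := LinearMap.range (T - 1) with hR
  have hCm : ∀ w : C, T (w : V) = w := fun w => by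
    have := LinearMap.mem_ker.mp w.2
    rwa [LinearMap.sub_apply, End.one_apply, sub_eq_zero] at this
  let L : ((V ⧸ R) →ₗ[k] C) →ₗ[k] End k V :=
    { toFun := fun h => C.subtype ∘ₗ h ∘ₗ R.mkQ
      map_add' := fun a b => by ext v; simp
      map_smul' := fun a b => by ext v; simp }
  have hLi : Function.Injective L := fun a b hab => by
    refine Submodule.linearMap_qext _ (LinearMap.ext fun v => Subtype.ext ?_)
    exact LinearMap.congr_fun hab v
  have hLmem : LinearMap.range L ≤ LinearMap.ker (LinearMap.mulLeft k T - LinearMap.mulRight k T) := by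
    rintro _ ⟨h, rfl⟩
    rw [LinearMap.mem_ker, LinearMap.sub_apply, LinearMap.mulLeft_apply, LinearMap.mulRight_apply,
      sub_eq_zero]
    refine LinearMap.ext fun v => ?_
    show T (h (R.mkQ v) : V) = (h (R.mkQ (T v)) : V)
    rw [hCm]
    congr 2
    exact ((Submodule.Quotient.eq R).mpr ⟨v, by simp⟩).symm
  have h1 : (1 : End k V) ∉ LinearMap.range L := by
    rintro ⟨h, hh⟩
    refine hT (LinearMap.ext fun v => ?_)
    have h2 := LinearMap.congr_fun hh v
    rw [End.one_apply] at h2 ⊢
    rw [← h2]
    exact hCm _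
  have hlt : LinearMap.range L < LinearMap.ker (LinearMap.mulLeft k T - LinearMap.mulRight k T) :=
    lt_of_le_of_ne hLmem fun e => h1 (e ▸ LinearMap.mem_ker.mpr (by simp))
  have h2 := Submodule.finrank_lt_finrank_of_lt hlt
  rw [LinearMap.finrank_range_of_inj hLi, Module.finrank_linearMap] at h2
  have h3 : finrank k (V ⧸ R) = finrank k C := by
    have a := Submodule.finrank_quotient_add_finrank R
    have b := LinearMap.finrank_range_add_finrank_ker (T - 1)
    rw [← hR, ← hC] at b
    omega
  rw [h3] at h2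
  omega

/-- Fixed points of an element in a faithful solvable group with a maximal point stabilizer. -/
theorem card_fixed_le_of_primitive {P Q : Type*} [Group P] [Finite P] [Group.IsSolvable P]
    [MulAction P Q] [FaithfulSMul P Q] [IsPretransitive P Q] [Finite Q] {q : Q} {y : P}
    (hyp : y ^ p = 1) (hgen : Subgroup.normalClosure ({y} : Set P) = ⊤)
    (hmax : IsCoatom (stabilizer P q)) (hyq : y • q = q) :
    p * Nat.card (fixedBy Q y) ≤ Nat.card Q := by
  haveI : Nontrivial P := by
    by_contra h
    rw [not_nontrivial_iff_subsingleton] at h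
    exact hmax.1 (Subsingleton.elim _ _)
  let S : Set (Subgroup P) := {N | N.Normal ∧ N ≠ ⊥}
  obtain ⟨N, ⟨hNn, hNne⟩, hNmin⟩ := (wellFounded_lt (α := Subgroup P)).has_min S
    ⟨⊤, inferInstance, top_ne_bot⟩
  haveI := hNn
  have hab : ⁅N, N⁆ = ⊥ := by
    by_contra h
    exact hNmin _ ⟨Subgroup.commutator_normal N N, h⟩ (Group.IsSolvable.commutator_lt_of_ne_bot hNne)
  have hNc : ∀ a ∈ N, ∀ b ∈ N, a * b = b * a := fun a ha b hb =>
    (Subgroup.commutator_eq_bot_iff_le_centralizer.mp hab hb a ha)
  have hnle : ¬ N ≤ stabilizer P q := fun hle => hNne ((Subgroup.eq_bot_iff_forall _).mpr fun n hn =>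
    FaithfulSMul.eq_of_smul_eq_smul fun z : Q => by
      obtain ⟨g, rfl⟩ := exists_smul_eq P q z
      have := hle (hNn.conj_mem n hn g⁻¹)
      rw [inv_inv, mem_stabilizer_iff, mul_smul, mul_smul, inv_smul_eq_iff] at this
      rw [one_smul, this])
  have htop : stabilizer P q ⊔ N = ⊤ := hmax.2 _ (left_lt_sup.mpr hnle)
  have hsur : ∀ z : Q, ∃ n : N, (n : P) • q = z := fun z => by
    obtain ⟨g, rfl⟩ := exists_smul_eq P q z
    obtain ⟨n, hn, s, hs, rfl⟩ := Subgroup.mem_sup_of_normal_left.mp
      (show g ∈ N ⊔ stabilizer P q by rw [sup_comm, htop]; trivial)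
    exact ⟨⟨n, hn⟩, by rw [mul_smul, mem_stabilizer_iff.mp hs]⟩
  have hreg : ∀ n : N, (n : P) • q = q → n = 1 := fun n hn => Subtype.ext
    (FaithfulSMul.eq_of_smul_eq_smul fun z : Q => by
      obtain ⟨m, rfl⟩ := hsur z
      rw [← mul_smul, hNc _ n.2 _ m.2, mul_smul, hn, OneMemClass.coe_one, one_smul])
  letI : CommGroup N :=
    { (inferInstance : Group N) with mul_comm := fun a b => Subtype.ext (hNc a a.2 b b.2) }
  let θ : MulAut N := MulAut.conjNormal y
  have hθ : θ ^ p = 1 := by rw [← map_pow, hyp, map_one]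
  have hne : θ ≠ 1 := by
    intro h1
    have hyC : y ∈ Subgroup.centralizer (N : Set P) := fun n hn => by
      have := congrArg Subtype.val (DFunLike.congr_fun h1 ⟨n, hn⟩)
      rw [MulAut.conjNormal_apply, MulAut.one_apply, mul_inv_eq_iff_eq_mul] at this
      exact this.symm
    have hall : Subgroup.centralizer (N : Set P) = ⊤ := eq_top_iff.mpr (hgen ▸
      Subgroup.normalClosure_le_normal (Set.singleton_subset_iff.mpr hyC))
    have hy1 : y = 1 := FaithfulSMul.eq_of_smul_eq_smul fun z : Q => by
      obtain ⟨n, rfl⟩ := hsur z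
      rw [← mul_smul, ← Subgroup.mem_centralizer_iff.mp (hall.ge (Subgroup.mem_top y)) n n.2,
        mul_smul, hyq, one_smul]
    rw [hy1] at hgen
    have : Subgroup.normalClosure ({1} : Set P) ≤ ⊥ :=
      Subgroup.normalClosure_le_normal (by simp)
    rw [hgen] at this
    exact top_ne_bot (le_bot_iff.mp this)
  let d : N →* N :=
    { toFun := fun a => θ a / a
      map_one' := by simp
      map_mul' := fun a b => by rw [map_mul, mul_div_mul_comm] }
  have h1 := le_card_range hθ hne d fun a => rfl
  let e : N ≃ Q := Equiv.ofBijective (fun n => (n : P) • q) ⟨fun a b hab => by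
    have : ((b⁻¹ * a : N) : P) • q = q := by
      rw [Subgroup.coe_mul, mul_smul, show (a : P) • q = (b : P) • q from hab,
        Subgroup.coe_inv, inv_smul_smul]
    exact (inv_mul_eq_one.mp (hreg _ this)).symm, hsur⟩
  have h2 : Nat.card (fixedBy Q y) = Nat.card d.ker := by
    refine (Nat.card_congr (e.subtypeEquiv fun n => ?_)).symm
    show d n = 1 ↔ y • ((n : P) • q) = (n : P) • q
    show θ n / n = 1 ↔ _
    have hy' : y • ((n : P) • q) = ((θ n : N) : P) • q := by
      rw [MulAut.conjNormal_apply, mul_smul, mul_smul, inv_smul_eq_iff.mpr hyq.symm]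
    rw [hy', div_eq_one]
    exact ⟨fun h => by rw [h], fun h => e.injective h⟩
  rw [h2, ← Nat.card_congr e, Subgroup.card_eq_card_quotient_mul_card_subgroup d.ker,
    Nat.card_congr (QuotientGroup.quotientKerEquivRange d).toEquiv]
  exact Nat.mul_le_mul_right _ h1

/-- In a solvable group generated by the conjugates of `x`, of prime order, `x` fixes at most `1/p`
of the points of a nontrivial transitive action. -/
theorem card_fixed_le {G Ω : Type*} [Group G] [Finite G] [Group.IsSolvable G] [MulAction G Ω]
    [IsPretransitive G Ω] [Finite Ω] [Nontrivial Ω] {x : G} (hxp : x ^ p = 1)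
    (hgen : Subgroup.normalClosure ({x} : Set G) = ⊤) :
    p * Nat.card (fixedBy Ω x) ≤ Nat.card Ω := by
  obtain ⟨ω⟩ : Nonempty Ω := inferInstance
  have hH : stabilizer G ω ≠ ⊤ := fun h => by
    obtain ⟨z, hz⟩ := exists_ne ω
    obtain ⟨g, rfl⟩ := exists_smul_eq G ω z
    exact hz (mem_stabilizer_iff.mp (h ▸ Subgroup.mem_top g))
  obtain ⟨M, hM, hHM⟩ := (IsCoatomic.eq_top_or_exists_le_coatom _).resolve_left hH
  let eΩ : Ω ≃ G ⧸ stabilizer G ω :=
    ((Equiv.Set.univ Ω).symm.trans (Equiv.setCongr (MulAction.orbit_eq_univ G ω).symm)).trans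
      (orbitEquivQuotientStabilizer G ω)
  let eP := eΩ.trans (Subgroup.quotientEquivProdOfLE hHM)
  have hfst : ∀ (g : G) (z : Ω), (eP (g • z)).1 = g • (eP z).1 := by
    intro g z
    obtain ⟨h, rfl⟩ := exists_smul_eq G ω z
    have : ∀ a : G, eΩ (a • ω) = (a : G ⧸ stabilizer G ω) := fun a => by
      rw [← Equiv.eq_symm_apply]
      rfl
    rw [← mul_smul]
    show ((Subgroup.quotientEquivProdOfLE hHM) (eΩ ((g * h) • ω))).1 =
      g • ((Subgroup.quotientEquivProdOfLE hHM) (eΩ (h • ω))).1
    rw [this, this]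
    rfl
  have h1 : Nat.card (fixedBy Ω x) ≤
      Nat.card (fixedBy (G ⧸ M) x) * Nat.card (M ⧸ (stabilizer G ω).subgroupOf M) := by
    rw [← Nat.card_prod]
    refine Nat.card_le_card_of_injective
      (fun z => (⟨(eP z).1, by
        have := hfst x z
        rw [show x • (z : Ω) = z from z.2] at this
        exact this.symm⟩, (eP z).2)) fun a b hab => Subtype.ext (eP.injective ?_)
    exact Prod.ext (congrArg (fun r => (r.1 : G ⧸ M)) hab) (congrArg (fun r => r.2) hab)
  rw [Nat.card_congr eP, Nat.card_prod]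
  refine le_trans (Nat.mul_le_mul_left p h1) ?_
  rw [← mul_assoc]
  refine Nat.mul_le_mul_right _ ?_
  rcases isEmpty_or_nonempty (fixedBy (G ⧸ M) x) with hE | ⟨⟨q, hq⟩⟩
  · simp
  let f := MulAction.toPermHom G (G ⧸ M)
  haveI : IsPretransitive f.range (G ⧸ M) := ⟨fun a b => by
    obtain ⟨g, hg⟩ := exists_smul_eq G a b
    exact ⟨⟨f g, g, rfl⟩, hg⟩⟩
  haveI : Group.IsSolvable f.range := solvable_of_surjective f.rangeRestrict_surjective
  have hst : IsCoatom (stabilizer f.range q) := by
    obtain ⟨g, rfl⟩ := exists_smul_eq G ((1 : G) : G ⧸ M) q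
    have hMg : IsCoatom (stabilizer G (g • ((1 : G) : G ⧸ M))) := by
      rw [stabilizer_smul_eq_stabilizer_map_conj,
        show stabilizer G ((1 : G) : G ⧸ M) = M from MulAction.stabilizer_quotient M]
      exact (OrderIso.isCoatom_iff (MulEquiv.mapSubgroup (MulAut.conj g)) M).mpr hM
    have hcom : (stabilizer f.range (g • ((1 : G) : G ⧸ M))).comap f.rangeRestrict =
        stabilizer G (g • ((1 : G) : G ⧸ M)) := by
      ext a
      rfl
    have hinj := Subgroup.comap_injective f.rangeRestrict_surjective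
    refine ⟨fun h => hMg.1 (by rw [← hcom, h, Subgroup.comap_top]), fun K hK => hinj ?_⟩
    rw [Subgroup.comap_top]
    refine hMg.2 _ (hcom ▸ lt_of_le_of_ne (Subgroup.comap_mono hK.le) fun e => hK.ne (hinj e))
  have hg' : Subgroup.normalClosure ({f.rangeRestrict x} : Set f.range) = ⊤ := by
    rw [← Set.image_singleton, ← Subgroup.map_normalClosure _ _ f.rangeRestrict_surjective, hgen,
      Subgroup.map_top_of_surjective _ f.rangeRestrict_surjective]
  exact card_fixed_le_of_primitive (y := f.rangeRestrict x) (by rw [← map_pow, hxp, map_one]) hg'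
    hst hq

end Cfsg.Agent.Lib.PLocal.FixHalf
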