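import Cfsg.Agent.Lib.PLocal.FixClassTwo

/-!
Descent from an algebraically closed field.
-/

set_option autoImplicit false

namespace Cfsg.Agent.Lib.PLocal.FixHalf

open Module

open scoped TensorProduct

variable {p : ℕ} [hp : Fact p.Prime] {G : Type*} [Group G] [Finite G] [Group.IsSolvable G]

theorem exists_abelian_normal_le {N : Subgroup G} [N.Normal] (hN : N ≠ ⊥) :
    ∃ A : Subgroup G, A.Normal ∧ A ≤ N ∧ A ≠ ⊥ ∧ ∀ a ∈ A, ∀ b ∈ A, a * b = b * a := by
  obtain ⟨A, ⟨hAn, hAN, hAne⟩, hAmin⟩ := (wellFounded_lt (α := Subgroup G)).has_min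
    {A : Subgroup G | A.Normal ∧ A ≤ N ∧ A ≠ ⊥} ⟨N, inferInstance, le_rfl, hN⟩
  refine ⟨A, hAn, hAN, hAne, fun a ha b hb => ?_⟩
  have hab : ⁅A, A⁆ = ⊥ := by
    by_contra h
    haveI := hAn
    exact hAmin _ ⟨Subgroup.commutator_normal A A, (Subgroup.commutator_le_left A A).trans hAN, h⟩
      (Group.IsSolvable.commutator_lt_of_ne_bot hAne)
  exact Subgroup.commutator_eq_bot_iff_le_centralizer.mp hab hb a ha

/-- The statement over an algebraically closed field, for modules without trivial factors. -/
theorem fix_le_aux {K : Type*} [Field K] [IsAlgClosed K] (hp5 : 5 ≤ p) {x : G} (hxp : x ^ p = 1)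
    (hgen : Subgroup.normalClosure ({x} : Set G) = ⊤) (hx : x ≠ 1) :
    ∀ (n : ℕ) (W : Type _) [AddCommGroup W] [Module K W] [FiniteDimensional K W]
      (τ : G →* End K W), finrank K W = n →
      (∀ A : Subgroup G, A.Normal → (∀ a ∈ A, ∀ b ∈ A, a * b = b * a) → A ≠ ⊥ →
        (Nat.card A : K) ≠ 0 ∧ ∀ w, ∑ᶠ a : A, τ (a : G) w = 0) → 0 < n →
      2 * finrank K (LinearMap.ker (τ x - 1)) < n := by
  intro n
  induction n using Nat.strong_induction_on with
  | _ n ih =>
  intro W _ _ _ τ hn hA hpos
  haveI : Nontrivial W := Module.nontrivial_of_finrank_pos (hn ▸ hpos : 0 < finrank K W)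
  by_cases hirr : ∀ U : Submodule K W, (∀ g, ∀ v ∈ U, τ g v ∈ U) → U = ⊥ ∨ U = ⊤
  · rw [← hn]
    refine fix_lt τ hirr hp5 hxp hgen ((MonoidHom.ker_eq_bot_iff τ).mp ?_) hx
    by_contra hker
    obtain ⟨A, hAn, hAle, hAne, hAab⟩ := exists_abelian_normal_le hker
    obtain ⟨hc, hs⟩ := hA A hAn hAab hAne
    obtain ⟨w, hw⟩ := exists_ne (0 : W)
    haveI := Fintype.ofFinite A
    have h1 := hs w
    rw [finsum_eq_sum_of_fintype, Finset.sum_congr rfl (g := fun _ => w) fun a _ => by
      rw [MonoidHom.mem_ker.mp (hAle a.2), End.one_apply], Finset.sum_const, Finset.card_univ,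
      ← Nat.card_eq_fintype_card, ← Nat.cast_smul_eq_nsmul K] at h1
    exact hw ((smul_eq_zero.mp h1).resolve_left hc)
  · push Not at hirr
    obtain ⟨U, hU, hUb, hUt⟩ := hirr
    let τU : G →* End K U :=
      { toFun := fun g => (τ g).restrict (hU g)
        map_one' := LinearMap.ext fun v => Subtype.ext (by simp)
        map_mul' := fun g h => LinearMap.ext fun v => Subtype.ext (by simp) }
    let τQ : G →* End K (W ⧸ U) :=
      { toFun := fun g => U.mapQ U (τ g) (hU g)
        map_one' := Submodule.linearMap_qext _ (LinearMap.ext fun v => by simp)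
        map_mul' := fun g h => Submodule.linearMap_qext _ (LinearMap.ext fun v => by simp) }
    have hsum := Submodule.finrank_quotient_add_finrank U
    have hU0 : 0 < finrank K U := Nat.pos_of_ne_zero fun h => hUb (Submodule.finrank_eq_zero.mp h)
    have hUlt : finrank K U < n := hn ▸ Submodule.finrank_lt hUt
    have h1 := ih _ hUlt U τU rfl (fun A hAn hAab hAne => ⟨(hA A hAn hAab hAne).1, fun w => by
      haveI := Fintype.ofFinite A
      have := (hA A hAn hAab hAne).2 w
      rw [finsum_eq_sum_of_fintype] at this ⊢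
      refine Subtype.ext ?_
      rw [Submodule.coe_sum]
      exact this⟩) hU0
    have h2 := ih _ (by omega) (W ⧸ U) τQ rfl (fun A hAn hAab hAne => ⟨(hA A hAn hAab hAne).1, fun w => by
      haveI := Fintype.ofFinite A
      induction w using Submodule.Quotient.induction_on with
      | H w =>
        have := congrArg (Submodule.Quotient.mk (p := U)) ((hA A hAn hAab hAne).2 w)
        rw [finsum_eq_sum_of_fintype] at this ⊢
        rw [← Submodule.mkQ_apply, ← Submodule.mkQ_apply, map_sum, map_zero] at this
        exact this⟩) (by omega)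
    set C := LinearMap.ker (τ x - 1) with hC
    have h3 := LinearMap.finrank_range_add_finrank_ker (U.mkQ.comp C.subtype)
    have h4 : finrank K (LinearMap.range (U.mkQ.comp C.subtype)) ≤
        finrank K (LinearMap.ker (τQ x - 1)) := by
      refine Submodule.finrank_mono ?_
      rintro _ ⟨c, rfl⟩
      have hc := LinearMap.mem_ker.mp c.2
      rw [LinearMap.sub_apply, End.one_apply, sub_eq_zero] at hc
      rw [LinearMap.mem_ker, LinearMap.sub_apply, End.one_apply, sub_eq_zero]
      show U.mapQ U (τ x) (hU x) (U.mkQ (c : W)) = U.mkQ (c : W)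
      rw [Submodule.mkQ_apply, Submodule.mapQ_apply, hc]
    have h5 : finrank K (LinearMap.ker (U.mkQ.comp C.subtype)) ≤
        finrank K (LinearMap.ker (τU x - 1)) := by
      let L : LinearMap.ker (U.mkQ.comp C.subtype) →ₗ[K] LinearMap.ker (τU x - 1) :=
        { toFun := fun c => ⟨⟨((c : C) : W), (Submodule.Quotient.mk_eq_zero U).mp
              (LinearMap.mem_ker.mp c.2)⟩, by
            have hc := LinearMap.mem_ker.mp (c : C).2
            rw [LinearMap.sub_apply, End.one_apply, sub_eq_zero] at hc
            rw [LinearMap.mem_ker, LinearMap.sub_apply, End.one_apply, sub_eq_zero]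
            exact Subtype.ext hc⟩
          map_add' := fun a b => rfl
          map_smul' := fun a b => rfl }
      refine LinearMap.finrank_le_finrank_of_injective (f := L) fun a b hab => ?_
      exact Subtype.ext (Subtype.ext (congrArg (fun z => ((z.1 : U) : W)) hab))
    omega

/-- An element of prime order at least five whose conjugates generate fixes less than half. -/
theorem fix_lt_general {k : Type*} [Field k] {V : Type*} [AddCommGroup V] [Module k V]
    [FiniteDimensional k V] [Nontrivial V] (ρ : G →* End k V) (hρ : Function.Injective ρ)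
    (hirr : ∀ U : Submodule k V, (∀ g, ∀ v ∈ U, ρ g v ∈ U) → U = ⊥ ∨ U = ⊤)
    (hp5 : 5 ≤ p) {x : G} (hxp : x ^ p = 1) (hgen : Subgroup.normalClosure ({x} : Set G) = ⊤)
    (hx : x ≠ 1) : 2 * finrank k (LinearMap.ker (ρ x - 1)) < finrank k V := by
  classical
  let K := AlgebraicClosure k
  let τ : G →* End K (K ⊗[k] V) :=
    { toFun := fun g => LinearMap.baseChange K (ρ g)
      map_one' := by simp [End.one_eq_id]
      map_mul' := fun g h => by simp [End.mul_eq_comp, LinearMap.baseChange_comp] }
  have hfixN : ∀ A : Subgroup G, A.Normal → A ≠ ⊥ → ∀ v, (∀ a ∈ A, ρ a v = v) → v = 0 := by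
    intro A hAn hAne v hv
    let F : Submodule k V :=
      { carrier := {v | ∀ a ∈ A, ρ a v = v}
        zero_mem' := fun a _ => map_zero _
        add_mem' := fun {u w} hu hw a ha => by rw [map_add, hu a ha, hw a ha]
        smul_mem' := fun c w hw a ha => by rw [map_smul, hw a ha] }
    rcases hirr F (fun g w hw a ha => by
      have h2 := congrArg (ρ g) (hw _ (hAn.conj_mem a ha g⁻¹))
      rw [inv_inv, ← End.mul_apply, ← map_mul] at h2
      rw [← End.mul_apply, ← map_mul]
      simpa [mul_assoc] using h2) with h | h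
    · exact (Submodule.eq_bot_iff F).mp h v hv
    · exfalso
      refine hAne ((Subgroup.eq_bot_iff_forall A).mpr fun a ha => hρ ?_)
      rw [map_one]
      exact LinearMap.ext fun w => (h.ge (Submodule.mem_top : w ∈ ⊤)) a ha
  have hA : ∀ A : Subgroup G, A.Normal → (∀ a ∈ A, ∀ b ∈ A, a * b = b * a) → A ≠ ⊥ →
      (Nat.card A : K) ≠ 0 ∧ ∀ w, ∑ᶠ a : A, τ (a : G) w = 0 := by
    intro A hAn hAab hAne
    haveI := Fintype.ofFinite A
    have hsum : ∀ v, ∑ a : A, ρ (a : G) v = 0 := fun v => hfixN A hAn hAne _ fun b hb => by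
      rw [map_sum]
      exact Fintype.sum_equiv (Equiv.mulLeft (⟨b, hb⟩ : A)) _ _ fun a => by
        rw [← End.mul_apply, ← map_mul]; rfl
    refine ⟨fun h0 => ?_, fun w => ?_⟩
    · rw [← map_natCast (algebraMap k K), map_eq_zero] at h0
      obtain ⟨ℓ, hℓ⟩ := CharP.exists k
      have hd : ℓ ∣ Nat.card A := (CharP.cast_eq_zero_iff k ℓ _).mp h0
      rcases CharP.char_is_prime_or_zero k ℓ with hℓp | rfl
      swap
      · exact Nat.card_pos.ne' (zero_dvd_iff.mp hd)
      haveI := Fact.mk hℓp
      let B : Subgroup G :=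
        { carrier := {b | b ∈ A ∧ b ^ ℓ = 1}
          one_mem' := ⟨one_mem _, one_pow _⟩
          mul_mem' := fun {b c} hb hc => ⟨mul_mem hb.1 hc.1, by
            rw [(show Commute b c from hAab b hb.1 c hc.1).mul_pow, hb.2, hc.2, one_mul]⟩
          inv_mem' := fun {b} hb => ⟨inv_mem hb.1, by rw [inv_pow, hb.2, inv_one]⟩ }
      have hBn : B.Normal := ⟨fun b hb g => ⟨hAn.conj_mem b hb.1 g, by
        rw [conj_pow, hb.2, mul_one, mul_inv_cancel]⟩⟩
      obtain ⟨a, ha⟩ := exists_prime_orderOf_dvd_card' (G := A) ℓ hd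
      have haB : (a : G) ∈ B := ⟨a.2, congrArg Subtype.val (ha ▸ pow_orderOf_eq_one a : a ^ ℓ = 1)⟩
      have hBne : B ≠ ⊥ := fun h => by
        rw [h, Subgroup.mem_bot] at haB
        rw [show a = 1 from Subtype.ext haB, orderOf_one] at ha
        exact hℓp.one_lt.ne ha
      haveI := Fintype.ofFinite B
      suffices h : ∀ S : Finset B, ∃ v : V, v ≠ 0 ∧ ∀ b ∈ S, ρ (b : G) v = v by
        obtain ⟨v, hv, hfix⟩ := h Finset.univ
        exact hv (hfixN B hBn hBne v fun b hb => hfix ⟨b, hb⟩ (Finset.mem_univ _))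
      intro S
      induction S using Finset.induction with
      | empty => exact (exists_ne (0 : V)).imp fun v hv => ⟨hv, by simp⟩
      | insert b S hbS ihS =>
        obtain ⟨v, hv, hfix⟩ := ihS
        set T := ρ (b : G) - 1 with hT
        have hTn : T ^ ℓ = 0 := by
          haveI : CharP (End k V) ℓ := charP_of_injective_ringHom
            (RingHom.injective (algebraMap k (End k V))) ℓ
          rw [hT, sub_pow_char_of_commute ℓ (Commute.one_right _), one_pow, ← map_pow, b.2.2,
            map_one, sub_self]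
        have hex : ∃ j, (T ^ j) v = 0 := ⟨ℓ, by rw [hTn, LinearMap.zero_apply]⟩
        obtain ⟨j, hj⟩ : ∃ j, Nat.find hex = j + 1 := by
          refine Nat.exists_eq_succ_of_ne_zero fun h0 => hv ?_
          have := Nat.find_spec hex
          rw [h0, pow_zero] at this
          exact this
        refine ⟨(T ^ j) v, Nat.find_min hex (by omega), fun c hc => ?_⟩
        rcases Finset.mem_insert.mp hc with rfl | hc
        · have h1 := Nat.find_spec hex
          rw [hj, pow_succ', End.mul_apply, hT, LinearMap.sub_apply, End.one_apply, sub_eq_zero] at h1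
          exact h1
        · have hcomm : Commute (ρ (c : G)) T :=
            ((show Commute (c : G) b from hAab _ c.2.1 _ b.2.1).map ρ).sub_right (Commute.one_right _)
          rw [← End.mul_apply, (hcomm.pow_right j).eq, End.mul_apply, hfix c hc]
    · rw [finsum_eq_sum_of_fintype]
      induction w using TensorProduct.induction_on with
      | zero => simp
      | tmul c v =>
        show ∑ a : A, LinearMap.baseChange K (ρ (a : G)) (c ⊗ₜ v) = 0
        simp only [LinearMap.baseChange_tmul, ← TensorProduct.tmul_sum, hsum, TensorProduct.tmul_zero]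
      | add u v hu hv => simp only [map_add, Finset.sum_add_distrib, hu, hv, add_zero]
  have hn : finrank K (K ⊗[k] V) = finrank k V := finrank_baseChange
  have h1 := fix_le_aux hp5 hxp hgen hx (finrank k V) (K ⊗[k] V) τ hn hA finrank_pos
  refine lt_of_le_of_lt (Nat.mul_le_mul_left 2 ?_) h1
  set C := LinearMap.ker (ρ x - 1) with hC
  rw [← (finrank_baseChange : finrank K (K ⊗[k] C) = finrank k C)]
  let L : (K ⊗[k] C) →ₗ[K] (K ⊗[k] V) := LinearMap.baseChange K C.subtype
  have hLi : Function.Injective L :=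
    Module.Flat.lTensor_preserves_injective_linearMap C.subtype C.subtype_injective
  refine le_of_eq_of_le (LinearMap.finrank_range_of_inj hLi).symm (Submodule.finrank_mono ?_)
  rintro _ ⟨z, rfl⟩
  rw [LinearMap.mem_ker]
  induction z using TensorProduct.induction_on with
  | zero => simp
  | tmul c v =>
    have hv := LinearMap.mem_ker.mp v.2
    rw [LinearMap.sub_apply, End.one_apply, sub_eq_zero] at hv
    show LinearMap.baseChange K (ρ x) (L (c ⊗ₜ v)) - L (c ⊗ₜ v) = 0
    simp only [L, LinearMap.baseChange_tmul, Submodule.coe_subtype, hv, sub_self]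
  | add u v hu hv => rw [map_add, map_add, hu, hv, add_zero]

end Cfsg.Agent.Lib.PLocal.FixHalf
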