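import Cfsg.Agent.Lib.Fusion.TransferFunctor
import Cfsg.Agent.Lib.Fusion.Quotient
import Cfsg.Agent.Lib.Fusion.Factor
import Cfsg.Agent.Lib.FusionControl.KControl

/-!
If a functor controls transfer, a system whose automizer on `S` is a `p`-group has proper focal subgroup.
-/

set_option autoImplicit false
set_option linter.unusedSectionVars false

universe u

namespace Cfsg.Agent.Lib.PLocal.FocalProper

open Cfsg Cfsg.FusionSystem Cfsg.Agent.Lib.Fusion
open scoped commutatorElement

variable {p : ℕ} [Fact p.Prime]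

/-- K-infinity is a transfer functor for `p ≥ 5`. -/
theorem isTransferFunctor_kInfUpper (hp : 5 ≤ p) :
    IsTransferFunctor.{u} p (fun Q [Group Q] => Cfsg.kInfUpper Q) := by
  have hW := FusionControl.isCharPFunctor_kInfUpper.{u} (p := p)
  refine ⟨⟨fun Q _ _ hQ hnt => hW.1 Q hQ hnt, fun Q R _ _ _ hQ φ => hW.2 Q R hQ φ⟩,
    fun G _ _ P hG => ?_⟩
  have h := FusionControl.kInfUpper_controlsTransfer hp P
  have hQP : pCore p G ≤ (P : Subgroup G) := FusionControl.pCore_le_S P
  rw [Subgroup.map_subtype_commutator]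
  calc pCore p G ⊓ commutator G = pCore p G ⊓ ((P : Subgroup G) ⊓ commutator G) := by
        rw [← inf_assoc, inf_eq_left.2 hQP]
    _ = _ := by rw [h, ← inf_assoc, inf_eq_left.2 hQP]; rfl

variable {W : ∀ (Q : Type u) [Group Q], Subgroup Q}

/-- The bound on the focal quotients, by induction on the order. -/
theorem exists_proper_bound (hW : IsTransferFunctor p W) :
    ∀ (n : ℕ) {Ω : Type u} [Group Ω] {S : Subgroup Ω} [Finite S], Nat.card S < n → IsPGroup p S →
      S ≠ ⊥ → ∀ F : FusionSystem S, F.IsSaturated p → IsPGroup p (F.autGroup S) →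
        F.focalSubgroup < S := by
  intro n
  induction n with
  | zero => intro Ω _ S _ h; exact absurd h (Nat.not_lt_zero _)
  | succ n ih =>
    intro Ω _ S _ hn hS hS1 F hF haut
    have : Nontrivial S := (Subgroup.nontrivial_iff_ne_bot _).2 hS1
    have := hS.isNilpotent
    have hcomm : ⁅S, S⁆ < S := by
      refine lt_of_le_of_ne (Subgroup.commutator_le_self S) fun h => ?_
      refine (Group.IsSolvable.commutator_lt_top_of_nontrivial ↥S).ne ?_
      refine Subgroup.map_injective S.subtype_injective ?_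
      rw [Subgroup.map_subtype_commutator, h, ← MonoidHom.range_eq_map, Subgroup.range_subtype]
    set V := (W ↥S).map S.subtype with hV
    have hVS : V ≤ S := Subgroup.map_subtype_le _
    have hVne : V ≠ ⊥ := fun h => hW.ne_bot _ hS inferInstance
      ((Subgroup.map_eq_bot_iff_of_injective _ S.subtype_injective).1 h)
    have hSV : S ≤ Subgroup.normalizer (V : Set Ω) := by
      intro g hg
      have := finite_of_le hVS
      refine mem_normalizer_of_finite (P := V) (g := g) ?_
      rintro _ ⟨x, hx, rfl⟩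
      have hg' : g ∈ Subgroup.normalizer (S : Set Ω) := Subgroup.le_normalizer hg
      exact ⟨conjAut hg' x, (hW.natural S S hS (conjAut hg')).le ⟨x, hx, rfl⟩, rfl⟩
    have e : normalizerIn S V = S := le_antisymm (normalizerIn_le S V) fun g hg => ⟨hg, hSV hg⟩
    have hVn : F.IsFullyNormalized V := ⟨hVS, fun R _ => by
      rw [e]; exact Subgroup.card_le_of_le (normalizerIn_le S R)⟩
    set E := recast (normalizerSystem F V hVS) e with hE
    have hEs : E.IsSaturated p :=
      recast_isSaturated e (normalizerSystem_isSaturated hS hF hVn (normalizerSystem_spec F V hVS))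
    have hEh : ∀ (P : Subgroup Ω) (φ : P →* Ω), φ ∈ E.Hom P ↔ φ ∈ F.normalizerHom V P :=
      fun P φ => Iff.rfl
    have hEaut : IsPGroup p (E.autGroup S) :=
      haut.to_le (autGroup_le_of_hom fun φ hφ => ((hEh S φ).1 hφ).1)
    suffices ∃ A : Subgroup Ω, ⁅S, S⁆ ≤ A ∧ A < S ∧
        ∀ (X : Subgroup Ω) (φ : X →* Ω), φ ∈ F.normalizerHom V X → ∀ x : X, (x : Ω)⁻¹ * φ x ∈ A by
      obtain ⟨A, hA1, hA2, hA3⟩ := this
      exact lt_of_le_of_lt (focal_le_of_functor hW hS hF hA1 hA3) hA2
    rcases hVS.eq_or_lt with hVe | hVlt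
    · -- the normalizer of `S`
      refine ⟨⁅S, S⁆, le_rfl, hcomm, fun X φ hφ x => ?_⟩
      obtain ⟨-, hX, -, ψ, hψ, hψe, hψV⟩ := hφ
      have hXS : X ≤ S := hX.trans (normalizerIn_le S V)
      have hle : S ≤ X ⊔ V := hVe.symm.le.trans le_sup_right
      have hψ' := restr_mem F hψ hle
      have hr : (restr hle ψ).range = S := by
        rw [range_restr]
        have h1 : img ψ V = V := hψV
        exact (congrArg (img ψ) hVe.symm).trans (h1.trans hVe)
      have hα := mem_autGroup_of_hom F (show autHom (isoOf _ (F.injective_of_mem hψ') hr) ∈ F.Hom S by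
        convert hψ' using 1; ext y; rfl)
      obtain ⟨s, hs, hse⟩ := exists_conj_of_isPGroup_autGroup hS hF (isFullyNormalized_top F) haut hα
      have h1 : φ x = s * (x : Ω) * s⁻¹ := by
        rw [← hψe x]
        exact hse ⟨x, hXS x.2⟩
      rw [h1, show (x : Ω)⁻¹ * (s * (x : Ω) * s⁻¹) = ⁅(x : Ω)⁻¹, s⁆ by rw [commutatorElement_def]; group]
      exact Subgroup.commutator_mem_commutator (inv_mem (hXS x.2)) hs
    · -- the quotient by the functor
      have hVnE : E.IsNormal V := by
        refine ⟨hVS, fun P φ hφ => ?_⟩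
        obtain ⟨hφF, hP, hv, ψ, hψ, hψe, hψV⟩ := (hEh P φ).1 hφ
        refine ⟨ψ, ?_, hψe, hψV⟩
        rw [hEh]
        have hle : P ⊔ V ⊔ V ≤ P ⊔ V := sup_le le_rfl le_sup_right
        refine ⟨hψ, sup_le hP (le_normalizerIn hVS), fun y => e.symm ▸ apply_mem hψ y,
          restr hle ψ, restr_mem F hψ hle, fun y => rfl, ?_⟩
        show img (restr hle ψ) V = V
        rw [img_restr hle ψ le_sup_right]
        exact hψV
      have hVsc := IsNormal.stronglyClosed hVnE
      have : (V.subgroupOf S).Normal := ⟨fun v hv g => conj_mem_of_mem_normalizer (hSV g.2) hv⟩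
      set θ := QuotientGroup.mk' (V.subgroupOf S) with hθ
      have hker : ∀ s : S, θ s = 1 ↔ (s : Ω) ∈ V := fun s => QuotientGroup.eq_one_iff s
      have hr : θ.range = ⊤ := MonoidHom.range_eq_top.2 (QuotientGroup.mk'_surjective _)
      set Q := factorSystem E hVsc θ hker hr with hQ
      have hspec := factorSystem_spec hVsc hker hr
      have hQs : Q.IsSaturated p := factor_isSaturated hS hEs hVsc hspec
      have hp' : IsPGroup p (⊤ : Subgroup (↥S ⧸ V.subgroupOf S)) :=
        (hS.to_quotient _).to_subgroup ⊤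
      have hne : (⊤ : Subgroup (↥S ⧸ V.subgroupOf S)) ≠ ⊥ := by
        intro h
        refine hVlt.not_ge fun s hs => ?_
        have h1 : θ ⟨s, hs⟩ ∈ (⊥ : Subgroup (↥S ⧸ V.subgroupOf S)) := h ▸ Subgroup.mem_top _
        exact (hker ⟨s, hs⟩).1 (Subgroup.mem_bot.1 h1)
      have hcard : Nat.card (⊤ : Subgroup (↥S ⧸ V.subgroupOf S)) < n := by
        have h1 := Subgroup.card_eq_card_quotient_mul_card_subgroup (V.subgroupOf S)
        have h2 : 1 < Nat.card (V.subgroupOf S) := by
          rw [Nat.card_congr (Subgroup.subgroupOfEquivOfLe hVS).toEquiv]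
          have := finite_of_le hVS
          exact (Subgroup.one_lt_card_iff_ne_bot _).2 hVne
        have h3 : 0 < Nat.card (↥S ⧸ V.subgroupOf S) := Nat.card_pos
        rw [Subgroup.card_top]
        nlinarith
      have hQaut : IsPGroup p (Q.autGroup (⊤ : Subgroup (↥S ⧸ V.subgroupOf S))) := by
        intro α
        obtain ⟨-, φ, hφ, hP, hφS, hm, h⟩ := autHom_mem Q le_rfl α.2
        have hpre : S ≤ preimageAlong θ ⊤ := fun s hs => (mem_preimage_iff ⟨s, hs⟩).2 (Subgroup.mem_top _)
        have hφ' := restr_mem E hφ hpre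
        have hr' : (restr hpre φ).range = S := by
          refine Subgroup.eq_of_le_of_card_ge (range_le hφ') ?_
          rw [card_range_eq (E.injective_of_mem hφ')]
        set β : MulAut S := isoOf _ (E.injective_of_mem hφ') hr' with hβ
        obtain ⟨k, hk⟩ := hEaut ⟨β, mem_autGroup_of_hom E (by convert hφ' using 1; ext y; rfl)⟩
        refine ⟨k, Subtype.ext (MulEquiv.ext fun y => ?_)⟩
        obtain ⟨x, hx⟩ := QuotientGroup.mk'_surjective (V.subgroupOf S) (y : ↥S ⧸ V.subgroupOf S)
        let g : S → (⊤ : Subgroup (↥S ⧸ V.subgroupOf S)) := fun s => ⟨θ s, Subgroup.mem_top _⟩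
        have hsemi : ∀ s : S, g (β s) = (α : MulAut _) (g s) := by
          intro s
          refine Subtype.ext ?_
          exact (h ⟨s, hpre s.2⟩).symm
        have hpow : ∀ (m : ℕ) (s : S), g ((β ^ m) s) = ((α : MulAut _) ^ m) (g s) := by
          intro m
          induction m with
          | zero => intro s; rfl
          | succ m hm' =>
            intro s
            rw [pow_succ, pow_succ, MulAut.mul_apply, MulAut.mul_apply, hm', hsemi]
        have hy : y = g x := Subtype.ext hx.symm
        have hk' : β ^ p ^ k = 1 := congrArg Subtype.val hk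
        rw [SubmonoidClass.coe_pow, OneMemClass.coe_one, hy, ← hpow, hk']
        rfl
      have hlt := ih hcard hp' hne Q hQs hQaut
      refine ⟨preimageAlong θ Q.focalSubgroup, ?_, ?_, fun X φ hφ x => ?_⟩
      · rw [← Subgroup.map_subtype_commutator]
        rintro _ ⟨c, hc, rfl⟩
        refine (mem_preimage_iff c).2 (commutator_le_focal Q ?_)
        have h1 : θ c ∈ (commutator ↥S).map θ := ⟨c, hc, rfl⟩
        rw [commutator_def, Subgroup.map_commutator] at h1
        exact Subgroup.commutator_mono le_top le_top h1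
      · refine lt_of_le_of_ne (preimage_le θ _) fun h => hlt.ne (top_le_iff.1 fun y _ => ?_)
        obtain ⟨s, rfl⟩ := QuotientGroup.mk'_surjective (V.subgroupOf S) y
        exact (mem_preimage_iff s).1 ((SetLike.ext_iff.1 h (s : Ω)).2 s.2)
      · have hφE : φ ∈ E.Hom X := (hEh X φ).2 hφ
        obtain ⟨ψ, hψ, hψe, -⟩ := hVnE.2 X φ hφE
        have hXS : X ≤ S := source_le hφE
        have hpre : preimageAlong θ (imageAlong θ X) = X ⊔ V := preimage_imageAlong hker hVS hXS
        obtain ⟨ψ', hψ'⟩ := exists_induced hker hVsc hψ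
        have himg : imageAlong θ (X ⊔ V) ≤ ⊤ := le_top
        have hXV : preimageAlong θ (imageAlong θ (X ⊔ V)) ≤ X ⊔ V :=
          (preimage_imageAlong hker hVS (sup_le hXS hVS)).le.trans (sup_le le_rfl le_sup_right)
        obtain ⟨hP, hψS, hm, h⟩ := hψ'
        have hmem : ψ' ∈ Q.Hom (imageAlong θ (X ⊔ V)) :=
          ⟨himg, restr hXV ψ, restr_mem E hψ hXV, (hXV.trans hP), fun y => hψS _,
            fun y => hm ⟨y, hXV y.2⟩, fun y => h ⟨y, hXV y.2⟩⟩
        have hxV : (x : Ω) ∈ X ⊔ V := Subgroup.mem_sup_left x.2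
        have h1 := focal_mem hmem ⟨_, hm ⟨x, hxV⟩⟩
        rw [h ⟨x, hxV⟩] at h1
        refine (mem_preimage_iff ((⟨x, hXS x.2⟩ : S)⁻¹ * (⟨φ x, apply_mem hφE x⟩ : S))).2 ?_
        rw [map_mul, map_inv]
        have e2 : (⟨φ x, apply_mem hφE x⟩ : S) = ⟨ψ ⟨x, hxV⟩, hψS ⟨x, hxV⟩⟩ :=
          Subtype.ext (hψe x).symm
        rw [e2]
        exact h1

theorem focal_lt (hp : 5 ≤ p) {Ω : Type u} [Group Ω] {S : Subgroup Ω} [Finite S] (hS : IsPGroup p S)
    (F : FusionSystem S) (hF : F.IsSaturated p) (hS1 : S ≠ ⊥) (haut : IsPGroup p (F.autGroup S)) :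
    F.focalSubgroup < S :=
  exists_proper_bound (isTransferFunctor_kInfUpper hp) _ (Nat.lt_succ_self _) hS hS1 F hF haut

end Cfsg.Agent.Lib.PLocal.FocalProper
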