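import Cfsg.Agent.Lib.PLocal.FusionNpcZJ
import Cfsg.Agent.Lib.PLocal.AxiomTest

/-!
The axiomatic nilpotency criterion for fusion systems.
-/

set_option autoImplicit false
set_option linter.unusedSectionVars false
set_option linter.style.haveILetI false

namespace Cfsg.Agent.Lib.PLocal.FusionNpc

open Cfsg Cfsg.FusionSystem Cfsg.Agent.Lib.Fusion
open scoped commutatorElement

universe u

variable {p : ℕ} [Fact p.Prime] {Ω : Type u} [Group Ω] {S : Subgroup Ω}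

/-- A family of abelian subgroups of `S` with invariance and replacement in `F`. -/
structure FusFam (F : FusionSystem S) (𝒜 : Set (Subgroup Ω)) : Prop where
  le : ∀ A ∈ 𝒜, A ≤ S
  comm : ∀ A ∈ 𝒜, ∀ a ∈ A, ∀ b ∈ A, a * b = b * a
  ne : 𝒜.Nonempty
  inv : ∀ Q : Subgroup Ω, Q ≤ S → (∃ A ∈ 𝒜, A ≤ Q) → ∀ α ∈ F.autGroup Q, ∀ x : Q,
    (x : Ω) ∈ inter 𝒜 Q → (((α : MulAut Q) x : Q) : Ω) ∈ inter 𝒜 Q
  rep : ∀ B : Subgroup Ω, B ≤ S → ⁅⁅B, B⁆, B⁆ = ⊥ → (∃ A ∈ 𝒜, ⁅B, B⁆ ≤ A ∧ ¬ B ≤ A) →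
    ∃ A ∈ 𝒜, ⁅B, B⁆ ≤ A ∧ ¬ B ≤ A ∧ B ≤ Subgroup.normalizer (A : Set Ω)

theorem FusFam.inter_le {F : FusionSystem S} {𝒜 : Set (Subgroup Ω)} (h : FusFam F 𝒜) :
    inter 𝒜 S ≤ S := by
  obtain ⟨A, hA⟩ := h.ne
  exact (PLocal.inter_le hA (h.le A hA)).trans (h.le A hA)

variable [Finite S]

theorem FusFam.le_normalizer {F : FusionSystem S} {𝒜 : Set (Subgroup Ω)} (h : FusFam F 𝒜)
    (hS : IsPGroup p S) : S ≤ Subgroup.normalizer (inter 𝒜 S : Set Ω) := by
  intro g hg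
  obtain ⟨A, hA⟩ := h.ne
  have := Fusion.finite_of_le h.inter_le
  refine Fusion.mem_normalizer_of_finite fun x hx => ?_
  exact h.inv S le_rfl ⟨A, hA, h.le A hA⟩ _
    (Fusion.conjAut_mem_autGroup F le_rfl hg (Subgroup.le_normalizer hg)) ⟨x, h.inter_le hx⟩ hx

/-- The family seen in a model. -/
theorem FusFam.repFam {F : FusionSystem S} {𝒜 : Set (Subgroup Ω)} (h : FusFam F 𝒜)
    {L : Type u} [Group L] {ι : S →* L} (hL : F.IsRealizedBy ι) :
    RepFam ι.range ((fun A => imageAlong ι A) '' 𝒜) ∧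
      inter ((fun A => imageAlong ι A) '' 𝒜) ι.range = imageAlong ι (inter 𝒜 S) := by
  have hi := hL.1
  have hmem : ∀ (A : Subgroup Ω) (x : S), ι x ∈ imageAlong ι A ↔ (x : Ω) ∈ A :=
    fun A x => apply_mem_imageAlong_iff hi
  have hint : ∀ Q : Subgroup L, Q ≤ ι.range → (∃ A ∈ 𝒜, imageAlong ι A ≤ Q) →
      ∀ x : S, (ι x ∈ inter ((fun A => imageAlong ι A) '' 𝒜) Q ↔
        (x : Ω) ∈ inter 𝒜 (preimageAlong ι Q)) := by
    intro Q hQ _ x
    rw [inter, inter, Subgroup.mem_sInf, Subgroup.mem_sInf]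
    constructor
    · rintro hx A ⟨hA, hAQ⟩
      refine (hmem A x).1 (hx _ ⟨⟨A, hA, rfl⟩, ?_⟩)
      rw [← imageAlong_preimageAlong (ι := ι) hQ]
      exact Subgroup.map_mono fun y hy => hAQ hy
    · rintro hx _ ⟨⟨A, hA, rfl⟩, hAQ⟩
      refine (hmem A x).2 (hx A ⟨hA, fun y hy => ?_⟩)
      exact ⟨⟨y, h.le A hA hy⟩, hAQ ((hmem A ⟨y, h.le A hA hy⟩).2 hy), rfl⟩
  refine ⟨⟨?_, ?_, h.ne.image _, ?_, ?_⟩, ?_⟩
  · rintro _ ⟨A, -, rfl⟩
    exact imageAlong_le_range ι A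
  · rintro _ ⟨A, hA, rfl⟩ _ ⟨a, ha, rfl⟩ _ ⟨b, hb, rfl⟩
    rw [← map_mul, ← map_mul]
    exact congrArg ι (Subtype.ext (h.comm A hA a ha b hb))
  · rintro Q hQ ⟨_, ⟨A, hA, rfl⟩, hAQ⟩ g hg x hx
    obtain ⟨x', hx'A, rfl⟩ := (PLocal.inter_le (A := imageAlong ι A) (Set.mem_image_of_mem _ hA) hAQ) hx
    have hxA : x' ∈ A.subgroupOf S := hx'A
    let R := preimageAlong ι Q
    have hRS : R ≤ S := preimageAlong_le ι Q
    have := Fusion.finite_of_le hRS
    have hRm : ∀ y : S, (y : Ω) ∈ R ↔ ι y ∈ Q := fun y => by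
      constructor
      · rintro ⟨z, hz, hzy⟩
        rwa [show y = z from Subtype.ext hzy.symm]
      · exact fun h => ⟨y, h, rfl⟩
    obtain ⟨φ, hφ, hφe⟩ := IsRealizedBy.exists_hom hL hRS g fun y =>
      hQ ((Subgroup.mem_normalizer_iff.1 hg _).1 ((hRm ⟨y, hRS y.2⟩).1 y.2))
    have hr : φ.range = R := by
      refine Subgroup.eq_of_le_of_card_ge ?_ (card_range_eq (F.injective_of_mem hφ)).ge
      rintro _ ⟨y, rfl⟩
      refine (hRm ⟨φ y, apply_mem hφ y⟩).2 ?_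
      rw [hφe]
      exact (Subgroup.mem_normalizer_iff.1 hg _).1 ((hRm ⟨y, hRS y.2⟩).1 y.2)
    have hAR : A ≤ R := fun y hy => (hRm ⟨y, h.le A hA hy⟩).2 (hAQ ((hmem A _).2 hy))
    have h1 := (hint Q hQ ⟨A, hA, hAQ⟩ x').1 hx
    have h2 := h.inv R hRS ⟨A, hA, hAR⟩ _ (mem_autGroup_of_hom F
      (α := isoOf φ (F.injective_of_mem hφ) hr) hφ) ⟨x', hAR hxA⟩ h1
    have h3 := (hint Q hQ ⟨A, hA, hAQ⟩ ⟨φ ⟨x', hAR hxA⟩, apply_mem hφ _⟩).2 h2
    rwa [hφe] at h3
  · rintro B hB hc ⟨_, ⟨A, hA, rfl⟩, hBA, hBnA⟩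
    let B₀ := preimageAlong ι B
    have hB₀S : B₀ ≤ S := preimageAlong_le ι B
    have hBm : B.comap ι = B₀.subgroupOf S := by
      ext y
      exact ⟨fun hy => ⟨y, hy, rfl⟩, fun ⟨z, hz, hzy⟩ => by rwa [show y = z from Subtype.ext hzy.symm]⟩
    have hBeq : (B₀.subgroupOf S).map ι = B := by rw [← hBm, Subgroup.map_comap_eq_self hB]
    have hcomm : ∀ X Y : Subgroup S, ⁅X.map S.subtype, Y.map S.subtype⁆ = ⁅X, Y⁆.map S.subtype :=
      fun X Y => (Subgroup.map_commutator _ _ _).symm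
    have hB₀ : B₀ = (B₀.subgroupOf S).map S.subtype := by
      rw [Subgroup.subgroupOf_map_subtype, inf_eq_left.2 hB₀S]
    have hto : ∀ (A : Subgroup Ω) (X : Subgroup S), A ≤ S →
        (X.map S.subtype ≤ A ↔ X.map ι ≤ imageAlong ι A) := fun A X hA => by
      rw [imageAlong, Subgroup.map_le_map_iff_of_injective hi, Subgroup.map_le_iff_le_comap]
      rfl
    obtain ⟨A', hA', h1, h2, h3⟩ := h.rep B₀ hB₀S (by
      rw [hB₀, hcomm, hcomm, Subgroup.map_eq_bot_iff_of_injective _ S.subtype_injective]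
      refine (Subgroup.map_eq_bot_iff_of_injective _ hi).1 ?_
      rw [Subgroup.map_commutator, Subgroup.map_commutator, hBeq, hc])
      ⟨A, hA, by
        rw [hB₀, hcomm, hto A _ (h.le A hA), Subgroup.map_commutator, hBeq]; exact hBA,
      fun hle => hBnA (by rw [← hBeq, ← hto A _ (h.le A hA), ← hB₀]; exact hle)⟩
    refine ⟨_, ⟨A', hA', rfl⟩, ?_, fun hle => h2 (by
      rw [hB₀, hto A' _ (h.le A' hA'), hBeq]; exact hle), ?_⟩
    · rw [← hBeq, ← Subgroup.map_commutator, ← hto A' _ (h.le A' hA'), ← hcomm, ← hB₀]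
      exact h1
    · intro b hb
      obtain ⟨b', hb', rfl⟩ := hBeq.ge hb
      rw [Subgroup.mem_normalizer_iff]
      intro z
      have hA'r : imageAlong ι A' ≤ ι.range := imageAlong_le_range ι A'
      constructor
      · rintro ⟨a, ha, rfl⟩
        rw [← map_inv, ← map_mul, ← map_mul]
        exact (hmem A' _).2 ((Subgroup.mem_normalizer_iff.1 (h3 hb') _).1 ha)
      · rintro ⟨a, ha, hae⟩
        have hz : z = ι (b'⁻¹ * a * b') := by
          rw [map_mul, map_mul, map_inv, hae]; group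
        rw [hz]
        refine (hmem A' _).2 ((Subgroup.mem_normalizer_iff.1 (h3 hb') _).2 ?_)
        have ha' : (a : Ω) ∈ A' := ha
        simpa [mul_assoc] using ha'
  · obtain ⟨A, hA⟩ := h.ne
    have hA' : ∃ A ∈ 𝒜, imageAlong ι A ≤ ι.range := ⟨A, hA, imageAlong_le_range ι A⟩
    have hpre : preimageAlong ι ι.range = S := le_antisymm (preimageAlong_le ι _) fun x hx =>
      ⟨⟨x, hx⟩, ⟨_, rfl⟩, rfl⟩
    ext y
    constructor
    · intro hy
      obtain ⟨x, rfl⟩ := ((PLocal.inter_le (A := imageAlong ι A) (Set.mem_image_of_mem _ hA) (imageAlong_le_range ι A)).trans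
        (imageAlong_le_range ι A)) hy
      rw [hint _ le_rfl hA', hpre] at hy
      exact (hmem _ x).2 hy
    · rintro ⟨x, hx, rfl⟩
      rw [hint _ le_rfl hA', hpre]
      exact hx

/-- The criterion for a family with invariance and replacement. -/
theorem inner_of_fusFam (hS : IsPGroup p S) {F : FusionSystem S} (hF : F.IsSaturated p)
    (hp : p ≠ 2) {𝒜 : Set (Subgroup Ω)} (hfam : FusFam F 𝒜)
    (hloc : LocP p false F (inter 𝒜 S)) :
    ∀ P : Subgroup Ω, F.Hom P = (innerFusionSystem S).Hom P := by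
  refine eq_inner_of_autP hS hF ?_
  suffices key : ∀ E : FusionSystem S, E.IsSaturated p → E ≤ F → AutP p E from key F hF (fun _ => le_rfl)
  intro E
  refine subsystem_ind (motive := fun E : FusionSystem S => E.IsSaturated p → E ≤ F → AutP p E) ?_ E
  intro E ih hE hEF
  refine autP_of_proper hS hE hp (fun E' hle hne hs _ => ih E' hle hne hs
    fun P => (hle P).trans (hEF P)) fun hc P α hα => ?_
  have hfamE : FusFam E 𝒜 := ⟨hfam.le, hfam.comm, hfam.ne,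
    fun Q hQ hA β hβ x hx => hfam.inv Q hQ hA β
      (mem_autGroup_of_hom F (hEF Q (autHom_mem E hQ hβ))) x hx, hfam.rep⟩
  obtain ⟨L, _, ι, hL⟩ := exists_model hS hc
  have : Finite L := hL.1
  obtain ⟨T, hT⟩ := hL.2.2.1
  obtain ⟨hR, hI⟩ := hfamE.repFam hL.2.1
  rw [← hT] at hR hI
  have hi := hL.2.1.1
  have hLp : IsPGroup p L := by
    refine isPGroup_of_repFam hp _ L rfl T _ hR hL.2.2.2 fun g hg => ?_
    rw [hI] at hg
    let U := inter 𝒜 S
    have hUS : U ≤ S := hfam.inter_le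
    have hnU := hfam.le_normalizer hS
    let P' : Subgroup L := Cfsg.pCore p L ⊔ imageAlong ι U
    have hP'r : P' ≤ ι.range := sup_le (hT ▸ Cores.pCore_le_sylow T) (imageAlong_le_range ι U)
    let R : Subgroup Ω := preimageAlong ι P'
    have hRS : R ≤ S := preimageAlong_le ι P'
    have hRm : ∀ y : S, (y : Ω) ∈ R ↔ ι y ∈ P' := fun y => by
      constructor
      · rintro ⟨z, hz, hzy⟩
        rwa [show y = z from Subtype.ext hzy.symm]
      · exact fun h => ⟨y, h, rfl⟩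
    have hUR : U ≤ R := fun y hy =>
      (hRm ⟨y, hUS hy⟩).2 (Subgroup.mem_sup_right (apply_mem_imageAlong ι _ hy))
    have hconj : ∀ z ∈ P', g * z * g⁻¹ ∈ P' := by
      intro z hz
      have h1 : P'.map (MulAut.conj g).toMonoidHom ≤ P' := by
        rw [Subgroup.map_sup]
        refine sup_le (le_trans ?_ le_sup_left) (le_trans ?_ le_sup_right)
        · rintro _ ⟨a, ha, rfl⟩
          exact (Cfsg.pCore_normal p L).conj_mem a ha g
        · rintro _ ⟨a, ha, rfl⟩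
          exact (Subgroup.mem_normalizer_iff.1 hg a).1 ha
      exact h1 ⟨z, hz, rfl⟩
    obtain ⟨φ, hφ, hφe⟩ := IsRealizedBy.exists_hom hL.2.1 hRS g fun x =>
      hP'r (hconj _ ((hRm ⟨x, hRS x.2⟩).1 x.2))
    have := Fusion.finite_of_le hRS
    have hr : φ.range = R := by
      refine Subgroup.eq_of_le_of_card_ge ?_ (card_range_eq (E.injective_of_mem hφ)).ge
      rintro _ ⟨x, rfl⟩
      refine (hRm ⟨φ x, apply_mem hφ x⟩).2 ?_
      rw [hφe]
      exact hconj _ ((hRm ⟨x, hRS x.2⟩).1 x.2)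
    let β : MulAut R := isoOf φ (E.injective_of_mem hφ) hr
    have hle : R ⊔ U ≤ R := sup_le le_rfl hUR
    obtain ⟨k, hk⟩ := hloc R β (by
      rw [autHom_isoOf]
      refine ⟨hEF R hφ, fun x hx => ⟨hRS hx, hnU (hRS hx)⟩,
        fun x => ⟨apply_mem hφ x, hnU (apply_mem hφ x)⟩, restr hle φ,
        restr_mem F (hEF R hφ) hle, fun x => rfl, ?_⟩
      show img (restr hle φ) U = U
      rw [img_restr hle φ le_sup_right]
      have := Fusion.finite_of_le hUS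
      refine Subgroup.eq_of_le_of_card_ge ?_ (card_img (E.injective_of_mem hφ) hUR).ge
      intro y hy
      obtain ⟨x, hxR, hxU, rfl⟩ := mem_img.1 hy
      refine (apply_mem_imageAlong_iff hi (x := ⟨φ ⟨x, hxR⟩, apply_mem hφ _⟩)).1 ?_
      rw [hφe]
      exact (Subgroup.mem_normalizer_iff.1 hg _).1 (apply_mem_imageAlong ι _ hxU))
    have hcomm : g ^ p ^ k ∈ Cfsg.pCore p L := by
      refine hL.2.2.2 fun z hz => ?_
      obtain ⟨x, rfl⟩ := hP'r (Subgroup.mem_sup_left hz : z ∈ P')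
      have hx : (x : Ω) ∈ R := (hRm x).2 (Subgroup.mem_sup_left hz)
      have h1 := pow_semiconj (α := β) (β := MulAut.conj g)
        (fun y : R => ι ⟨y, hRS y.2⟩) (fun y => hφe y) (p ^ k) ⟨x, hx⟩
      rw [hk, ← map_pow] at h1
      simp only [MulAut.one_apply, MulAut.conj_apply] at h1
      exact (eq_mul_inv_iff_mul_eq.1 h1)
    obtain ⟨m, hm⟩ := (Cores.pCore_isPGroup p L) ⟨_, hcomm⟩
    refine ⟨k + m, ?_⟩
    rw [pow_add, pow_mul]
    exact congrArg Subtype.val hm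
  obtain ⟨g, hg⟩ := IsRealizedBy.exists_conj hL.2.1 hα
  obtain ⟨k, hk⟩ := hLp g
  refine ⟨k, MulEquiv.ext fun x => Subtype.ext ?_⟩
  have h1 := pow_semiconj (α := α) (β := MulAut.conj g)
    (fun y : P => ι ⟨y, source_le hα y.2⟩) (fun y => hg y) (p ^ k) x
  rw [← map_pow, hk, map_one] at h1
  exact congrArg (fun s : S => (s : Ω)) (hi h1)

end Cfsg.Agent.Lib.PLocal.FusionNpc
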