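import Cfsg.Agent.Lib.Fusion.GlaubermanFunctor
import Cfsg.Agent.Lib.Fusion.TransferFunctorBasic
import Cfsg.Agent.Lib.Fusion.NormalizerFacts
import Cfsg.Agent.Lib.Solvable.Nilpotent

/-!
Criteria for a saturated fusion system to be inner, by characteristic functors which detect
`p`-groups among the groups of characteristic `p`.
-/

set_option autoImplicit false
set_option linter.unusedSectionVars false

namespace Cfsg.Agent.Lib.PLocal.FusionNpc

open Cfsg Cfsg.FusionSystem Cfsg.Agent.Lib.Fusion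

universe u v w

/-- An automorphism of `p`-power order. -/
def PElt (p : ℕ) {P : Type*} [Group P] (α : MulAut P) : Prop := ∃ k : ℕ, α ^ p ^ k = 1

theorem pow_semiconj {P Q : Type*} [Group P] [Group Q] {α : MulAut P} {β : MulAut Q} (f : P → Q)
    (h : ∀ x, f (α x) = β (f x)) : ∀ (n : ℕ) (x : P), f ((α ^ n) x) = (β ^ n) (f x)
  | 0, x => by simp
  | n + 1, x => by
    rw [pow_succ, pow_succ, MulAut.mul_apply, MulAut.mul_apply, pow_semiconj f h n, h]

theorem PElt.of_injective {p : ℕ} {P Q : Type*} [Group P] [Group Q] {α : MulAut P} {β : MulAut Q}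
    (f : P → Q) (hf : Function.Injective f) (h : ∀ x, f (α x) = β (f x)) (hβ : PElt p β) :
    PElt p α := by
  obtain ⟨k, hk⟩ := hβ
  refine ⟨k, MulEquiv.ext fun x => hf ?_⟩
  rw [pow_semiconj f h, hk]
  rfl

theorem PElt.of_surjective {p : ℕ} {P Q : Type*} [Group P] [Group Q] {α : MulAut P} {β : MulAut Q}
    (f : P → Q) (hf : Function.Surjective f) (h : ∀ x, f (α x) = β (f x)) (hα : PElt p α) :
    PElt p β := by
  obtain ⟨k, hk⟩ := hα
  refine ⟨k, MulEquiv.ext fun y => ?_⟩
  obtain ⟨x, rfl⟩ := hf y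
  rw [← pow_semiconj f h, hk]
  rfl

section Basic

variable {Ω : Type u} [Group Ω] {S : Subgroup Ω}

/-- The maps of the normalizer, or of the centralizer, system. -/
def locHom (c : Bool) (F : FusionSystem S) (Q P : Subgroup Ω) : Set (P →* Ω) :=
  if c then F.centralizerHom Q P else F.normalizerHom Q P

/-- The automorphisms in the local system at `Q` have `p`-power order. -/
def LocP (p : ℕ) (c : Bool) (F : FusionSystem S) (Q : Subgroup Ω) : Prop :=
  ∀ (P : Subgroup Ω) (α : MulAut P), autHom α ∈ locHom c F Q P → PElt p α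

/-- All automorphisms of the system have `p`-power order. -/
def AutP (p : ℕ) (F : FusionSystem S) : Prop :=
  ∀ (P : Subgroup Ω) (α : MulAut P), autHom α ∈ F.Hom P → PElt p α

theorem centralizerHom_subset (F : FusionSystem S) (Q P : Subgroup Ω) :
    F.centralizerHom Q P ⊆ F.normalizerHom Q P := by
  rintro φ ⟨hφ, hP, hv, ψ, hψ, hψe, hfix⟩
  refine ⟨hφ, hP.trans (centralizerIn_le_normalizerIn S Q),
    fun x => centralizerIn_le_normalizerIn S Q (hv x), ψ, hψ, hψe, ?_⟩
  refine le_antisymm ?_ fun y hy => ?_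
  · rintro _ ⟨⟨y, hy⟩, hyQ, rfl⟩
    rw [show ψ ⟨y, hy⟩ = y from hfix ⟨y, hyQ⟩]
    exact hyQ
  · exact ⟨⟨y, Subgroup.mem_sup_right hy⟩, hy, hfix ⟨y, hy⟩⟩

theorem locHom_subset (c : Bool) (F : FusionSystem S) (Q P : Subgroup Ω) :
    locHom c F Q P ⊆ F.normalizerHom Q P := by
  cases c
  · exact le_rfl
  · exact centralizerHom_subset F Q P

theorem locHom_mono {F E : FusionSystem S} (h : E ≤ F) (c : Bool) (Q P : Subgroup Ω) :
    locHom c E Q P ⊆ locHom c F Q P := by
  cases c
  · rintro φ ⟨hφ, hP, hv, ψ, hψ, hr⟩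
    exact ⟨h P hφ, hP, hv, ψ, h _ hψ, hr⟩
  · rintro φ ⟨hφ, hP, hv, ψ, hψ, hr⟩
    exact ⟨h P hφ, hP, hv, ψ, h _ hψ, hr⟩

theorem autHom_isoOf {P : Subgroup Ω} (φ : P →* Ω) (hi : Function.Injective φ)
    (hr : φ.range = P) : autHom (isoOf φ hi hr) = φ := by
  ext x
  rfl

/-- An automorphism of the local system extends to one on the join. -/
theorem exists_ext_aut [Finite S] {F : FusionSystem S} {U P : Subgroup Ω} (hU : U ≤ S)
    {α : MulAut P} (hα : autHom α ∈ F.normalizerHom U P) :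
    ∃ β : MulAut ↥(P ⊔ U), autHom β ∈ F.normalizerHom U (P ⊔ U) ∧
      (∀ x : P, Subgroup.inclusion le_sup_left (α x) = β (Subgroup.inclusion le_sup_left x)) ∧
      img (autHom β) U = U := by
  obtain ⟨hαF, hP, -, ψ, hψ, hψe, hψU⟩ := hα
  have hr : ψ.range = P ⊔ U := by
    rw [← img_self ψ, img_sup ψ le_sup_left le_sup_right, show img ψ U = U from hψU]
    congr 1
    refine le_antisymm ?_ fun y hy => ?_
    · rintro _ ⟨⟨z, hzY⟩, hz, rfl⟩
      rw [show ψ ⟨z, hzY⟩ = autHom α ⟨z, hz⟩ from hψe ⟨z, hz⟩]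
      exact (α ⟨z, hz⟩).2
    · refine ⟨Subgroup.inclusion le_sup_left (α.symm ⟨y, hy⟩), (α.symm ⟨y, hy⟩).2, ?_⟩
      rw [hψe, autHom_apply, MulEquiv.apply_symm_apply]
  have hY : P ⊔ U ≤ normalizerIn S U := sup_le hP (le_normalizerIn hU)
  have hle : P ⊔ U ⊔ U ≤ P ⊔ U := sup_le le_rfl le_sup_right
  refine ⟨isoOf ψ (F.injective_of_mem hψ) hr, ?_, fun x => Subtype.ext (hψe x).symm, ?_⟩
  · rw [autHom_isoOf]
    refine ⟨hψ, hY, fun x => hY (hr.le ⟨x, rfl⟩), restr hle ψ, restr_mem F hψ hle, fun x => rfl,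
      (img_restr hle ψ le_sup_right).trans hψU⟩
  · rw [autHom_isoOf]
    exact hψU

/-- An automorphism of `Q` lies in the normalizer system of `Q`. -/
theorem autHom_mem_normalizerHom {F : FusionSystem S} {Q : Subgroup Ω} {α : MulAut Q}
    (hα : autHom α ∈ F.Hom Q) : autHom α ∈ F.normalizerHom Q Q := by
  have hQ : Q ≤ S := source_le hα
  have hle : Q ⊔ Q ≤ Q := sup_le le_rfl le_rfl
  refine ⟨hα, le_normalizerIn hQ, fun x => le_normalizerIn hQ (α x).2, restr hle (autHom α),
    restr_mem F hα hle, fun x => rfl, ?_⟩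
  show img (restr hle (autHom α)) Q = Q
  rw [img_restr hle _ le_sup_left, img_self, range_autHom]

variable [Finite S] {p : ℕ} [Fact p.Prime]

/-- A saturated system all of whose automorphisms have `p`-power order is inner. -/
theorem eq_inner_of_autP (hS : IsPGroup p S) {F : FusionSystem S} (hF : F.IsSaturated p)
    (h : AutP p F) : ∀ P : Subgroup Ω, F.Hom P = (innerFusionSystem S).Hom P := by
  have key : ∀ P : Subgroup Ω, F.IsFullyNormalized P →
      F.autGroup P ≤ (innerFusionSystem S).autGroup P := by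
    intro P hP α hα
    have hp : IsPGroup p (F.autGroup P) := by
      intro β
      obtain ⟨k, hk⟩ := h P β (autHom_mem F hP.1 β.2)
      exact ⟨k, Subtype.ext (by simpa using hk)⟩
    obtain ⟨s, hs, hse⟩ := exists_conj_of_isPGroup_autGroup hS hF hP hp hα
    exact mem_autGroup_of_hom _ ⟨hP.1, s, hs, hse⟩
  have hle : F ≤ innerFusionSystem S :=
    alperin_ind hS hF _ (key S (isFullyNormalized_top F)) fun P hP _ => key P hP.2.1
  intro P
  refine Set.Subset.antisymm (hle P) ?_
  rintro φ ⟨hP, g, hg, hge⟩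
  rw [show φ = conjHom P g from MonoidHom.ext hge]
  exact F.conj_mem hP hg

/-- Conjugation by elements of `S` gives automorphisms of `p`-power order. -/
theorem pElt_of_conj (hS : IsPGroup p S) {P : Subgroup Ω} {α : MulAut P} {g : Ω} (hg : g ∈ S)
    (h : ∀ x : P, ((α x : P) : Ω) = g * (x : Ω) * g⁻¹) : PElt p α := by
  obtain ⟨k, hk⟩ := hS ⟨g, hg⟩
  have hk' : g ^ p ^ k = 1 := congrArg Subtype.val hk
  refine ⟨k, MulEquiv.ext fun x => Subtype.ext ?_⟩
  have h1 := pow_semiconj (β := MulAut.conj g) (fun y : P => (y : Ω)) (fun y => h y) (p ^ k) x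
  rw [h1, ← map_pow, hk', map_one]
  rfl

theorem locP_false_of_inner (hS : IsPGroup p S) {F : FusionSystem S} {Q : Subgroup Ω} (hQ : Q ≤ S)
    (h : ∀ N : FusionSystem (normalizerIn S Q), F.IsNormalizerSystem Q N →
      ∀ P : Subgroup Ω, N.Hom P = (innerFusionSystem (normalizerIn S Q)).Hom P) :
    LocP p false F Q := by
  intro P α hα
  have h1 : autHom α ∈ (normalizerSystem F Q hQ).Hom P := hα
  rw [h _ (normalizerSystem_spec F Q hQ) P] at h1
  obtain ⟨-, g, hg, hge⟩ := h1
  exact pElt_of_conj hS hg.1 hge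

theorem locP_true_of_inner (hS : IsPGroup p S) {F : FusionSystem S} {Q : Subgroup Ω} (hQ : Q ≤ S)
    (h : ∀ C : FusionSystem (centralizerIn S Q), F.IsCentralizerSystem Q C →
      ∀ P : Subgroup Ω, C.Hom P = (innerFusionSystem (centralizerIn S Q)).Hom P) :
    LocP p true F Q := by
  intro P α hα
  have h1 : autHom α ∈ (centralizerSystem F Q hQ).Hom P := hα
  rw [h _ (centralizerSystem_spec F Q hQ) P] at h1
  obtain ⟨-, g, hg, hge⟩ := h1
  exact pElt_of_conj hS hg.1 hge

/-- If the system is inner, so is the normalizer system of a normal subgroup of `S`. -/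
theorem normalizer_inner_of_inner {F : FusionSystem S}
    (h : ∀ P : Subgroup Ω, F.Hom P = (innerFusionSystem S).Hom P) {Q : Subgroup Ω}
    (hn : S ≤ Subgroup.normalizer (Q : Set Ω)) {N : FusionSystem (normalizerIn S Q)}
    (hN : F.IsNormalizerSystem Q N) (P : Subgroup Ω) :
    N.Hom P = (innerFusionSystem (normalizerIn S Q)).Hom P := by
  refine Set.Subset.antisymm (fun φ hφ => ?_) ?_
  · have h1 := hφ
    rw [hN P] at h1
    have h2 := h1.1
    rw [h P] at h2
    obtain ⟨-, g, hg, hge⟩ := h2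
    exact ⟨h1.2.1, g, ⟨hg, hn hg⟩, hge⟩
  · rintro φ ⟨hP, g, hg, hge⟩
    rw [show φ = conjHom P g from MonoidHom.ext hge]
    exact N.conj_mem hP hg

end Basic

/-- The functor evaluated on a subgroup and a subgroup of it, inside the ambient group. -/
def wAt (W : ∀ (Q : Type u) [Group Q], Subgroup Q → Subgroup Q) {Ω : Type u} [Group Ω]
    (T D : Subgroup Ω) : Subgroup Ω :=
  (W ↥T (D.subgroupOf T)).map T.subtype

theorem wAt_le (W : ∀ (Q : Type u) [Group Q], Subgroup Q → Subgroup Q) {Ω : Type u} [Group Ω]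
    (T D : Subgroup Ω) : wAt W T D ≤ T :=
  Subgroup.map_subtype_le _

/-- A family of characteristic functors detecting `p`-groups among groups of characteristic `p` not
involving `H`; the flag says whether the centralizer or the normalizer is used. -/
structure IsNpcFamily (p : ℕ) (H : Type w) [Group H] {ι : Type v} (c : ι → Bool)
    (W : ι → ∀ (Q : Type u) [Group Q], Subgroup Q → Subgroup Q) : Prop where
  ne_bot : ∀ (i : ι) (Q : Type u) [Group Q] [Finite Q] (D : Subgroup Q), IsPGroup p Q → D.Normal →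
    D ≠ ⊥ → W i Q D ≠ ⊥
  natural : ∀ (i : ι) (Q R : Type u) [Group Q] [Group R] [Finite Q], IsPGroup p Q →
    ∀ (φ : Q ≃* R) (D : Subgroup Q), (W i Q D).map φ.toMonoidHom = W i R (D.map φ.toMonoidHom)
  central : ∀ (i : ι), c i = true → ∀ (Q : Type u) [Group Q] [Finite Q] (D : Subgroup Q),
    IsPGroup p Q → W i Q D ≤ Subgroup.center Q
  test : ∀ (L : Type u) [Group L] [Finite L] (T : Sylow p L) (D : Subgroup L),
    D ≤ (T : Subgroup L) → (∀ d ∈ D, ∀ g : L, g * d * g⁻¹ ∈ (T : Subgroup L) → g * d * g⁻¹ ∈ D) →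
    D ≠ ⊥ →
    Subgroup.centralizer ((pCore p L : Subgroup L) : Set L) ≤ pCore p L → ¬ Involves H L →
    (∀ i, ∀ g : L,
      (if c i then g ∈ Subgroup.centralizer (wAt (W i) (T : Subgroup L) D : Set L)
        else g ∈ Subgroup.normalizer (wAt (W i) (T : Subgroup L) D : Set L)) →
      ∃ k : ℕ, g ^ p ^ k = 1) →
    IsPGroup p L

variable {p : ℕ} [Fact p.Prime] {H : Type w} [Group H] {ι : Type v} {c : ι → Bool}
  {W : ι → ∀ (Q : Type u) [Group Q], Subgroup Q → Subgroup Q}

/-- The hypothesis for a whole family. -/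
def LocAll (p : ℕ) (c : ι → Bool) (W : ι → ∀ (Q : Type u) [Group Q], Subgroup Q → Subgroup Q)
    {Ω : Type u} [Group Ω] {S : Subgroup Ω} (F : FusionSystem S) (D : Subgroup Ω) : Prop :=
  ∀ i, LocP p (c i) F (wAt (W i) S D)

/-- The induction hypothesis on the order. -/
def AllSmall (p : ℕ) (H : Type w) [Group H] (c : ι → Bool)
    (W : ι → ∀ (Q : Type u) [Group Q], Subgroup Q → Subgroup Q) (n : ℕ) : Prop :=
  ∀ {Ω : Type u} [Group Ω] {S : Subgroup Ω} [Finite S], Nat.card S < n → IsPGroup p S →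
    ∀ F : FusionSystem S, F.IsSaturated p → F.IsSectionFree p H →
      ∀ D : Subgroup Ω, F.StronglyClosed D → D ≠ ⊥ → LocAll p c W F D → AutP p F

/-- The induction hypothesis on proper subsystems. -/
def AllProper (p : ℕ) (H : Type w) [Group H] {Ω : Type u} [Group Ω] {S : Subgroup Ω}
    (F : FusionSystem S) : Prop :=
  ∀ F' : FusionSystem S, F' ≤ F → F' ≠ F → F'.IsSaturated p → F'.IsSectionFree p H → AutP p F'

variable (hW : IsNpcFamily p H c W) {Ω : Type u} [Group Ω] {S : Subgroup Ω}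

include hW in
theorem wAt_ne_bot {T D : Subgroup Ω} [Finite T] (i : ι) (hT : IsPGroup p T) (hDT : D ≤ T)
    (hn : T ≤ Subgroup.normalizer (D : Set Ω)) (h : D ≠ ⊥) : wAt (W i) T D ≠ ⊥ := fun hbot =>
  hW.ne_bot i T _ hT ⟨fun x hx g => conj_mem_of_mem_normalizer (hn g.2) hx⟩
    (fun h0 => h (by rw [← inf_eq_left.2 hDT, ← Subgroup.subgroupOf_map_subtype, h0, Subgroup.map_bot]))
    ((Subgroup.map_eq_bot_iff_of_injective _ T.subtype_injective).1 hbot)

include hW in
theorem mem_normalizer_wAt {T D : Subgroup Ω} [Finite T] (i : ι) (hT : IsPGroup p T) {g : Ω}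
    (hg : g ∈ Subgroup.normalizer (T : Set Ω))
    (hD : ∀ x ∈ D, x ∈ T → g * x * g⁻¹ ∈ D) :
    g ∈ Subgroup.normalizer (wAt (W i) T D : Set Ω) := by
  have := finite_of_le (wAt_le (W i) T D)
  refine mem_normalizer_of_finite fun x hx => ?_
  obtain ⟨y, hy, rfl⟩ := hx
  have hmap : (D.subgroupOf T).map (conjAut hg).toMonoidHom = D.subgroupOf T := by
    refine Subgroup.eq_of_le_of_card_ge ?_
      (Nat.card_congr ((conjAut hg).subgroupMap (D.subgroupOf T)).toEquiv).le
    rintro _ ⟨z, hz, rfl⟩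
    exact hD z hz z.2
  have h1 := hW.natural i T T hT (conjAut hg) (D.subgroupOf T)
  rw [hmap] at h1
  exact ⟨conjAut hg y, h1.le ⟨y, hy, rfl⟩, rfl⟩

variable [Finite S] {F : FusionSystem S}

/-- Normalizers of subgroups normal in `S` but not in `F`. -/
theorem locP_of_not_normal (hS : IsPGroup p S) (hpr : AllProper p H F) (hF : F.IsSaturated p)
    (hfree : F.IsSectionFree p H) {U : Subgroup Ω} (hU : U ≤ S)
    (hn : S ≤ Subgroup.normalizer (U : Set Ω)) (hUn : ¬ F.IsNormal U) : LocP p false F U := by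
  have e : normalizerIn S U = S := le_antisymm (normalizerIn_le S U) fun g hg => ⟨hg, hn hg⟩
  have hfn : F.IsFullyNormalized U := ⟨hU, fun R _ => by
    rw [e]; exact Subgroup.card_le_of_le (normalizerIn_le S R)⟩
  have hN := normalizerSystem_spec F U hU
  let N := normalizerSystem F U hU
  have hNs : N.IsSaturated p := normalizerSystem_isSaturated hS hF hfn hN
  have hNfree : N.IsSectionFree p H := normalizer_sectionFree hS hF hfree hfn hN
  have hfree' : (recast N e).IsSectionFree p H := by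
    have gen : ∀ (T : Subgroup Ω) (E : FusionSystem T) (h : T = S), E.IsSectionFree p H →
        (recast E h).IsSectionFree p H := by
      rintro T E rfl h
      exact h
    exact gen _ N e hNfree
  have hsat' : (recast N e).IsSaturated p := by
    have gen : ∀ (T : Subgroup Ω) (E : FusionSystem T) (h : T = S), E.IsSaturated p →
        (recast E h).IsSaturated p := by
      rintro T E rfl h
      exact h
    exact gen _ N e hNs
  have hle : recast N e ≤ F := fun Y χ hχ => hχ.1
  have hne : recast N e ≠ F := by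
    intro heq
    refine hUn ⟨hU, fun Y χ hχ => ?_⟩
    have h1 : χ ∈ (recast N e).Hom Y := by rw [heq]; exact hχ
    exact h1.2.2.2
  intro P α hα
  exact hpr _ hle hne hsat' hfree' P α hα

include hW in
/-- The constrained case, through a model. -/
theorem autP_of_constrained (hS : IsPGroup p S) (hF : F.IsConstrained p)
    (hfree : F.IsSectionFree p H) {D : Subgroup Ω} (hD : F.StronglyClosed D) (hDne : D ≠ ⊥)
    (hloc : LocAll p c W F D) : AutP p F := by
  obtain ⟨L, _, ι', hL⟩ := exists_model hS hF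
  have : Finite L := hL.1
  have hi := hL.2.1.1
  obtain ⟨T, hT⟩ := hL.2.2.1
  have hK := isNormal_core F
  have hKS : normalizerIn S F.core = S := le_antisymm (normalizerIn_le S _) fun x hx =>
    ⟨hx, WeaklyClosed.le_normalizer (StronglyClosed.weaklyClosed (IsNormal.stronglyClosed hK)) hx⟩
  have hKn : F.IsFullyNormalized F.core := ⟨hK.1, fun R _ => by
    rw [hKS]
    exact Subgroup.card_le_of_le (normalizerIn_le S R)⟩
  have hnot : ¬ Involves H L := by
    have hN := normalizerSystem_spec F F.core hK.1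
    let N := normalizerSystem F F.core hK.1
    have hHom : ∀ (P : Subgroup Ω) (φ : P →* Ω), φ ∈ N.Hom P ↔ φ ∈ F.Hom P := by
      intro P φ
      refine ⟨fun h => h.1, fun h => ?_⟩
      obtain ⟨ψ, hψ, hψe, hψK⟩ := hK.2 P φ h
      exact ⟨h, hKS.symm ▸ source_le h, fun x => hKS.symm ▸ apply_mem h x, ψ, hψ, hψe, hψK⟩
    refine hfree F.core hKn (Model.core_centric hF) N hN L
      (ι'.comp (Subgroup.inclusion hKS.le)) ?_
    refine ⟨hL.1, ⟨hi.comp (Subgroup.inclusion_injective _), fun P hP φ hφ => ?_⟩, ?_,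
      hL.2.2.2⟩
    · rw [hHom]
      exact hL.2.1.2 P (hP.trans hKS.le) φ fun x => hKS.le (hφ x)
    · refine ⟨T, hT.trans ?_⟩
      ext y
      constructor
      · rintro ⟨s, rfl⟩
        exact ⟨⟨s, hKS.symm ▸ s.2⟩, rfl⟩
      · rintro ⟨s, rfl⟩
        exact ⟨_, rfl⟩
  have hLp : IsPGroup p L := by
    let DL := imageAlong ι' D
    have hDT : DL ≤ (T : Subgroup L) := (imageAlong_le_range ι' D).trans hT.ge
    have hDc : ∀ d ∈ DL, ∀ g : L, g * d * g⁻¹ ∈ (T : Subgroup L) → g * d * g⁻¹ ∈ DL := by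
      intro d hd g hgd
      obtain ⟨x, hxS, hxD, rfl⟩ := mem_imageAlong.1 hd
      obtain ⟨φ, hφ, hφe⟩ := IsRealizedBy.exists_hom hL.2.1
        (P := Subgroup.zpowers x) (Subgroup.zpowers_le.2 hxS) g (by
          rintro ⟨_, k, rfl⟩
          rw [← hT]
          show g * ι' ((⟨x, hxS⟩ : S) ^ k) * g⁻¹ ∈ (T : Subgroup L)
          rw [map_zpow, ← conj_zpow]
          exact zpow_mem hgd k)
      have h1 := hφe ⟨x, Subgroup.mem_zpowers x⟩
      rw [← h1]
      exact apply_mem_imageAlong ι' _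
        (StronglyClosed.map_mem hD hφ ⟨x, Subgroup.mem_zpowers x⟩ hxD)
    have hDLne : DL ≠ ⊥ := by
      intro hbot
      refine hDne ((Subgroup.eq_bot_iff_forall _).2 fun x hx => ?_)
      have h1 : ι' ⟨x, hD.1 hx⟩ ∈ DL := apply_mem_imageAlong ι' _ hx
      rw [hbot, Subgroup.mem_bot] at h1
      exact congrArg Subtype.val (hi (h1.trans (map_one ι').symm))
    refine hW.test L T DL hDT hDc hDLne hL.2.2.2 hnot fun i g hg => ?_
    let U := wAt (W i) S D
    have hUS : U ≤ S := wAt_le (W i) S D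
    have hnU : S ≤ Subgroup.normalizer (U : Set Ω) := fun s hs =>
      mem_normalizer_wAt hW i hS (Subgroup.le_normalizer hs)
        fun x hx _ => StronglyClosed.conj_mem_self hD hs hx
    let e : S ≃* ↥(T : Subgroup L) :=
      (MonoidHom.ofInjective hi).trans (MulEquiv.subgroupCongr hT.symm)
    have hDe : (D.subgroupOf S).map e.toMonoidHom = DL.subgroupOf (T : Subgroup L) := by
      ext y
      constructor
      · rintro ⟨x, hx, rfl⟩
        exact apply_mem_imageAlong ι' x hx
      · rintro ⟨x, hx, hxy⟩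
        exact ⟨x, hx, Subtype.ext hxy⟩
    have hTU : wAt (W i) (T : Subgroup L) DL = (W i ↥S (D.subgroupOf S)).map ι' := by
      rw [wAt, ← hDe, ← hW.natural i S _ hS e, Subgroup.map_map]
      rfl
    have hgN : g ∈ Subgroup.normalizer (((W i ↥S (D.subgroupOf S)).map ι' : Subgroup L) : Set L) := by
      rw [← hTU]
      cases hc : c i with
      | false => rw [hc] at hg; simpa using hg
      | true =>
        rw [hc] at hg
        have hg' : g ∈ Subgroup.centralizer (wAt (W i) (T : Subgroup L) DL : Set L) := by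
          simpa using hg
        exact Subgroup.centralizer_le_normalizer _ hg'
    let P' : Subgroup L := pCore p L ⊔ (W i ↥S (D.subgroupOf S)).map ι'
    have hP'r : P' ≤ ι'.range := by
      refine sup_le ?_ (Subgroup.map_le_range _ _)
      rw [← hT]
      exact Cores.pCore_le_sylow T
    let P : Subgroup Ω := preimageAlong ι' P'
    have hPS : P ≤ S := preimageAlong_le ι' P'
    have hmemP : ∀ x : S, (x : Ω) ∈ P ↔ ι' x ∈ P' := fun x => by
      constructor
      · rintro ⟨y, hy, hyx⟩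
        rwa [show x = y from Subtype.ext hyx.symm]
      · exact fun h => ⟨x, h, rfl⟩
    have hUP : U ≤ P := by
      rintro _ ⟨y, hy, rfl⟩
      exact (hmemP y).2 (Subgroup.mem_sup_right ⟨y, hy, rfl⟩)
    have hconjP : ∀ z ∈ P', g * z * g⁻¹ ∈ P' := by
      intro z hz
      have h1 : P'.map (MulAut.conj g).toMonoidHom ≤ P' := by
        rw [Subgroup.map_sup]
        refine sup_le (le_trans ?_ le_sup_left) (le_trans ?_ le_sup_right)
        · rintro _ ⟨a, ha, rfl⟩
          exact (Cfsg.pCore_normal p L).conj_mem a ha g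
        · rintro _ ⟨a, ha, rfl⟩
          exact (Subgroup.mem_normalizer_iff.1 hgN a).1 ha
      exact h1 ⟨z, hz, rfl⟩
    obtain ⟨φ, hφ, hφe⟩ := IsRealizedBy.exists_hom hL.2.1 hPS g fun x =>
      hP'r (hconjP _ ((hmemP ⟨x, hPS x.2⟩).1 x.2))
    have := finite_of_le hPS
    have hφP : ∀ x : P, φ x ∈ P := fun x => by
      refine (hmemP ⟨φ x, apply_mem hφ x⟩).2 ?_
      rw [hφe]
      exact hconjP _ ((hmemP ⟨x, hPS x.2⟩).1 x.2)
    have hr : φ.range = P := by
      refine Subgroup.eq_of_le_of_card_ge ?_ (card_range_eq (F.injective_of_mem hφ)).ge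
      rintro _ ⟨x, rfl⟩
      exact hφP x
    let α : MulAut P := isoOf φ (F.injective_of_mem hφ) hr
    have hle : P ⊔ U ≤ P := sup_le le_rfl hUP
    have hαloc : autHom α ∈ locHom (c i) F U P := by
      rw [autHom_isoOf]
      cases hc : c i with
      | false =>
        refine ⟨hφ, fun x hx => ⟨hPS hx, hnU (hPS hx)⟩,
          fun x => ⟨apply_mem hφ x, hnU (apply_mem hφ x)⟩, restr hle φ, restr_mem F hφ hle,
          fun x => rfl, ?_⟩
        show img (restr hle φ) U = U
        rw [img_restr hle φ le_sup_right]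
        have := finite_of_le hUS
        refine Subgroup.eq_of_le_of_card_ge ?_ (card_img (F.injective_of_mem hφ) hUP).ge
        intro y hy
        obtain ⟨x, hxP, hxU, rfl⟩ := mem_img.1 hy
        obtain ⟨x', hx', hxx⟩ := hxU
        subst hxx
        have h1 := (Subgroup.mem_normalizer_iff.1 hgN (ι' x')).1 ⟨x', hx', rfl⟩
        have h2 := hφe ⟨(x' : Ω), hxP⟩
        obtain ⟨z, hz, hze⟩ := h1
        have h3 : z = ⟨φ ⟨(x' : Ω), hxP⟩, apply_mem hφ _⟩ := hi (hze.trans h2.symm)
        exact ⟨z, hz, congrArg (fun s : S => (s : Ω)) h3⟩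
      | true =>
        have hcen : ∀ s ∈ S, s ∈ centralizerIn S U := fun s hs => by
          refine ⟨hs, ?_⟩
          rintro _ ⟨y, hy, rfl⟩
          exact congrArg Subtype.val
            ((Subgroup.mem_center_iff.1 (hW.central i hc S _ hS hy) ⟨s, hs⟩).symm)
        refine ⟨hφ, fun x hx => hcen x (hPS hx), fun x => hcen _ (apply_mem hφ x),
          restr hle φ, restr_mem F hφ hle, fun x => rfl, ?_⟩
        rintro ⟨_, x', hx', rfl⟩
        rw [hc] at hg
        have hg' : g ∈ Subgroup.centralizer (wAt (W i) (T : Subgroup L) DL : Set L) := by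
          simpa using hg
        rw [hTU] at hg'
        have h1 := hg' (ι' x') ⟨x', hx', rfl⟩
        have h2 := hφe ⟨(x' : Ω), hUP ⟨x', hx', rfl⟩⟩
        have h3 : g * ι' x' * g⁻¹ = ι' x' := by rw [← h1, mul_inv_cancel_right]
        exact congrArg Subtype.val (hi (h2.trans h3))
    obtain ⟨k, hk⟩ := hloc i P α hαloc
    have hcomm : g ^ p ^ k ∈ pCore p L := by
      refine hL.2.2.2 fun z hz => ?_
      obtain ⟨x, rfl⟩ := hP'r (Subgroup.mem_sup_left hz : z ∈ P')
      have hx : (x : Ω) ∈ P := (hmemP x).2 (Subgroup.mem_sup_left hz)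
      have h1 := pow_semiconj (α := α) (β := MulAut.conj g)
        (fun y : P => ι' ⟨y, hPS y.2⟩) (fun y => hφe y) (p ^ k) ⟨x, hx⟩
      rw [hk, ← map_pow] at h1
      simp only [MulAut.one_apply, MulAut.conj_apply] at h1
      exact (eq_mul_inv_iff_mul_eq.1 h1)
    obtain ⟨m, hm⟩ := (Cores.pCore_isPGroup p L) ⟨_, hcomm⟩
    refine ⟨k + m, ?_⟩
    rw [pow_add, pow_mul]
    exact congrArg Subtype.val hm
  intro P α hα
  obtain ⟨g, hg⟩ := IsRealizedBy.exists_conj hL.2.1 hα
  obtain ⟨k, hk⟩ := hLp g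
  refine ⟨k, MulEquiv.ext fun x => Subtype.ext ?_⟩
  have h1 := pow_semiconj (α := α) (β := MulAut.conj g)
    (fun y : P => ι' ⟨y, source_le hα y.2⟩) (fun y => hg y) (p ^ k) x
  rw [← map_pow, hk, map_one] at h1
  exact congrArg (fun s : S => (s : Ω)) (hi h1)

/-- The factor system by a normal subgroup satisfies the hypothesis. -/
theorem autP_factor (hW : IsNpcFamily p H c W) (hS : IsPGroup p S)
    (hsm : AllSmall p H c W (Nat.card S)) (hpr : AllProper p H F) (hF : F.IsSaturated p)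
    (hfree : F.IsSectionFree p H) {K : Subgroup Ω} (hK : F.StronglyClosed K) (hKne : K ≠ ⊥)
    (hlt : K < S) (hmax : F.core ≤ K) {Ω' : Type u} [Group Ω'] {θ : S →* Ω'}
    {E : FusionSystem (⊤ : Subgroup Ω')} (hE : F.IsFactorSystem K θ E) : AutP p E := by
  obtain ⟨hKS, hker, hr, hiff⟩ := id hE
  have hsurj : Function.Surjective θ := MonoidHom.range_eq_top.1 hr
  have : Finite Ω' := Finite.of_surjective θ hsurj
  have hS' : IsPGroup p (⊤ : Subgroup Ω') := (hS.of_surjective θ hsurj).to_subgroup ⊤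
  have hcard : Nat.card (⊤ : Subgroup Ω') < Nat.card S := by
    rw [Subgroup.card_top, ← Nat.card_congr (QuotientGroup.quotientKerEquivOfSurjective θ hsurj).toEquiv,
      show Nat.card (↥S ⧸ θ.ker) = θ.ker.index from rfl]
    have h1 := θ.ker.card_mul_index
    rw [← h1]
    refine lt_mul_of_one_lt_left (Nat.pos_of_ne_zero Subgroup.index_ne_zero_of_finite) ?_
    refine (Subgroup.one_lt_card_iff_ne_bot _).2 fun hbot => hKne ?_
    rw [eq_bot_iff]
    intro x hx
    have h2 : (⟨x, hKS hx⟩ : S) ∈ θ.ker := (hker _).2 hx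
    rw [hbot, Subgroup.mem_bot] at h2
    exact Subgroup.mem_bot.2 (congrArg Subtype.val h2)
  have htopne : (⊤ : Subgroup Ω') ≠ ⊥ := fun htop => hlt.ne (le_antisymm hKS fun x hx =>
    (hker ⟨x, hx⟩).1 (Subgroup.mem_bot.1 (htop ▸ Subgroup.mem_top (θ ⟨x, hx⟩))))
  refine hsm hcard hS' E (factor_isSaturated hS hF hK hE) (factor_sectionFree hS hF hfree hK hE)
    ⊤ (stronglyClosed_top E) htopne ?_
  intro i P' α hα
  let U' := wAt (W i) (⊤ : Subgroup Ω') ⊤
  have hU'ne : U' ≠ ⊥ := wAt_ne_bot hW i hS' le_rfl Subgroup.le_normalizer htopne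
  let U := preimageAlong θ U'
  have hUS : U ≤ S := preimageAlong_le θ U'
  have hmem : ∀ (X : Subgroup Ω') (x : S), (x : Ω) ∈ preimageAlong θ X ↔ θ x ∈ X := fun X x => by
    constructor
    · rintro ⟨y, hy, hyx⟩
      rwa [show x = y from Subtype.ext hyx.symm]
    · exact fun h => ⟨x, h, rfl⟩
  have hnU : S ≤ Subgroup.normalizer (U : Set Ω) := by
    intro g hg
    have := finite_of_le hUS
    refine mem_normalizer_of_finite fun x hx => ?_
    have h1 := (hmem U' ⟨x, hUS hx⟩).1 hx
    have h2 : θ ⟨g, hg⟩ ∈ Subgroup.normalizer (U' : Set Ω') :=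
      mem_normalizer_wAt hW i hS' (Subgroup.le_normalizer (Subgroup.mem_top _))
        fun _ _ _ => Subgroup.mem_top _
    refine (hmem U' (⟨g, hg⟩ * ⟨x, hUS hx⟩ * ⟨g, hg⟩⁻¹)).2 ?_
    rw [map_mul, map_mul, map_inv]
    exact (Subgroup.mem_normalizer_iff.1 h2 _).1 h1
  have hUn : ¬ F.IsNormal U := by
    intro hn
    apply hU'ne
    rw [eq_bot_iff]
    intro y hy
    obtain ⟨x, rfl⟩ := hsurj y
    exact Subgroup.mem_bot.2 ((hker x).2 (hmax (le_core hn ((hmem U' x).2 hy))))
  obtain ⟨β, hβ, hβe, hβU⟩ := exists_ext_aut (F := E) le_top (locHom_subset _ E _ P' hα)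
  refine PElt.of_injective _ (Subgroup.inclusion_injective _) hβe ?_
  obtain ⟨-, ρ, hρ, hY, hρS, hm, hρe⟩ := (hiff _ _).1 hβ.1
  let Y' := P' ⊔ U'
  let Y := preimageAlong θ Y'
  have := finite_of_le hY
  have hρY : ∀ x : Y, ρ x ∈ Y := fun x => by
    refine (hmem Y' ⟨ρ x, hρS x⟩).2 ?_
    rw [← hρe x]
    exact (β _).2
  have hρr : ρ.range = Y := by
    refine Subgroup.eq_of_le_of_card_ge ?_ (card_range_eq (F.injective_of_mem hρ)).ge
    rintro _ ⟨x, rfl⟩
    exact hρY x
  let γ : MulAut Y := isoOf ρ (F.injective_of_mem hρ) hρr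
  have hUY : U ≤ Y := by
    rintro _ ⟨y, hy, rfl⟩
    exact (hmem Y' y).2 (Subgroup.mem_sup_right hy)
  have hle : Y ⊔ U ≤ Y := sup_le le_rfl hUY
  have hγ : autHom γ ∈ locHom false F U Y := by
    rw [autHom_isoOf]
    refine ⟨hρ, fun x hx => ⟨hY hx, hnU (hY hx)⟩, fun x => ⟨hρS x, hnU (hρS x)⟩, restr hle ρ,
      restr_mem F hρ hle, fun x => rfl, ?_⟩
    show img (restr hle ρ) U = U
    rw [img_restr hle ρ le_sup_right]
    have := finite_of_le hUS
    refine Subgroup.eq_of_le_of_card_ge ?_ (card_img (F.injective_of_mem hρ) hUY).ge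
    intro y hy
    obtain ⟨x, hxY, hxU, rfl⟩ := mem_img.1 hy
    refine (hmem U' ⟨ρ ⟨x, hxY⟩, hρS _⟩).2 ?_
    rw [← hρe ⟨x, hxY⟩]
    exact hβU.le (apply_mem_img (autHom β) _ ((hmem U' ⟨x, hY hxY⟩).1 hxU))
  refine PElt.of_surjective (fun x : Y => (⟨θ ⟨x, hY x.2⟩, hm x⟩ : Y')) ?_ (fun x => ?_)
    (locP_of_not_normal hS hpr hF hfree hUS hnU hUn Y γ hγ)
  · rintro ⟨y, hy⟩
    obtain ⟨x, rfl⟩ := hsurj y
    exact ⟨⟨x, (hmem Y' x).2 hy⟩, rfl⟩
  · exact Subtype.ext (hρe x).symm

include hW in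
/-- The case of a nontrivial core. -/
theorem autP_of_core (hS : IsPGroup p S) (hsm : AllSmall p H c W (Nat.card S))
    (hpr : AllProper p H F) (hF : F.IsSaturated p) (hfree : F.IsSectionFree p H)
    (hcon : F.IsConstrained p → AutP p F) (hne : F.core ≠ ⊥) : AutP p F := by
  let K := F.core
  have hK := isNormal_core F
  have hKS : K ≤ S := hK.1
  have hKsc := IsNormal.stronglyClosed hK
  have hKwc := StronglyClosed.weaklyClosed hKsc
  have := finite_of_le hKS
  have hnK : S ≤ Subgroup.normalizer (K : Set Ω) := WeaklyClosed.le_normalizer hKwc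
  have hKfn : F.IsFullyNormalized K := ⟨hKS, fun R hR => by
    obtain ⟨φ, hφ, rfl⟩ := hR
    rw [hKwc.2 φ hφ]⟩
  have hKfc := IsSaturated.fullyCentralized hS hF hKfn
  by_cases hcc : centralizerIn S K ≤ K
  · exact hcon ⟨hF, K, hK, isCentric_of_fullyCentralized hKfc hcc⟩
  let T := K ⊔ centralizerIn S K
  have hTsc : F.StronglyClosed T := stronglyClosed_mul_centralizer hS hF hKsc
  have hTS : T ≤ S := hTsc.1
  have hTwc := StronglyClosed.weaklyClosed hTsc
  have hTloc : LocP p false F T := locP_of_not_normal hS hpr hF hfree hTS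
    (WeaklyClosed.le_normalizer hTwc) fun h => hcc (le_sup_right.trans (le_core h))
  -- automorphisms of the core
  have hKaut : ∀ δ : MulAut K, autHom δ ∈ F.Hom K → PElt p δ := by
    intro δ hδ
    obtain ⟨χ, hχ, hχe, -⟩ := IsReceptive.extend (IsSaturated.receptive hS hF hKfc) hδ
      (range_autHom δ)
    have hKE : K ≤ extender S K (autHom δ) := le_extender hKS (apply_mem hδ)
    have hTE : T ≤ extender S K (autHom δ) := sup_le hKE (centralizerIn_le_extender _)
    have hχT := restr_mem F hχ hTE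
    let γ : MulAut T := isoOf (restr hTE χ) (F.injective_of_mem hχT) (hTwc.2 _ hχT)
    refine PElt.of_injective (Subgroup.inclusion (le_sup_left : K ≤ T))
      (Subgroup.inclusion_injective _) (fun x => Subtype.ext ?_)
      (hTloc T γ (autHom_mem_normalizerHom (by rw [autHom_isoOf]; exact hχT)))
    exact (hχe x x.2 (hKE x.2)).symm
  have hlt : K < S := lt_of_le_of_ne hKS fun e => hcc ((centralizerIn_le S K).trans e.ge)
  have := subgroupOf_normal hKsc
  let θ : S →* ↥S ⧸ K.subgroupOf S := QuotientGroup.mk' _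
  have hker : ∀ s : S, θ s = 1 ↔ (s : Ω) ∈ K := fun s => QuotientGroup.eq_one_iff s
  have hr : θ.range = (⊤ : Subgroup (↥S ⧸ K.subgroupOf S)) :=
    MonoidHom.range_eq_top.2 (QuotientGroup.mk'_surjective _)
  have hE := factorSystem_spec hKsc hker hr
  have hEP := autP_factor hW hS hsm hpr hF hfree hKsc hne hlt le_rfl hE
  have hmor := (isSurjectiveMorphism_factor hS hF hKsc hE).1
  intro P α hα
  obtain ⟨ψ, hψ, hψe, hψK⟩ := hK.2 P _ hα
  have hαN : autHom α ∈ F.normalizerHom K P :=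
    ⟨hα, fun x hx => ⟨source_le hα hx, hnK (source_le hα hx)⟩,
      fun x => ⟨apply_mem hα x, hnK (apply_mem hα x)⟩, ψ, hψ, hψe, hψK⟩
  obtain ⟨β, hβ, hβe, hβK⟩ := exists_ext_aut hKS hαN
  refine PElt.of_injective _ (Subgroup.inclusion_injective _) hβe ?_
  let Y := P ⊔ K
  have hYS : Y ≤ S := source_le hβ.1
  -- on the core
  have hKY : K ≤ Y := le_sup_right
  have hb := restr_mem F hβ.1 hKY
  have hbr : (restr hKY (autHom β)).range = K := (range_restr _ _).trans hβK
  let δ : MulAut K := isoOf (restr hKY (autHom β)) (F.injective_of_mem hb) hbr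
  obtain ⟨k₁, hk₁⟩ := hKaut δ (by rw [autHom_isoOf]; exact hb)
  have hδ : ∀ x : K, Subgroup.inclusion hKY (δ x) = β (Subgroup.inclusion hKY x) :=
    fun x => Subtype.ext rfl
  -- modulo the core
  obtain ⟨φ', hφ', hYS', hβS, hmY, hind⟩ := hmor.2 Y (autHom β) hβ.1
  let Y' := imageAlong θ Y
  let q : Y → Y' := fun x => ⟨θ ⟨x, hYS' x.2⟩, hmY x⟩
  have hq : Function.Surjective q := by
    rintro ⟨_, ⟨z, hz, rfl⟩⟩
    exact ⟨⟨z, hz⟩, rfl⟩
  have hφ'r : φ'.range = Y' := by
    refine le_antisymm ?_ ?_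
    · rintro _ ⟨y, rfl⟩
      obtain ⟨x, rfl⟩ := hq y
      rw [show φ' (q x) = _ from hind x]
      exact hmY (β x)
    · intro y hy
      obtain ⟨x, hx⟩ := hq ⟨y, hy⟩
      refine ⟨q (β.symm x), (hind _).trans ?_⟩
      simp only [autHom_apply, MulEquiv.apply_symm_apply]
      exact congrArg Subtype.val hx
  let ε : MulAut Y' := isoOf φ' (FusionSystem.injective_of_mem _ hφ') hφ'r
  obtain ⟨k₂, hk₂⟩ := hEP Y' ε (by rw [autHom_isoOf]; exact hφ')
  have hε : ∀ x, q (β x) = ε (q x) := fun x => Subtype.ext (hind x).symm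
  let b := β ^ p ^ (k₁ + k₂)
  have hδ1 : δ ^ p ^ (k₁ + k₂) = 1 := by rw [pow_add, pow_mul, hk₁, one_pow]
  have hε1 : ε ^ p ^ (k₁ + k₂) = 1 := by rw [add_comm, pow_add, pow_mul, hk₂, one_pow]
  have hb1 : ∀ x : Y, (x : Ω) ∈ K → b x = x := by
    intro x hx
    have h1 := pow_semiconj (Subgroup.inclusion hKY) hδ (p ^ (k₁ + k₂)) ⟨x, hx⟩
    rw [hδ1] at h1
    exact h1.symm
  have hb2 : ∀ x : Y, ((x⁻¹ * b x : Y) : Ω) ∈ K := by
    intro x
    have h1 := pow_semiconj q hε (p ^ (k₁ + k₂)) x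
    rw [hε1] at h1
    have h2 : θ ⟨(b x : Y), hYS' (b x).2⟩ = θ ⟨x, hYS' x.2⟩ := by
      have := congrArg Subtype.val h1
      simpa [q, b] using this
    refine (hker ⟨_, hYS' (x⁻¹ * b x).2⟩).1 ?_
    rw [show (⟨((x⁻¹ * b x : Y) : Ω), hYS' (x⁻¹ * b x).2⟩ : S) =
      ⟨x, hYS' x.2⟩⁻¹ * ⟨(b x : Y), hYS' (b x).2⟩ from rfl, map_mul, map_inv, h2, inv_mul_cancel]
  have hbn : ∀ (n : ℕ) (x : Y), (b ^ n) x = x * (x⁻¹ * b x) ^ n := by
    intro n x
    induction n with
    | zero => simp
    | succ n ih =>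
      rw [pow_succ' b, MulAut.mul_apply, ih, map_mul, map_pow, hb1 _ (hb2 x),
        pow_succ' (x⁻¹ * b x), ← mul_assoc x, mul_inv_cancel_left]
  obtain ⟨m, hm⟩ := IsPGroup.iff_card.1 (hS.to_le hKS)
  refine ⟨k₁ + k₂ + m, MulEquiv.ext fun x => ?_⟩
  rw [pow_add, pow_mul, hbn, ← hm]
  have h1 : ((x⁻¹ * b x) ^ Nat.card K : Y) = 1 := by
    have h2 : (⟨_, hb2 x⟩ : K) ^ Nat.card K = 1 := pow_card_eq_one'
    refine Subtype.ext ?_
    have h3 := congrArg (fun s : K => (s : Ω)) h2
    simp only [SubmonoidClass.coe_pow, OneMemClass.coe_one] at h3 ⊢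
    exact h3
  rw [h1, mul_one]
  rfl

include hW in
/-- The climb, when the core is trivial. -/
theorem locP_climb (hS : IsPGroup p S) (hsm : AllSmall p H c W (Nat.card S))
    (hpr : AllProper p H F) (hF : F.IsSaturated p) (hfree : F.IsSectionFree p H)
    {D : Subgroup Ω} (hD : F.StronglyClosed D) (hDne : D ≠ ⊥)
    (hcore : F.core = ⊥) {V : Subgroup Ω} (hV : F.IsFullyNormalized V) (hVne : V ≠ ⊥) :
    LocP p false F V := by
  suffices key : ∀ m, ∀ V : Subgroup Ω, F.IsFullyNormalized V → V ≠ ⊥ →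
      Nat.card S ≤ Nat.card (normalizerIn S V) + m → LocP p false F V from
    key (Nat.card S) V hV hVne (Nat.le_add_left _ _)
  intro m
  induction m using Nat.strong_induction_on with
  | _ m IH =>
    intro V hV hVne hm
    rcases (normalizerIn_le S V).eq_or_lt with e | hlt
    · exact locP_of_not_normal hS hpr hF hfree hV.1
        (fun g hg => (e.ge hg : g ∈ normalizerIn S V).2)
        fun h => hVne (le_bot_iff.1 (hcore ▸ le_core h))
    let T := normalizerIn S V
    have hTS : T ≤ S := normalizerIn_le S V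
    have := finite_of_le hTS
    have hTp : IsPGroup p T := hS.to_le hTS
    have hN := normalizerSystem_spec F V hV.1
    let N := normalizerSystem F V hV.1
    have hcardT : Nat.card T < Nat.card S := by
      by_contra hge
      exact hlt.ne (Subgroup.eq_of_le_of_card_ge hTS (not_lt.1 hge))
    suffices hNA : AutP p N from fun P α hα => hNA P α hα
    have hDT : D ⊓ T ≠ ⊥ := by
      intro hbot
      have hDn := subgroupOf_normal hD
      obtain ⟨z, hz, hzD, hz1⟩ : ∃ z : S, z ∈ Subgroup.center S ∧ (z : Ω) ∈ D ∧ z ≠ 1 := by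
        have hDS : D.subgroupOf S ≠ ⊥ := fun h0 => hDne (by
          rw [← inf_eq_left.2 hD.1, ← Subgroup.subgroupOf_map_subtype, h0, Subgroup.map_bot])
        have := hS.isNilpotent
        obtain ⟨z, ⟨hz, hzc⟩, hz1⟩ : ∃ z ∈ D.subgroupOf S ⊓ Subgroup.center S, z ≠ 1 := by
          by_contra hcon
          push Not at hcon
          exact Solvable.inf_center_ne_bot hDS ((Subgroup.eq_bot_iff_forall _).2 hcon)
        exact ⟨z, hzc, hz, hz1⟩
      refine hz1 (Subtype.ext ?_)
      refine Subgroup.mem_bot.1 (hbot.le ⟨hzD, z.2, ?_⟩)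
      refine Subgroup.centralizer_le_normalizer _ fun v hv => ?_
      exact congrArg Subtype.val (Subgroup.mem_center_iff.1 hz ⟨v, hV.1 hv⟩)
    refine hsm hcardT hTp N (normalizerSystem_isSaturated hS hF hV hN)
      (normalizer_sectionFree hS hF hfree hV hN) (D ⊓ T)
      (stronglyClosed_of_subsystem (E := N) (fun P φ (h : φ ∈ F.normalizerHom V P) => h.1) hD) hDT fun i P α hα => ?_
    let V₁ := wAt (W i) T (D ⊓ T)
    have hV₁T : V₁ ≤ T := wAt_le (W i) T _
    have hV₁S : V₁ ≤ S := hV₁T.trans hTS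
    obtain ⟨β, hβ, hβe, hβV⟩ := exists_ext_aut (F := N) hV₁T (locHom_subset _ N _ P hα)
    refine PElt.of_injective _ (Subgroup.inclusion_injective _) hβe ?_
    let R := normalizerIn S V₁
    have hgrow : Nat.card T < Nat.card R := by
      have h1 : normalizerIn S T ≤ R :=
        fun g hg => ⟨hg.1, mem_normalizer_wAt hW i hTp hg.2 fun x hx hxT =>
          ⟨StronglyClosed.conj_mem_self hD hg.1 hx.1, conj_mem_of_mem_normalizer hg.2 hxT⟩⟩
      have := finite_of_le (normalizerIn_le S V₁)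
      have := finite_of_le (normalizerIn_le S T)
      refine lt_of_lt_of_le ?_ (Subgroup.card_le_of_le h1)
      by_contra hge
      exact (lt_normalizerIn hS hlt).ne
        (Subgroup.eq_of_le_of_card_ge (le_normalizerIn hTS) (not_lt.1 hge))
    obtain ⟨V₂, hVV', hV₂⟩ := exists_fullyNormalized F hV₁S
    obtain ⟨b, hb, hbv, hbV⟩ := IsSaturated.exists_normalizer_map hS hF hV₂ hVV'
    have hge : Nat.card R ≤ Nat.card (normalizerIn S V₂) := by
      have := finite_of_le (normalizerIn_le S V₂)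
      exact Nat.card_le_card_of_injective (fun z => (⟨b z, hbv z⟩ : normalizerIn S V₂))
        fun a b' h => F.injective_of_mem hb (congrArg Subtype.val h)
    have hV₂ne : V₂ ≠ ⊥ := by
      intro h
      have h1 := isConj_card hVV'
      rw [h, Subgroup.card_bot] at h1
      have := finite_of_le hV₁S
      refine wAt_ne_bot hW i hTp inf_le_right (fun g hg => ?_) hDT ((Subgroup.card_eq_one).1 h1)
      have := finite_of_le ((inf_le_right : D ⊓ T ≤ T).trans hTS)
      exact mem_normalizer_of_finite fun x hx =>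
        ⟨StronglyClosed.conj_mem_self hD (hTS hg) hx.1, T.mul_mem (T.mul_mem hg hx.2) (T.inv_mem hg)⟩
    have h2 : Nat.card (normalizerIn S V₂) ≤ Nat.card S :=
      Subgroup.card_le_of_le (normalizerIn_le S V₂)
    have hTV : Nat.card T = Nat.card (normalizerIn S V) := rfl
    have hloc₂ := IH (m - 1) (by omega) V₂ hV₂ hV₂ne (by omega)
    let Y := P ⊔ V₁
    have hYR : Y ≤ R := fun g hg => ⟨hTS (hβ.2.1 hg).1, (hβ.2.1 hg).2⟩
    have hbY := restr_mem F hb hYR
    let f := isoOf (restr hYR b) (F.injective_of_mem hbY) rfl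
    let γ := MulAut.congr f β
    have hγF : autHom γ ∈ F.Hom _ := autHom_mem F (range_le hbY)
      (exists_mulAut_congr F hbY rfl (mem_autGroup_of_hom F (hβ.1.1 : autHom β ∈ F.Hom Y)))
    have hV₂Y : V₂ ≤ (restr hYR b).range := by
      rw [range_restr, ← hbV]
      exact img_mono b le_sup_right
    refine PElt.of_injective f f.injective (fun y => ?_) (hloc₂ _ γ ?_)
    · show f (β y) = f (β (f.symm (f y)))
      rw [f.symm_apply_apply]
    have hle : (restr hYR b).range ⊔ V₂ ≤ (restr hYR b).range := sup_le le_rfl hV₂Y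
    refine ⟨hγF, ?_, fun y => ?_, restr hle (autHom γ), restr_mem F hγF hle, fun y => rfl, ?_⟩
    · rintro _ ⟨y, rfl⟩
      exact hbv _
    · obtain ⟨y', hy'⟩ := (γ y).2
      rw [autHom_apply, ← hy']
      exact hbv _
    show img (restr hle (autHom γ)) V₂ = V₂
    rw [img_restr hle _ le_sup_right]
    have := finite_of_le hV₂.1
    refine Subgroup.eq_of_le_of_card_ge ?_ (card_img (F.injective_of_mem hγF) hV₂Y).ge
    intro z hz
    obtain ⟨y, hyY, hyV, rfl⟩ := mem_img.1 hz
    obtain ⟨w, hw, hwV, hwz⟩ := mem_img.1 (hbV.ge hyV)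
    subst hwz
    have hwY : w ∈ Y := Subgroup.mem_sup_right hwV
    have hfy : f ⟨w, hwY⟩ = ⟨b ⟨w, hw⟩, hyY⟩ := Subtype.ext rfl
    rw [autHom_apply, ← hfy, show γ (f ⟨w, hwY⟩) = f (β ⟨w, hwY⟩) by
      show f (β (f.symm (f ⟨w, hwY⟩))) = _
      rw [f.symm_apply_apply]]
    exact hbV.le (apply_mem_img b ⟨_, hYR (β ⟨w, hwY⟩).2⟩
      (hβV.le (apply_mem_img (autHom β) ⟨w, hwY⟩ hwV)))

include hW in
/-- The step of the induction. -/
theorem autP_step (hS : IsPGroup p S) (hsm : AllSmall p H c W (Nat.card S))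
    (hpr : AllProper p H F) (hF : F.IsSaturated p) (hfree : F.IsSectionFree p H)
    {D : Subgroup Ω} (hD : F.StronglyClosed D) (hDne : D ≠ ⊥)
    (hloc : LocAll p c W F D) : AutP p F := by
  by_cases hcore : F.core = ⊥
  · intro P α hα
    by_cases hPne : P = ⊥
    · subst hPne
      exact ⟨0, MulEquiv.ext fun x => Subsingleton.elim _ _⟩
    obtain ⟨Q, hPQ, hQ⟩ := exists_fullyNormalized F (source_le hα)
    obtain ⟨φ, hφ, hφQ⟩ := id hPQ
    have hQne : Q ≠ ⊥ := by
      intro h
      have h1 := isConj_card hPQ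
      rw [h, Subgroup.card_bot] at h1
      exact hPne (Subgroup.card_eq_one.1 h1)
    let f := isoOf φ (F.injective_of_mem hφ) hφQ
    refine PElt.of_injective f f.injective (fun y => ?_)
      (locP_climb hW hS hsm hpr hF hfree hD hDne hcore hQ hQne Q (MulAut.congr f α)
        (autHom_mem_normalizerHom (autHom_mem F hQ.1
          (exists_mulAut_congr F hφ hφQ (mem_autGroup_of_hom F hα)))))
    show f (α y) = f (α (f.symm (f y)))
    rw [f.symm_apply_apply]
  · exact autP_of_core hW hS hsm hpr hF hfree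
      (fun hc => autP_of_constrained hW hS hc hfree hD hDne hloc) hcore

include hW in
/-- The criterion holds for all systems. -/
theorem allSmall : ∀ n, AllSmall p H c W n := by
  intro n
  induction n with
  | zero =>
    intro Ω _ S _ h
    exact absurd h (Nat.not_lt_zero _)
  | succ n ihn =>
    intro Ω _ S _ hn hS F hF hfree D hD hDne hloc
    have hsm : AllSmall p H c W (Nat.card S) := fun {Ω'} _ {S'} _ hlt =>
      ihn (lt_of_lt_of_le hlt (Nat.lt_succ_iff.1 hn))
    have hfin : ∀ E : FusionSystem S,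
        {x : Σ P : Subgroup Ω, (P →* Ω) | x.2 ∈ E.Hom x.1}.Finite := by
      intro E
      have hsub := finite_subgroups_le (S := S)
      have : Finite {P : Subgroup Ω | P ≤ S} := hsub.to_subtype
      have : ∀ P : {P : Subgroup Ω | P ≤ S}, Finite (↥(P : Subgroup Ω) →* ↥S) := fun P => by
        have := finite_of_le P.2
        exact Finite.of_injective (fun f => (f : ↥(P : Subgroup Ω) → ↥S)) DFunLike.coe_injective
      let f : (Σ P : {P : Subgroup Ω | P ≤ S}, (↥(P : Subgroup Ω) →* ↥S)) →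
          Σ P : Subgroup Ω, (P →* Ω) := fun x => ⟨x.1.1, S.subtype.comp x.2⟩
      refine (Set.finite_range f).subset ?_
      rintro ⟨P, φ⟩ hφ
      exact ⟨⟨⟨P, source_le (F := E) hφ⟩, φ.codRestrict S (apply_mem (F := E) hφ)⟩, rfl⟩
    let count : FusionSystem S → ℕ := fun E =>
      Nat.card {x : Σ P : Subgroup Ω, (P →* Ω) | x.2 ∈ E.Hom x.1}
    suffices key : ∀ m, ∀ E : FusionSystem S, count E = m → E.IsSaturated p →
        E.IsSectionFree p H → E.StronglyClosed D → LocAll p c W E D → AutP p E from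
      key _ F rfl hF hfree hD hloc
    intro m
    induction m using Nat.strong_induction_on with
    | _ m IH =>
      intro E hEm hE hEfree hED hEloc
      refine autP_step hW hS hsm ?_ hE hEfree hED hDne hEloc
      intro E' hle hne hE' hEfree'
      refine IH (count E') ?_ E' rfl hE' hEfree' ⟨hED.1, fun R hR φ hφ => hED.2 R hR φ (hle R hφ)⟩
        fun i P α hα => hEloc i P α (locHom_mono hle _ _ _ hα)
      rw [← hEm]
      show Nat.card ↥{x : Σ P : Subgroup Ω, (P →* Ω) | x.2 ∈ E'.Hom x.1} <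
        Nat.card ↥{x : Σ P : Subgroup Ω, (P →* Ω) | x.2 ∈ E.Hom x.1}
      rw [Nat.card_coe_set_eq, Nat.card_coe_set_eq]
      refine Set.ncard_lt_ncard ?_ (hfin E)
      refine ⟨fun x hx => hle x.1 hx, fun hsub => hne (le_antisymm_hom hle fun P φ hφ => ?_)⟩
      exact hsub (a := ⟨P, φ⟩) hφ

include hW in
/-- The main criterion. -/
theorem eq_inner_of_locAll (hS : IsPGroup p S) (hF : F.IsSaturated p)
    (hfree : F.IsSectionFree p H) {D : Subgroup Ω} (hD : F.StronglyClosed D) (hDne : D ≠ ⊥)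
    (hloc : LocAll p c W F D) : ∀ P : Subgroup Ω, F.Hom P = (innerFusionSystem S).Hom P :=
  eq_inner_of_autP hS hF
    (allSmall hW (Nat.card S + 1) (Nat.lt_succ_self _) hS F hF hfree D hD hDne hloc)

/-- Induction on the subsystems over the same group. -/
theorem subsystem_ind (motive : FusionSystem S → Prop)
    (step : ∀ E : FusionSystem S, (∀ E' : FusionSystem S, E' ≤ E → E' ≠ E → motive E') → motive E)
    (F : FusionSystem S) : motive F := by
  have hfin : ∀ E : FusionSystem S,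
      {x : Σ P : Subgroup Ω, (P →* Ω) | x.2 ∈ E.Hom x.1}.Finite := by
    intro E
    have hsub := finite_subgroups_le (S := S)
    have : Finite {P : Subgroup Ω | P ≤ S} := hsub.to_subtype
    have : ∀ P : {P : Subgroup Ω | P ≤ S}, Finite (↥(P : Subgroup Ω) →* ↥S) := fun P => by
      have := finite_of_le P.2
      exact Finite.of_injective (fun f => (f : ↥(P : Subgroup Ω) → ↥S)) DFunLike.coe_injective
    let f : (Σ P : {P : Subgroup Ω | P ≤ S}, (↥(P : Subgroup Ω) →* ↥S)) →
        Σ P : Subgroup Ω, (P →* Ω) := fun x => ⟨x.1.1, S.subtype.comp x.2⟩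
    refine (Set.finite_range f).subset ?_
    rintro ⟨P, φ⟩ hφ
    exact ⟨⟨⟨P, source_le (F := E) hφ⟩, φ.codRestrict S (apply_mem (F := E) hφ)⟩, rfl⟩
  suffices key : ∀ m, ∀ E : FusionSystem S,
      Set.ncard {x : Σ P : Subgroup Ω, (P →* Ω) | x.2 ∈ E.Hom x.1} = m → motive E from
    key _ F rfl
  intro m
  induction m using Nat.strong_induction_on with
  | _ m IH =>
    intro E hEm
    refine step E fun E' hle hne => IH _ ?_ E' rfl
    rw [← hEm]
    refine Set.ncard_lt_ncard ?_ (hfin E)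
    refine ⟨fun x hx => hle x.1 hx, fun hsub => hne (le_antisymm_hom hle fun P φ hφ => ?_)⟩
    exact hsub (a := ⟨P, φ⟩) hφ

end Cfsg.Agent.Lib.PLocal.FusionNpc
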