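import Cfsg.Agent.Lib.PLocal.JWeakClosure
import Cfsg.Agent.Lib.PLocal.FusionNpc
import Cfsg.Agent.Lib.Fusion.SectionFree
import Cfsg.Agent.Lib.Fusion.CenterFactor
import Cfsg.Agent.Lib.Fusion.ThompsonLocal
import Cfsg.Agent.Lib.Fusion.NormalizerFacts

/-!
Glauberman's theorem on the centre of a saturated fusion system: an element of the centre of `S` fixed
by the normalizer of the abelian Thompson subgroup is fixed by every map, for odd primes, for `p`th
powers of central elements, and for systems free of `S₄`.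
-/

set_option autoImplicit false
set_option linter.unusedSectionVars false

namespace Cfsg.Agent.Lib.PLocal.FusionCenter

open Cfsg Cfsg.FusionSystem Cfsg.Agent.Lib.Fusion

universe u

variable {p : ℕ} [Fact p.Prime] {Ω : Type u} [Group Ω] {S : Subgroup Ω}

/-- The map fixes `x` as soon as it is defined there. -/
def FixesAt (x : Ω) {P : Subgroup Ω} (φ : P →* Ω) : Prop := ∀ h : x ∈ P, φ ⟨x, h⟩ = x

theorem autHom_isoOf' {P : Subgroup Ω} (φ : P →* Ω) (hi : Function.Injective φ)
    (hr : φ.range = P) : autHom (isoOf φ hi hr) = φ := by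
  ext y
  rfl

/-- The normalizer of a subgroup normalizes its Thompson subgroup. -/
theorem normalizer_le_thompsonAOf (T : Subgroup Ω) :
    Subgroup.normalizer (T : Set Ω) ≤
      Subgroup.normalizer ((Cfsg.thompsonSubgroupAOf T : Subgroup Ω) : Set Ω) := by
  intro g hg
  rw [Subgroup.mem_normalizer_iff_map_conj_eq,
    map_thompsonSubgroupAOf _ (MulAut.conj g).injective,
    Subgroup.mem_normalizer_iff_map_conj_eq.mp hg]

theorem mem_thompsonAOf_of_central {T : Subgroup Ω} [Finite T] {x : Ω} (hx : x ∈ T)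
    (hc : ∀ t ∈ T, t * x = x * t) : x ∈ Cfsg.thompsonSubgroupAOf T :=
  ⟨⟨x, hx⟩, center_le_thompsonA (Subgroup.mem_center_iff.2 fun t => Subtype.ext (hc t t.2)), rfl⟩

theorem thompsonAOf_range {G : Type*} [Group G] {T : Subgroup Ω} (ι : T →* G)
    (hi : Function.Injective ι) :
    Cfsg.thompsonSubgroupAOf ι.range = (Cfsg.thompsonSubgroupA T).map ι := by
  rw [Cfsg.thompsonSubgroupAOf, ← map_thompsonSubgroupA (MonoidHom.ofInjective hi), Subgroup.map_map]
  rfl

variable [Finite S] {F : FusionSystem S}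

set_option maxHeartbeats 1000000 in
/-- All maps fix `x`, by induction from the top. -/
theorem fixesAt_of_thompson (hS : IsPGroup p S) (hF : F.IsSaturated p) {x : Ω} (hxS : x ∈ S)
    (hxc : ∀ s ∈ S, s * x = x * s)
    (hN : ∀ (P : Subgroup Ω) (φ : P →* Ω),
      φ ∈ F.normalizerHom (Cfsg.thompsonSubgroupAOf S) P → FixesAt x φ)
    (hcase : p ≠ 2 ∨ (∃ z ∈ S, (∀ s ∈ S, s * z = z * s) ∧ z ^ p = x) ∨
      F.IsSectionFree p (Equiv.Perm (Fin 4)))
    {P : Subgroup Ω} {φ : P →* Ω} (hφ : φ ∈ F.Hom P) : FixesAt x φ := by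
  have hxN : ∀ B : Subgroup Ω, B ≤ S → x ∈ normalizerIn S B := fun B h =>
    ⟨hxS, Subgroup.centralizer_le_normalizer _
      (Subgroup.mem_centralizer_iff.2 fun b hb => hxc b (h hb))⟩
  suffices key : ∀ m,
      (∀ (B : Subgroup Ω) (ψ : B →* Ω), ψ ∈ F.Hom B → Nat.card S ≤ Nat.card B + m → FixesAt x ψ) ∧
      (∀ U : Subgroup Ω, F.IsFullyNormalized U → Nat.card S ≤ Nat.card (normalizerIn S U) + m →
        ∀ α ∈ F.autGroup U, ∀ h : x ∈ U, (α ⟨x, h⟩ : Ω) = x) from
    (key (Nat.card S)).1 P φ hφ (Nat.le_add_left _ _)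
  intro m
  induction m using Nat.strong_induction_on with
  | _ m IH =>
  -- maps with large source
  have h2 : ∀ (B : Subgroup Ω) (ψ : B →* Ω), ψ ∈ F.Hom B → Nat.card S ≤ Nat.card B + m →
      FixesAt x ψ := by
    intro B ψ hψ hm hxB
    have hBS := source_le hψ
    have := finite_of_le hBS
    rcases hBS.eq_or_lt with rfl | hlt
    · -- the whole group
      refine hN B ψ ⟨hψ, ?_, ?_, ?_⟩ hxB
      · exact fun g hg => ⟨hg, normalizer_le_thompsonAOf B (Subgroup.le_normalizer hg)⟩
      · exact fun y => ⟨apply_mem hψ y, normalizer_le_thompsonAOf B (Subgroup.le_normalizer (apply_mem hψ y))⟩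
      · have hJB : Cfsg.thompsonSubgroupAOf B ≤ B := Subgroup.map_subtype_le _
        refine ⟨restr (sup_le le_rfl hJB) ψ, restr_mem F hψ _, fun y => rfl, ?_⟩
        show img (restr (sup_le le_rfl hJB) ψ) (Cfsg.thompsonSubgroupAOf B) = _
        rw [img_restr (sup_le le_rfl hJB) ψ le_sup_right]
        have hr : ψ.range = B := by
          refine Subgroup.eq_of_le_of_card_ge (range_le hψ) ?_
          rw [card_range_eq (F.injective_of_mem hψ)]
        conv_rhs => rw [← hr, thompsonAOf_range ψ (F.injective_of_mem hψ)]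
        exact congrArg (Subgroup.map ψ)
          (Subgroup.comap_map_eq_self_of_injective B.subtype_injective (Cfsg.thompsonSubgroupA B))
    · have hBN : B ≤ normalizerIn S B := le_normalizerIn hBS
      obtain ⟨U, hBU, hU⟩ := exists_fullyNormalized F hBS
      have hB'U : F.IsConj ψ.range U := isConj_trans (isConj_symm ⟨ψ, hψ, rfl⟩) hBU
      have hB'S : ψ.range ≤ S := range_le hψ
      have hlt' : ψ.range < S := by
        refine lt_of_le_of_ne hB'S fun h => hlt.ne ?_
        refine Subgroup.eq_of_le_of_card_ge hBS ?_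
        rw [← card_range_eq (F.injective_of_mem hψ), h]
      have hgrow : ∀ C : Subgroup Ω, C < S → Nat.card C < Nat.card (normalizerIn S C) := by
        intro C hC
        have := finite_of_le hC.le
        have := finite_of_le (normalizerIn_le S C)
        by_contra hge
        exact (lt_normalizerIn hS hC).ne
          (Subgroup.eq_of_le_of_card_ge (le_normalizerIn hC.le) (not_lt.1 hge))
      have g1 := hgrow B hlt
      have g2 : Nat.card B < Nat.card (normalizerIn S ψ.range) := by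
        rw [← card_range_eq (F.injective_of_mem hψ)]; exact hgrow _ hlt'
      have hm0 : Nat.card B < Nat.card S :=
        lt_of_lt_of_le g1 (Subgroup.card_le_of_le (normalizerIn_le S B))
      obtain ⟨a, ha, -, haU⟩ := IsSaturated.exists_normalizer_map hS hF hU hBU
      obtain ⟨b, hb, -, hbU⟩ := IsSaturated.exists_normalizer_map hS hF hU hB'U
      have hax := (IH (m - 1) (by omega)).1 _ a ha (by omega) (hxN B hBS)
      have hbx := (IH (m - 1) (by omega)).1 _ b hb (by omega) (hxN _ hB'S)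
      let a₁ := restr hBN a
      let b₁ := restr (le_normalizerIn (S := S) hB'S) b
      have ha₁ : a₁ ∈ F.Hom B := restr_mem F ha hBN
      have hb₁ : b₁ ∈ F.Hom ψ.range := restr_mem F hb _
      obtain ⟨k, hk, hkr, hkl, -⟩ := exists_inv F ha₁
        (show a₁.range = U by rw [range_restr]; exact haU)
      have hψb : ∀ y, ψ y ∈ ψ.range := fun y => ⟨y, rfl⟩
      have hkB : ∀ y, k y ∈ B := fun y => hkr.le ⟨y, rfl⟩
      let χ := compose k (compose ψ b₁ hψb) hkB
      have hχ : χ ∈ F.Hom U := compose_mem F hk (compose_mem F hψ hb₁ hψb) hkB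
      have hχr : χ.range = U := by
        rw [range_compose, hkr, img_self, range_compose, img_self, range_restr]
        exact hbU
      have hxU : x ∈ U := by
        rw [← haU]
        exact mem_img.2 ⟨x, hxN B hBS, hxB, hax⟩
      have hα := (IH (m - 1) (by omega)).2 U hU
        (by have := hU.2 B (isConj_symm hBU); omega)
        (isoOf χ (F.injective_of_mem hχ) hχr)
        (mem_autGroup_of_hom F (by rw [autHom_isoOf']; exact hχ)) hxU
      rw [isoOf_coe] at hα
      have hkx : k ⟨x, hxU⟩ = x := by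
        have h1 := hkl ⟨x, hxB⟩ (by rw [show a₁ ⟨x, hxB⟩ = x from hax]; exact hxU)
        simp only [show a₁ ⟨x, hxB⟩ = x from hax] at h1
        exact h1
      have h1 : b₁ ⟨ψ ⟨x, hxB⟩, hψb _⟩ = x := by
        have e : (⟨k ⟨x, hxU⟩, hkB _⟩ : B) = ⟨x, hxB⟩ := Subtype.ext hkx
        have h0 := hα
        change b₁ ⟨ψ ⟨k ⟨x, hxU⟩, hkB _⟩, _⟩ = x at h0
        simp only [e] at h0
        exact h0
      exact congrArg Subtype.val (F.injective_of_mem hb (h1.trans hbx.symm))
  refine ⟨h2, ?_⟩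
  intro U hU hm α hα hxU
  have hUS := hU.1
  have := finite_of_le hUS
  have := finite_of_le (normalizerIn_le S U)
  -- extend to the centralizer
  set C := centralizerIn S U with hC
  have hrec := (IsSaturated.automized_receptive hS hF hU).2
  have hαF := autHom_mem F hUS hα
  obtain ⟨ψ, hψ, hext, -⟩ := IsReceptive.extend hrec hαF (range_autHom α)
  have hUN : U ≤ extender S U (autHom α) := le_extender hUS (apply_mem hαF)
  have hle : U ⊔ C ≤ extender S U (autHom α) := sup_le hUN (centralizerIn_le_extender _)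
  set U' := U ⊔ C with hU'
  have hU'S : U' ≤ S := hle.trans (extender_le S U _)
  have := finite_of_le hU'S
  have hψ' := restr_mem F hψ hle
  have hU'r : (restr hle ψ).range = U' := by
    refine Subgroup.eq_of_le_of_card_ge ?_ (card_range_eq (F.injective_of_mem hψ')).ge
    rw [range_restr, img_sup ψ hUN (centralizerIn_le_extender _)]
    refine sup_le_sup (fun y hy => ?_) (fun y hy => ?_)
    · obtain ⟨w, hw, hwU, rfl⟩ := mem_img.1 hy
      rw [hext w hwU hw]
      exact (α ⟨w, hwU⟩).2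
    · obtain ⟨w, hw, hwC, rfl⟩ := mem_img.1 hy
      exact apply_mem_centralizerIn (range_autHom α) hψ hext hUN hw hwC
  let β : MulAut U' := isoOf (restr hle ψ) (F.injective_of_mem hψ') hU'r
  have hβ : β ∈ F.autGroup U' := mem_autGroup_of_hom F (by rw [autHom_isoOf']; exact hψ')
  have hxU' : x ∈ U' := Subgroup.mem_sup_left hxU
  suffices hβx : (β ⟨x, hxU'⟩ : Ω) = x by
    rw [← autHom_apply, ← hext x hxU (hUN hxU)]
    exact hβx
  have hU'c : F.IsCentric U' := by
    refine ⟨hU'S, ?_⟩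
    rintro R ⟨f, hf, rfl⟩ y hy
    have hUU : U ≤ U' := le_sup_left
    have hCU : C ≤ U' := le_sup_right
    have hfC : img f C = centralizerIn S (img f U) := by
      have := finite_of_le (centralizerIn_le S (img f U))
      refine Subgroup.eq_of_le_of_card_ge ?_ ?_
      · intro z hz
        obtain ⟨w, hw, hwC, rfl⟩ := mem_img.1 hz
        refine mem_centralizerIn.2 ⟨apply_mem hf _, fun v hv => ?_⟩
        obtain ⟨u, hu, huU, rfl⟩ := mem_img.1 hv
        rw [← map_mul, ← map_mul]
        exact congrArg f (Subtype.ext (hwC.2 u huU))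
      · rw [card_img (F.injective_of_mem hf) hCU]
        exact (IsSaturated.fullyCentralized hS hF hU).2 _ (isConj_img F hf hUU)
    refine img_le_range f C (hfC.ge ⟨hy.1, fun v hv => hy.2 v (img_le_range f U hv)⟩)
  have hNle : normalizerIn S U ≤ normalizerIn S U' := by
    intro g hg
    refine ⟨hg.1, ?_⟩
    show g ∈ Subgroup.normalizer (U' : Set Ω)
    have hgU := Subgroup.mem_normalizer_iff_map_conj_eq.mp hg.2
    have hgS := Subgroup.mem_normalizer_iff_map_conj_eq.mp (Subgroup.le_normalizer hg.1)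
    rw [Subgroup.mem_normalizer_iff_map_conj_eq, hU', Subgroup.map_sup, hgU, hC, centralizerIn,
      Subgroup.map_inf _ _ _ (MulAut.conj g).injective, hgS]
    have h3 := FusionControl.cj_centralizer g U
    rw [FusionControl.cj, FusionControl.cj] at h3
    erw [hgU] at h3
    erw [h3]
  have hc1 : Nat.card (normalizerIn S U) ≤ Nat.card (normalizerIn S U') := by
    have := finite_of_le (normalizerIn_le S U')
    exact Subgroup.card_le_of_le hNle
  obtain ⟨W, hU'W, hW⟩ := exists_fullyNormalized F hU'S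
  obtain ⟨a, ha, -, haW⟩ := IsSaturated.exists_normalizer_map hS hF hW hU'W
  have hax : FixesAt x a := h2 _ a ha (by omega)
  have hWc : F.IsCentric W := isCentric_of_isConj hU'c hU'W
  have hWS := hW.1
  have hxW : x ∈ W := by
    rw [← haW]
    exact mem_img.2 ⟨x, hxN U' hU'S, hxU', hax _⟩
  have ha' := restr_mem F ha (le_normalizerIn hU'S)
  have har : (restr (le_normalizerIn hU'S) a).range = W := by rw [range_restr]; exact haW
  let f := isoOf _ (F.injective_of_mem ha') har
  have hfx : f ⟨x, hxU'⟩ = ⟨x, hxW⟩ := Subtype.ext (hax (le_normalizerIn hU'S hxU'))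
  have hδ := exists_mulAut_congr F ha' har hβ
  suffices hδx : MulAut.congr f β ⟨x, hxW⟩ = ⟨x, hxW⟩ by
    have h1 : f (β ⟨x, hxU'⟩) = f ⟨x, hxU'⟩ := by
      rw [hfx]
      rw [← hfx] at hδx
      change f (β (f.symm (f ⟨x, hxU'⟩))) = f ⟨x, hxU'⟩ at hδx
      rw [f.symm_apply_apply, hfx] at hδx
      exact hδx
    exact congrArg Subtype.val (f.injective h1)
  -- the model of the normalizer
  set T := normalizerIn S W with hT
  have hTS : T ≤ S := normalizerIn_le S W
  have := finite_of_le hTS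
  have hc2 : Nat.card (normalizerIn S U) ≤ Nat.card T := hc1.trans (hW.2 U' (isConj_symm hU'W))
  have hE := normalizerSystem_spec F W hWS
  set E := normalizerSystem F W hWS
  obtain ⟨L, _, ι, hL⟩ := exists_model (hS.to_le hTS)
    (IsNormalizerSystem.isConstrained hS hF hW hWc hE)
  have hLfin : Finite L := hL.1
  have hre := hL.2.1
  obtain ⟨TL, hTL⟩ := hL.2.2.1
  have hxT : x ∈ T := hxN W hWS
  have hxTc : ∀ t ∈ T, t * x = x * t := fun t ht => hxc t (hTS ht)
  have hJT : Cfsg.thompsonSubgroupAOf T ≤ T := Subgroup.map_subtype_le _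
  have hxJ := mem_thompsonAOf_of_central hxT hxTc
  have hLN : Subgroup.normalizer ((Cfsg.thompsonSubgroupAOf (TL : Subgroup L) : Subgroup L) : Set L) ≤
      Subgroup.centralizer ({ι ⟨x, hxT⟩} : Set L) := by
    intro g hg
    rw [hTL, thompsonAOf_range ι hre.1] at hg
    have hgJ : ∀ y : Cfsg.thompsonSubgroupAOf T,
        g * ι ⟨y, hJT y.2⟩ * g⁻¹ ∈ (Cfsg.thompsonSubgroupA T).map ι := by
      rintro ⟨_, w, hw, rfl⟩
      exact conj_mem_of_mem_normalizer hg ⟨w, hw, rfl⟩
    obtain ⟨γ, hγ, hγe⟩ := IsRealizedBy.exists_hom hre hJT g fun y =>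
      Subgroup.map_le_range _ _ (hgJ y)
    have hγF : γ ∈ F.Hom _ := IsNormalizerSystem.le_system hE hγ
    have := finite_of_le (hJT.trans hTS)
    have hγr : γ.range = Cfsg.thompsonSubgroupAOf T := by
      refine Subgroup.eq_of_le_of_card_ge ?_ (card_range_eq (F.injective_of_mem hγF)).ge
      rintro _ ⟨y, rfl⟩
      obtain ⟨w, hw, hwe⟩ := hgJ y
      exact ⟨w, hw, congrArg Subtype.val (hre.1 (hwe.trans (hγe y).symm))⟩
    let c : MulAut (Cfsg.thompsonSubgroupAOf T) := isoOf γ (F.injective_of_mem hγF) hγr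
    have hc : autHom c ∈ F.Hom _ := by rw [autHom_isoOf']; exact hγF
    have hγx : γ ⟨x, hxJ⟩ = x := by
      rcases hTS.eq_or_lt with e | hlt
      · have h1 := FusionNpc.autHom_mem_normalizerHom hc
        rw [autHom_isoOf'] at h1
        refine hN _ γ ?_ hxJ
        convert h1 using 2; rw [e]
      · have hJS := hJT.trans hTS
        obtain ⟨V, hRV, hV⟩ := exists_fullyNormalized F hJS
        obtain ⟨b, hb, -, hbV⟩ := IsSaturated.exists_normalizer_map hS hF hV hRV
        have hgrow : Nat.card T < Nat.card (normalizerIn S (Cfsg.thompsonSubgroupAOf T)) := by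
          have h1 : normalizerIn S T ≤ normalizerIn S (Cfsg.thompsonSubgroupAOf T) :=
            fun y hy => ⟨hy.1, normalizer_le_thompsonAOf T hy.2⟩
          have := finite_of_le (normalizerIn_le S (Cfsg.thompsonSubgroupAOf T))
          have := finite_of_le (normalizerIn_le S T)
          refine lt_of_lt_of_le ?_ (Subgroup.card_le_of_le h1)
          by_contra hge
          exact (lt_normalizerIn hS hlt).ne
            (Subgroup.eq_of_le_of_card_ge (le_normalizerIn hTS) (not_lt.1 hge))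
        have hS' : Nat.card (normalizerIn S (Cfsg.thompsonSubgroupAOf T)) ≤ Nat.card S :=
          Subgroup.card_le_of_le (normalizerIn_le S _)
        have hbx := h2 _ b hb (by omega)
        have hb' := restr_mem F hb (le_normalizerIn hJS)
        have hbr : (restr (le_normalizerIn hJS) b).range = V := by rw [range_restr]; exact hbV
        let f' := isoOf _ (F.injective_of_mem hb') hbr
        have hxV : x ∈ V := by
          rw [← hbV]
          exact mem_img.2 ⟨x, le_normalizerIn hJS hxJ, hxJ, hbx _⟩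
        have hfx' : f' ⟨x, hxJ⟩ = ⟨x, hxV⟩ := Subtype.ext (hbx (le_normalizerIn hJS hxJ))
        have h3 := (IH (m - 1) (by omega)).2 V hV
          (by have := hV.2 _ (isConj_symm hRV); omega) (MulAut.congr f' c)
          (exists_mulAut_congr F hb' hbr (mem_autGroup_of_hom F hc)) hxV
        have h4 : f' (c (f'.symm ⟨x, hxV⟩)) = ⟨x, hxV⟩ := Subtype.ext h3
        rw [← hfx', f'.symm_apply_apply] at h4
        exact congrArg Subtype.val (f'.injective h4)
    rw [Subgroup.mem_centralizer_singleton_iff]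
    have h5 := hγe ⟨x, hxJ⟩
    have e : (⟨γ ⟨x, hxJ⟩, apply_mem hγ ⟨x, hxJ⟩⟩ : T) = ⟨x, hxT⟩ := Subtype.ext hγx
    rw [e] at h5
    exact eq_mul_inv_iff_mul_eq.1 h5 |>.symm
  have hcaseL : p ≠ 2 ∨
      (∃ z ∈ (TL : Subgroup L) ⊓ Subgroup.centralizer ((TL : Subgroup L) : Set L), z ^ p = ι ⟨x, hxT⟩) ∨
      ¬ Cfsg.Involves (Equiv.Perm (Fin 4)) L := by
    rcases hcase with h | ⟨z, hzS, hzc, hzx⟩ | h
    · exact Or.inl h
    · have hzW : z ∈ W := hWc.2 W (isConj_refl F hWS)
        ⟨hzS, fun w hw => hzc w (hWS hw)⟩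
      have hzT : z ∈ T := le_normalizerIn hWS hzW
      refine Or.inr (Or.inl ⟨ι ⟨z, hzT⟩, ⟨hTL.ge ⟨_, rfl⟩, ?_⟩, ?_⟩)
      · rw [hTL]
        rintro _ ⟨t, rfl⟩
        rw [← map_mul, ← map_mul]
        exact congrArg ι (Subtype.ext (hzc t (hTS t.2)))
      · rw [← map_pow]
        exact congrArg ι (Subtype.ext (by rw [Subgroup.coe_pow]; exact hzx))
    · exact Or.inr (Or.inr (h W hW hWc E hE L ι hL))
  -- weak closure in the model
  have hδF : autHom (MulAut.congr f β) ∈ F.Hom W := autHom_mem F hWS hδ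
  have hδE : autHom (MulAut.congr f β) ∈ E.Hom W := by
    rw [hE W]
    exact FusionNpc.autHom_mem_normalizerHom hδF
  obtain ⟨g, hg⟩ := (hre.2 W (le_normalizerIn hWS) _ (apply_mem hδE)).1 hδE
  have h6 := weaklyClosed_of_thompson TL (x := ι ⟨x, hxT⟩) (hTL.ge ⟨_, rfl⟩) hLN hcaseL g
    (by rw [hTL]; exact ⟨_, hg ⟨x, hxW⟩⟩)
  have h7 := (hg ⟨x, hxW⟩).trans h6
  exact Subtype.ext (congrArg Subtype.val (hre.1 h7) : _)

theorem img_zpowers_of_fix {B : Subgroup Ω} {b : B →* Ω} {x : Ω} (hx : x ∈ B) (hb : b ⟨x, hx⟩ = x) :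
    img b (Subgroup.zpowers x) = Subgroup.zpowers x := by
  ext y
  rw [mem_img, Subgroup.mem_zpowers_iff]
  constructor
  · rintro ⟨w, hw, hwx, rfl⟩
    obtain ⟨i, rfl⟩ := Subgroup.mem_zpowers_iff.1 hwx
    refine ⟨i, ?_⟩
    rw [show (⟨x ^ i, hw⟩ : B) = ⟨x, hx⟩ ^ i from Subtype.ext (by simp), map_zpow, hb]
  · rintro ⟨i, rfl⟩
    refine ⟨x ^ i, zpow_mem hx i, Subgroup.zpow_mem _ (Subgroup.mem_zpowers x) i, ?_⟩
    rw [show (⟨x ^ i, zpow_mem hx i⟩ : B) = ⟨x, hx⟩ ^ i from Subtype.ext (by simp), map_zpow, hb]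

/-- An element of the centre of `S` fixed by all maps is in the centre of the system. -/
theorem mem_center_of_fixesAt (hS : IsPGroup p S) (hF : F.IsSaturated p) {x : Ω} (hxS : x ∈ S)
    (hxc : ∀ s ∈ S, s * x = x * s)
    (hfix : ∀ (P : Subgroup Ω) (φ : P →* Ω), φ ∈ F.Hom P → FixesAt x φ) : x ∈ F.center := by
  have hxC : ∀ B : Subgroup Ω, B ≤ S → x ∈ centralizerIn S B := fun B h =>
    ⟨hxS, fun b hb => hxc b (h hb)⟩
  refine (le_sSup (show Subgroup.zpowers x ∈ {Q | F.IsCentral Q} from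
    ⟨Subgroup.zpowers_le.2 hxS, fun P φ hφ => ?_⟩)) (Subgroup.mem_zpowers x)
  have hPS := source_le hφ
  have hrS : φ.range ≤ S := range_le hφ
  obtain ⟨Q, hrQ, hQ⟩ := exists_fullyNormalized F hrS
  obtain ⟨b, hb, -, hbQ⟩ := IsSaturated.exists_normalizer_map hS hF hQ hrQ
  have hxb : x ∈ normalizerIn S φ.range := centralizerIn_le_normalizerIn S _ (hxC _ hrS)
  have hbx : b ⟨x, hxb⟩ = x := hfix _ b hb hxb
  have hr1 : φ.range ≤ normalizerIn S φ.range := le_normalizerIn hrS
  have h2 : φ.range ⊔ Subgroup.zpowers x ≤ normalizerIn S φ.range :=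
    sup_le hr1 (Subgroup.zpowers_le.2 hxb)
  have hφb : ∀ y, φ y ∈ φ.range := fun y => ⟨y, rfl⟩
  have hb1 := restr_mem F hb hr1
  have hψ₀ := compose_mem F hφ hb1 hφb
  have hψ₀r : (compose φ (restr hr1 b) hφb).range = Q := by
    rw [range_compose, img_self, range_restr]
    exact hbQ
  obtain ⟨χ, hχ, hext, -⟩ :=
    IsReceptive.extend (IsSaturated.automized_receptive hS hF hQ).2 hψ₀ hψ₀r
  have hPe : P ≤ extender S P (compose φ (restr hr1 b) hφb) := le_extender hPS (apply_mem hψ₀)
  have hxe := centralizerIn_le_extender (compose φ (restr hr1 b) hφb) (hxC P hPS)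
  have hle : P ⊔ Subgroup.zpowers x ≤ extender S P (compose φ (restr hr1 b) hφb) :=
    sup_le hPe (Subgroup.zpowers_le.2 hxe)
  have hχx : χ ⟨x, hxe⟩ = x := hfix _ χ hχ hxe
  obtain ⟨k, hk, -, hkl, -⟩ := exists_inv F (restr_mem F hb h2) rfl
  have hval : ∀ y, restr hle χ y ∈ (restr h2 b).range := by
    intro y
    have h1 : (restr hle χ).range ≤ (restr h2 b).range := by
      rw [range_restr, range_restr, img_sup χ hPe (Subgroup.zpowers_le.2 hxe),
        img_sup b hr1 (Subgroup.zpowers_le.2 hxb), img_zpowers_of_fix hxe hχx,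
        img_zpowers_of_fix hxb hbx]
      refine sup_le_sup_right ?_ _
      intro z hz
      obtain ⟨w, hw, hwP, rfl⟩ := mem_img.1 hz
      rw [hext w hwP hw]
      exact mem_img.2 ⟨φ ⟨w, hwP⟩, hr1 ⟨_, rfl⟩, ⟨_, rfl⟩, rfl⟩
    exact h1 ⟨y, rfl⟩
  refine ⟨compose (restr hle χ) k hval, compose_mem F (restr_mem F hχ hle) hk hval,
    fun y => ?_, fun y => ?_⟩
  · have h1 : restr hle χ (Subgroup.inclusion le_sup_left y) =
        restr h2 b ⟨φ y, Subgroup.mem_sup_left ⟨y, rfl⟩⟩ := hext y y.2 (hPe y.2)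
    have h3 := hkl (⟨φ y, Subgroup.mem_sup_left ⟨y, rfl⟩⟩ : ↥(φ.range ⊔ Subgroup.zpowers x))
      ⟨_, rfl⟩
    simp only [compose_apply, h1]
    exact h3
  · obtain ⟨i, hi⟩ := Subgroup.mem_zpowers_iff.1 y.2
    have hxs : x ∈ P ⊔ Subgroup.zpowers x := Subgroup.mem_sup_right (Subgroup.mem_zpowers x)
    have h1 := hfix _ _ (compose_mem F (restr_mem F hχ hle) hk hval) hxs
    rw [show Subgroup.inclusion le_sup_right y = (⟨x, hxs⟩ : ↥(P ⊔ Subgroup.zpowers x)) ^ i from
      Subtype.ext (by simp [hi]), map_zpow, h1, hi]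

/-- Glauberman's theorem: the centre of the normalizer of the Thompson subgroup. -/
theorem center_thompson (hS : IsPGroup p S) (hF : F.IsSaturated p)
    (N : FusionSystem (normalizerIn S (Cfsg.thompsonSubgroupAOf S)))
    (hN : F.IsNormalizerSystem (Cfsg.thompsonSubgroupAOf S) N) :
    Subgroup.closure ((fun z : Ω => z ^ p) '' ((S ⊓ Subgroup.centralizer (S : Set Ω) : Subgroup Ω) :
        Set Ω)) ⊓ N.center ≤ F.center ∧
      (p ≠ 2 ∨ F.IsSectionFree p (Equiv.Perm (Fin 4)) → N.center = F.center) := by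
  have hSJ : S ≤ Subgroup.normalizer ((Cfsg.thompsonSubgroupAOf S) : Set Ω) :=
    fun g hg => normalizer_le_thompsonAOf S (Subgroup.le_normalizer hg)
  have : Finite ↥(normalizerIn S (Cfsg.thompsonSubgroupAOf S)) := finite_of_le (normalizerIn_le S (Cfsg.thompsonSubgroupAOf S))
  have hmain : ∀ x ∈ N.center,
      (p ≠ 2 ∨ (∃ z ∈ S, (∀ s ∈ S, s * z = z * s) ∧ z ^ p = x) ∨
        F.IsSectionFree p (Equiv.Perm (Fin 4))) → x ∈ F.center := by
    intro x hx hcase
    obtain ⟨hx1, hx2⟩ := Subgroup.mem_inf.1 (center_le_center N hx)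
    have hxS : x ∈ S := hx1.1
    have hxc : ∀ s ∈ S, s * x = x * s := fun s hs => hx2 s ⟨hs, hSJ hs⟩
    refine mem_center_of_fixesAt hS hF hxS hxc fun P φ hφ =>
      fixesAt_of_thompson hS hF hxS hxc (fun P' φ' hφ' h => ?_) hcase hφ
    exact (IsCentral.fixesElt (isCentral_center N) hx (show φ' ∈ N.Hom P' by rw [hN P']; exact hφ')
      ⟨x, h⟩).1 rfl
  refine ⟨fun x hx => hmain x hx.2 (Or.inr (Or.inl ?_)), fun hcase => le_antisymm ?_ ?_⟩
  · let K : Subgroup Ω :=
      { carrier := {a | ∃ z ∈ S, (∀ s ∈ S, s * z = z * s) ∧ z ^ p = a}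
        one_mem' := ⟨1, one_mem _, fun s _ => by simp, one_pow p⟩
        mul_mem' := by
          rintro a b ⟨u, hu, huc, rfl⟩ ⟨v, hv, hvc, rfl⟩
          exact ⟨u * v, mul_mem hu hv,
            fun s hs => ((show Commute s u from huc s hs).mul_right (hvc s hs)).eq,
            (show Commute u v from hvc u hu).mul_pow p⟩
        inv_mem' := by
          rintro a ⟨u, hu, huc, rfl⟩
          exact ⟨u⁻¹, inv_mem hu, fun s hs => (show Commute s u from huc s hs).inv_right.eq,
            inv_pow u p⟩ }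
    have h : Subgroup.closure ((fun z : Ω => z ^ p) ''
        ((S ⊓ Subgroup.centralizer (S : Set Ω) : Subgroup Ω) : Set Ω)) ≤ K :=
      (Subgroup.closure_le _).2 (by rintro _ ⟨u, hu, rfl⟩; exact ⟨u, hu.1, hu.2, rfl⟩)
    exact h hx.1
  · exact fun x hx => hmain x hx (hcase.imp_right Or.inr)
  · have hZ := isCentral_center F
    have hZJ : F.center ≤ (Cfsg.thompsonSubgroupAOf S) := fun z hz =>
      mem_thompsonAOf_of_central (hZ.1 hz) (fun t ht => (center_le_center F hz).2 t ht)
    refine le_sSup ⟨fun z hz => ⟨hZ.1 hz, hSJ (hZ.1 hz)⟩, fun P φ hφ => ?_⟩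
    rw [hN P] at hφ
    obtain ⟨hφF, hP, hv, ψ, hψ, hψe, hψJ⟩ := hφ
    have hle : P ⊔ F.center ≤ P ⊔ (Cfsg.thompsonSubgroupAOf S) := sup_le_sup_left hZJ P
    have hψ' := restr_mem F hψ hle
    refine ⟨restr hle ψ, ?_, fun y => hψe y, fun y => ?_⟩
    · rw [hN]
      have hle2 : P ⊔ F.center ⊔ (Cfsg.thompsonSubgroupAOf S) ≤ P ⊔ (Cfsg.thompsonSubgroupAOf S) := sup_le hle le_sup_right
      refine ⟨hψ', sup_le hP (fun z hz => ⟨hZ.1 hz, hSJ (hZ.1 hz)⟩),
        fun y => ⟨apply_mem hψ' y, hSJ (apply_mem hψ' y)⟩, restr hle2 ψ, restr_mem F hψ hle2,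
        fun y => rfl, ?_⟩
      show img (restr hle2 ψ) (Cfsg.thompsonSubgroupAOf S) = (Cfsg.thompsonSubgroupAOf S)
      rw [img_restr hle2 ψ le_sup_right]
      exact hψJ
    · exact (IsCentral.fixesElt hZ y.2 hψ' (Subgroup.inclusion le_sup_right y)).1 rfl

end Cfsg.Agent.Lib.PLocal.FusionCenter
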