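import Cfsg.Agent.Lib.PLocal.GZJ

/-!
The `ZJ` theorem for a family of abelian subgroups satisfying invariance and replacement.
-/

set_option autoImplicit false
set_option linter.style.haveILetI false

namespace Cfsg.Agent.Lib.PLocal

open scoped commutatorElement

variable {G : Type*} [Group G]

/-- The intersection of the members inside `Q`. -/
def inter (𝒜 : Set (Subgroup G)) (Q : Subgroup G) : Subgroup G := sInf {A | A ∈ 𝒜 ∧ A ≤ Q}

lemma inter_le {𝒜 : Set (Subgroup G)} {Q A : Subgroup G} (hA : A ∈ 𝒜) (hQ : A ≤ Q) : inter 𝒜 Q ≤ A :=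
  sInf_le ⟨hA, hQ⟩

/-- A family of abelian subgroups of `P` with invariance and replacement. -/
structure RepFam (P : Subgroup G) (𝒜 : Set (Subgroup G)) : Prop where
  le : ∀ A ∈ 𝒜, A ≤ P
  comm : ∀ A ∈ 𝒜, ∀ a ∈ A, ∀ b ∈ A, a * b = b * a
  ne : 𝒜.Nonempty
  inv : ∀ Q : Subgroup G, Q ≤ P → (∃ A ∈ 𝒜, A ≤ Q) → ∀ g ∈ Subgroup.normalizer (Q : Set G),
    ∀ x ∈ inter 𝒜 Q, g * x * g⁻¹ ∈ inter 𝒜 Q
  rep : ∀ B : Subgroup G, B ≤ P → ⁅⁅B, B⁆, B⁆ = ⊥ → (∃ A ∈ 𝒜, ⁅B, B⁆ ≤ A ∧ ¬ B ≤ A) →
    ∃ A ∈ 𝒜, ⁅B, B⁆ ≤ A ∧ ¬ B ≤ A ∧ B ≤ Subgroup.normalizer (A : Set G)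

lemma RepFam.mem_normalizer {P : Subgroup G} {𝒜 : Set (Subgroup G)} (h : RepFam P 𝒜)
    {Q : Subgroup G} (hQ : Q ≤ P) (hA : ∃ A ∈ 𝒜, A ≤ Q) {g : G}
    (hg : g ∈ Subgroup.normalizer (Q : Set G)) :
    g ∈ Subgroup.normalizer (inter 𝒜 Q : Set G) := by
  refine Subgroup.mem_normalizer_iff.mpr fun x => ⟨h.inv Q hQ hA g hg x, fun hx => ?_⟩
  have := h.inv Q hQ hA g⁻¹ (inv_mem hg) _ hx
  rwa [show g⁻¹ * (g * x * g⁻¹) * g⁻¹⁻¹ = x by group] at this

lemma RepFam.le_normalizer {P : Subgroup G} {𝒜 : Set (Subgroup G)} (h : RepFam P 𝒜) :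
    P ≤ Subgroup.normalizer (inter 𝒜 P : Set G) := fun g hg => by
  obtain ⟨A, hA⟩ := h.ne
  exact h.mem_normalizer le_rfl ⟨A, hA, h.le A hA⟩ (Subgroup.le_normalizer hg)

variable [Finite G] {p : ℕ} [hp : Fact p.Prime]

/-- For a normal `p`-subgroup `B` of a `p`-stable group, the intersection of the family meets `B` in a normal subgroup. -/
theorem inter_inf_normal {𝒜 : Set (Subgroup G)}
    (hst : ∀ (P : Subgroup G) [P.Normal], IsPGroup p P → Cfsg.IsPStableOn p P)
    (S : Sylow p G) (h : RepFam (S : Subgroup G) 𝒜) : ∀ (B : Subgroup G) [B.Normal],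
      B ≤ (S : Subgroup G) → (inter 𝒜 (S : Subgroup G) ⊓ B).Normal := by
  intro B
  induction hn : Nat.card B using Nat.strong_induction_on generalizing B with
  | _ n ih =>
    intro _ hBS
    subst hn
    set P := (S : Subgroup G) with hP
    set Z := inter 𝒜 P with hZ
    set Z₁ := Z ⊓ B with hZ₁
    have hZP : P ≤ Subgroup.normalizer (Z : Set G) :=
      h.le_normalizer
    have hPZ₁ : P ≤ Subgroup.normalizer (Z₁ : Set G) := by
      intro s hs
      rw [Subgroup.mem_normalizer_iff]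
      intro x
      rw [hZ₁, Subgroup.mem_inf, Subgroup.mem_inf, ← Subgroup.mem_normalizer_iff.mp (hZP hs) x]
      refine and_congr Iff.rfl ⟨fun hx => Subgroup.Normal.conj_mem inferInstance x hx s, fun hx => ?_⟩
      have := Subgroup.Normal.conj_mem (inferInstance : B.Normal) _ hx s⁻¹
      rwa [show s⁻¹ * (s * x * s⁻¹) * s⁻¹⁻¹ = x by group] at this
    set B₁ := Subgroup.normalClosure (Z₁ : Set G) with hB₁
    have hB₁B : B₁ ≤ B := Subgroup.normalClosure_le_normal fun x hx => hx.2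
    rcases hB₁B.lt_or_eq with hlt | heq
    · have hlt' : Nat.card B₁ < Nat.card B :=
        (Subgroup.card_le_of_le hlt.le).lt_of_ne fun h => hlt.ne (Subgroup.eq_of_le_of_card_ge hlt.le h.ge)
      have h1 := ih _ hlt' B₁ rfl (hB₁B.trans hBS)
      have : Z ⊓ B₁ = Z₁ := le_antisymm (inf_le_inf_left _ hB₁B)
        (le_inf inf_le_left fun x hx => Subgroup.subset_normalClosure hx)
      rwa [this] at h1
    by_cases hBbot : B = ⊥
    · rw [hZ₁, hBbot, inf_bot_eq]; infer_instance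
    -- `B' ≤ Z`
    have hBp : IsPGroup p B := S.2.to_le hBS
    haveI : (⁅B, B⁆).Normal := Subgroup.commutator_normal B B
    have hlt : ⁅B, B⁆ < B := Transfer.commutator_lt_self hBp hBbot
    set Z₂ := Z ⊓ ⁅B, B⁆ with hZ₂
    haveI hZ₂n : Z₂.Normal := ih _ ((Subgroup.card_le_of_le hlt.le).lt_of_ne fun h =>
      hlt.ne (Subgroup.eq_of_le_of_card_ge hlt.le h.ge)) _ rfl (hlt.le.trans hBS)
    have hB'Z : ⁅B, B⁆ ≤ Z := by
      refine le_trans ?_ (inf_le_left : Z₂ ≤ Z)
      have key : ∀ x ∈ B₁, ∀ y ∈ B, ⁅x, y⁆ ∈ Z₂ := by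
        intro x hx
        rw [hB₁, Subgroup.normalClosure] at hx
        induction hx using Subgroup.closure_induction with
        | mem x hx =>
          intro y hy
          obtain ⟨z, hz, hzx⟩ := Group.mem_conjugatesOfSet_iff.mp hx
          obtain ⟨g, rfl⟩ := isConj_iff.mp hzx
          have hy' : g⁻¹ * y * g ∈ B := by
            simpa using Subgroup.Normal.conj_mem (inferInstance : B.Normal) y hy g⁻¹
          have h1 : ⁅z, g⁻¹ * y * g⁆ ∈ Z₂ := by
            refine Subgroup.mem_inf.mpr ⟨?_, Subgroup.commutator_mem_commutator hz.2 hy'⟩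
            rw [commutatorElement_def, mul_assoc z _ z⁻¹, mul_assoc z]
            exact mul_mem hz.1
              ((Subgroup.mem_normalizer_iff.mp (hZP (hBS hy')) z⁻¹).mp (inv_mem hz.1))
          rw [show ⁅g * z * g⁻¹, y⁆ = g * ⁅z, g⁻¹ * y * g⁆ * g⁻¹ by
            simp only [commutatorElement_def]; group]
          exact hZ₂n.conj_mem _ h1 g
        | one => intro y _; simp
        | mul a c _ _ ha hc =>
          intro y hy
          rw [show ⁅a * c, y⁆ = a * ⁅c, y⁆ * a⁻¹ * ⁅a, y⁆ by simp only [commutatorElement_def]; group]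
          exact mul_mem (hZ₂n.conj_mem _ (hc y hy) a) (ha y hy)
        | inv a _ ha =>
          intro y hy
          rw [show ⁅a⁻¹, y⁆ = a⁻¹ * ⁅a, y⁆⁻¹ * a⁻¹⁻¹ by simp only [commutatorElement_def]; group]
          exact hZ₂n.conj_mem _ (inv_mem (ha y hy)) a⁻¹
      rw [Subgroup.commutator_le]
      intro x hx y hy
      exact key x (heq.ge hx) y hy
    -- the largest normal subgroup normalizing `Z₁`
    set N₁ := Subgroup.normalizer (Z₁ : Set G) with hN₁
    set L := N₁.normalCore with hL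
    have hLN : L ≤ N₁ := Subgroup.normalCore_le _
    obtain ⟨D, hD, hCD, ⟨k, hk⟩, hstab⟩ := pStable_core (p := p) (B := B)
    haveI := hD
    have hDL : D ≤ L := by
      refine (Subgroup.normal_le_normalCore).mpr ?_
      refine (normal_le_sup_inf_sylow D _ hCD hk S).trans (sup_le ?_ (inf_le_left.trans hPZ₁))
      exact (Subgroup.centralizer_le (show (Z₁ : Set G) ⊆ B from fun x hx => hx.2)).trans
        (Subgroup.centralizer_le_normalizer _)
    set T := P ⊓ L with hT
    have hfrat : L ⊔ Subgroup.normalizer (T : Set G) = ⊤ := by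
      have hp1 : IsPGroup p (T.subgroupOf L) :=
        (S.2.to_le inf_le_left).of_equiv (Subgroup.subgroupOfEquivOfLe inf_le_right).symm
      have hidx : ¬ p ∣ (T.subgroupOf L).index := by
        rw [← Subgroup.relIndex, hT, Subgroup.inf_relIndex_right]
        exact fun h => S.not_dvd_index (h.trans (PGroups.relIndex_dvd_index_of_normal_right L _))
      have h := Sylow.normalizer_sup_eq_top (hp1.toSylow hidx)
      rw [IsPGroup.toSylow_coe, Subgroup.subgroupOf_map_subtype,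
        inf_eq_left.mpr (inf_le_right : T ≤ L), sup_comm] at h
      exact h
    by_cases hall : ∀ A ∈ 𝒜, A ≤ L
    · -- all members lie in `L`
      have hZT : inter 𝒜 T = Z := le_antisymm
        (le_sInf fun A hA => sInf_le ⟨hA.1, le_inf hA.2 (hall A hA.1)⟩)
        (le_sInf fun A hA => sInf_le ⟨hA.1, hA.2.trans inf_le_left⟩)
      obtain ⟨A, hA⟩ := h.ne
      refine Subgroup.normalizer_eq_top_iff.mp (top_le_iff.mp (hfrat ▸ sup_le hLN ?_))
      intro g hg
      have hgZ : g ∈ Subgroup.normalizer (Z : Set G) := hZT ▸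
        h.mem_normalizer inf_le_left ⟨A, hA, le_inf (h.le A hA) (hall A hA)⟩ hg
      rw [Subgroup.mem_normalizer_iff]
      intro x
      rw [hZ₁, Subgroup.mem_inf, Subgroup.mem_inf, ← Subgroup.mem_normalizer_iff.mp hgZ x]
      refine and_congr Iff.rfl ⟨fun hx => Subgroup.Normal.conj_mem inferInstance x hx g, fun hx => ?_⟩
      have := Subgroup.Normal.conj_mem (inferInstance : B.Normal) _ hx g⁻¹
      rwa [show g⁻¹ * (g * x * g⁻¹) * g⁻¹⁻¹ = x by group] at this
    exfalso
    push Not at hall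
    obtain ⟨A, hA, hAL⟩ := hall
    have hBA : ⁅B, B⁆ ≤ A := hB'Z.trans (inter_le hA (h.le A hA))
    have hBnA : ¬ B ≤ A := fun hle => hAL fun a ha => hDL (hstab (hst B hBp) a (by
      rw [show ⁅B, Subgroup.zpowers a⁆ = ⊥ from
        Subgroup.commutator_eq_bot_iff_le_centralizer.2 fun b hb z hz =>
          h.comm A hA z ((Subgroup.zpowers_le.mpr ha) hz) b (hle hb)]
      exact Subgroup.commutator_bot_left _))
    have hcent : ⁅⁅B, B⁆, B⁆ = ⊥ := by
      rw [Subgroup.commutator_eq_bot_iff_le_centralizer]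
      intro c hc x hx
      have hcZ : c ∈ Z₂ := Subgroup.mem_inf.mpr ⟨hB'Z hc, hc⟩
      rw [← heq] at hx
      suffices hx' : x ∈ Subgroup.centralizer (Z₂ : Set G) from (hx' c hcZ).symm
      refine (Subgroup.normalClosure_le_normal (N := Subgroup.centralizer (Z₂ : Set G)) ?_) hx
      intro z hz y hy
      exact h.comm A hA y ((inter_le hA (h.le A hA)) hy.1) z ((inter_le hA (h.le A hA)) hz.1)
    obtain ⟨A', hA', hBA', hBnA', hBN⟩ := h.rep B hBS hcent ⟨A, hA, hBA, hBnA⟩
    have hA'L : A' ≤ L := fun a ha => hDL (hstab (hst B hBp) a (by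
      rw [Subgroup.commutator_eq_bot_iff_le_centralizer]
      refine le_trans ((Subgroup.commutator_mono le_rfl (Subgroup.zpowers_le.mpr ha)).trans
        (Subgroup.le_normalizer_iff_commutator_le_right.mp hBN)) ?_
      intro c hc z hz
      exact h.comm A' hA' z ((Subgroup.zpowers_le.mpr ha) hz) c hc))
    have hA'T : A' ≤ T := le_inf (h.le A' hA') hA'L
    have hZT : Z ≤ inter 𝒜 T := le_sInf fun X hX => sInf_le ⟨hX.1, hX.2.trans inf_le_left⟩
    have hBT : B₁ ≤ inter 𝒜 T := by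
      rw [hB₁, Subgroup.normalClosure, Subgroup.closure_le]
      intro x hx
      obtain ⟨z, hz, hzx⟩ := Group.mem_conjugatesOfSet_iff.mp hx
      obtain ⟨g, rfl⟩ := isConj_iff.mp hzx
      obtain ⟨n, hn, l, hl, rfl⟩ : ∃ n ∈ Subgroup.normalizer (T : Set G), ∃ l ∈ L, n * l = g := by
        have hg : g ∈ Subgroup.normalizer (T : Set G) ⊔ L := by rw [sup_comm, hfrat]; trivial
        exact Subgroup.mem_sup_of_normal_right.mp hg
      have h1 : l * z * l⁻¹ ∈ Z₁ := (Subgroup.mem_normalizer_iff.mp (hLN hl) z).mp hz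
      rw [SetLike.mem_coe, show n * l * z * (n * l)⁻¹ = n * (l * z * l⁻¹) * n⁻¹ by group]
      exact h.inv T inf_le_left ⟨A', hA', hA'T⟩ n hn _ (hZT h1.1)
    exact hBnA' ((heq.ge.trans hBT).trans (inter_le hA' hA'T))

/-- **The axiomatic `ZJ` theorem.** -/
theorem inter_normal {𝒜 : Set (Subgroup G)}
    (hc : Subgroup.centralizer (Cfsg.pCore p G : Set G) ≤ Cfsg.pCore p G)
    (hst : ∀ (P : Subgroup G) [P.Normal], IsPGroup p P → Cfsg.IsPStableOn p P)
    (S : Sylow p G) (h : RepFam (S : Subgroup G) 𝒜) : (inter 𝒜 (S : Subgroup G)).Normal := by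
  haveI := Cfsg.pCore_normal p G
  set Q := Cfsg.pCore p G with hQ
  set Z := inter 𝒜 (S : Subgroup G) with hZ
  have hQS : Q ≤ (S : Subgroup G) := Cores.pCore_le_sylow S
  have hZQ : Z ≤ Q := by
    obtain ⟨D, hD, hCD, ⟨k, hk⟩, hstab⟩ := pStable_core (p := p) (B := Q)
    intro z hz
    refine Cores.le_pCore hD ?_ (hstab (hst Q (Cores.pCore_isPGroup p G)) z ?_)
    · obtain ⟨m, hm⟩ := IsPGroup.iff_card.mp ((Cores.pCore_isPGroup p G).to_le hc)
      refine IsPGroup.of_card (n := m + k) ?_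
      rw [pow_add, ← hm, ← hk, ← Subgroup.relIndex_bot_left, ← Subgroup.relIndex_bot_left]
      exact (Subgroup.relIndex_mul_relIndex _ _ _ bot_le hCD).symm
    · rw [Subgroup.commutator_eq_bot_iff_le_centralizer]
      refine le_trans ((Subgroup.commutator_mono le_rfl (Subgroup.zpowers_le.mpr hz)).trans
        (Subgroup.le_normalizer_iff_commutator_le_right.mp
          (hQS.trans h.le_normalizer))) ?_
      obtain ⟨A, hA⟩ := h.ne
      intro c hc w hw
      exact h.comm A hA w ((inter_le hA (h.le A hA)) ((Subgroup.zpowers_le.mpr hz) hw)) c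
        ((inter_le hA (h.le A hA)) hc)
  have h1 := inter_inf_normal hst S h Q hQS
  rwa [inf_eq_left.mpr hZQ] at h1

end Cfsg.Agent.Lib.PLocal
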