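import Cfsg.Agent.Lib.PLocal.GZJ

/-!
Glauberman's `ZJ` theorem relative to a strongly closed subgroup `D` of a Sylow subgroup.
-/

set_option autoImplicit false
set_option linter.style.haveILetI false

namespace Cfsg.Agent.Lib.PLocal

open scoped commutatorElement

variable {G : Type*} [Group G] [Finite G] {p : ℕ} [hp : Fact p.Prime]

omit hp in
lemma mem_normalizer_of_conj {H : Subgroup G} {g : G} (h : ∀ x ∈ H, g * x * g⁻¹ ∈ H) :
    g ∈ Subgroup.normalizer (H : Set G) := by
  rw [Subgroup.mem_normalizer_iff_map_conj_eq]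
  exact Subgroup.eq_of_le_of_card_ge (by rintro _ ⟨x, hx, rfl⟩; exact h x hx)
    (Nat.card_congr ((MulAut.conj g).subgroupMap H).toEquiv).le

omit hp in
lemma le_normalizer_of_closed {S D : Subgroup G} (hDS : D ≤ S)
    (hDc : ∀ d ∈ D, ∀ g : G, g * d * g⁻¹ ∈ S → g * d * g⁻¹ ∈ D) :
    S ≤ Subgroup.normalizer (D : Set G) := fun g hg =>
  mem_normalizer_of_conj fun x hx => hDc x hx g (mul_mem (mul_mem hg (hDS hx)) (inv_mem hg))

/-- Replacement inside a subgroup normal in a Sylow subgroup. -/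
lemma exists_replace_closed (hp2 : p ≠ 2) {e : ℕ} (he : Odd e ∨ e = 0) (S : Sylow p G) {D : Subgroup G}
    (hDS : D ≤ (S : Subgroup G)) (hDn : (S : Subgroup G) ≤ Subgroup.normalizer (D : Set G))
    (B : Subgroup G) [B.Normal] (hBS : B ≤ (S : Subgroup G)) {A : Subgroup G}
    (hA : MaxIn e D A) (hBA : ⁅B, B⁆ ≤ A)
    (hnot : ¬ B ≤ Subgroup.normalizer (A : Set G)) :
    ∃ A', MaxIn e D A' ∧ A ⊓ B < A' ⊓ B ∧ A' ≤ Subgroup.normalizer (A : Set G) := by
  set P := (S : Subgroup G) with hP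
  set B₀ := B.subgroupOf P with hB₀
  set A₀ := A.subgroupOf P with hA₀
  have hBmap : B₀.map P.subtype = B := by
    rw [hB₀, Subgroup.subgroupOf_map_subtype, inf_eq_left.mpr hBS]
  have hAmap : A₀.map P.subtype = A := by
    rw [hA₀, Subgroup.subgroupOf_map_subtype, inf_eq_left.mpr (hA.1.trans hDS)]
  set D₀ := D.subgroupOf P with hD₀
  haveI : D₀.Normal := by
    refine ⟨fun x hx g => ?_⟩
    exact (Subgroup.mem_normalizer_iff.mp (hDn g.2) _).mp hx
  have htop : D₀.map P.subtype = D := by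
    rw [hD₀, Subgroup.subgroupOf_map_subtype, inf_eq_left.mpr hDS]
  have hA₀max : MaxIn e D₀ A₀ := by
    refine ⟨fun x hx => hA.1 hx, elemAb_of_map P.subtype_injective (hAmap ▸ hA.2.1), fun X hX₀ hX => ?_⟩
    have h1 := hA.2.2 (X.map P.subtype) ((Subgroup.map_mono hX₀).trans htop.le) (elemAb_map hX _)
    rwa [← hAmap, Subgroup.card_map_of_injective P.subtype_injective,
      Subgroup.card_map_of_injective P.subtype_injective] at h1
  have hBA₀ : ⁅B₀, B₀⁆ ≤ A₀ := by
    rw [← Subgroup.map_le_map_iff_of_injective P.subtype_injective, Subgroup.map_commutator, hBmap,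
      hAmap]
    exact hBA
  have hnot₀ : ¬ B₀ ≤ Subgroup.normalizer (A₀ : Set P) := fun h => hnot (by
    rw [hA₀, ← Subgroup.subgroupOf_normalizer_eq (hA.1.trans hDS)] at h
    intro x hx
    exact h (show (⟨x, hBS hx⟩ : P) ∈ B₀ from hx))
  obtain ⟨A', h1, -, h3, h4, -⟩ :=
    exists_replace S.2 hp2 he D₀ B₀ hA₀max hBA₀ hnot₀
  refine ⟨A'.map P.subtype, ?_, ?_, ?_⟩
  · have := maxIn_map P.subtype P.subtype_injective h1
    rwa [htop] at this
  · rw [← hAmap, ← hBmap, ← Subgroup.map_inf _ _ _ P.subtype_injective,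
      ← Subgroup.map_inf _ _ _ P.subtype_injective]
    exact Subgroup.map_lt_map_iff_of_injective P.subtype_injective |>.mpr h3
  · refine (Subgroup.map_mono h4).trans ?_
    rw [hA₀, ← Subgroup.subgroupOf_normalizer_eq (hA.1.trans hDS), Subgroup.subgroupOf_map_subtype]
    exact inf_le_left

/-- For a strongly closed `D` and a normal `p`-subgroup `B` inside it of a `p`-stable group, `Z(J(D)) ∩ B` is normal. -/
theorem zIn_inf_normal_closed (hp2 : p ≠ 2) {D₁ : Subgroup G}
    (hst : ∀ (P : Subgroup G) [P.Normal], IsPGroup p P → Cfsg.IsPStableOn p P) {e : ℕ}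
    (he : Odd e ∨ e = 0) (S : Sylow p G) (hDS : D₁ ≤ (S : Subgroup G))
    (hDc : ∀ d ∈ D₁, ∀ g : G, g * d * g⁻¹ ∈ (S : Subgroup G) → g * d * g⁻¹ ∈ D₁) :
    ∀ (B : Subgroup G) [B.Normal], B ≤ D₁ → (zIn e D₁ ⊓ B).Normal := by
  have hDn : (S : Subgroup G) ≤ Subgroup.normalizer (D₁ : Set G) := le_normalizer_of_closed hDS hDc
  intro B
  induction hn : Nat.card B using Nat.strong_induction_on generalizing B with
  | _ n ih =>
    intro _ hBD
    have hBS : B ≤ (S : Subgroup G) := hBD.trans hDS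
    subst hn
    set P := (S : Subgroup G) with hP
    set Z := zIn e D₁ with hZ
    set Z₁ := Z ⊓ B with hZ₁
    have hZP : P ≤ Subgroup.normalizer (Z : Set G) :=
      hDn.trans (normalizer_le_normalizer_zIn e D₁)
    have hPZ₁ : P ≤ Subgroup.normalizer (Z₁ : Set G) := by
      intro s hs
      rw [Subgroup.mem_normalizer_iff]
      intro x
      rw [hZ₁, Subgroup.mem_inf, Subgroup.mem_inf, ← Subgroup.mem_normalizer_iff.mp (hZP hs) x]
      refine and_congr Iff.rfl ⟨fun hx => Subgroup.Normal.conj_mem inferInstance x hx s, fun hx => ?_⟩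
      have := Subgroup.Normal.conj_mem (inferInstance : B.Normal) _ hx s⁻¹
      rwa [show s⁻¹ * (s * x * s⁻¹) * s⁻¹⁻¹ = x by group] at this
    set B₁ := Subgroup.normalClosure (Z₁ : Set G) with hB₁
    have hB₁B : B₁ ≤ B := Subgroup.normalClosure_le_normal fun x hx => hx.2
    rcases hB₁B.lt_or_eq with hlt | heq
    · have hlt' : Nat.card B₁ < Nat.card B :=
        (Subgroup.card_le_of_le hlt.le).lt_of_ne fun h => hlt.ne (Subgroup.eq_of_le_of_card_ge hlt.le h.ge)
      have h1 := ih _ hlt' B₁ rfl (hB₁B.trans hBD)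
      have : Z ⊓ B₁ = Z₁ := le_antisymm (inf_le_inf_left _ hB₁B)
        (le_inf inf_le_left fun x hx => Subgroup.subset_normalClosure hx)
      rwa [this] at h1
    by_cases hBbot : B = ⊥
    · rw [hZ₁, hBbot, inf_bot_eq]; infer_instance
    -- `B' ≤ Z`
    have hBp : IsPGroup p B := S.2.to_le hBS
    haveI : (⁅B, B⁆).Normal := Subgroup.commutator_normal B B
    have hlt : ⁅B, B⁆ < B := Transfer.commutator_lt_self hBp hBbot
    set Z₂ := Z ⊓ ⁅B, B⁆ with hZ₂
    haveI hZ₂n : Z₂.Normal := ih _ ((Subgroup.card_le_of_le hlt.le).lt_of_ne fun h =>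
      hlt.ne (Subgroup.eq_of_le_of_card_ge hlt.le h.ge)) _ rfl (hlt.le.trans hBD)
    have hB'Z : ⁅B, B⁆ ≤ Z := by
      refine le_trans ?_ (inf_le_left : Z₂ ≤ Z)
      have key : ∀ x ∈ B₁, ∀ y ∈ B, ⁅x, y⁆ ∈ Z₂ := by
        intro x hx
        rw [hB₁, Subgroup.normalClosure] at hx
        induction hx using Subgroup.closure_induction with
        | mem x hx =>
          intro y hy
          obtain ⟨z, hz, hzx⟩ := Group.mem_conjugatesOfSet_iff.mp hx
          obtain ⟨g, rfl⟩ := isConj_iff.mp hzx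
          have hy' : g⁻¹ * y * g ∈ B := by
            simpa using Subgroup.Normal.conj_mem (inferInstance : B.Normal) y hy g⁻¹
          have h1 : ⁅z, g⁻¹ * y * g⁆ ∈ Z₂ := by
            refine Subgroup.mem_inf.mpr ⟨?_, Subgroup.commutator_mem_commutator hz.2 hy'⟩
            rw [commutatorElement_def, mul_assoc z _ z⁻¹, mul_assoc z]
            exact mul_mem hz.1
              ((Subgroup.mem_normalizer_iff.mp (hZP (hBS hy')) z⁻¹).mp (inv_mem hz.1))
          rw [show ⁅g * z * g⁻¹, y⁆ = g * ⁅z, g⁻¹ * y * g⁆ * g⁻¹ by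
            simp only [commutatorElement_def]; group]
          exact hZ₂n.conj_mem _ h1 g
        | one => intro y _; simp
        | mul a c _ _ ha hc =>
          intro y hy
          rw [show ⁅a * c, y⁆ = a * ⁅c, y⁆ * a⁻¹ * ⁅a, y⁆ by simp only [commutatorElement_def]; group]
          exact mul_mem (hZ₂n.conj_mem _ (hc y hy) a) (ha y hy)
        | inv a _ ha =>
          intro y hy
          rw [show ⁅a⁻¹, y⁆ = a⁻¹ * ⁅a, y⁆⁻¹ * a⁻¹⁻¹ by simp only [commutatorElement_def]; group]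
          exact hZ₂n.conj_mem _ (inv_mem (ha y hy)) a⁻¹
      rw [Subgroup.commutator_le]
      intro x hx y hy
      exact key x (heq.ge hx) y hy
    -- the largest normal subgroup normalizing `Z₁`
    set N₁ := Subgroup.normalizer (Z₁ : Set G) with hN₁
    set L := N₁.normalCore with hL
    have hLN : L ≤ N₁ := Subgroup.normalCore_le _
    obtain ⟨D, hD, hCD, ⟨k, hk⟩, hstab⟩ := pStable_core (p := p) (B := B)
    haveI := hD
    have hDL : D ≤ L := by
      refine (Subgroup.normal_le_normalCore).mpr ?_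
      refine (normal_le_sup_inf_sylow D _ hCD hk S).trans (sup_le ?_ (inf_le_left.trans hPZ₁))
      exact (Subgroup.centralizer_le (show (Z₁ : Set G) ⊆ B from fun x hx => hx.2)).trans
        (Subgroup.centralizer_le_normalizer _)
    set T := P ⊓ L with hT
    have hfrat : L ⊔ Subgroup.normalizer (T : Set G) = ⊤ := by
      have hp1 : IsPGroup p (T.subgroupOf L) :=
        (S.2.to_le inf_le_left).of_equiv (Subgroup.subgroupOfEquivOfLe inf_le_right).symm
      have hidx : ¬ p ∣ (T.subgroupOf L).index := by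
        rw [← Subgroup.relIndex, hT, Subgroup.inf_relIndex_right]
        exact fun h => S.not_dvd_index (h.trans (PGroups.relIndex_dvd_index_of_normal_right L _))
      have h := Sylow.normalizer_sup_eq_top (hp1.toSylow hidx)
      rw [IsPGroup.toSylow_coe, Subgroup.subgroupOf_map_subtype,
        inf_eq_left.mpr (inf_le_right : T ≤ L), sup_comm] at h
      exact h
    set T₁ := D₁ ⊓ L with hT₁
    have hTT : Subgroup.normalizer (T : Set G) ≤ Subgroup.normalizer (T₁ : Set G) := by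
      intro g hg
      refine mem_normalizer_of_conj fun x hx => ?_
      have h1 := (Subgroup.mem_normalizer_iff.mp hg x).mp ⟨hDS hx.1, hx.2⟩
      exact ⟨hDc x hx.1 g h1.1, h1.2⟩
    by_cases hall : ∀ A, MaxIn e D₁ A → A ≤ L
    · -- `J(S) ≤ L`
      have hZT : zIn e T₁ = Z := by
        rw [hZ, zIn, zIn]
        congr 1
        ext A
        obtain ⟨A₁, hA₁⟩ := exists_maxIn e D₁
        constructor
        · intro hA
          exact ⟨hA.1.trans inf_le_left, hA.2.1, fun X hX hXe =>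
            (hA₁.2.2 X hX hXe).trans (hA.2.2 A₁ (le_inf hA₁.1 (hall A₁ hA₁)) hA₁.2.1)⟩
        · intro hA
          exact ⟨le_inf hA.1 (hall A hA), hA.2.1, fun X hX hXe => hA.2.2 X (hX.trans inf_le_left) hXe⟩
      refine Subgroup.normalizer_eq_top_iff.mp (top_le_iff.mp (hfrat ▸ sup_le hLN ?_))
      intro g hg
      have hgZ : g ∈ Subgroup.normalizer (Z : Set G) := hZT ▸ normalizer_le_normalizer_zIn e T₁ (hTT hg)
      rw [Subgroup.mem_normalizer_iff]
      intro x
      rw [hZ₁, Subgroup.mem_inf, Subgroup.mem_inf, ← Subgroup.mem_normalizer_iff.mp hgZ x]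
      refine and_congr Iff.rfl ⟨fun hx => Subgroup.Normal.conj_mem inferInstance x hx g, fun hx => ?_⟩
      have := Subgroup.Normal.conj_mem (inferInstance : B.Normal) _ hx g⁻¹
      rwa [show g⁻¹ * (g * x * g⁻¹) * g⁻¹⁻¹ = x by group] at this
    exfalso
    push Not at hall
    obtain ⟨A, ⟨hA, hAL⟩, hmax⟩ := Set.exists_max_image {A : Subgroup G | MaxIn e D₁ A ∧ ¬ A ≤ L}
      (fun A => Nat.card ↥(A ⊓ B)) (Set.toFinite _) hall
    have hBA : ⁅B, B⁆ ≤ A := hB'Z.trans (zIn_le hA)
    by_cases hnorm : B ≤ Subgroup.normalizer (A : Set G)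
    · refine hAL fun a ha => hDL (hstab (hst B hBp) a ?_)
      rw [Subgroup.commutator_eq_bot_iff_le_centralizer]
      refine le_trans ((Subgroup.commutator_mono le_rfl (Subgroup.zpowers_le.mpr ha)).trans
        (Subgroup.le_normalizer_iff_commutator_le_right.mp hnorm)) ?_
      intro c hc z hz
      exact commute_of_elemAb hA.2.1 ((Subgroup.zpowers_le.mpr ha) hz) hc
    obtain ⟨A', hA', hlt', hA'N⟩ := exists_replace_closed hp2 he S hDS hDn B hBS hA hBA hnorm
    have hA'L : A' ≤ L := by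
      by_contra hne
      exact hlt'.ne (Subgroup.eq_of_le_of_card_ge hlt'.le (hmax A' ⟨hA', hne⟩))
    have hA'T : MaxIn e T₁ A' := ⟨le_inf hA'.1 hA'L, hA'.2.1,
      fun X hX hXe => hA'.2.2 X (hX.trans inf_le_left) hXe⟩
    have hZT : Z ≤ zIn e T₁ := by
      refine le_sInf fun X hX => zIn_le ⟨hX.1.trans inf_le_left, hX.2.1, fun Y hY hYe => ?_⟩
      exact (hA'.2.2 Y hY hYe).trans (hX.2.2 A' hA'T.1 hA'T.2.1)
    have hBT : B₁ ≤ zIn e T₁ := by
      rw [hB₁, Subgroup.normalClosure, Subgroup.closure_le]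
      intro x hx
      obtain ⟨z, hz, hzx⟩ := Group.mem_conjugatesOfSet_iff.mp hx
      obtain ⟨g, rfl⟩ := isConj_iff.mp hzx
      obtain ⟨n, hn, l, hl, rfl⟩ : ∃ n ∈ Subgroup.normalizer (T : Set G), ∃ l ∈ L, n * l = g := by
        have hg : g ∈ Subgroup.normalizer (T : Set G) ⊔ L := by rw [sup_comm, hfrat]; trivial
        exact Subgroup.mem_sup_of_normal_right.mp hg
      have h1 : l * z * l⁻¹ ∈ Z₁ := (Subgroup.mem_normalizer_iff.mp (hLN hl) z).mp hz
      have h2 := (Subgroup.mem_normalizer_iff.mp (normalizer_le_normalizer_zIn e T₁ (hTT hn)) _).mp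
        (hZT h1.1)
      rw [SetLike.mem_coe, show n * l * z * (n * l)⁻¹ = n * (l * z * l⁻¹) * n⁻¹ by group]
      exact h2
    exact hnorm ((heq.ge.trans hBT).trans ((zIn_le hA'T).trans hA'N))

/-- **Glauberman's `ZJ` theorem.** -/
theorem zIn_normal_closed (hp2 : p ≠ 2)
    (hc : Subgroup.centralizer (Cfsg.pCore p G : Set G) ≤ Cfsg.pCore p G)
    (hst : ∀ (P : Subgroup G) [P.Normal], IsPGroup p P → Cfsg.IsPStableOn p P) {e : ℕ}
    (he : Odd e ∨ e = 0) (S : Sylow p G) {D₁ : Subgroup G} (hDS : D₁ ≤ (S : Subgroup G))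
    (hDc : ∀ d ∈ D₁, ∀ g : G, g * d * g⁻¹ ∈ (S : Subgroup G) → g * d * g⁻¹ ∈ D₁) :
    (zIn e D₁).Normal := by
  have hDn : (S : Subgroup G) ≤ Subgroup.normalizer (D₁ : Set G) := le_normalizer_of_closed hDS hDc
  haveI := Cfsg.pCore_normal p G
  set Q := Cfsg.pCore p G with hQ
  set Z := zIn e D₁ with hZ
  have hQS : Q ≤ (S : Subgroup G) := Cores.pCore_le_sylow S
  have hZQ : Z ≤ Q := by
    obtain ⟨D, hD, hCD, ⟨k, hk⟩, hstab⟩ := pStable_core (p := p) (B := Q)
    intro z hz
    refine Cores.le_pCore hD ?_ (hstab (hst Q (Cores.pCore_isPGroup p G)) z ?_)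
    · obtain ⟨m, hm⟩ := IsPGroup.iff_card.mp ((Cores.pCore_isPGroup p G).to_le hc)
      refine IsPGroup.of_card (n := m + k) ?_
      rw [pow_add, ← hm, ← hk, ← Subgroup.relIndex_bot_left, ← Subgroup.relIndex_bot_left]
      exact (Subgroup.relIndex_mul_relIndex _ _ _ bot_le hCD).symm
    · rw [Subgroup.commutator_eq_bot_iff_le_centralizer]
      refine le_trans ((Subgroup.commutator_mono le_rfl (Subgroup.zpowers_le.mpr hz)).trans
        (Subgroup.le_normalizer_iff_commutator_le_right.mp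
          (hQS.trans (hDn.trans (normalizer_le_normalizer_zIn e _))))) ?_
      obtain ⟨A, hA⟩ := exists_maxIn e D₁
      intro c hc w hw
      exact commute_of_elemAb hA.2.1 (zIn_le hA ((Subgroup.zpowers_le.mpr hz) hw)) (zIn_le hA hc)
  haveI : (Q ⊓ D₁).Normal := ⟨fun x hx g => by
    have h1 := (Cfsg.pCore_normal p G).conj_mem x hx.1 g
    exact ⟨h1, hDc x hx.2 g (hQS h1)⟩⟩
  have h := zIn_inf_normal_closed hp2 hst he S hDS hDc (Q ⊓ D₁) inf_le_right
  rwa [inf_eq_left.mpr (le_inf hZQ (zIn_le_self e D₁))] at h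

end Cfsg.Agent.Lib.PLocal
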