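import Cfsg.Agent.Lib.PLocal.GZJ

/-!
`Z(J(S))` is normal when the elements of largest abelian subgroups act stably: the pointwise form.
-/

set_option autoImplicit false
set_option linter.style.haveILetI false

namespace Cfsg.Agent.Lib.PLocal

open scoped commutatorElement

variable {G : Type*} [Group G] [Finite G] {p : ℕ} [hp : Fact p.Prime]

/-- The subgroup `D` with `D/C_G(B) = O_p(G/C_G(B))`. -/
lemma exists_core {B : Subgroup G} [B.Normal] :
    ∃ D : Subgroup G, D.Normal ∧ Subgroup.centralizer (B : Set G) ≤ D ∧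
      (∃ k, (Subgroup.centralizer (B : Set G)).relIndex D = p ^ k) ∧
      ∀ a : G, QuotientGroup.mk' (Subgroup.centralizer (B : Set G)) a ∈
        Cfsg.pCore p (G ⧸ Subgroup.centralizer (B : Set G)) → a ∈ D := by
  set C := Subgroup.centralizer (B : Set G) with hC
  set π := QuotientGroup.mk' C with hπ
  haveI := Cfsg.pCore_normal p (G ⧸ C)
  refine ⟨(Cfsg.pCore p (G ⧸ C)).comap π, inferInstance, fun c hc => ?_, ?_, fun a h => h⟩
  · rw [Subgroup.mem_comap, hπ, QuotientGroup.mk'_apply, (QuotientGroup.eq_one_iff c).mpr hc]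
    exact one_mem _
  · obtain ⟨k, hk⟩ := IsPGroup.iff_card.mp (Cores.pCore_isPGroup p (G ⧸ C))
    refine ⟨k, ?_⟩
    have h : ((⊥ : Subgroup (G ⧸ C)).comap π).relIndex ((Cfsg.pCore p (G ⧸ C)).comap π) =
        (⊥ : Subgroup (G ⧸ C)).relIndex (((Cfsg.pCore p (G ⧸ C)).comap π).map π) :=
      Subgroup.relIndex_comap _ _ _
    rwa [Subgroup.map_comap_eq_self_of_surjective (QuotientGroup.mk'_surjective C),
      MonoidHom.comap_bot, QuotientGroup.ker_mk', Subgroup.relIndex_bot_left, hk] at h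

/-- For a normal `p`-subgroup `B` of a `p`-stable group, `Z(J(S)) ∩ B` is normal. -/
theorem zIn_inf_normal_of_pointwise (hp2 : p ≠ 2) {e : ℕ}
    (he : Odd e ∨ e = 0) (S : Sylow p G)
    (hst : ∀ (B : Subgroup G) [B.Normal], IsPGroup p B → ∀ A W : Subgroup G, MaxIn e (S : Subgroup G) A → W ≤ A →
      B ≤ Subgroup.normalizer (W : Set G) →
      (B ≤ Subgroup.normalClosure (zIn e (S : Subgroup G) : Set G) ∨ W = zIn e (S : Subgroup G)) → ∀ a ∈ W,
      QuotientGroup.mk' (Subgroup.centralizer (B : Set G)) a ∈ Cfsg.pCore p (G ⧸ Subgroup.centralizer (B : Set G))) : ∀ (B : Subgroup G) [B.Normal], B ≤ (S : Subgroup G) →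
      (zIn e (S : Subgroup G) ⊓ B).Normal := by
  intro B
  induction hn : Nat.card B using Nat.strong_induction_on generalizing B with
  | _ n ih =>
    intro _ hBS
    subst hn
    set P := (S : Subgroup G) with hP
    set Z := zIn e P with hZ
    set Z₁ := Z ⊓ B with hZ₁
    have hZP : P ≤ Subgroup.normalizer (Z : Set G) :=
      Subgroup.le_normalizer.trans (normalizer_le_normalizer_zIn e P)
    have hPZ₁ : P ≤ Subgroup.normalizer (Z₁ : Set G) := by
      intro s hs
      rw [Subgroup.mem_normalizer_iff]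
      intro x
      rw [hZ₁, Subgroup.mem_inf, Subgroup.mem_inf, ← Subgroup.mem_normalizer_iff.mp (hZP hs) x]
      refine and_congr Iff.rfl ⟨fun hx => Subgroup.Normal.conj_mem inferInstance x hx s, fun hx => ?_⟩
      have := Subgroup.Normal.conj_mem (inferInstance : B.Normal) _ hx s⁻¹
      rwa [show s⁻¹ * (s * x * s⁻¹) * s⁻¹⁻¹ = x by group] at this
    set B₁ := Subgroup.normalClosure (Z₁ : Set G) with hB₁
    have hB₁B : B₁ ≤ B := Subgroup.normalClosure_le_normal fun x hx => hx.2
    rcases hB₁B.lt_or_eq with hlt | heq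
    · have hlt' : Nat.card B₁ < Nat.card B :=
        (Subgroup.card_le_of_le hlt.le).lt_of_ne fun h => hlt.ne (Subgroup.eq_of_le_of_card_ge hlt.le h.ge)
      have h1 := ih _ hlt' B₁ rfl (hB₁B.trans hBS)
      have : Z ⊓ B₁ = Z₁ := le_antisymm (inf_le_inf_left _ hB₁B)
        (le_inf inf_le_left fun x hx => Subgroup.subset_normalClosure hx)
      rwa [this] at h1
    by_cases hBbot : B = ⊥
    · rw [hZ₁, hBbot, inf_bot_eq]; infer_instance
    -- `B' ≤ Z`
    have hBp : IsPGroup p B := S.2.to_le hBS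
    haveI : (⁅B, B⁆).Normal := Subgroup.commutator_normal B B
    have hlt : ⁅B, B⁆ < B := Transfer.commutator_lt_self hBp hBbot
    set Z₂ := Z ⊓ ⁅B, B⁆ with hZ₂
    haveI hZ₂n : Z₂.Normal := ih _ ((Subgroup.card_le_of_le hlt.le).lt_of_ne fun h =>
      hlt.ne (Subgroup.eq_of_le_of_card_ge hlt.le h.ge)) _ rfl (hlt.le.trans hBS)
    have hB'Z : ⁅B, B⁆ ≤ Z := by
      refine le_trans ?_ (inf_le_left : Z₂ ≤ Z)
      have key : ∀ x ∈ B₁, ∀ y ∈ B, ⁅x, y⁆ ∈ Z₂ := by
        intro x hx
        rw [hB₁, Subgroup.normalClosure] at hx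
        induction hx using Subgroup.closure_induction with
        | mem x hx =>
          intro y hy
          obtain ⟨z, hz, hzx⟩ := Group.mem_conjugatesOfSet_iff.mp hx
          obtain ⟨g, rfl⟩ := isConj_iff.mp hzx
          have hy' : g⁻¹ * y * g ∈ B := by
            simpa using Subgroup.Normal.conj_mem (inferInstance : B.Normal) y hy g⁻¹
          have h1 : ⁅z, g⁻¹ * y * g⁆ ∈ Z₂ := by
            refine Subgroup.mem_inf.mpr ⟨?_, Subgroup.commutator_mem_commutator hz.2 hy'⟩
            rw [commutatorElement_def, mul_assoc z _ z⁻¹, mul_assoc z]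
            exact mul_mem hz.1
              ((Subgroup.mem_normalizer_iff.mp (hZP (hBS hy')) z⁻¹).mp (inv_mem hz.1))
          rw [show ⁅g * z * g⁻¹, y⁆ = g * ⁅z, g⁻¹ * y * g⁆ * g⁻¹ by
            simp only [commutatorElement_def]; group]
          exact hZ₂n.conj_mem _ h1 g
        | one => intro y _; simp
        | mul a c _ _ ha hc =>
          intro y hy
          rw [show ⁅a * c, y⁆ = a * ⁅c, y⁆ * a⁻¹ * ⁅a, y⁆ by simp only [commutatorElement_def]; group]
          exact mul_mem (hZ₂n.conj_mem _ (hc y hy) a) (ha y hy)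
        | inv a _ ha =>
          intro y hy
          rw [show ⁅a⁻¹, y⁆ = a⁻¹ * ⁅a, y⁆⁻¹ * a⁻¹⁻¹ by simp only [commutatorElement_def]; group]
          exact hZ₂n.conj_mem _ (inv_mem (ha y hy)) a⁻¹
      rw [Subgroup.commutator_le]
      intro x hx y hy
      exact key x (heq.ge hx) y hy
    -- the largest normal subgroup normalizing `Z₁`
    set N₁ := Subgroup.normalizer (Z₁ : Set G) with hN₁
    set L := N₁.normalCore with hL
    have hLN : L ≤ N₁ := Subgroup.normalCore_le _
    obtain ⟨D, hD, hCD, ⟨k, hk⟩, hstab⟩ := exists_core (p := p) (B := B)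
    haveI := hD
    have hDL : D ≤ L := by
      refine (Subgroup.normal_le_normalCore).mpr ?_
      refine (normal_le_sup_inf_sylow D _ hCD hk S).trans (sup_le ?_ (inf_le_left.trans hPZ₁))
      exact (Subgroup.centralizer_le (show (Z₁ : Set G) ⊆ B from fun x hx => hx.2)).trans
        (Subgroup.centralizer_le_normalizer _)
    set T := P ⊓ L with hT
    have hfrat : L ⊔ Subgroup.normalizer (T : Set G) = ⊤ := by
      have hp1 : IsPGroup p (T.subgroupOf L) :=
        (S.2.to_le inf_le_left).of_equiv (Subgroup.subgroupOfEquivOfLe inf_le_right).symm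
      have hidx : ¬ p ∣ (T.subgroupOf L).index := by
        rw [← Subgroup.relIndex, hT, Subgroup.inf_relIndex_right]
        exact fun h => S.not_dvd_index (h.trans (PGroups.relIndex_dvd_index_of_normal_right L _))
      have h := Sylow.normalizer_sup_eq_top (hp1.toSylow hidx)
      rw [IsPGroup.toSylow_coe, Subgroup.subgroupOf_map_subtype,
        inf_eq_left.mpr (inf_le_right : T ≤ L), sup_comm] at h
      exact h
    by_cases hall : ∀ A, MaxIn e P A → A ≤ L
    · -- `J(S) ≤ L`
      have hZT : zIn e T = Z := by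
        rw [hZ, zIn, zIn]
        congr 1
        ext A
        obtain ⟨A₁, hA₁⟩ := exists_maxIn e P
        constructor
        · intro hA
          exact ⟨hA.1.trans inf_le_left, hA.2.1, fun X hX hXe =>
            (hA₁.2.2 X hX hXe).trans (hA.2.2 A₁ (le_inf hA₁.1 (hall A₁ hA₁)) hA₁.2.1)⟩
        · intro hA
          exact ⟨le_inf hA.1 (hall A hA), hA.2.1, fun X hX hXe => hA.2.2 X (hX.trans inf_le_left) hXe⟩
      refine Subgroup.normalizer_eq_top_iff.mp (top_le_iff.mp (hfrat ▸ sup_le hLN ?_))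
      intro g hg
      have hgZ : g ∈ Subgroup.normalizer (Z : Set G) := hZT ▸ normalizer_le_normalizer_zIn e T hg
      rw [Subgroup.mem_normalizer_iff]
      intro x
      rw [hZ₁, Subgroup.mem_inf, Subgroup.mem_inf, ← Subgroup.mem_normalizer_iff.mp hgZ x]
      refine and_congr Iff.rfl ⟨fun hx => Subgroup.Normal.conj_mem inferInstance x hx g, fun hx => ?_⟩
      have := Subgroup.Normal.conj_mem (inferInstance : B.Normal) _ hx g⁻¹
      rwa [show g⁻¹ * (g * x * g⁻¹) * g⁻¹⁻¹ = x by group] at this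
    exfalso
    push Not at hall
    obtain ⟨A, ⟨hA, hAL⟩, hmax⟩ := Set.exists_max_image {A : Subgroup G | MaxIn e P A ∧ ¬ A ≤ L}
      (fun A => Nat.card ↥(A ⊓ B)) (Set.toFinite _) hall
    have hBA : ⁅B, B⁆ ≤ A := hB'Z.trans (zIn_le hA)
    by_cases hnorm : B ≤ Subgroup.normalizer (A : Set G)
    · exact hAL fun a ha => hDL (hstab a (hst B hBp A A hA le_rfl hnorm
        (Or.inl (heq.ge.trans (Subgroup.normalClosure_mono fun x hx => hx.1))) a ha))
    obtain ⟨A', hA', hlt', hA'N⟩ := exists_replace_sylow hp2 he S B hBS hA hBA hnorm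
    have hA'L : A' ≤ L := by
      by_contra hne
      exact hlt'.ne (Subgroup.eq_of_le_of_card_ge hlt'.le (hmax A' ⟨hA', hne⟩))
    have hA'T : MaxIn e T A' := ⟨le_inf hA'.1 hA'L, hA'.2.1,
      fun X hX hXe => hA'.2.2 X (hX.trans inf_le_left) hXe⟩
    have hZT : Z ≤ zIn e T := by
      refine le_sInf fun X hX => zIn_le ⟨hX.1.trans inf_le_left, hX.2.1, fun Y hY hYe => ?_⟩
      exact (hA'.2.2 Y hY hYe).trans (hX.2.2 A' hA'T.1 hA'T.2.1)
    have hBT : B₁ ≤ zIn e T := by
      rw [hB₁, Subgroup.normalClosure, Subgroup.closure_le]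
      intro x hx
      obtain ⟨z, hz, hzx⟩ := Group.mem_conjugatesOfSet_iff.mp hx
      obtain ⟨g, rfl⟩ := isConj_iff.mp hzx
      obtain ⟨n, hn, l, hl, rfl⟩ : ∃ n ∈ Subgroup.normalizer (T : Set G), ∃ l ∈ L, n * l = g := by
        have hg : g ∈ Subgroup.normalizer (T : Set G) ⊔ L := by rw [sup_comm, hfrat]; trivial
        exact Subgroup.mem_sup_of_normal_right.mp hg
      have h1 : l * z * l⁻¹ ∈ Z₁ := (Subgroup.mem_normalizer_iff.mp (hLN hl) z).mp hz
      have h2 := (Subgroup.mem_normalizer_iff.mp (normalizer_le_normalizer_zIn e T hn) _).mp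
        (hZT h1.1)
      rw [SetLike.mem_coe, show n * l * z * (n * l)⁻¹ = n * (l * z * l⁻¹) * n⁻¹ by group]
      exact h2
    exact hnorm ((heq.ge.trans hBT).trans ((zIn_le hA'T).trans hA'N))

/-- **Glauberman's `ZJ` theorem.** -/
theorem zIn_normal_of_pointwise (hp2 : p ≠ 2)
    (hc : Subgroup.centralizer (Cfsg.pCore p G : Set G) ≤ Cfsg.pCore p G)
    {e : ℕ} (he : Odd e ∨ e = 0) (S : Sylow p G)
    (hst : ∀ (B : Subgroup G) [B.Normal], IsPGroup p B → ∀ A W : Subgroup G, MaxIn e (S : Subgroup G) A → W ≤ A →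
      B ≤ Subgroup.normalizer (W : Set G) →
      (B ≤ Subgroup.normalClosure (zIn e (S : Subgroup G) : Set G) ∨ W = zIn e (S : Subgroup G)) → ∀ a ∈ W,
      QuotientGroup.mk' (Subgroup.centralizer (B : Set G)) a ∈ Cfsg.pCore p (G ⧸ Subgroup.centralizer (B : Set G))) : (zIn e (S : Subgroup G)).Normal := by
  haveI := Cfsg.pCore_normal p G
  set Q := Cfsg.pCore p G with hQ
  set Z := zIn e (S : Subgroup G) with hZ
  have hQS : Q ≤ (S : Subgroup G) := Cores.pCore_le_sylow S
  have hZQ : Z ≤ Q := by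
    obtain ⟨D, hD, hCD, ⟨k, hk⟩, hstab⟩ := exists_core (p := p) (B := Q)
    intro z hz
    refine Cores.le_pCore hD ?_ (hstab z ?_)
    · obtain ⟨m, hm⟩ := IsPGroup.iff_card.mp ((Cores.pCore_isPGroup p G).to_le hc)
      refine IsPGroup.of_card (n := m + k) ?_
      rw [pow_add, ← hm, ← hk, ← Subgroup.relIndex_bot_left, ← Subgroup.relIndex_bot_left]
      exact (Subgroup.relIndex_mul_relIndex _ _ _ bot_le hCD).symm
    · obtain ⟨A, hA⟩ := exists_maxIn e (S : Subgroup G)
      exact hst Q (Cores.pCore_isPGroup p G) A Z hA (zIn_le hA)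
        (hQS.trans (Subgroup.le_normalizer.trans (normalizer_le_normalizer_zIn e _))) (Or.inr rfl) z hz
  have h := zIn_inf_normal_of_pointwise hp2 he S hst Q hQS
  rwa [inf_eq_left.mpr hZQ] at h

end Cfsg.Agent.Lib.PLocal
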