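import Cfsg.Agent.Lib.Cores.Frattini
import Cfsg.Agent.Lib.Classification.Extraspecial
import Cfsg.Agent.Lib.RankTwo.Metacyclic
import Mathlib.GroupTheory.SpecificGroups.Dihedral
import Mathlib.Algebra.Group.Shrink

/-!
Groups with Frattini subgroup of order `p` having an elementary abelian centralizer of index `p` and an
element of order `p` outside it.
-/

set_option autoImplicit false
set_option linter.unusedSectionVars false
set_option linter.style.haveILetI false

namespace Cfsg.Agent.Lib.PLocal.GenExtra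

open scoped commutatorElement

universe u

variable {p : ℕ} [hp : Fact p.Prime] {G : Type u} [Group G]

/-- Commutators central and in a subgroup of order `p`. -/
structure Small (p : ℕ) (G : Type u) [Group G] (z : G) : Prop where
  ord : orderOf z = p
  comm : ∀ a b : G, ⁅a, b⁆ ∈ Subgroup.zpowers z
  pow : ∀ a : G, a ^ p ∈ Subgroup.zpowers z
  central : ∀ a : G, Commute z a

variable {z : G}

theorem Small.comm_central (h : Small p G z) (a b c : G) : Commute ⁅a, b⁆ c := by
  obtain ⟨i, hi⟩ := Subgroup.mem_zpowers_iff.1 (h.comm a b)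
  exact hi ▸ (h.central c).zpow_left i

theorem Small.mul_left (h : Small p G z) (a b c : G) : ⁅a * b, c⁆ = ⁅a, c⁆ * ⁅b, c⁆ := by
  have h1 : a * ⁅b, c⁆ * a⁻¹ = ⁅b, c⁆ := by rw [← (h.comm_central b c a).eq, mul_inv_cancel_right]
  rw [show ⁅a * b, c⁆ = a * ⁅b, c⁆ * a⁻¹ * ⁅a, c⁆ by simp only [commutatorElement_def]; group, h1]
  exact (h.comm_central b c _).eq

theorem Small.mul_right (h : Small p G z) (a b c : G) : ⁅a, b * c⁆ = ⁅a, b⁆ * ⁅a, c⁆ := by
  rw [← commutatorElement_inv (b * c) a, h.mul_left, mul_inv_rev, commutatorElement_inv,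
    commutatorElement_inv]
  exact (h.comm_central a c _).eq

/-- commutation with a fixed element -/
def Small.commHom (h : Small p G z) (v : G) : G →* G :=
  MonoidHom.mk' (fun a => ⁅a, v⁆) fun a b => h.mul_left a b v

theorem Small.pow_left (h : Small p G z) (a v : G) (i : ℤ) : ⁅a ^ i, v⁆ = ⁅a, v⁆ ^ i :=
  map_zpow (h.commHom v) a i

theorem Small.mul_pow (h : Small p G z) (hp2 : p ≠ 2) (a b : G) : (a * b) ^ p = a ^ p * b ^ p := by
  set c := ⁅b, a⁆ with hc
  have hcc : ∀ x, Commute c x := h.comm_central b a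
  have hba : b * a = c * (a * b) := by rw [hc, commutatorElement_def]; group
  have hbn : ∀ n : ℕ, b ^ n * a = c ^ n * (a * b ^ n) := by
    intro n
    induction n with
    | zero => simp
    | succ n ih =>
      rw [pow_succ', mul_assoc, ih, ← mul_assoc, ← ((hcc b).pow_left n).eq, mul_assoc, ← mul_assoc b a, hba,
        pow_succ c, mul_assoc, mul_assoc, mul_assoc, ← pow_succ']
  have key : ∀ n : ℕ, (a * b) ^ n = c ^ n.choose 2 * (a ^ n * b ^ n) := by
    intro n
    induction n with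
    | zero => simp
    | succ n ih =>
      rw [pow_succ, ih, mul_assoc, mul_assoc (a ^ n), ← mul_assoc (b ^ n), hbn,
        mul_assoc (c ^ n), ← mul_assoc (a ^ n), ← ((hcc (a ^ n)).pow_left n).eq, mul_assoc (c ^ n),
        ← mul_assoc (c ^ n.choose 2), ← pow_add, mul_assoc a, ← pow_succ, ← mul_assoc (a ^ n), ← pow_succ,
        Nat.choose_succ_succ', Nat.choose_one_right, add_comm n, Nat.add_comm n (n.choose 2)]
  have hd : p ∣ p.choose 2 :=
    hp.out.dvd_choose_self two_ne_zero (by have := hp.out.two_le; omega)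
  obtain ⟨i, hi⟩ := Subgroup.mem_zpowers_iff.1 (h.comm b a)
  obtain ⟨r, hr⟩ := hd
  rw [key, hr, pow_mul, hc, ← hi, ← zpow_natCast (z ^ i), ← zpow_mul, mul_comm i, zpow_mul, zpow_natCast,
    ← h.ord, pow_orderOf_eq_one, one_zpow, one_pow, one_mul]

/-- the data giving the decomposition -/
structure Data (p : ℕ) (G : Type u) [Group G] (z z' y : G) : Prop extends Small p G z where
  abel : ∀ a b : G, Commute a z' → Commute b z' → Commute a b
  exp : ∀ a : G, Commute a z' → a ^ p = 1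
  not_comm : ¬ Commute y z'
  ypow : y ^ p = 1

variable {z' y : G}

theorem Data.gen_comm (h : Data p G z z' y) : ∀ a b : G, ∃ i : ℤ, ⁅a, b⁆ = ⁅y, z'⁆ ^ i := by
  intro a b
  have : Subgroup.zpowers ⁅y, z'⁆ = Subgroup.zpowers z := by
    obtain ⟨i, hi⟩ := Subgroup.mem_zpowers_iff.1 (h.comm y z')
    have hne : ⁅y, z'⁆ ≠ 1 := fun e => h.not_comm (commutatorElement_eq_one_iff_mul_comm.1 e)
    haveI : Finite (Subgroup.zpowers z) := Nat.finite_of_card_ne_zero (by
      rw [Nat.card_zpowers, h.ord]; exact hp.out.ne_zero)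
    refine Subgroup.eq_of_le_of_card_ge (Subgroup.zpowers_le.2 (h.comm y z')) ?_
    rw [Nat.card_zpowers, Nat.card_zpowers, h.ord, orderOf_eq_prime (by
      rw [← hi, ← zpow_natCast, ← zpow_mul, mul_comm, zpow_mul, zpow_natCast,
        show z ^ p = 1 from h.ord ▸ pow_orderOf_eq_one z, one_zpow]) hne]
  obtain ⟨i, hi⟩ := Subgroup.mem_zpowers_iff.1 (this ▸ h.comm a b)
  exact ⟨i, hi.symm⟩

theorem Data.decomp (h : Data p G z z' y) (x : G) :
    ∃ i j : ℤ, ∃ w : G, Commute w z' ∧ Commute w y ∧ x = y ^ i * z' ^ j * w := by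
  obtain ⟨i, hi⟩ := h.gen_comm x z'
  set a := y ^ (-i) * x with ha
  have haz : Commute a z' := commutatorElement_eq_one_iff_mul_comm.1 (by
    rw [ha, h.mul_left, h.pow_left, hi, ← zpow_add, neg_add_cancel, zpow_zero])
  obtain ⟨j, hj⟩ := h.gen_comm a y
  refine ⟨i, -j, z' ^ j * a, ((Commute.refl z').zpow_left j).mul_left haz, ?_, by
    rw [ha, zpow_neg, zpow_neg]; group⟩
  refine commutatorElement_eq_one_iff_mul_comm.1 ?_
  rw [h.mul_left, h.pow_left, hj, ← commutatorElement_inv y z', inv_zpow, inv_mul_cancel]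

theorem Data.central_of (h : Data p G z z' y) {w : G} (h1 : Commute w z') (h2 : Commute w y) (x : G) :
    Commute w x := by
  obtain ⟨i, j, v, hv, -, rfl⟩ := h.decomp x
  exact ((h2.zpow_right i).mul_right (h1.zpow_right j)).mul_right (h.abel w v h1 hv)

/-- a complement of `⟨z⟩` in the centre -/
theorem Data.exists_compl [Finite G] (h : Data p G z z' y) :
    ∃ A : Subgroup G, (∀ a ∈ A, ∀ x, Commute a x) ∧ (∀ a ∈ A, a ^ p = 1) ∧ z ∉ A ∧
      ∀ w : G, (∀ x, Commute w x) → ∃ k : ℤ, ∃ a ∈ A, w = z ^ k * a := by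
  classical
  have hne : z ≠ 1 := fun e => hp.out.one_lt.ne (by rw [← h.ord, e, orderOf_one])
  obtain ⟨A, ⟨hAc, hAz⟩, hmax⟩ := Set.exists_max_image
    {A : Subgroup G | (∀ a ∈ A, ∀ x, Commute a x) ∧ z ∉ A} (fun A => Nat.card A) (Set.toFinite _)
    ⟨⊥, fun a ha x => by rw [Subgroup.mem_bot.1 ha]; exact Commute.one_left x,
      fun e => hne (Subgroup.mem_bot.1 e)⟩
  refine ⟨A, hAc, fun a ha => h.exp a (hAc a ha z'), hAz, fun w hw => ?_⟩
  by_cases hwA : w ∈ A
  · exact ⟨0, w, hwA, by simp⟩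
  let A₂ : Subgroup G :=
    { carrier := {x | ∃ a ∈ A, ∃ i : ℤ, x = a * w ^ i}
      one_mem' := ⟨1, one_mem A, 0, by simp⟩
      mul_mem' := by
        rintro x x' ⟨a, ha, i, rfl⟩ ⟨a', ha', i', rfl⟩
        refine ⟨a * a', mul_mem ha ha', i + i', ?_⟩
        rw [zpow_add, mul_assoc, ← mul_assoc (w ^ i), ((hw a').zpow_left i).eq]
        group
      inv_mem' := by
        rintro x ⟨a, ha, i, rfl⟩
        refine ⟨a⁻¹, inv_mem ha, -i, ?_⟩
        rw [mul_inv_rev, ← zpow_neg]
        exact ((hw a⁻¹).zpow_left (-i)).eq }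
  have hlt : A < A₂ := lt_of_le_of_ne (fun a ha => ⟨a, ha, 0, by simp⟩) fun e => hwA (by
    rw [e]; exact ⟨1, one_mem A, 1, by simp⟩)
  have hzA₂ : z ∈ A₂ := by
    by_contra hz
    have hc : ∀ x ∈ A₂, ∀ v, Commute x v := by
      rintro x ⟨a, ha, i, rfl⟩ v
      exact (hAc a ha v).mul_left ((hw v).zpow_left i)
    exact hlt.ne (Subgroup.eq_of_le_of_card_ge hlt.le (hmax A₂ ⟨hc, hz⟩))
  obtain ⟨a, ha, i, hi⟩ := hzA₂
  have hwp : w ^ (p : ℤ) = 1 := by rw [zpow_natCast]; exact h.exp w (hw z')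
  have hcop : Int.gcd i p = 1 := by
    rw [Int.gcd_comm]
    refine (Nat.coprime_or_dvd_of_prime hp.out i.natAbs).resolve_right fun hd => hAz ?_
    obtain ⟨r, rfl⟩ := Int.natCast_dvd.2 hd
    rw [hi, zpow_mul, hwp, one_zpow, mul_one]
    exact ha
  obtain ⟨s, t, hst⟩ : ∃ s t : ℤ, i * s + p * t = 1 := ⟨Int.gcdA i p, Int.gcdB i p, by
    rw [← Int.gcd_eq_gcd_ab, hcop]; rfl⟩
  refine ⟨s, a⁻¹ ^ s, zpow_mem (inv_mem ha) s, ?_⟩
  have hwi : w ^ i = a⁻¹ * z := by rw [hi]; group
  have e1 : w = (w ^ i) ^ s := by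
    rw [← zpow_mul, show i * s = 1 - p * t by omega, zpow_sub, zpow_one, zpow_mul, hwp, one_zpow, inv_one,
      mul_one]
  nth_rewrite 1 [e1]
  rw [hwi, ((hAc _ (inv_mem ha) z)).mul_zpow]
  exact ((hAc _ (zpow_mem (inv_mem ha) s) (z ^ s))).eq

/-- The case `p = 2`: a dihedral factor. -/
theorem Data.exists_dihedral [Finite G] {z z' y : G} (h : Data 2 G z z' y) :
    ∃ (A : Type) (_ : CommGroup A), (∀ a : A, a ^ 2 = 1) ∧ Nonempty (G ≃* DihedralGroup 4 × A) := by
  haveI : Fact (Nat.Prime 2) := ⟨Nat.prime_two⟩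
  obtain ⟨A, hAc, hAe, hAz, hAgen⟩ := h.exists_compl
  have hz2 : z * z = 1 := by rw [← pow_two, ← h.ord, pow_orderOf_eq_one]
  have hy : y * y = 1 := by rw [← pow_two, h.ypow]
  have hz' : z' * z' = 1 := by rw [← pow_two, h.exp z' (Commute.refl z')]
  have hinv : ∀ u : G, u * u = 1 → u⁻¹ = u := fun u hu => inv_eq_of_mul_eq_one_left hu
  set ρ := y * z' with hρ
  have hρ2 : ρ * ρ = z := by
    have e : ρ * ρ = ⁅y, z'⁆ := by rw [hρ, commutatorElement_def, hinv y hy, hinv z' hz']; group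
    have hne : ⁅y, z'⁆ ≠ 1 := fun e => h.not_comm (commutatorElement_eq_one_iff_mul_comm.1 e)
    obtain ⟨i, hi⟩ := Subgroup.mem_zpowers_iff.1 (h.comm y z')
    rw [e, ← hi]
    rcases Int.even_or_odd i with ⟨r, rfl⟩ | ⟨r, rfl⟩
    · exact absurd (by rw [← hi, ← two_mul, zpow_mul, zpow_two, hz2, one_zpow]) hne
    · rw [zpow_add, zpow_mul, zpow_two, hz2, one_zpow, one_mul, zpow_one]
  have hρ4 : ρ ^ 4 = 1 := by
    rw [show 4 = 2 + 2 from rfl, pow_add, pow_two, hρ2, hz2]
  have hconj : y * ρ * y⁻¹ = ρ⁻¹ := by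
    rw [hρ, mul_inv_rev, hinv y hy, hinv z' hz', ← mul_assoc y, hy, one_mul]
  let P : ZMod 4 → G := fun i => ρ ^ i.val
  have hP : ∀ i j, P (i + j) = P i * P j := by
    intro i j
    show ρ ^ (i + j).val = ρ ^ i.val * ρ ^ j.val
    rw [← pow_add, ZMod.val_add]
    conv_rhs => rw [← Nat.mod_add_div (i.val + j.val) 4, pow_add, pow_mul, hρ4, one_pow, mul_one]
  have hP0 : P 0 = 1 := pow_zero ρ
  have hPn : ∀ i, P (-i) = (P i)⁻¹ := fun i => by
    refine eq_inv_of_mul_eq_one_left ?_
    rw [← hP, neg_add_cancel, hP0]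
  have hyP : ∀ i, P i * y = y * P (-i) := by
    intro i
    rw [hPn]
    have e : y * P i * y⁻¹ = (P i)⁻¹ := by
      show y * ρ ^ i.val * y⁻¹ = (ρ ^ i.val)⁻¹
      rw [← conj_pow, hconj, inv_pow]
    rw [← e, hinv y hy, ← mul_assoc, ← mul_assoc, hy, one_mul]
  let f₀ : DihedralGroup 4 → G := fun d => match d with
    | .r i => P i
    | .sr i => y * P i
  have hf₀ : ∀ a b, f₀ (a * b) = f₀ a * f₀ b := by
    rintro (i | i) (j | j)
    · exact hP i j
    · show y * P (j - i) = P i * (y * P j)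
      rw [← mul_assoc, hyP, mul_assoc, ← hP, neg_add_eq_sub]
    · show y * P (i + j) = y * P i * P j
      rw [hP, mul_assoc]
    · show P (j - i) = y * P i * (y * P j)
      rw [mul_assoc y, ← mul_assoc (P i), hyP, mul_assoc y, ← mul_assoc y, hy, one_mul, ← hP, neg_add_eq_sub]
  let f : DihedralGroup 4 →* G := MonoidHom.mk' f₀ hf₀
  let F : DihedralGroup 4 × A →* G := MonoidHom.mk' (fun x => f x.1 * (x.2 : G)) fun a b => by
    simp only [Prod.fst_mul, Prod.snd_mul, map_mul, Subgroup.coe_mul]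
    rw [mul_assoc, ← mul_assoc (f b.1), ← (hAc _ a.2.2 (f b.1)).eq]
    group
  have hbij : Function.Bijective F := by
    constructor
    · rw [injective_iff_map_eq_one]
      rintro ⟨d, a, ha⟩ hF
      have e : f d = a⁻¹ := eq_inv_of_mul_eq_one_left hF
      have hc : Commute (f d) z' ∧ Commute (f d) y := by
        rw [e]; exact ⟨hAc _ (inv_mem ha) _, hAc _ (inv_mem ha) _⟩
      have hρz : ¬ Commute ρ z' := fun hcc => h.not_comm (by
        have := hcc.mul_left ((Commute.refl z').inv_left)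
        rwa [hρ, mul_inv_cancel_right] at this)
      have hd : d = 1 := by
        have hi4 : ∀ i : ZMod 4, i = 0 ∨ i = 1 ∨ i = 2 ∨ i = 3 := by decide
        have h1 : P 1 = ρ := pow_one ρ
        have h2 : P 2 = z := (pow_two ρ).trans hρ2
        have h3 : P 3 = ρ * z := by rw [show (3 : ZMod 4) = 1 + 2 from rfl, hP, h1, h2]
        have hzc : Commute z z' := h.central z'
        have hyz : ∀ u, Commute u z' → ¬ Commute (y * u) z' := fun u hu hcc => h.not_comm (by
          have := hcc.mul_left hu.inv_left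
          rwa [mul_inv_cancel_right] at this)
        rcases d with i | i
        · rcases hi4 i with rfl | rfl | rfl | rfl
          · rfl
          · exact absurd hc.1 (by rw [show f (.r 1) = ρ from h1]; exact hρz)
          · exfalso
            refine hAz ?_
            rw [← h2, show P 2 = a⁻¹ from e]
            exact inv_mem ha
          · refine absurd hc.1 ?_
            rw [show f (.r 3) = ρ * z from h3]
            intro hcc
            refine hρz ?_
            have := hcc.mul_left hzc.inv_left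
            rwa [mul_inv_cancel_right] at this
        · exfalso
          rcases hi4 i with rfl | rfl | rfl | rfl
          · exact hyz 1 (Commute.one_left _) (by rw [← hP0]; exact hc.1)
          · have hc2 : Commute (y * ρ) y := by rw [← h1]; exact hc.2
            rw [hρ, ← mul_assoc, hy, one_mul] at hc2
            exact h.not_comm hc2.symm
          · exact hyz z hzc (by rw [← h2]; exact hc.1)
          · have hc2 : Commute (y * (ρ * z)) y := by rw [← h3]; exact hc.2
            rw [← mul_assoc, hρ, ← mul_assoc y y, hy, one_mul] at hc2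
            refine h.not_comm ?_
            have := hc2.mul_left (h.central y).inv_left
            rw [mul_inv_cancel_right] at this
            exact this.symm
      subst hd
      rw [map_one] at e
      refine Prod.ext rfl (Subtype.ext ?_)
      exact inv_eq_one.1 e.symm
    · intro x
      obtain ⟨i, j, w, hw1, hw2, rfl⟩ := h.decomp x
      obtain ⟨k, a, ha, rfl⟩ := hAgen w (h.central_of hw1 hw2)
      refine ⟨((DihedralGroup.sr 0) ^ i * (DihedralGroup.sr 1) ^ j * (DihedralGroup.r 2) ^ k, ⟨a, ha⟩), ?_⟩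
      show f _ * a = _
      rw [map_mul, map_mul, map_zpow, map_zpow, map_zpow]
      have e1 : f (DihedralGroup.sr 0) = y := (congrArg (y * ·) hP0).trans (mul_one y)
      have e2 : f (DihedralGroup.sr 1) = z' := by
        show y * ρ ^ 1 = z'
        rw [pow_one, hρ, ← mul_assoc, hy, one_mul]
      have e3 : f (DihedralGroup.r 2) = z := (pow_two ρ).trans hρ2
      rw [e1, e2, e3]
      group
  let K := Shrink.{0} A
  let e : A ≃* K := Shrink.mulEquiv.symm
  letI : CommGroup K :=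
    { (inferInstance : Group K) with
      mul_comm := fun a b => e.symm.injective (by
        rw [map_mul, map_mul]
        exact Subtype.ext (hAc _ (e.symm a).2 _).eq) }
  refine ⟨K, inferInstance, fun a => e.symm.injective ?_,
    ⟨(MulEquiv.ofBijective F hbij).symm.trans ((MulEquiv.refl _).prodCongr e)⟩⟩
  rw [map_pow, map_one]
  exact Subtype.ext (hAe _ (e.symm a).2)

/-- The case of odd `p`: an extraspecial factor of exponent `p`. -/
theorem Data.exists_extraspecial [Finite G] (hp2 : p ≠ 2) (h : Data p G z z' y) :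
    ∃ (E : Type) (_ : Group E) (A : Type) (_ : CommGroup A), Cfsg.IsExtraspecial p E ∧ Nat.card E = p ^ 3 ∧
      Monoid.exponent E = p ∧ (∀ a : A, a ^ p = 1) ∧ Nonempty (G ≃* E × A) := by
  classical
  obtain ⟨A, hAc, hAe, hAz, hAgen⟩ := h.exists_compl
  have hexp : ∀ x : G, x ^ p = 1 := by
    intro x
    obtain ⟨i, j, w, hw1, -, rfl⟩ := h.decomp x
    rw [h.mul_pow hp2, h.mul_pow hp2, h.exp w hw1, h.exp (z' ^ j) ((Commute.refl z').zpow_left j),
      ← zpow_natCast, ← zpow_mul, mul_comm, zpow_mul, zpow_natCast, h.ypow, one_zpow, one_mul, one_mul]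
  have hzp : ∀ k : ℤ, ((k : ZMod p) = 0) → ∀ x : G, x ^ k = 1 := by
    intro k hk x
    obtain ⟨r, rfl⟩ := (ZMod.intCast_zmod_eq_zero_iff_dvd k p).1 hk
    rw [zpow_mul, zpow_natCast, hexp, one_zpow]
  let E₀ : Subgroup G :=
    { carrier := {x | ∃ i j k : ℤ, x = y ^ i * z' ^ j * z ^ k}
      one_mem' := ⟨0, 0, 0, by simp⟩
      mul_mem' := by
        rintro a b ⟨i, j, k, rfl⟩ ⟨i', j', k', rfl⟩
        obtain ⟨m, hm⟩ := Subgroup.mem_zpowers_iff.1 (h.comm (z' ^ j) (y ^ i'))
        refine ⟨i + i', j + j', k + k' + m, ?_⟩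
        have e : z' ^ j * y ^ i' = z ^ m * (y ^ i' * z' ^ j) := by rw [hm, commutatorElement_def]; group
        have hz : ∀ (n : ℤ) (u : G), u * z ^ n = z ^ n * u := fun n u => ((h.central u).zpow_left n).eq.symm
        calc y ^ i * z' ^ j * z ^ k * (y ^ i' * z' ^ j' * z ^ k')
            = y ^ i * (z' ^ j * (z ^ k * y ^ i')) * z' ^ j' * z ^ k' := by group
          _ = y ^ i * (z' ^ j * (y ^ i' * z ^ k)) * z' ^ j' * z ^ k' := by rw [hz k (y ^ i')]
          _ = y ^ i * ((z' ^ j * y ^ i') * z ^ k) * z' ^ j' * z ^ k' := by group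
          _ = y ^ i * (z ^ m * (y ^ i' * z' ^ j) * z ^ k) * z' ^ j' * z ^ k' := by rw [e]
          _ = y ^ i * ((y ^ i' * z' ^ j) * z ^ (m + k)) * z' ^ j' * z ^ k' := by
              rw [← hz m (y ^ i' * z' ^ j), mul_assoc (y ^ i' * z' ^ j), ← zpow_add]
          _ = y ^ i * (y ^ i' * z' ^ j) * (z ^ (m + k) * z' ^ j') * z ^ k' := by group
          _ = y ^ i * (y ^ i' * z' ^ j) * (z' ^ j' * z ^ (m + k)) * z ^ k' := by rw [hz (m + k) (z' ^ j')]
          _ = _ := by group
      inv_mem' := by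
        rintro a ⟨i, j, k, rfl⟩
        obtain ⟨m, hm⟩ := Subgroup.mem_zpowers_iff.1 (h.comm (z' ^ (-j)) (y ^ (-i)))
        refine ⟨-i, -j, m - k, ?_⟩
        have hz : ∀ (n : ℤ) (u : G), u * z ^ n = z ^ n * u := fun n u => ((h.central u).zpow_left n).eq.symm
        have e : z' ^ (-j) * y ^ (-i) = z ^ m * (y ^ (-i) * z' ^ (-j)) := by
          rw [hm, commutatorElement_def]; group
        calc (y ^ i * z' ^ j * z ^ k)⁻¹ = z ^ (-k) * (z' ^ (-j) * y ^ (-i)) := by group
          _ = z ^ (m - k) * (y ^ (-i) * z' ^ (-j)) := by rw [e, ← mul_assoc, ← zpow_add, neg_add_eq_sub]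
          _ = _ := (hz _ _).symm }
  have hz1 : ∀ (k : ℤ) (v : G), ⁅z ^ k, v⁆ = 1 := fun k v =>
    commutatorElement_eq_one_iff_mul_comm.2 ((h.central v).zpow_left k).eq
  have hcz : ∀ i j k : ℤ, ⁅y ^ i * z' ^ j * z ^ k, z'⁆ = ⁅y, z'⁆ ^ i := fun i j k => by
    rw [h.mul_left, h.mul_left, h.pow_left, h.pow_left, hz1, commutatorElement_self, one_zpow, mul_one, mul_one]
  have hcy : ∀ i j k : ℤ, ⁅y ^ i * z' ^ j * z ^ k, y⁆ = (⁅y, z'⁆ ^ j)⁻¹ := fun i j k => by
    rw [h.mul_left, h.mul_left, h.pow_left, h.pow_left, hz1, commutatorElement_self, one_zpow, mul_one, one_mul,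
      ← commutatorElement_inv y z', inv_zpow]
  have hzne : ⁅y, z'⁆ ≠ 1 := fun e => h.not_comm (commutatorElement_eq_one_iff_mul_comm.1 e)
  have ho : orderOf ⁅y, z'⁆ = p := orderOf_eq_prime (hexp _) hzne
  have key : ∀ n : ℤ, ⁅y, z'⁆ ^ n = 1 → (n : ZMod p) = 0 := fun n hn => by
    rw [ZMod.intCast_zmod_eq_zero_iff_dvd, ← ho]
    exact orderOf_dvd_iff_zpow_eq_one.2 hn
  have hmod : ∀ (x : G) (k : ℤ), ∃ c : Fin p, x ^ k = x ^ (c : ℤ) := fun x k => by
    refine ⟨⟨(k : ZMod p).val, ZMod.val_lt _⟩, ?_⟩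
    rw [show x ^ k = x ^ (k - ((k : ZMod p).val : ℤ)) * x ^ ((k : ZMod p).val : ℤ) by
      rw [← zpow_add, sub_add_cancel], hzp _ (by rw [Int.cast_sub, Int.cast_natCast, ZMod.natCast_zmod_val, sub_self]),
      one_mul]
  have hzord : ∀ n : ℤ, z ^ n = 1 → (n : ZMod p) = 0 := fun n hn => by
    rw [ZMod.intCast_zmod_eq_zero_iff_dvd, ← h.ord]
    exact orderOf_dvd_iff_zpow_eq_one.2 hn
  have hcast : ∀ a b : Fin p, (((a : ℤ) - b : ℤ) : ZMod p) = 0 → a = b := fun a b hab => by
    rw [Int.cast_sub, sub_eq_zero, Int.cast_natCast, Int.cast_natCast, ZMod.natCast_eq_natCast_iff',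
      Nat.mod_eq_of_lt a.2, Nat.mod_eq_of_lt b.2] at hab
    exact Fin.ext hab
  let T : Fin p × Fin p × Fin p → E₀ := fun x =>
    ⟨y ^ (x.1 : ℤ) * z' ^ (x.2.1 : ℤ) * z ^ (x.2.2 : ℤ), ⟨_, _, _, rfl⟩⟩
  have hcard : Nat.card E₀ = p ^ 3 := by
    have hbij : Function.Bijective T := by
      constructor
      · rintro ⟨a, b, c⟩ ⟨a', b', c'⟩ hT
        have hT' : y ^ (a : ℤ) * z' ^ (b : ℤ) * z ^ (c : ℤ) = y ^ (a' : ℤ) * z' ^ (b' : ℤ) * z ^ (c' : ℤ) :=
          congrArg Subtype.val hT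
        have ha : a = a' := hcast a a' (key _ (by
          have e := congrArg (⁅·, z'⁆) hT'
          simp only [hcz] at e
          rw [zpow_sub, e, mul_inv_cancel]))
        have hb : b = b' := hcast b b' (key _ (by
          have e := congrArg (⁅·, y⁆) hT'
          simp only [hcy, inv_inj] at e
          rw [zpow_sub, e, mul_inv_cancel]))
        subst ha hb
        have e := mul_left_cancel hT'
        have hc : c = c' := hcast c c' (hzord _ (by rw [zpow_sub, e, mul_inv_cancel]))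
        subst hc
        rfl
      · rintro ⟨_, i, j, k, rfl⟩
        obtain ⟨a, ha⟩ := hmod y i
        obtain ⟨b, hb⟩ := hmod z' j
        obtain ⟨c, hc⟩ := hmod z k
        refine ⟨(a, b, c), Subtype.ext ?_⟩
        show y ^ (a : ℤ) * z' ^ (b : ℤ) * z ^ (c : ℤ) = y ^ i * z' ^ j * z ^ k
        rw [ha, hb, hc]
    rw [← Nat.card_eq_of_bijective T hbij]
    simp [Nat.card_prod, Nat.card_eq_fintype_card, pow_succ, mul_assoc]
  let y₀ : E₀ := ⟨y, ⟨1, 0, 0, by simp⟩⟩
  let z₀' : E₀ := ⟨z', ⟨0, 1, 0, by simp⟩⟩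
  let z₀ : E₀ := ⟨z, ⟨0, 0, 1, by simp⟩⟩
  have hE₀p : IsPGroup p E₀ := fun x => ⟨1, Subtype.ext (by rw [pow_one]; exact hexp x)⟩
  haveI : Group.IsNilpotent E₀ := hE₀p.isNilpotent
  have hcenter : Subgroup.center E₀ = Subgroup.zpowers z₀ := by
    refine le_antisymm ?_ (Subgroup.zpowers_le.2 (Subgroup.mem_center_iff.2 fun x =>
      Subtype.ext (h.central x).eq.symm))
    rintro ⟨_, i, j, k, rfl⟩ hx
    rw [Subgroup.mem_center_iff] at hx
    have h1 : ⁅y ^ i * z' ^ j * z ^ k, z'⁆ = 1 := commutatorElement_eq_one_iff_mul_comm.2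
      (congrArg Subtype.val (hx z₀')).symm
    have h2 : ⁅y ^ i * z' ^ j * z ^ k, y⁆ = 1 := commutatorElement_eq_one_iff_mul_comm.2
      (congrArg Subtype.val (hx y₀)).symm
    rw [hcz] at h1
    rw [hcy, inv_eq_one] at h2
    refine ⟨k, Subtype.ext ?_⟩
    show z ^ k = y ^ i * z' ^ j * z ^ k
    rw [hzp i (key i h1), hzp j (key j h2), one_mul, one_mul]
  have hzz : Nat.card (Subgroup.zpowers z₀) = p := by
    rw [Nat.card_zpowers, ← Subgroup.orderOf_coe]; exact h.ord
  have hcomm : commutator E₀ = Subgroup.zpowers z₀ := by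
    have hle : commutator E₀ ≤ Subgroup.zpowers z₀ := by
      rw [commutator_def, Subgroup.commutator_le]
      intro a _ b _
      obtain ⟨i, hi⟩ := Subgroup.mem_zpowers_iff.1 (h.comm a b)
      exact ⟨i, Subtype.ext hi⟩
    refine Subgroup.eq_of_le_of_card_ge hle ?_
    rw [hzz]
    have hmem : ⁅y₀, z₀'⁆ ∈ commutator E₀ := Subgroup.commutator_mem_commutator trivial trivial
    calc p = Nat.card (Subgroup.zpowers ⁅y₀, z₀'⁆) := by
          rw [Nat.card_zpowers, ← Subgroup.orderOf_coe]; exact ho.symm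
      _ ≤ _ := Subgroup.card_le_of_le (Subgroup.zpowers_le.2 hmem)
  have hfrat : frattini E₀ = Subgroup.center E₀ := by
    refine le_antisymm ?_ (by rw [hcenter, ← hcomm]; exact Cores.commutator_le_frattini)
    -- the centralizers of the two generators are maximal
    have hmax : ∀ v : E₀, (∃ u : E₀, ¬ Commute u v) → frattini E₀ ≤ Subgroup.centralizer {v} := by
      rintro v ⟨u, hu⟩
      obtain ⟨M, hM, hle⟩ := (eq_top_or_exists_le_coatom (Subgroup.centralizer ({v} : Set E₀))).resolve_left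
        (fun e => hu (Subgroup.mem_centralizer_singleton_iff.1 (e ▸ Subgroup.mem_top u)))
      have hcl : Nat.card E₀ ≤ Nat.card (Subgroup.centralizer ({v} : Set E₀)) * p := by
        let f : E₀ →* G := (h.commHom (v : G)).comp E₀.subtype
        have hk : f.ker ≤ Subgroup.centralizer ({v} : Set E₀) := fun x hx =>
          Subgroup.mem_centralizer_singleton_iff.2 (Subtype.ext (commutatorElement_eq_one_iff_mul_comm.1 hx))
        rw [← Subgroup.card_mul_index f.ker, Subgroup.index_ker]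
        refine Nat.mul_le_mul (Subgroup.card_le_of_le hk) ?_
        rw [← h.ord, ← Nat.card_zpowers]
        exact Subgroup.card_le_of_le (by rintro _ ⟨x, rfl⟩; exact h.comm _ _)
      have hMc : Subgroup.centralizer ({v} : Set E₀) = M := by
        refine Subgroup.eq_of_le_of_card_ge hle ?_
        obtain ⟨hn, hq⟩ := Cores.prime_index_of_isCoatom hM
        have h1 := Subgroup.card_mul_index M
        have h2 : M.index = p := by
          obtain ⟨r, hr⟩ := hE₀p.index M
          rw [hr] at hq ⊢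
          have h3 : r = 1 := Nat.Prime.eq_one_of_pow hq
          rw [h3, pow_one]
        rw [h2] at h1
        exact Nat.le_of_mul_le_mul_right (h1.le.trans hcl) hp.out.pos
      rw [hMc]; exact frattini_le_coatom hM
    intro x hx
    have h1 := Subgroup.mem_centralizer_singleton_iff.1
      (hmax z₀' ⟨y₀, fun e => h.not_comm (congrArg Subtype.val e)⟩ hx)
    have h2 := Subgroup.mem_centralizer_singleton_iff.1
      (hmax y₀ ⟨z₀', fun e => h.not_comm (congrArg Subtype.val e).symm⟩ hx)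
    rw [Subgroup.mem_center_iff]
    intro u
    refine Subtype.ext ?_
    obtain ⟨i, j, k, hu⟩ := u.2
    have h1' : Commute (x : G) z' := congrArg Subtype.val h1
    have h2' : Commute (x : G) y := congrArg Subtype.val h2
    show (u : G) * x = x * u
    rw [hu]
    exact (((h2'.zpow_right i).mul_right (h1'.zpow_right j)).mul_right
      ((h.central (x : G)).symm.zpow_right k)).eq.symm
  have hext : Cfsg.IsExtraspecial p E₀ := ⟨⟨hE₀p, hfrat, by rw [hcomm, hcenter]⟩, by rw [hcenter, hzz]⟩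
  let F : E₀ × A →* G := MonoidHom.mk' (fun x => (x.1 : G) * (x.2 : G)) fun a b => by
    simp only [Prod.fst_mul, Prod.snd_mul, Subgroup.coe_mul]
    rw [mul_assoc, ← mul_assoc (b.1 : G), ← (hAc _ a.2.2 (b.1 : G)).eq]
    group
  have hbij : Function.Bijective F := by
    constructor
    · rw [injective_iff_map_eq_one]
      rintro ⟨⟨_, i, j, k, rfl⟩, a, ha⟩ hF
      have e : y ^ i * z' ^ j * z ^ k = a⁻¹ := eq_inv_of_mul_eq_one_left hF
      have hc := hAc _ (inv_mem ha)
      have h1 : ⁅y ^ i * z' ^ j * z ^ k, z'⁆ = 1 := by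
        rw [e]; exact commutatorElement_eq_one_iff_mul_comm.2 (hc z').eq
      have h2 : ⁅y ^ i * z' ^ j * z ^ k, y⁆ = 1 := by
        rw [e]; exact commutatorElement_eq_one_iff_mul_comm.2 (hc y).eq
      rw [hcz] at h1
      rw [hcy, inv_eq_one] at h2
      have e' := e
      rw [hzp i (key i h1), hzp j (key j h2), one_mul, one_mul] at e'
      have hk : (k : ZMod p) = 0 := by
        by_contra hk
        refine hAz ?_
        obtain ⟨r, hr⟩ : ∃ r : ℕ, (k : ZMod p) * r = 1 :=
          ⟨((k : ZMod p)⁻¹).val, by rw [ZMod.natCast_zmod_val, mul_inv_cancel₀ hk]⟩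
        have h3 : z = (z ^ k) ^ (r : ℤ) := by
          rw [← zpow_mul, show z ^ (k * (r : ℤ)) = z ^ (k * (r : ℤ) - 1) * z ^ (1 : ℤ) by
            rw [← zpow_add, sub_add_cancel], hzp _ (by push_cast; rw [hr, sub_self]), one_mul, zpow_one]
        rw [h3, e']
        exact zpow_mem (inv_mem ha) _
      rw [hzp k hk] at e'
      refine Prod.ext (Subtype.ext ?_) (Subtype.ext (inv_eq_one.1 e'.symm))
      show y ^ i * z' ^ j * z ^ k = 1
      rw [e]; exact e'.symm
    · intro x
      obtain ⟨i, j, w, hw1, hw2, rfl⟩ := h.decomp x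
      obtain ⟨k, a, ha, rfl⟩ := hAgen w (h.central_of hw1 hw2)
      exact ⟨(⟨y ^ i * z' ^ j * z ^ k, ⟨i, j, k, rfl⟩⟩, ⟨a, ha⟩), mul_assoc _ _ _⟩
  let KE := Shrink.{0} E₀
  let eE : E₀ ≃* KE := Shrink.mulEquiv.symm
  let K := Shrink.{0} A
  let e : A ≃* K := Shrink.mulEquiv.symm
  letI : CommGroup K :=
    { (inferInstance : Group K) with
      mul_comm := fun a b => e.symm.injective (by
        rw [map_mul, map_mul]
        exact Subtype.ext (hAc _ (e.symm a).2 _).eq) }
  refine ⟨KE, inferInstance, K, inferInstance, Classification.isExtraspecial_of_mulEquiv eE hext, ?_, ?_,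
    fun a => e.symm.injective ?_, ⟨(MulEquiv.ofBijective F hbij).symm.trans (eE.prodCongr e)⟩⟩
  · rw [← Nat.card_congr eE.toEquiv, hcard]
  · rw [← Monoid.exponent_eq_of_mulEquiv eE]
    refine (hp.out.eq_one_or_self_of_dvd _ (Monoid.exponent_dvd_of_forall_pow_eq_one
      fun x : E₀ => Subtype.ext (hexp x))).resolve_left fun h1 => h.not_comm ?_
    have h2 := Monoid.exp_eq_one_iff.1 h1
    have : y₀ = 1 := Subsingleton.elim _ _
    rw [show y = 1 from congrArg Subtype.val this]
    exact Commute.one_left _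
  rw [map_pow, map_one]
  exact Subtype.ext (hAe _ (e.symm a).2)

end Cfsg.Agent.Lib.PLocal.GenExtra
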