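import Cfsg.Agent.Lib.PLocal.MetacyclicClosed
import Cfsg.Agent.Lib.PLocal.GenExtra

/-!
Strongly closed generalized extraspecial subgroups are normal in a saturated fusion system, apart from the
dihedral and exponent `p` exceptions.
-/

set_option autoImplicit false
set_option linter.unusedSectionVars false
set_option linter.style.haveILetI false

namespace Cfsg.Agent.Lib.PLocal.GenExtraClosed

open Cfsg Cfsg.FusionSystem Cfsg.Agent.Lib.Fusion
open scoped commutatorElement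

variable {p : ℕ} [hp : Fact p.Prime] {Ω : Type*} [Group Ω] {S : Subgroup Ω} [Finite S]

/-- the elements of `P` with commutators and `p`-th powers in `⟨z⟩` -/
structure Ext (p : ℕ) (S P : Subgroup Ω) (z : Ω) : Prop where
  le : P ≤ S
  mem : z ∈ P
  ord : orderOf z = p
  comm : ∀ a ∈ P, ∀ b ∈ P, ⁅a, b⁆ ∈ Subgroup.zpowers z
  pow : ∀ a ∈ P, a ^ p ∈ Subgroup.zpowers z
  central : ∀ s ∈ S, Commute z s

variable {P : Subgroup Ω} {z : Ω} {F : FusionSystem S}

theorem exists_ext (hS : IsPGroup p S) (hP : F.StronglyClosed P) (hge : frattini ↥P = commutator ↥P ∧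
    Nat.card ↥(commutator ↥P) = p) : ∃ z, Ext p S P z ∧ Subgroup.zpowers z = ⁅P, P⁆ := by
  have hPS : P ≤ S := hP.1
  have := finite_of_le hPS
  haveI : IsCyclic (commutator ↥P) := isCyclic_of_prime_card hge.2
  obtain ⟨c, hc⟩ := IsCyclic.exists_generator (α := commutator ↥P)
  have hco : orderOf c = p := by rw [orderOf_eq_card_of_forall_mem_zpowers hc, hge.2]
  set z : Ω := ((c : P) : Ω) with hz
  have hzz : Subgroup.zpowers z = ⁅P, P⁆ := by
    rw [← Subgroup.map_subtype_commutator]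
    refine le_antisymm (Subgroup.zpowers_le.2 ⟨c, c.2, rfl⟩) ?_
    rintro _ ⟨x, hx, rfl⟩
    obtain ⟨i, hi⟩ := Subgroup.mem_zpowers_iff.1 (hc ⟨x, hx⟩)
    exact ⟨i, congrArg (fun u : commutator ↥P => ((u : P) : Ω)) hi⟩
  have hzo : orderOf z = p := by rw [hz, Subgroup.orderOf_coe, Subgroup.orderOf_coe]; exact hco
  refine ⟨z, ⟨hPS, (c : P).2, hzo, fun a ha b hb => hzz ▸ Subgroup.commutator_mem_commutator ha hb,
    fun a ha => ?_, fun s hs => ?_⟩, hzz⟩
  · have h1 : (⟨a, ha⟩ : P) ^ p ∈ frattini ↥P :=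
      RankTwo.powClosure_le_frattini (hS.to_le hPS) (RankTwo.pow_mem_powClosure _)
    rw [hge.1] at h1
    obtain ⟨i, hi⟩ := Subgroup.mem_zpowers_iff.1 (hc ⟨_, h1⟩)
    exact ⟨i, congrArg (fun u : commutator ↥P => ((u : P) : Ω)) hi⟩
  · have hsP := WeaklyClosed.le_normalizer (StronglyClosed.weaklyClosed hP) hs
    have hsZ : s ∈ Subgroup.normalizer ((Subgroup.zpowers z : Subgroup Ω) : Set Ω) := by
      have := finite_of_le ((Subgroup.zpowers_le.2 (hPS (c : P).2)) : Subgroup.zpowers z ≤ S)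
      refine mem_normalizer_of_finite ?_
      rw [hzz]
      intro x hx
      have e : (⁅P, P⁆ : Subgroup Ω).map (MulAut.conj s).toMonoidHom = ⁅P, P⁆ := by
        rw [Subgroup.map_commutator,
          show P.map (MulAut.conj s).toMonoidHom = P from Subgroup.mem_normalizer_iff_map_conj_eq.1 hsP]
      exact e ▸ ⟨x, hx, rfl⟩
    have := finite_of_le ((Subgroup.zpowers_le.2 (hPS (c : P).2)) : Subgroup.zpowers z ≤ S)
    obtain ⟨k, hk⟩ := hS ⟨s, hs⟩
    have hσ : conjAut hsZ ^ p ^ k = 1 := by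
      show (Subgroup.zpowers z).normalizerMonoidHom ⟨s, hsZ⟩ ^ p ^ k = 1
      rw [← map_pow, show (⟨s, hsZ⟩ : Subgroup.normalizer ((Subgroup.zpowers z : Subgroup Ω) : Set Ω)) ^ p ^ k = 1
        from Subtype.ext (congrArg Subtype.val hk :), map_one]
    have h1 := congrArg Subtype.val
      (MetacyclicClosed.eq_one_of_card_le (p := p) (by rw [Nat.card_zpowers, hzo]) hσ ⟨z, Subgroup.mem_zpowers z⟩)
    rw [conjAut_coe] at h1
    exact (mul_inv_eq_iff_eq_mul.1 h1).symm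

/-- A conjugate of `z` in `P` outside `⟨z⟩` has elementary abelian centralizer in `P`. -/
theorem abel_of_conj (hS : IsPGroup p S) (hF : F.IsSaturated p) (hP : F.StronglyClosed P) (hz : Ext p S P z)
    {z' : Ω} (hz' : z' ∈ P) (hne : z' ∉ Subgroup.zpowers z) {φ : Subgroup.zpowers z' →* Ω}
    (hφ : φ ∈ F.Hom (Subgroup.zpowers z')) (hr : φ.range = Subgroup.zpowers z) :
    (∀ a ∈ P, ∀ b ∈ P, Commute a z' → Commute b z' → Commute a b) ∧
      ∀ a ∈ P, Commute a z' → a ^ p = 1 := by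
  have hzS : Subgroup.zpowers z ≤ S := Subgroup.zpowers_le.2 (hz.le hz.mem)
  have hfc : F.IsFullyCentralized (Subgroup.zpowers z) := by
    refine ⟨hzS, fun Q _ => ?_⟩
    have he : centralizerIn S (Subgroup.zpowers z) = S := by
      refine le_antisymm (centralizerIn_le _ _) fun s hs => mem_centralizerIn.2 ⟨hs, fun x hx => ?_⟩
      obtain ⟨i, rfl⟩ := Subgroup.mem_zpowers_iff.1 hx
      exact ((hz.central s hs).zpow_left i).eq
    rw [he]
    exact Subgroup.card_le_of_le (centralizerIn_le S Q)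
  obtain ⟨ψ, hψ, hψe⟩ := (IsSaturated.receptive hS hF hfc).2 _ φ hφ hr
  have hmem : ∀ a ∈ P, Commute a z' → a ∈ extender S (Subgroup.zpowers z') φ := fun a ha hc =>
    centralizerIn_le_extender φ (mem_centralizerIn.2 ⟨hz.le ha, fun x hx => by
      obtain ⟨i, rfl⟩ := Subgroup.mem_zpowers_iff.1 hx
      exact (hc.zpow_right i).eq.symm⟩)
  set C := P ⊓ extender S (Subgroup.zpowers z') φ with hC
  have hψP : ∀ (a : Ω) (ha : a ∈ C), ψ ⟨a, ha.2⟩ ∈ P := fun a ha =>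
    hP.2 C inf_le_left _ (restr_mem F hψ inf_le_right) ⟨a, ha⟩
  -- an element of `⟨z⟩` is sent into `⟨z⟩` only when it is trivial
  have key : ∀ (u : Ω) (hu : u ∈ extender S (Subgroup.zpowers z') φ), u ∈ Subgroup.zpowers z →
      ψ ⟨u, hu⟩ ∈ Subgroup.zpowers z → u = 1 := by
    intro u hu huz hψu
    rw [← hr] at hψu
    obtain ⟨w, hw⟩ := hψu
    have h1 : ψ ⟨u, hu⟩ = ψ ⟨w, le_extender (source_le hφ) (apply_mem hφ) w.2⟩ := by
      rw [hψe _ w.2 _, ← hw]
    have h2 : u ∈ (Subgroup.zpowers z') := (show u = (w : Ω) from congrArg Subtype.val (F.injective_of_mem hψ h1)) ▸ w.2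
    by_contra hu1
    refine hne ?_
    obtain ⟨i, rfl⟩ := Subgroup.mem_zpowers_iff.1 huz
    have e : Subgroup.zpowers (z ^ i) = (Subgroup.zpowers z') := by
      have hzp : Nat.card (Subgroup.zpowers z') = p := by
        rw [← card_range_eq (F.injective_of_mem hφ), hr, Nat.card_zpowers, hz.ord]
      have := finite_of_le (source_le hφ : (Subgroup.zpowers z') ≤ S)
      refine eq_of_le_of_card (Subgroup.zpowers_le.2 h2) ?_
      rw [hzp, Nat.card_zpowers, orderOf_eq_prime (by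
        rw [← zpow_natCast, ← zpow_mul, mul_comm, zpow_mul, zpow_natCast,
          show z ^ p = 1 from hz.ord ▸ pow_orderOf_eq_one z, one_zpow]) hu1]
    exact Subgroup.zpowers_le.2 (zpow_mem (Subgroup.mem_zpowers z) i) (e ▸ Subgroup.mem_zpowers z')
  refine ⟨fun a ha b hb hca hcb => ?_, fun a ha hca => ?_⟩
  · refine commutatorElement_eq_one_iff_mul_comm.1 ?_
    refine key _ (commutator_mem_of_mem (hmem a ha hca) (hmem b hb hcb)) (hz.comm a ha b hb) ?_
    rw [show (⟨⁅a, b⁆, commutator_mem_of_mem (hmem a ha hca) (hmem b hb hcb)⟩ : extender S (Subgroup.zpowers z') φ) =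
      ⁅(⟨a, hmem a ha hca⟩ : extender S (Subgroup.zpowers z') φ), ⟨b, hmem b hb hcb⟩⁆ from rfl, map_commutatorElement]
    exact hz.comm _ (hψP a ⟨ha, hmem a ha hca⟩) _ (hψP b ⟨hb, hmem b hb hcb⟩)
  · refine key _ (pow_mem (hmem a ha hca) p) (hz.pow a ha) ?_
    rw [show (⟨a ^ p, pow_mem (hmem a ha hca) p⟩ : extender S (Subgroup.zpowers z') φ) = ⟨a, hmem a ha hca⟩ ^ p from rfl, map_pow]
    exact hz.pow _ (hψP a ⟨ha, hmem a ha hca⟩)
where
  commutator_mem_of_mem {H : Subgroup Ω} {a b : Ω} (ha : a ∈ H) (hb : b ∈ H) : ⁅a, b⁆ ∈ H := by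
    rw [commutatorElement_def]
    exact mul_mem (mul_mem (mul_mem ha hb) (inv_mem ha)) (inv_mem hb)

theorem small_subtype (hz : Ext p S P z) : GenExtra.Small p P ⟨z, hz.mem⟩ := by
  have hmem : ∀ x : P, (x : Ω) ∈ Subgroup.zpowers z → x ∈ Subgroup.zpowers (⟨z, hz.mem⟩ : P) := by
    intro x hx
    obtain ⟨i, hi⟩ := Subgroup.mem_zpowers_iff.1 hx
    exact ⟨i, Subtype.ext hi⟩
  exact ⟨by rw [← Subgroup.orderOf_coe]; exact hz.ord, fun a b => hmem _ (hz.comm a a.2 b b.2),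
    fun a => hmem _ (hz.pow a a.2), fun a => Subtype.ext (hz.central a (hz.le a.2)).eq⟩

theorem data_subtype (hz : Ext p S P z) {z' y : Ω} (hz' : z' ∈ P) (hy : y ∈ P)
    (hab : ∀ a ∈ P, ∀ b ∈ P, Commute a z' → Commute b z' → Commute a b)
    (hexp : ∀ a ∈ P, Commute a z' → a ^ p = 1) (hnc : ¬ Commute y z') (hyp : y ^ p = 1) :
    GenExtra.Data p P ⟨z, hz.mem⟩ ⟨z', hz'⟩ ⟨y, hy⟩ :=
  ⟨small_subtype hz, fun a b ha hb => Subtype.ext (hab a a.2 b b.2 (congrArg Subtype.val ha)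
    (congrArg Subtype.val hb)).eq, fun a ha => Subtype.ext (hexp a a.2 (congrArg Subtype.val ha)),
    fun h => hnc (congrArg Subtype.val h), Subtype.ext hyp⟩

/-- In the dihedral case there is an involution outside the centralizer. -/
theorem exists_involution {z' : Ω} {P : Subgroup Ω} {z : Ω} (hz : Ext 2 S P z) (hz' : z' ∈ P)
    (hexp : ∀ a ∈ P, Commute a z' → a ^ 2 = 1) {y : Ω} (hy : y ∈ P) (hnc : ¬ Commute y z') :
    ∃ y ∈ P, ¬ Commute y z' ∧ y ^ 2 = 1 := by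
  have hz2 : z ^ 2 = 1 := hz.ord ▸ pow_orderOf_eq_one z
  have two : ∀ u : Ω, u ∈ Subgroup.zpowers z → u = 1 ∨ u = z := by
    intro u hu
    obtain ⟨i, rfl⟩ := Subgroup.mem_zpowers_iff.1 hu
    rcases Int.even_or_odd i with ⟨r, rfl⟩ | ⟨r, rfl⟩
    · left; rw [← two_mul, zpow_mul, zpow_two, ← pow_two, hz2, one_zpow]
    · right; rw [zpow_add, zpow_mul, zpow_two, ← pow_two, hz2, one_zpow, one_mul, zpow_one]
  rcases two _ (hz.pow y hy) with h | h
  · exact ⟨y, hy, hnc, h⟩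
  refine ⟨y * z', mul_mem hy hz', fun hc => hnc (by
    have := hc.mul_left (Commute.refl z').inv_left
    rwa [mul_inv_cancel_right] at this), ?_⟩
  have hzz : z' * z' = 1 := by rw [← pow_two]; exact hexp z' hz' (Commute.refl z')
  rcases two _ (hz.comm z' hz' y hy) with hc | hc
  · exact absurd (commutatorElement_eq_one_iff_mul_comm.1 hc).symm hnc
  have hzi : z'⁻¹ = z' := inv_eq_of_mul_eq_one_left hzz
  rw [commutatorElement_def, hzi] at hc
  calc (y * z') ^ 2 = y * (z' * y * z' * y⁻¹) * y := by rw [pow_two]; group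
    _ = y * z * y := by rw [hc]
    _ = z * (y * y) := by rw [← (hz.central y (hz.le hy)).eq, mul_assoc]
    _ = 1 := by rw [← pow_two, h, ← pow_two, hz2]

/-- If a Sylow subgroup normalizes `K`, every `p`-element of the product is conjugate into it by an element of `K`. -/
theorem exists_conj_mem {A : Type*} [Group A] [Finite A] (T : Sylow p A) (K : Subgroup A)
    (hTK : (T : Subgroup A) ≤ Subgroup.normalizer (K : Set A)) {x : A} (hx : x ∈ (T : Subgroup A) ⊔ K)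
    (hxp : IsPGroup p (Subgroup.zpowers x)) : ∃ k ∈ K, k * x * k⁻¹ ∈ (T : Subgroup A) := by
  set U := (T : Subgroup A) ⊔ K with hU
  obtain ⟨Q, hQ⟩ := (hxp.of_equiv (Subgroup.subgroupOfEquivOfLe (Subgroup.zpowers_le.2 hx :
    Subgroup.zpowers x ≤ U)).symm).exists_le_sylow
  obtain ⟨u, hu⟩ := MulAction.exists_smul_eq U Q (T.subtype le_sup_left)
  have h1 : u * ⟨x, hx⟩ * u⁻¹ ∈ ((T.subtype le_sup_left : Sylow p U) : Subgroup U) := by
    show _ ∈ ((T.subtype le_sup_left : Sylow p U) : Subgroup U)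
    rw [← hu, Sylow.coe_subgroup_smul]
    exact ⟨_, hQ (Subgroup.mem_subgroupOf.2 (Subgroup.mem_zpowers x)), rfl⟩
  have h2 : (u : A) * x * (u : A)⁻¹ ∈ (T : Subgroup A) := h1
  have hu' : (u : A) ∈ (((T : Subgroup A) ⊔ K : Subgroup A) : Set A) := u.2
  rw [Subgroup.coe_mul_of_left_le_normalizer_right (T : Subgroup A) K hTK] at hu'
  obtain ⟨t, ht, k, hk, he⟩ := hu'
  refine ⟨k, hk, ?_⟩
  have h3 := mul_mem (mul_mem (inv_mem ht) h2) ht
  rw [show t⁻¹ * ((u : A) * x * (u : A)⁻¹) * t = k * x * k⁻¹ by rw [← he]; group] at h3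
  exact h3

/-- The main step at odd `p`. -/
theorem exists_elt_of_not_le (hS : IsPGroup p S) (hF : F.IsSaturated p) (hp2 : p ≠ 2)
    (hP : F.StronglyClosed P) (hz : Ext p S P z) {R : Subgroup Ω} (hR : F.IsEssential p R) (hPR : ¬ P ≤ R) :
    ∃ z' ∈ P, ∃ y ∈ P, (∀ a ∈ P, ∀ b ∈ P, Commute a z' → Commute b z' → Commute a b) ∧
      (∀ a ∈ P, Commute a z' → a ^ p = 1) ∧ ¬ Commute y z' ∧ y ^ p = 1 := by
  classical
  have hPc := hR.1
  have hRS : R ≤ S := hPc.1
  have hPS : P ≤ S := hz.le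
  have := finite_of_le hRS
  have := finite_of_le hPS
  have hfinA := finite_mulAut hRS
  have hPn : S ≤ Subgroup.normalizer (P : Set Ω) := WeaklyClosed.le_normalizer (StronglyClosed.weaklyClosed hP)
  obtain ⟨g, ⟨hgP, hgN⟩, hgR⟩ : ∃ g, g ∈ normalizerIn P R ∧ g ∉ R := by
    by_contra hcon
    push Not at hcon
    exact hPR (le_of_normalizer_le hS hRS hPS (hRS.trans hPn) fun g hg => hcon g hg)
  have hgS : g ∈ S := hPS hgP
  have hrad := IsEssential.radical hS hF hR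
  have hzS : z ∈ S := hPS hz.mem
  have hzR : z ∈ R := hPc.2 R (isConj_refl F hRS)
    (mem_centralizerIn.2 ⟨hzS, fun x hx => (hz.central x (hRS hx)).eq.symm⟩)
  let z₀ : R := ⟨z, hzR⟩
  let A := F.autGroup R
  -- the span of the orbit of `z`
  let O : Set R := {w | ∃ α : A, w = (α : MulAut R) z₀}
  let W : Subgroup R := Subgroup.closure O
  have hz₀W : z₀ ∈ W := Subgroup.subset_closure ⟨1, rfl⟩
  have hOc : ∀ w ∈ W, ∀ r : R, Commute w r := by
    intro w hw
    induction hw using Subgroup.closure_induction with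
    | mem w hw =>
      intro r
      obtain ⟨α, rfl⟩ := hw
      obtain ⟨r, rfl⟩ := (α : MulAut R).surjective r
      exact (show Commute z₀ r from Subtype.ext (hz.central r (hRS r.2)).eq).map (α : MulAut R)
    | one => exact Commute.one_left
    | mul a b _ _ ha hb => exact fun r => (ha r).mul_left (hb r)
    | inv a _ ha => exact fun r => (ha r).inv_left
  have hOp : ∀ w ∈ W, w ^ p = 1 := by
    intro w hw
    induction hw using Subgroup.closure_induction with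
    | mem w hw =>
      obtain ⟨α, rfl⟩ := hw
      rw [← map_pow, show z₀ ^ p = 1 from Subtype.ext (hz.ord ▸ pow_orderOf_eq_one z :), map_one]
    | one => exact one_pow p
    | mul a b ha _ h1 h2 => rw [(hOc a ha b).mul_pow, h1, h2, mul_one]
    | inv a _ h1 => rw [inv_pow, h1, inv_one]
  have hWinv : ∀ α ∈ F.autGroup R, ∀ x ∈ W, α x ∈ W := by
    intro α hα x hx
    induction hx using Subgroup.closure_induction with
    | mem w hw =>
      obtain ⟨β, rfl⟩ := hw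
      exact Subgroup.subset_closure ⟨⟨α, hα⟩ * β, rfl⟩
    | one => rw [map_one]; exact one_mem _
    | mul a b _ _ h1 h2 => rw [map_mul]; exact mul_mem h1 h2
    | inv a _ h1 => rw [map_inv]; exact inv_mem h1
  let Q : Subgroup R := P.subgroupOf R
  have hQinv : ∀ α ∈ F.autGroup R, ∀ x ∈ Q, α x ∈ Q := fun α hα x hx =>
    hP.2 (P ⊓ R) inf_le_left _ (restr_mem F (autHom_mem F hRS hα) inf_le_right) ⟨x, hx, x.2⟩
  have hWQ : W ≤ Q := (Subgroup.closure_le _).2 (by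
    rintro _ ⟨α, rfl⟩
    exact hQinv _ α.2 _ hz.mem)
  have hzW : ∀ x : R, (x : Ω) ∈ Subgroup.zpowers z → x ∈ W := fun x hx => by
    obtain ⟨i, hi⟩ := Subgroup.mem_zpowers_iff.1 hx
    rw [show x = z₀ ^ i from Subtype.ext hi.symm]
    exact zpow_mem hz₀W i
  have hgA := conjAut_mem_autGroup F hRS hgS hgN
  let cg : A := ⟨conjAut hgN, hgA⟩
  -- `g` moves the orbit
  obtain ⟨α₀, hgz'⟩ : ∃ α : A, ¬ Commute g (((α : MulAut R) z₀ : R) : Ω) := by
    by_contra hcon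
    push Not at hcon
    have hgW : ∀ w ∈ W, Commute g (w : Ω) := by
      intro w hw
      induction hw using Subgroup.closure_induction with
      | mem w hw => obtain ⟨α, rfl⟩ := hw; exact hcon α
      | one => exact Commute.one_right g
      | mul a b _ _ h1 h2 => exact h1.mul_right h2
      | inv a _ h1 => exact h1.inv_right
    refine hgR (mem_of_conjAut_inn hPc ⟨hgS, hgN⟩ ?_)
    rw [← hrad.2]
    let Wk : ℕ → Subgroup R := fun k => if k = 0 then ⊥ else if k = 1 then W else if k = 2 then Q else ⊤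
    refine stab_mem_pCore (hS.to_le hRS) (F.autGroup R) Wk 3 (if_pos rfl) ?_ ?_ hgA ?_
    · rfl
    · intro α hα k x hx
      simp only [Wk] at hx ⊢
      split_ifs at hx ⊢
      · rw [Subgroup.mem_bot] at hx ⊢; rw [hx, map_one]
      · exact hWinv α hα x hx
      · exact hQinv α hα x hx
      · trivial
    · intro k hk x hx
      rcases (show k = 0 ∨ k = 1 ∨ k = 2 by omega) with rfl | rfl | rfl
      · show x⁻¹ * conjAut hgN x ∈ (⊥ : Subgroup R)
        rw [Subgroup.mem_bot, inv_mul_eq_one]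
        refine Subtype.ext ?_
        rw [conjAut_coe, (hgW x hx).eq, mul_inv_cancel_right]
      · show x⁻¹ * conjAut hgN x ∈ W
        refine hzW _ ?_
        show (x : Ω)⁻¹ * (g * x * g⁻¹) ∈ Subgroup.zpowers z
        have := hz.comm _ (P.inv_mem (show (x : Ω) ∈ P from hx)) g hgP
        rw [commutatorElement_def, inv_inv] at this
        simpa only [mul_assoc] using this
      · show (x : Ω)⁻¹ * (g * x * g⁻¹) ∈ P
        have := P.mul_mem (conj_mem_of_mem_normalizer (hPn (S.inv_mem (hRS x.2))) hgP) (P.inv_mem hgP)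
        rw [inv_inv] at this
        simpa only [mul_assoc] using this
  set z₁ : R := (α₀ : MulAut R) z₀ with hz₁
  have hz₁W : z₁ ∈ W := Subgroup.subset_closure ⟨α₀, rfl⟩
  have hz₁P : (z₁ : Ω) ∈ P := hWQ hz₁W
  have hz₁z : (z₁ : Ω) ∉ Subgroup.zpowers z := by
    intro h
    obtain ⟨i, hi⟩ := Subgroup.mem_zpowers_iff.1 h
    exact hgz' (hi ▸ ((hz.central g hgS).symm.zpow_right i))
  -- the centralizer of `z₁` in `P`
  obtain ⟨hab, hexp⟩ : (∀ a ∈ P, ∀ b ∈ P, Commute a (z₁ : Ω) → Commute b (z₁ : Ω) → Commute a b) ∧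
      ∀ a ∈ P, Commute a (z₁ : Ω) → a ^ p = 1 := by
    have hle : Subgroup.zpowers (z₁ : Ω) ≤ R := Subgroup.zpowers_le.2 z₁.2
    refine abel_of_conj hS hF hP hz hz₁P hz₁z
      (restr_mem F (autHom_mem F hRS (α₀⁻¹ : A).2) hle) ?_
    rw [range_restr]
    ext u
    rw [mem_img]
    constructor
    · rintro ⟨x, hxR, hx, rfl⟩
      obtain ⟨i, hi⟩ := Subgroup.mem_zpowers_iff.1 hx
      refine ⟨i, ?_⟩
      have e : (⟨x, hxR⟩ : R) = z₁ ^ i := Subtype.ext hi.symm
      show z ^ i = autHom ((α₀⁻¹ : A) : MulAut R) ⟨x, hxR⟩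
      rw [e, map_zpow, autHom_apply, hz₁,
        show ((α₀⁻¹ : A) : MulAut R) ((α₀ : MulAut R) z₀) = z₀ from (α₀ : MulAut R).symm_apply_apply z₀]
    · intro hu
      obtain ⟨i, rfl⟩ := Subgroup.mem_zpowers_iff.1 hu
      refine ⟨(z₁ : Ω) ^ i, R.zpow_mem z₁.2 i, zpow_mem (Subgroup.mem_zpowers _) i, ?_⟩
      have e : (⟨(z₁ : Ω) ^ i, R.zpow_mem z₁.2 i⟩ : R) = z₁ ^ i := rfl
      rw [e, map_zpow, autHom_apply, hz₁,
        show ((α₀⁻¹ : A) : MulAut R) ((α₀ : MulAut R) z₀) = z₀ from (α₀ : MulAut R).symm_apply_apply z₀]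
  refine ⟨z₁, hz₁P, g, hgP, hab, hexp, hgz', ?_⟩
  -- restriction to `W`
  let res : A →* MulAut W :=
    { toFun := fun α =>
        { toFun := fun x => ⟨(α : MulAut R) (x : R), hWinv _ α.2 x x.2⟩
          invFun := fun x => ⟨((α⁻¹ : A) : MulAut R) (x : R), hWinv _ (α⁻¹).2 x x.2⟩
          left_inv := fun x => Subtype.ext ((α : MulAut R).symm_apply_apply (x : R))
          right_inv := fun x => Subtype.ext ((α : MulAut R).apply_symm_apply (x : R))
          map_mul' := fun x y => Subtype.ext (map_mul (α : MulAut R) (x : R) (y : R)) }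
      map_one' := MulEquiv.ext fun x => Subtype.ext rfl
      map_mul' := fun α β => MulEquiv.ext fun x => Subtype.ext rfl }
  let zW : W := ⟨z₀, hz₀W⟩
  let vW : W := ⟨z₁, hz₁W⟩
  have hWcomm : ∀ a b : W, a * b = b * a := fun a b => Subtype.ext (hOc _ a.2 _).eq
  have hWexp : ∀ a : W, a ^ p = 1 := fun a => Subtype.ext (hOp _ a.2)
  have hzWz : ∀ x : W, ((x : R) : Ω) ∈ Subgroup.zpowers z → x ∈ Subgroup.zpowers zW := fun x hx => by
    obtain ⟨i, hi⟩ := Subgroup.mem_zpowers_iff.1 hx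
    exact ⟨i, Subtype.ext (Subtype.ext hi)⟩
  set σ := res cg with hσ
  -- transvections with centre `z`
  let Pg : Subgroup (MulAut W) :=
    { carrier := {f | f zW = zW ∧ ∀ x, x⁻¹ * f x ∈ Subgroup.zpowers zW}
      one_mem' := ⟨rfl, fun x => by simp⟩
      mul_mem' := by
        intro a b ha hb
        refine ⟨by rw [MulAut.mul_apply, hb.1, ha.1], fun x => ?_⟩
        have e : x⁻¹ * a (b x) = (x⁻¹ * b x) * ((b x)⁻¹ * a (b x)) := by group
        rw [MulAut.mul_apply, e]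
        exact mul_mem (hb.2 x) (ha.2 _)
      inv_mem' := by
        intro a ha
        refine ⟨?_, fun x => ?_⟩
        · conv_lhs => rw [← ha.1]
          exact MulEquiv.symm_apply_apply a zW
        · have h1 := inv_mem (ha.2 (a⁻¹ x))
          rwa [show a (a⁻¹ x) = x from MulEquiv.apply_symm_apply a x, mul_inv_rev, inv_inv] at h1 }
  have hPgz : ∀ f ∈ Pg, ∀ (x : W) (j : ℤ), f (x * zW ^ j) = f x * zW ^ j := fun f hf x j => by
    rw [map_mul, map_zpow, hf.1]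
  have hPgc : ∀ a ∈ Pg, ∀ b ∈ Pg, a * b = b * a := by
    intro a ha b hb
    refine MulEquiv.ext fun x => ?_
    obtain ⟨i, hi⟩ := Subgroup.mem_zpowers_iff.1 (ha.2 x)
    obtain ⟨j, hj⟩ := Subgroup.mem_zpowers_iff.1 (hb.2 x)
    have hax : a x = x * zW ^ i := by rw [hi, mul_inv_cancel_left]
    have hbx : b x = x * zW ^ j := by rw [hj, mul_inv_cancel_left]
    rw [MulAut.mul_apply, MulAut.mul_apply, hbx, hPgz a ha, hax, hPgz b hb, hbx, mul_assoc, mul_assoc,
      ← zpow_add, ← zpow_add, add_comm]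
  have hPgp : IsPGroup p Pg := by
    intro f
    refine ⟨1, Subtype.ext (MulEquiv.ext fun x => ?_)⟩
    obtain ⟨i, hi⟩ := Subgroup.mem_zpowers_iff.1 (f.2.2 x)
    have hfx : (f : MulAut W) x = x * zW ^ i := by rw [hi, mul_inv_cancel_left]
    have hn : ∀ n : ℕ, ((f : MulAut W) ^ n) x = x * zW ^ (i * n) := by
      intro n
      induction n with
      | zero => simp
      | succ n ih =>
        rw [pow_succ', MulAut.mul_apply, ih, hPgz _ f.2, hfx, mul_assoc, ← zpow_add]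
        congr 2
        push_cast
        ring
    simp only [pow_one, SubmonoidClass.coe_pow, OneMemClass.coe_one, MulAut.one_apply]
    rw [hn, zpow_mul, zpow_natCast, hWexp, mul_one]
  have hσPg : σ ∈ Pg := by
    refine ⟨Subtype.ext (Subtype.ext ?_), fun x => hzWz _ ?_⟩
    · show g * z * g⁻¹ = z
      rw [← (hz.central g hgS).eq, mul_inv_cancel_right]
    · show ((x : R) : Ω)⁻¹ * (g * (x : R) * g⁻¹) ∈ Subgroup.zpowers z
      have := hz.comm _ (P.inv_mem (show ((x : R) : Ω) ∈ P from hWQ x.2)) g hgP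
      rw [commutatorElement_def, inv_inv] at this
      simpa only [mul_assoc] using this
  have hσv : σ vW ≠ vW := fun h => hgz' (by
    have h1 : g * (z₁ : Ω) * g⁻¹ = z₁ := congrArg (fun u : W => ((u : R) : Ω)) h
    exact mul_inv_eq_iff_eq_mul.1 h1)
  have hvz : vW ∉ Subgroup.zpowers zW := fun h => hz₁z (by
    obtain ⟨i, hi⟩ := Subgroup.mem_zpowers_iff.1 h
    exact ⟨i, congrArg (fun u : W => ((u : R) : Ω)) hi⟩)
  -- elements of the Sylow subgroup conjugate to `cg` act as powers of `σ`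
  have hsat := IsSaturated.automized_receptive hS hF hR.2.1
  obtain ⟨-, T, hT⟩ := hsat.1
  have hcgT : cg ∈ (T : Subgroup A) := by
    rw [hT]; exact conjAut_mem_autInducedBy hgS hgN
  have hext : ∀ φ : A, φ * cg * φ⁻¹ ∈ (T : Subgroup A) → g ∈ extender S R (autHom (φ : MulAut R)) := by
    intro φ h2
    rw [hT] at h2
    obtain ⟨s, hs, hs'⟩ := mem_autInducedBy.1 h2
    refine mem_extender.2 ⟨hgS, hgN, s, hs, fun x hx => ?_⟩
    have h3 := hs' ((φ : MulAut R) x)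
    change (((φ : MulAut R) (conjAut hgN ((φ : MulAut R)⁻¹ ((φ : MulAut R) x))) : R) : Ω) = _ at h3
    rw [show (φ : MulAut R)⁻¹ ((φ : MulAut R) x) = x from MulEquiv.symm_apply_apply _ x] at h3
    exact h3
  have hRN : ∀ (φ : A), ∀ x ∈ R, x ∈ extender S R (autHom (φ : MulAut R)) := fun φ x hx =>
    le_extender hRS (apply_mem (autHom_mem F hRS φ.2)) hx
  have hkey : ∀ β : A, β * cg * β⁻¹ ∈ (T : Subgroup A) → res (β * cg * β⁻¹) ∈ Subgroup.zpowers σ := by
    intro β hβ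
    obtain ⟨ψ, hψ, hψe⟩ := hsat.2.2 R _ (autHom_mem F hRS β.2) (range_autHom _)
    set m := ψ ⟨g, hext β hβ⟩ with hm
    have hmP : m ∈ P := hP.2 (P ⊓ extender S R (autHom (β : MulAut R))) inf_le_left _
      (restr_mem F hψ inf_le_right) ⟨g, hgP, hext β hβ⟩
    have hmx : ∀ x : R, ((((β * cg * β⁻¹ : A) : MulAut R) x : R) : Ω) = m * x * m⁻¹ := by
      intro x
      obtain ⟨x, rfl⟩ := (β : MulAut R).surjective x
      have h1 : ((((β * cg * β⁻¹ : A) : MulAut R) ((β : MulAut R) x) : R) : Ω) =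
          ψ (⟨g, hext β hβ⟩ * ⟨x, hRN β x x.2⟩ * ⟨g, hext β hβ⟩⁻¹) := by
        rw [show (⟨g, hext β hβ⟩ * ⟨x, hRN β x x.2⟩ * ⟨g, hext β hβ⟩⁻¹ : extender S R (autHom (β : MulAut R))) =
          ⟨g * x * g⁻¹, hRN β _ (conj_mem_of_mem_normalizer hgN x.2)⟩ from rfl,
          hψe _ (conj_mem_of_mem_normalizer hgN x.2) _]
        show (((β : MulAut R) (conjAut hgN ((β : MulAut R)⁻¹ ((β : MulAut R) x))) : R) : Ω) = _
        rw [show (β : MulAut R)⁻¹ ((β : MulAut R) x) = x from MulEquiv.symm_apply_apply _ x]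
        rfl
      rw [h1, map_mul, map_mul, map_inv, hψe _ x.2 _]
      rfl
    -- `m` is a power of `g` up to the centralizer of `z₁`
    have hgz : ⁅g, (z₁ : Ω)⁆ ≠ 1 := fun e => hgz' (commutatorElement_eq_one_iff_mul_comm.1 e)
    obtain ⟨r, hr⟩ : ∃ r : ℤ, ⁅m, (z₁ : Ω)⁆ = ⁅g, (z₁ : Ω)⁆ ^ r := by
      have := finite_of_le (Subgroup.zpowers_le.2 hzS : Subgroup.zpowers z ≤ S)
      have e : Subgroup.zpowers ⁅g, (z₁ : Ω)⁆ = Subgroup.zpowers z := by
        obtain ⟨i, hi⟩ := Subgroup.mem_zpowers_iff.1 (hz.comm g hgP _ hz₁P)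
        refine eq_of_le_of_card (Subgroup.zpowers_le.2 (hz.comm g hgP _ hz₁P)) ?_
        rw [Nat.card_zpowers, Nat.card_zpowers, hz.ord, orderOf_eq_prime (by
          rw [← hi, ← zpow_natCast, ← zpow_mul, mul_comm, zpow_mul, zpow_natCast,
            show z ^ p = 1 from hz.ord ▸ pow_orderOf_eq_one z, one_zpow]) hgz]
      obtain ⟨r, hr⟩ := Subgroup.mem_zpowers_iff.1 (e ▸ hz.comm m hmP _ hz₁P)
      exact ⟨r, hr.symm⟩
    let hs := small_subtype hz
    let gP : P := ⟨g, hgP⟩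
    let a : P := gP ^ (-r) * ⟨m, hmP⟩
    have ha : Commute (a : Ω) (z₁ : Ω) := by
      have h1 : ⁅a, (⟨z₁, hz₁P⟩ : P)⁆ = 1 := by
        rw [hs.mul_left, hs.pow_left,
          show ⁅(⟨m, hmP⟩ : P), (⟨z₁, hz₁P⟩ : P)⁆ = ⁅gP, (⟨z₁, hz₁P⟩ : P)⁆ ^ r from Subtype.ext hr,
          ← zpow_add, neg_add_cancel, zpow_zero]
      exact congrArg Subtype.val (commutatorElement_eq_one_iff_mul_comm.1 h1)
    refine ⟨r, ?_⟩
    show σ ^ r = res (β * cg * β⁻¹)
    rw [hσ, ← map_zpow]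
    refine MulEquiv.ext fun w => Subtype.ext (Subtype.ext ?_)
    show ((((cg ^ r : A) : MulAut R) (w : R) : R) : Ω) = (((β * cg * β⁻¹ : A) : MulAut R) (w : R) : R)
    rw [hmx]
    have h1 : Commute (a : Ω) ((w : R) : Ω) := hab _ a.2 _ (hWQ w.2) ha
      (congrArg Subtype.val (hOc _ w.2 z₁))
    have h2 : m = g ^ r * (a : Ω) := by
      show m = g ^ r * (g ^ (-r) * m)
      group
    have h3 : ((cg ^ r : A) : MulAut R) = R.normalizerMonoidHom (⟨g, hgN⟩ ^ r) := by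
      rw [map_zpow]; rfl
    rw [h3, h2, mul_inv_rev]
    show g ^ r * ((w : R) : Ω) * (g ^ r)⁻¹ = _
    rw [show g ^ r * (a : Ω) * ((w : R) : Ω) * ((a : Ω)⁻¹ * (g ^ r)⁻¹) =
      g ^ r * ((a : Ω) * ((w : R) : Ω) * (a : Ω)⁻¹) * (g ^ r)⁻¹ by group, h1.eq, mul_inv_cancel_right]
  have hcgp : ∀ φ : A, IsPGroup p (Subgroup.zpowers (φ * cg * φ⁻¹)) := by
    intro φ
    refine (T.2.to_le (Subgroup.zpowers_le.2 hcgT)).map (MulAut.conj φ).toMonoidHom |>.to_le ?_
    rw [MonoidHom.map_zpowers]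
    rfl
  -- two conjugates generating a `p`-group on `W`
  have hinto : ∀ G₁ : Subgroup (MulAut W), IsPGroup p G₁ → σ ∈ G₁ → ∀ φ : A, res (φ * cg * φ⁻¹) ∈ G₁ →
      ∃ y ∈ G₁, y * res (φ * cg * φ⁻¹) * y⁻¹ ∈ Subgroup.zpowers σ := by
    intro G₁ hG₁ hσG φ hφ
    set Y := G₁.comap res
    have hcgY : cg ∈ Y := hσG
    set x₂ := φ * cg * φ⁻¹ with hx₂
    have hx₂Y : x₂ ∈ Y := hφ
    obtain ⟨Q₁, hQ₁⟩ := ((T.2.to_le (Subgroup.zpowers_le.2 hcgT)).of_equiv
      (Subgroup.subgroupOfEquivOfLe (Subgroup.zpowers_le.2 hcgY : Subgroup.zpowers cg ≤ Y)).symm).exists_le_sylow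
    obtain ⟨Q₂, hQ₂⟩ := ((hcgp φ).of_equiv
      (Subgroup.subgroupOfEquivOfLe (Subgroup.zpowers_le.2 hx₂Y : Subgroup.zpowers x₂ ≤ Y)).symm).exists_le_sylow
    obtain ⟨y, hy⟩ := MulAction.exists_smul_eq Y Q₂ Q₁
    have h1 : y * ⟨x₂, hx₂Y⟩ * y⁻¹ ∈ (Q₁ : Subgroup Y) := by
      rw [← hy, Sylow.coe_subgroup_smul]
      exact ⟨_, hQ₂ (Subgroup.mem_subgroupOf.2 (Subgroup.mem_zpowers x₂)), rfl⟩
    obtain ⟨T', hT'⟩ := (Q₁.2.map Y.subtype).exists_le_sylow
    obtain ⟨β, hβ⟩ := MulAction.exists_smul_eq A T' T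
    have hb : ∀ u ∈ (T' : Subgroup A), β * u * β⁻¹ ∈ (T : Subgroup A) := by
      intro u hu
      rw [← hβ, Sylow.coe_subgroup_smul]
      exact ⟨u, hu, rfl⟩
    have h2 : β * cg * β⁻¹ ∈ (T : Subgroup A) :=
      hb _ (hT' ⟨⟨cg, hcgY⟩, hQ₁ (Subgroup.mem_subgroupOf.2 (Subgroup.mem_zpowers cg)), rfl⟩)
    have h3 : β * ((y : A) * x₂ * (y : A)⁻¹) * β⁻¹ ∈ (T : Subgroup A) := hb _ (hT' ⟨_, h1, rfl⟩)
    have hk2 := hkey β h2
    have hk3 : res (β * ((y : A) * x₂ * (y : A)⁻¹) * β⁻¹) ∈ Subgroup.zpowers σ := by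
      have e : β * ((y : A) * x₂ * (y : A)⁻¹) * β⁻¹ = β * y * φ * cg * (β * y * φ)⁻¹ := by rw [hx₂]; group
      rw [e] at h3 ⊢
      exact hkey _ h3
    obtain ⟨i, hi⟩ := Subgroup.mem_zpowers_iff.1 hk2
    refine ⟨res y, y.2, ?_⟩
    obtain ⟨j, hj⟩ := Subgroup.mem_zpowers_iff.1 hk3
    rw [map_mul, map_mul, map_inv, ← hσ] at hi
    rw [map_mul, map_mul, map_inv, map_mul, map_mul, map_inv] at hj
    -- `i` is invertible modulo `p`
    have hσp : σ ^ p = 1 := by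
      obtain ⟨f, hf⟩ : ∃ f : Pg, (f : MulAut W) = σ := ⟨⟨σ, hσPg⟩, rfl⟩
      refine MulEquiv.ext fun x => ?_
      obtain ⟨l, hl⟩ := Subgroup.mem_zpowers_iff.1 (hσPg.2 x)
      have hfx : σ x = x * zW ^ l := by rw [hl, mul_inv_cancel_left]
      have hn : ∀ n : ℕ, (σ ^ n) x = x * zW ^ (l * n) := by
        intro n
        induction n with
        | zero => simp
        | succ n ih =>
          rw [pow_succ', MulAut.mul_apply, ih, hPgz _ hσPg, hfx, mul_assoc, ← zpow_add]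
          congr 2
          push_cast
          ring
      rw [hn, zpow_mul, zpow_natCast, hWexp, mul_one, MulAut.one_apply]
    have hi0 : (i : ZMod p) ≠ 0 := fun h0 => by
      obtain ⟨r, rfl⟩ := (ZMod.intCast_zmod_eq_zero_iff_dvd i p).1 h0
      rw [zpow_mul, zpow_natCast, hσp, one_zpow, eq_comm, mul_inv_eq_one, mul_eq_left] at hi
      exact hσv (by rw [hi]; rfl)
    obtain ⟨r, hr⟩ : ∃ r : ℕ, (i : ZMod p) * r = 1 :=
      ⟨((i : ZMod p)⁻¹).val, by rw [ZMod.natCast_zmod_val, mul_inv_cancel₀ hi0]⟩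
    have hir : (σ ^ i) ^ (r : ℤ) = σ := by
      obtain ⟨q, hq⟩ : (p : ℤ) ∣ i * r - 1 := by
        rw [← ZMod.intCast_zmod_eq_zero_iff_dvd]; push_cast; rw [hr, sub_self]
      rw [← zpow_mul, show i * (r : ℤ) = (p : ℤ) * q + 1 by omega, zpow_add, zpow_mul, zpow_natCast, hσp,
        one_zpow, one_mul, zpow_one]
    refine ⟨(r : ℤ) * j, ?_⟩
    show σ ^ ((r : ℤ) * j) = _
    have e : σ ^ j = res β * σ ^ ((r : ℤ) * j) * (res β)⁻¹ := by
      rw [← conj_zpow, ← hi, zpow_mul, hir]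
    rw [e] at hj
    rw [← map_mul, ← map_inv, ← map_mul]
    rw [← map_mul res (y : A) x₂, ← map_inv res (y : A), ← map_mul] at hj
    exact mul_left_cancel (mul_right_cancel hj)
  -- the conjugate transvection moves `z`
  set τ := res (α₀ * cg * α₀⁻¹) with hτ
  have hα₀z : res α₀ zW = vW := rfl
  have hτe : τ = res α₀ * σ * (res α₀)⁻¹ := by rw [hτ, map_mul, map_mul, map_inv]
  have hτv : τ vW = vW := by
    rw [hτe, MulAut.mul_apply, MulAut.mul_apply, ← hα₀z,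
      show (res α₀)⁻¹ (res α₀ zW) = zW from MulEquiv.symm_apply_apply (res α₀) zW, hσPg.1]
  obtain ⟨a, ha⟩ := Subgroup.mem_zpowers_iff.1 (hσPg.2 vW)
  have hσvW : σ vW = vW * zW ^ a := by rw [ha, mul_inv_cancel_left]
  have ha0 : (a : ZMod p) ≠ 0 := fun h0 => hσv (by
    obtain ⟨r, rfl⟩ := (ZMod.intCast_zmod_eq_zero_iff_dvd a p).1 h0
    rw [hσvW, zpow_mul, zpow_natCast, hWexp, one_zpow, mul_one])
  have hτz : τ zW ≠ zW := by
    intro hfix
    have hτn : τ ∈ Subgroup.normalizer (Pg : Set (MulAut W)) := by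
      haveI : Finite (MulAut W) := Finite.of_injective (fun f : MulAut W => (f : W → W)) DFunLike.coe_injective
      refine mem_normalizer_of_finite fun f hf => ⟨?_, fun x => ?_⟩
      · rw [MulAut.mul_apply, MulAut.mul_apply]
        conv_lhs => rw [← hfix, show τ⁻¹ (τ zW) = zW from MulEquiv.symm_apply_apply τ zW, hf.1]
        exact hfix
      · obtain ⟨i, hi⟩ := Subgroup.mem_zpowers_iff.1 (hf.2 (τ⁻¹ x))
        refine ⟨i, ?_⟩
        have h1 := congrArg τ hi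
        rw [map_mul, map_inv, map_zpow, hfix,
          show τ (τ⁻¹ x) = x from MulEquiv.apply_symm_apply τ x] at h1
        exact h1
    have hτp : IsPGroup p (Subgroup.zpowers τ) := by
      rw [hτ, ← MonoidHom.map_zpowers]
      exact (hcgp α₀).map res
    obtain ⟨y, hy, hyσ⟩ := hinto (Subgroup.zpowers τ ⊔ Pg)
      (hτp.to_sup_of_normal_right' hPgp (Subgroup.zpowers_le.2 hτn)) (Subgroup.mem_sup_right hσPg) α₀
      (Subgroup.mem_sup_left (Subgroup.mem_zpowers τ))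
    have hyn : y ∈ Subgroup.normalizer (Pg : Set (MulAut W)) :=
      (sup_le (Subgroup.zpowers_le.2 hτn) Subgroup.le_normalizer) hy
    have hτPg : τ ∈ Pg := (Subgroup.mem_normalizer_iff.1 hyn τ).2 (Subgroup.zpowers_le.2 hσPg hyσ)
    have h1 := hτPg.2 (res α₀ vW)
    rw [hτe, MulAut.mul_apply, MulAut.mul_apply,
      show (res α₀)⁻¹ (res α₀ vW) = vW from MulEquiv.symm_apply_apply (res α₀) vW, hσvW, map_mul, map_zpow,
      inv_mul_cancel_left, hα₀z] at h1
    refine hvz ?_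
    obtain ⟨r, hr⟩ : ∃ r : ℕ, (a : ZMod p) * r = 1 :=
      ⟨((a : ZMod p)⁻¹).val, by rw [ZMod.natCast_zmod_val, mul_inv_cancel₀ ha0]⟩
    obtain ⟨q, hq⟩ : (p : ℤ) ∣ a * r - 1 := by
      rw [← ZMod.intCast_zmod_eq_zero_iff_dvd]; push_cast; rw [hr, sub_self]
    have h2 := Subgroup.zpow_mem _ h1 (r : ℤ)
    rwa [← zpow_mul, show a * (r : ℤ) = (p : ℤ) * q + 1 by omega, zpow_add, zpow_mul, zpow_natCast, hWexp,
      one_zpow, one_mul, zpow_one] at h2
  obtain ⟨b, hb⟩ : ∃ b : ℤ, τ zW = zW * vW ^ b := by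
    obtain ⟨i, hi⟩ := Subgroup.mem_zpowers_iff.1 (hσPg.2 ((res α₀)⁻¹ zW))
    refine ⟨i, ?_⟩
    have h1 := congrArg (res α₀) hi
    rw [map_zpow, hα₀z, map_mul, map_inv,
      show res α₀ ((res α₀)⁻¹ zW) = zW from MulEquiv.apply_symm_apply (res α₀) zW] at h1
    rw [h1, mul_inv_cancel_left, hτe]
    rfl
  have hb0 : (b : ZMod p) ≠ 0 := fun h0 => hτz (by
    obtain ⟨r, rfl⟩ := (ZMod.intCast_zmod_eq_zero_iff_dvd b p).1 h0
    rw [hb, zpow_mul, zpow_natCast, hWexp, one_zpow, mul_one])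
  have zp : ∀ (u : W) (i j : ℤ), (i : ZMod p) = j → u ^ i = u ^ j := by
    intro u i j hij
    obtain ⟨q, hq⟩ := (ZMod.intCast_eq_intCast_iff_dvd_sub i j p).1 hij
    rw [show j = i + (p : ℤ) * q by omega, zpow_add, zpow_mul, zpow_natCast, hWexp, one_zpow, mul_one]
  have pw : ∀ (f : MulAut W) (u v : W) (i : ℤ), f u = u → f v = v * u ^ i →
      ∀ j : ℕ, (f ^ j) v = v * u ^ (i * j) := by
    intro f u v i hu hv j
    induction j with
    | zero => simp
    | succ j ih =>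
      rw [pow_succ', MulAut.mul_apply, ih, map_mul, map_zpow, hu, hv, mul_assoc, ← zpow_add]
      congr 2
      push_cast
      ring
  obtain ⟨i, hi⟩ : ∃ i : ℕ, (a : ZMod p) * i = 1 :=
    ⟨((a : ZMod p)⁻¹).val, by rw [ZMod.natCast_zmod_val, mul_inv_cancel₀ ha0]⟩
  obtain ⟨j, hj⟩ : ∃ j : ℕ, (b : ZMod p) * j = -1 :=
    ⟨(-(b : ZMod p)⁻¹).val, by rw [ZMod.natCast_zmod_val, mul_neg, mul_inv_cancel₀ hb0]⟩
  set h : A := (cg ^ i * (α₀ * cg * α₀⁻¹) ^ j * cg ^ i) * (cg ^ i * (α₀ * cg * α₀⁻¹) ^ j * cg ^ i) with hh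
  have hU : ∀ u : W, u = zW ∨ u = vW → res h u = u⁻¹ := by
    have hUz : (σ ^ i) zW = zW := by
      have := pw σ zW zW 0 hσPg.1 (by simpa using hσPg.1) i
      simpa using this
    have hUv : (σ ^ i) vW = vW * zW := by
      rw [pw σ zW vW a hσPg.1 hσvW i, zp zW (a * i) 1 (by push_cast; exact hi), zpow_one]
    have hVv : (τ ^ j) vW = vW := by
      have := pw τ vW vW 0 hτv (by simpa using hτv) j
      simpa using this
    have hVz : (τ ^ j) zW = zW * vW⁻¹ := by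
      rw [pw τ vW zW b hτv hb j, zp vW (b * j) (-1) (by push_cast; exact hj), zpow_neg_one]
    have h1 : (σ ^ i * τ ^ j * σ ^ i) zW = vW⁻¹ := by
      rw [MulAut.mul_apply, MulAut.mul_apply, hUz, hVz, map_mul, map_inv, hUz, hUv, mul_inv_rev,
        mul_inv_cancel_left]
    have h2 : (σ ^ i * τ ^ j * σ ^ i) vW = zW := by
      rw [MulAut.mul_apply, MulAut.mul_apply, hUv, map_mul, hVv, hVz, hWcomm zW, ← mul_assoc,
        mul_inv_cancel, one_mul, hUz]
    have e : res h = (σ ^ i * τ ^ j * σ ^ i) * (σ ^ i * τ ^ j * σ ^ i) := by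
      rw [hh, hσ, hτ]; simp only [map_mul, map_pow]
    rintro u (rfl | rfl)
    · rw [e]
      show (σ ^ i * τ ^ j * σ ^ i) ((σ ^ i * τ ^ j * σ ^ i) zW) = _
      rw [h1, map_inv, h2]
    · rw [e]
      show (σ ^ i * τ ^ j * σ ^ i) ((σ ^ i * τ ^ j * σ ^ i) vW) = _
      rw [h2, h1]
  -- `h` normalizes `⟨σ⟩` on `W`
  have hhσ : res (h * cg * h⁻¹) ∈ Subgroup.zpowers σ := by
    have hz' : (res h)⁻¹ zW = zW⁻¹ := by
      have h1 : res h zW⁻¹ = zW := by rw [map_inv, hU zW (Or.inl rfl), inv_inv]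
      conv_lhs => rw [← h1]
      exact MulEquiv.symm_apply_apply (res h) zW⁻¹
    have hmem : res (h * cg * h⁻¹) ∈ Pg := by
      rw [map_mul, map_mul, map_inv, ← hσ]
      refine ⟨?_, fun x => ?_⟩
      · rw [MulAut.mul_apply, MulAut.mul_apply, hz', map_inv, hσPg.1, map_inv, hU zW (Or.inl rfl), inv_inv]
      · obtain ⟨l, hl⟩ := Subgroup.mem_zpowers_iff.1 (hσPg.2 ((res h)⁻¹ x))
        refine ⟨-l, ?_⟩
        have h1 := congrArg (res h) hl
        rw [map_zpow, hU zW (Or.inl rfl), map_mul, map_inv,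
          show res h ((res h)⁻¹ x) = x from MulEquiv.apply_symm_apply (res h) x, inv_zpow, ← zpow_neg] at h1
        exact h1
    obtain ⟨y, hy, hyσ⟩ := hinto Pg hPgp hσPg h hmem
    rwa [hPgc y hy _ hmem, mul_inv_cancel_right] at hyσ
  set K := (Subgroup.zpowers σ).comap res with hK
  have hTK : (T : Subgroup A) ≤ Subgroup.normalizer (K : Set A) := by
    intro t ht
    refine mem_normalizer_of_finite fun x hx => ?_
    obtain ⟨l, hl⟩ := Subgroup.mem_zpowers_iff.1 (show res x ∈ Subgroup.zpowers σ from hx)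
    obtain ⟨r, hr⟩ := Subgroup.mem_zpowers_iff.1 (hkey t (mul_mem (mul_mem ht hcgT) (inv_mem ht)))
    refine Subgroup.mem_zpowers_iff.2 ⟨r * l, ?_⟩
    rw [zpow_mul, hr, map_mul, map_mul, map_inv, ← hσ, conj_zpow, hl, map_mul, map_mul, map_inv]
  obtain ⟨k, hk, hkT⟩ := exists_conj_mem T K hTK (x := h * cg * h⁻¹)
    (Subgroup.mem_sup_right (show res (h * cg * h⁻¹) ∈ Subgroup.zpowers σ from hhσ)) (hcgp h)
  set φ := k * h with hφ
  have hφT : φ * cg * φ⁻¹ ∈ (T : Subgroup A) := by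
    rw [hφ, show k * h * cg * (k * h)⁻¹ = k * (h * cg * h⁻¹) * k⁻¹ by group]; exact hkT
  have hkPg : res k ∈ Pg := Subgroup.zpowers_le.2 hσPg hk
  obtain ⟨l, hl⟩ := Subgroup.mem_zpowers_iff.1 (hkPg.2 vW⁻¹)
  have hφz : res φ zW = zW⁻¹ := by
    rw [hφ, map_mul, MulAut.mul_apply, hU zW (Or.inl rfl), map_inv, hkPg.1]
  have hφv : res φ vW = vW⁻¹ * zW ^ l := by
    rw [hφ, map_mul, MulAut.mul_apply, hU vW (Or.inr rfl), hl, mul_inv_cancel_left]
  obtain ⟨ψ, hψ, hψe⟩ := hsat.2.2 R _ (autHom_mem F hRS φ.2) (range_autHom _)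
  set m := ψ ⟨g, hext φ hφT⟩ with hm
  have hmP : m ∈ P := hP.2 (P ⊓ extender S R (autHom (φ : MulAut R))) inf_le_left _
    (restr_mem F hψ inf_le_right) ⟨g, hgP, hext φ hφT⟩
  have hψW : ∀ w : W, ψ ⟨(w : R), hRN φ _ (w : R).2⟩ = ((res φ w : W) : R) := fun w => hψe _ (w : R).2 _
  have hψz : ψ ⟨z, hRN φ z hzR⟩ = z⁻¹ := by
    rw [show ψ ⟨z, hRN φ z hzR⟩ = _ from hψW zW, hφz]; rfl
  have hψv : ψ ⟨(z₁ : Ω), hRN φ _ z₁.2⟩ = (z₁ : Ω)⁻¹ * z ^ l := by
    rw [show ψ ⟨(z₁ : Ω), hRN φ _ z₁.2⟩ = _ from hψW vW, hφv]; rfl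
  let hs := small_subtype hz
  let gP : P := ⟨g, hgP⟩
  let mP : P := ⟨m, hmP⟩
  let vP : P := ⟨z₁, hz₁P⟩
  let zP : P := ⟨z, hz.mem⟩
  obtain ⟨c, hc⟩ := Subgroup.mem_zpowers_iff.1 (hs.comm gP vP)
  have hmc : ⁅mP, vP⁆ = ⁅gP, vP⁆ := by
    have h1 : ψ ⁅(⟨g, hext φ hφT⟩ : extender S R (autHom (φ : MulAut R))), ⟨(z₁ : Ω), hRN φ _ z₁.2⟩⁆ =
        ψ (⟨z, hRN φ z hzR⟩ ^ c) := congrArg ψ (Subtype.ext (congrArg Subtype.val hc.symm :))
    rw [map_commutatorElement, map_zpow, hψz, hψv, ← hm] at h1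
    have h2 : ⁅mP, vP⁻¹ * zP ^ l⁆ = zP⁻¹ ^ c := Subtype.ext h1
    rw [hs.mul_right, commutatorElement_eq_one_iff_mul_comm.2
        (((hs.central mP).symm.zpow_right l).eq), mul_one, inv_zpow] at h2
    have h3 : ⁅mP, vP⁻¹⁆ = ⁅mP, vP⁆⁻¹ := by
      refine eq_inv_of_mul_eq_one_left ?_
      rw [← hs.mul_right, inv_mul_cancel]
      exact commutatorElement_one_right mP
    rw [h3, inv_inj, show zP ^ c = ⁅gP, vP⁆ from hc] at h2
    exact h2
  have hap : (gP⁻¹ * mP) ^ p = 1 := by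
    refine Subtype.ext (hexp _ (gP⁻¹ * mP).2 ?_)
    have h1 : ⁅gP⁻¹ * mP, vP⁆ = 1 := by
      rw [hs.mul_left, hmc, ← hs.mul_left, inv_mul_cancel]
      exact commutatorElement_one_left vP
    exact congrArg Subtype.val (commutatorElement_eq_one_iff_mul_comm.1 h1)
  have hmg : mP ^ p = gP ^ p := by
    have := hs.mul_pow hp2 gP (gP⁻¹ * mP)
    rwa [mul_inv_cancel_left, hap, mul_one] at this
  obtain ⟨e, he⟩ := Subgroup.mem_zpowers_iff.1 (hs.pow gP)
  have hneg : zP⁻¹ ^ e = zP ^ e := by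
    have h1 : ψ (⟨g, hext φ hφT⟩ ^ p) = ψ (⟨z, hRN φ z hzR⟩ ^ e) :=
      congrArg ψ (Subtype.ext (congrArg Subtype.val he.symm :))
    rw [map_pow, map_zpow, hψz, ← hm] at h1
    rw [show zP ^ e = gP ^ p from he, ← hmg]
    exact (Subtype.ext h1).symm
  have hone : zP ^ e = 1 := by
    have h2 : (zP ^ e) ^ 2 = 1 := by
      rw [pow_two]; nth_rewrite 1 [← hneg]; rw [inv_zpow, inv_mul_cancel]
    have h3 : (zP ^ e) ^ p = 1 := by
      rw [← zpow_natCast, ← zpow_mul, mul_comm, zpow_mul, zpow_natCast, ← hs.ord, pow_orderOf_eq_one, one_zpow]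
    exact orderOf_eq_one_iff.1 (Nat.eq_one_of_dvd_coprimes
      ((Nat.coprime_primes Nat.prime_two hp.out).2 (Ne.symm hp2)) (orderOf_dvd_of_pow_eq_one h2)
      (orderOf_dvd_of_pow_eq_one h3))
  rw [show zP ^ e = gP ^ p from he] at hone
  exact congrArg Subtype.val hone

/-- Strongly closed generalized extraspecial subgroups are normal, apart from the exceptions. -/
theorem isNormal_of_genExtraspecial (hS : IsPGroup p S) (hF : F.IsSaturated p) (hP : F.StronglyClosed P)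
    (hge : frattini ↥P = commutator ↥P ∧ Nat.card ↥(commutator ↥P) = p)
    (h2 : p = 2 → ¬ ∃ (A : Type) (_ : CommGroup A), (∀ a : A, a ^ 2 = 1) ∧
      Nonempty (↥P ≃* DihedralGroup 4 × A))
    (hodd : p ≠ 2 → ¬ ∃ (E : Type) (_ : Group E) (A : Type) (_ : CommGroup A), Cfsg.IsExtraspecial p E ∧
      Nat.card E = p ^ 3 ∧ Monoid.exponent E = p ∧ (∀ a : A, a ^ p = 1) ∧ Nonempty (↥P ≃* E × A)) :
    F.IsNormal P := by
  classical
  have hPS : P ≤ S := hP.1
  have := finite_of_le hPS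
  obtain ⟨z, hz, hzP⟩ := exists_ext hS hP hge
  by_cases hp2 : p = 2
  · subst hp2
    by_cases hwc : F.WeaklyClosed (Subgroup.zpowers z)
    · refine normal_of_series hS hF hP (n := 2) ![⊥, Subgroup.zpowers z, P] rfl rfl ?_ ?_ ?_
      · refine Fin.monotone_iff_le_succ.2 fun i => ?_
        fin_cases i
        · exact bot_le
        · exact Subgroup.zpowers_le.2 hz.mem
      · intro i
        fin_cases i
        · refine (Subgroup.commutator_eq_bot_iff_le_centralizer.2 ?_).le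
          intro x hx
          obtain ⟨j, rfl⟩ := Subgroup.mem_zpowers_iff.1 hx
          exact Subgroup.mem_centralizer_iff.2 fun q hq => ((hz.central q (hPS hq)).zpow_left j).eq.symm
        · exact hzP.ge
      · intro i
        fin_cases i
        · refine ⟨bot_le, fun φ _ => ?_⟩
          refine le_bot_iff.1 ?_
          rintro _ ⟨x, rfl⟩
          rw [Subgroup.mem_bot, show x = 1 from Subtype.ext (Subgroup.mem_bot.1 x.2), map_one]
        · exact hwc
    exfalso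
    have hzS : Subgroup.zpowers z ≤ S := Subgroup.zpowers_le.2 (hPS hz.mem)
    obtain ⟨φ, hφ, hne⟩ : ∃ φ ∈ F.Hom (Subgroup.zpowers z), φ.range ≠ Subgroup.zpowers z := by
      by_contra hcon
      push Not at hcon
      exact hwc ⟨hzS, hcon⟩
    set z' := φ ⟨z, Subgroup.mem_zpowers z⟩ with hz'
    have hr : φ.range = Subgroup.zpowers z' := by
      refine le_antisymm ?_ (Subgroup.zpowers_le.2 ⟨_, rfl⟩)
      rintro _ ⟨⟨x, hx⟩, rfl⟩
      obtain ⟨i, rfl⟩ := Subgroup.mem_zpowers_iff.1 hx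
      exact ⟨i, (map_zpow φ ⟨z, Subgroup.mem_zpowers z⟩ i).symm⟩
    have hz'P : z' ∈ P := hP.2 _ (Subgroup.zpowers_le.2 hz.mem) φ hφ _
    have hz'z : z' ∉ Subgroup.zpowers z := fun h => hne (by
      have := finite_of_le hzS
      refine eq_of_le_of_card (hr ▸ Subgroup.zpowers_le.2 h) ?_
      rw [card_range_eq (F.injective_of_mem hφ)])
    obtain ⟨χ, hχ, hχr, -, -⟩ := exists_inv F hφ hr
    obtain ⟨hab, hexp⟩ := abel_of_conj hS hF hP hz hz'P hz'z hχ hχr
    obtain ⟨y₀, hy₀, hnc₀⟩ : ∃ y ∈ P, ¬ Commute y z' := by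
      by_contra hcon
      push Not at hcon
      have hc : ⁅P, P⁆ = ⊥ := by
        rw [eq_bot_iff, Subgroup.commutator_le]
        intro a ha b hb
        rw [Subgroup.mem_bot, commutatorElement_eq_one_iff_mul_comm]
        exact hab a ha b hb (hcon a ha) (hcon b hb)
      rw [← hzP, Subgroup.zpowers_eq_bot] at hc
      have h1 := hz.ord
      rw [hc, orderOf_one] at h1
      omega
    obtain ⟨y, hy, hnc, hy2⟩ := exists_involution hz hz'P hexp hy₀ hnc₀
    exact h2 rfl (data_subtype hz hz'P hy hab hexp hnc hy2).exists_dihedral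
  · refine normal_of_stronglyClosed_of_le hS hF hP fun R hR => ?_
    by_contra hPR
    obtain ⟨z', hz', y, hy, hab, hexp, hnc, hyp⟩ := exists_elt_of_not_le hS hF hp2 hP hz hR hPR
    exact hodd hp2 ((data_subtype hz hz' hy hab hexp hnc hyp).exists_extraspecial hp2)

end Cfsg.Agent.Lib.PLocal.GenExtraClosed
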