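import Cfsg.Agent.Lib.PLocal.StableFusion
import Cfsg.Agent.Lib.Fusion.GroupSystem

/-!
`p`-stability of the fusion system of a group; Glauberman's theorem for such systems.
-/

set_option autoImplicit false
set_option linter.unusedSectionVars false

universe u

namespace Cfsg.Agent.Lib.PLocal

open Cfsg Cfsg.FusionSystem Cfsg.Agent.Lib.Fusion
open scoped commutatorElement

variable {G : Type u} [Group G] [Finite G] {p : ℕ} [Fact p.Prime]

/-- A stable fusion system of a group comes from a stable group. -/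
theorem isNormalizerPStable_of_fusion (S : Sylow p G)
    (hst : ∀ Q : Subgroup G, (groupFusionSystem (S : Subgroup G)).IsFullyNormalized Q →
      ∀ χ : MulAut ↥Q, χ ∈ (groupFusionSystem (S : Subgroup G)).autGroup Q →
        (∀ a : ↥Q, (χ a⁻¹) * a * (χ a⁻¹) * (χ (χ a)) = 1) →
        χ ∈ ((pCore p ↥((groupFusionSystem (S : Subgroup G)).autGroup Q)).map
          ((groupFusionSystem (S : Subgroup G)).autGroup Q).subtype : Subgroup (MulAut ↥Q))) :
    Cfsg.IsNormalizerPStable p G := by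
  intro P hP g hg hq
  obtain ⟨R, hPR⟩ := hP.exists_le_sylow
  obtain ⟨h₀, hh₀⟩ := MulAction.exists_smul_eq G R S
  have hle : P.map (MulAut.conj h₀).toMonoidHom ≤ (S : Subgroup G) := by
    rw [← hh₀, Sylow.coe_subgroup_smul]
    exact Subgroup.map_mono hPR
  obtain ⟨Q, hconj, hfn⟩ := exists_fullyNormalized (groupFusionSystem (S : Subgroup G)) hle
  obtain ⟨-, hQS, h₁, hQ₁⟩ := isConj_group_iff.1 hconj
  set h := h₁ * h₀ with hh
  have hQ : P.map (MulAut.conj h).toMonoidHom = Q := by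
    rw [← hQ₁, Subgroup.map_map]
    congr 1
    ext x
    simp [hh, mul_assoc]
  have hmem : ∀ x : Subgroup.normalizer (P : Set G), h * (x : G) * h⁻¹ ∈ Subgroup.normalizer (Q : Set G) := by
    intro x
    rw [← hQ]
    exact Subgroup.le_normalizer_map (MulAut.conj h).toMonoidHom ⟨x, x.2, rfl⟩
  have hmem' : ∀ y ∈ Subgroup.normalizer (Q : Set G), h⁻¹ * y * h ∈ Subgroup.normalizer (P : Set G) := by
    intro y hy
    refine mem_normalizer_of_finite fun x hx => ?_
    have h1 := conj_mem_of_mem_normalizer hy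
      (show h * x * h⁻¹ ∈ Q by rw [← hQ]; exact ⟨x, hx, rfl⟩)
    rw [← hQ, mem_map_conj] at h1
    simpa [mul_assoc] using h1
  set A := (groupFusionSystem (S : Subgroup G)).autGroup Q with hA
  have hAeq : A = autInducedBy ⊤ Q := autGroup_group hQS
  let ψ : ↥(Subgroup.normalizer (P : Set G)) →* ↥A :=
    MonoidHom.mk' (fun x => ⟨conjAut (hmem x), by
      rw [hAeq, mem_autInducedBy]
      exact ⟨_, trivial, fun a => rfl⟩⟩) fun x y => Subtype.ext (MulEquiv.ext fun a => Subtype.ext (by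
        simp [mul_assoc]))
  have hψ : Function.Surjective ψ := by
    rintro ⟨α, hα⟩
    rw [hAeq, mem_autInducedBy] at hα
    obtain ⟨y, -, hy⟩ := hα
    have hyN : y ∈ Subgroup.normalizer (Q : Set G) := mem_normalizer_of_finite fun a ha => by
      rw [← hy ⟨a, ha⟩]; exact (α ⟨a, ha⟩).2
    refine ⟨⟨_, hmem' y hyN⟩, Subtype.ext (MulEquiv.ext fun a => Subtype.ext ?_)⟩
    show h * (h⁻¹ * y * h) * h⁻¹ * (a : G) * (h * (h⁻¹ * y * h) * h⁻¹)⁻¹ = _
    rw [hy a]; group
  have hker : ψ.ker = (Subgroup.centralizer (P : Set G)).subgroupOf (Subgroup.normalizer (P : Set G)) := by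
    ext x
    rw [MonoidHom.mem_ker, Subgroup.mem_subgroupOf, Subgroup.mem_centralizer_iff]
    constructor
    · intro hx a ha
      have h1 : h * (x : G) * h⁻¹ * (h * a * h⁻¹) * (h * (x : G) * h⁻¹)⁻¹ = h * a * h⁻¹ :=
        congrArg Subtype.val (DFunLike.congr_fun (congrArg Subtype.val hx)
          (⟨h * a * h⁻¹, by rw [← hQ]; exact ⟨a, ha, rfl⟩⟩ : Q))
      calc a * (x : G) = h⁻¹ * (h * a * h⁻¹) * h * x := by group
        _ = h⁻¹ * (h * (x : G) * h⁻¹ * (h * a * h⁻¹) * (h * (x : G) * h⁻¹)⁻¹) * h * x := by rw [h1]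
        _ = _ := by group
    · intro hx
      refine Subtype.ext (MulEquiv.ext fun a => Subtype.ext ?_)
      show h * (x : G) * h⁻¹ * (a : G) * (h * (x : G) * h⁻¹)⁻¹ = a
      have ha := a.2
      rw [← SetLike.mem_coe, SetLike.mem_coe] at ha
      have ha' : h⁻¹ * (a : G) * h ∈ P := mem_map_conj.1 (hQ.symm ▸ ha)
      calc h * (x : G) * h⁻¹ * a * (h * (x : G) * h⁻¹)⁻¹
          = h * ((x : G) * (h⁻¹ * a * h) * (x : G)⁻¹) * h⁻¹ := by group
        _ = h * (h⁻¹ * a * h) * h⁻¹ := by rw [← hx _ ha', mul_inv_cancel_right]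
        _ = a := by group
  have hχ : ((ψ ⟨g, hg⟩ : ↥A) : MulAut Q) ∈ (pCore p ↥A).map A.subtype := by
    refine hst Q hfn _ (ψ ⟨g, hg⟩).2 fun a => Subtype.ext ?_
    have ha' : h⁻¹ * (a : G) * h ∈ P := mem_map_conj.1 (hQ.symm ▸ a.2)
    have h1 : ⁅⁅(h⁻¹ * (a : G) * h)⁻¹, g⁆, g⁆ = 1 := by
      rw [← Subgroup.mem_bot, ← hq]
      exact Subgroup.commutator_mem_commutator
        (Subgroup.commutator_mem_commutator (inv_mem ha') (Subgroup.mem_zpowers g)) (Subgroup.mem_zpowers g)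
    rw [commutatorElement_eq_one_iff_mul_comm, commutatorElement_def] at h1
    show h * g * h⁻¹ * ((a : G)⁻¹) * (h * g * h⁻¹)⁻¹ * a * (h * g * h⁻¹ * ((a : G)⁻¹) * (h * g * h⁻¹)⁻¹) *
      (h * g * h⁻¹ * (h * g * h⁻¹ * (a : G) * (h * g * h⁻¹)⁻¹) * (h * g * h⁻¹)⁻¹) = 1
    set b := (h⁻¹ * (a : G) * h)⁻¹ * g * (h⁻¹ * (a : G) * h)⁻¹⁻¹ * g⁻¹ with hb
    calc _ = h * (b⁻¹ * (g * b) * g⁻¹) * h⁻¹ := by rw [hb]; group
      _ = h * (b⁻¹ * (b * g) * g⁻¹) * h⁻¹ := by rw [h1]
      _ = 1 := by group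
  obtain ⟨c, hc, hce⟩ := hχ
  have hce' : c = ψ ⟨g, hg⟩ := Subtype.ext hce
  subst hce'
  let e : (↥(Subgroup.normalizer (P : Set G)) ⧸
      (Subgroup.centralizer (P : Set G)).subgroupOf (Subgroup.normalizer (P : Set G))) ≃* ↥A :=
    (QuotientGroup.quotientMulEquivOfEq hker.symm).trans (QuotientGroup.quotientKerEquivOfSurjective ψ hψ)
  rw [← Cores.map_pCore_equiv (p := p) e] at hc
  obtain ⟨d, hd, hde⟩ := hc
  have hd' : d = QuotientGroup.mk (⟨g, hg⟩ : ↥(Subgroup.normalizer (P : Set G))) :=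
    e.injective (hde.trans rfl)
  rwa [hd'] at hd

/-- A subgroup whose normalizer controls strong fusion is normal in the fusion system. -/
theorem isNormal_group_of_controls {S Z : Subgroup G} (hZ : Z ≤ S)
    (hc : ∀ A : Set G, A ⊆ (S : Set G) →
      Cfsg.ControlsStrongFusionOf (Subgroup.normalizer (Z : Set G)) S A) :
    (groupFusionSystem S).IsNormal Z := by
  refine ⟨hZ, ?_⟩
  rintro R φ ⟨hR, hφ, g, hg⟩
  obtain ⟨x, hx, hxe⟩ := (hc R hR).2 g (by
    rintro _ ⟨a, ha, rfl⟩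
    have := hφ ⟨a, ha⟩
    rwa [hg] at this)
  refine ⟨conjHom (R ⊔ Z) x, conjHom_mem_group (sup_le hR hZ) ?_, fun a => ?_, ?_⟩
  · rw [Subgroup.map_sup, sup_le_iff]
    constructor
    · rintro _ ⟨a, ha, rfl⟩
      have := hφ ⟨a, ha⟩
      rw [hg, hxe a ha] at this
      exact this
    · rintro _ ⟨a, ha, rfl⟩
      exact hZ (conj_mem_of_mem_normalizer hx ha)
  · rw [conjHom_apply, hg]
    exact (hxe a a.2).symm
  · ext y
    constructor
    · rintro ⟨a, ha, rfl⟩
      exact conj_mem_of_mem_normalizer hx ha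
    · intro hy
      refine ⟨⟨x⁻¹ * y * x⁻¹⁻¹, Subgroup.mem_sup_right
        (conj_mem_of_mem_normalizer (inv_mem hx) hy)⟩, conj_mem_of_mem_normalizer (inv_mem hx) hy, ?_⟩
      show x * (x⁻¹ * y * x⁻¹⁻¹) * x⁻¹ = y
      group

/-- The fusion system of a stable group on a nontrivial Sylow subgroup has nontrivial core. -/
theorem core_ne_bot_of_stable (hp : p ≠ 2) (hst : Cfsg.IsNormalizerPStable p G) (S : Sylow p G)
    (hS : (S : Subgroup G) ≠ ⊥) : (groupFusionSystem (S : Subgroup G)).core ≠ ⊥ := by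
  set Z := Cfsg.centerThompsonAOf (S : Subgroup G) with hZ
  have hZS : Z ≤ (S : Subgroup G) := by
    rw [hZ, ← inducedFunctor_zjA]
    exact Subgroup.map_subtype_le _
  have hne : Z ≠ ⊥ := by
    rw [hZ, ← inducedFunctor_zjA, Cfsg.inducedFunctor, Ne, Subgroup.map_eq_bot_iff_of_injective _
      (Subgroup.subtype_injective _)]
    exact (isCharPFunctor_zjA (p := p)).1 _ S.2 ((Subgroup.nontrivial_iff_ne_bot _).2 hS)
  have hn : (groupFusionSystem (S : Subgroup G)).IsNormal Z := isNormal_group_of_controls hZS fun A hA => by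
    have h := controls_of_family isCharPFunctor_zjA (family_zjA_of_stable hp (Nat.card G) G rfl hst) S A hA
    rwa [inducedFunctor_zjA] at h
  exact fun h => hne (le_bot_iff.1 (h ▸ le_sSup hn))

end Cfsg.Agent.Lib.PLocal
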