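import Cfsg.Agent.Lib.PLocal.PlaneAutomiser
import Cfsg.Agent.Lib.PLocal.GZJPointwise
import Cfsg.Agent.Lib.PLocal.ZJFunctor
import Cfsg.Agent.Lib.FusionControl.SectionInduction

/-!
If some `p`-element of a group is inverted in it, `p` odd, then some `p`-element of `N(Z(J(S)))` is inverted
there.
-/

set_option autoImplicit false
set_option linter.unusedSectionVars false
set_option linter.style.haveILetI false

universe u

namespace Cfsg.Agent.Lib.PLocal

open Cfsg.Agent.Lib.FusionControl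
open Cfsg.Agent.Lib.OddLocal (le_centralizer_of_coprime_stab)
open scoped commutatorElement

variable {p : ℕ} [hp : Fact p.Prime]

/-- Some nontrivial `p`-element of `H` is inverted by an element of `H`. -/
def HasInv (p : ℕ) {G : Type*} [Group G] (H : Subgroup G) : Prop :=
  ∃ x ∈ H, ∃ g ∈ H, x ≠ 1 ∧ (∃ k : ℕ, x ^ p ^ k = 1) ∧ g * x * g⁻¹ = x⁻¹

lemma HasInv.mono {G : Type*} [Group G] {H K : Subgroup G} (h : HasInv p H) (hle : H ≤ K) : HasInv p K :=
  let ⟨x, hx, g, hg, h'⟩ := h; ⟨x, hle hx, g, hle hg, h'⟩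

lemma HasInv.map {G G' : Type*} [Group G] [Group G'] {H : Subgroup G} (h : HasInv p H) (f : G →* G')
    (hf : Function.Injective f) : HasInv p (H.map f) := by
  obtain ⟨x, hx, g, hg, hx1, ⟨k, hk⟩, he⟩ := h
  refine ⟨f x, ⟨x, hx, rfl⟩, f g, ⟨g, hg, rfl⟩, fun h1 => hx1 (hf (h1.trans (map_one f).symm)), ⟨k, ?_⟩, ?_⟩
  · rw [← map_pow, hk, map_one]
  · rw [← map_inv, ← map_mul, ← map_mul, he, map_inv]

lemma zIn_cj {G : Type*} [Group G] [Finite G] (g : G) (R : Subgroup G) :
    zIn 0 (cj g R) = cj g (zIn 0 R) := (map_zIn (MulAut.conj g) 0 R).symm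

lemma normalizer_zIn_cj {G : Type*} [Group G] [Finite G] (g : G) (R : Subgroup G) :
    Subgroup.normalizer (zIn 0 (cj g R) : Set G) = cj g (Subgroup.normalizer (zIn 0 R : Set G)) := by
  rw [zIn_cj, cj_normalizer]

lemma zIn_ne_bot {G : Type*} [Group G] [Finite G] {R : Subgroup G} (hR : IsPGroup p R) (hne : R ≠ ⊥) :
    zIn 0 R ≠ ⊥ := by
  haveI : Nontrivial R := R.bot_or_nontrivial.resolve_left hne
  obtain ⟨⟨z, hz⟩, hz1⟩ := @exists_ne (Subgroup.center R) hR.center_nontrivial 1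
  intro h
  refine hz1 (Subtype.ext (Subtype.ext ?_))
  have h1 : (z : G) ∈ zIn 0 R := center_le_zIn_zero _ (Subgroup.mem_inf.mpr
    ⟨z.2, fun y hy => congrArg Subtype.val (Subgroup.mem_center_iff.mp hz ⟨y, hy⟩)⟩)
  rw [h, Subgroup.mem_bot] at h1
  exact h1

/-- The `2`-part of an inverting element inverts. -/
lemma exists_two_inverting {G : Type*} [Group G] [Finite G] {x g : G} (h : g * x * g⁻¹ = x⁻¹) :
    ∃ b ∈ Subgroup.zpowers g, (∃ k, orderOf b = 2 ^ k) ∧ b * x * b⁻¹ = x⁻¹ := by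
  haveI : Fact (Nat.Prime 2) := ⟨Nat.prime_two⟩
  obtain ⟨a, b, ha, hb, hac, hbk, he⟩ := Transfer.exists_pPart_decomp (p := 2) g
  refine ⟨b, hb, hbk, ?_⟩
  have h2 : Commute (g ^ 2) x := by
    show g ^ 2 * x = x * g ^ 2
    have e : g * (g * x * g⁻¹) * g⁻¹ = x := by
      rw [h]
      calc g * x⁻¹ * g⁻¹ = (g * x * g⁻¹)⁻¹ := by group
        _ = x := by rw [h, inv_inv]
    rw [sq]
    calc g * g * x = g * (g * x * g⁻¹) * g⁻¹ * (g * g) := by group
      _ = x * (g * g) := by rw [e]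
  have ha2 : Commute (a ^ 2) x := by
    obtain ⟨i, hi⟩ := Subgroup.mem_zpowers_iff.mp ha
    rw [← hi, ← zpow_natCast, ← zpow_mul, mul_comm, zpow_mul, zpow_natCast]
    exact h2.zpow_left i
  have hax : Commute a x := by
    obtain ⟨r, hr⟩ := exists_pow_eq_self_of_coprime (n := 2) (x := a) hac.symm
    exact hr ▸ ha2.pow_left r
  have hab : Commute a b := by
    obtain ⟨i, hi⟩ := Subgroup.mem_zpowers_iff.mp ha
    obtain ⟨j, hj⟩ := Subgroup.mem_zpowers_iff.mp hb
    rw [← hi, ← hj]; exact Commute.zpow_zpow_self g i j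
  have h3 : b = a⁻¹ * g := by rw [he, inv_mul_cancel_left]
  rw [h3, show a⁻¹ * g * x * (a⁻¹ * g)⁻¹ = a⁻¹ * (g * x * g⁻¹) * a by group, h,
    mul_assoc, ← hax.inv_right.eq, inv_mul_cancel_left]

/-- A `2`-element normalizing but not centralizing a `p`-subgroup gives an inversion. -/
lemma hasInv_of_not_centralizer (hp2 : p ≠ 2) {G : Type*} [Group G] [Finite G] {Q : Subgroup G}
    (hQ : IsPGroup p Q) {b : G} (hb : ∃ k, orderOf b = 2 ^ k) (hbN : b ∈ Subgroup.normalizer (Q : Set G))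
    (hbC : b ∉ Subgroup.centralizer (Q : Set G)) :
    ∃ q ∈ Q, ∃ c ∈ Subgroup.zpowers b, q ≠ 1 ∧ c * q * c⁻¹ = q⁻¹ := by
  obtain ⟨k, hk⟩ := hb
  induction k using Nat.strong_induction_on generalizing b with
  | _ k ih =>
    by_cases h2 : b ^ 2 ∈ Subgroup.centralizer (Q : Set G)
    · obtain ⟨y, hy, hyb⟩ : ∃ y ∈ Q, ¬ Commute b y := by
        by_contra hall
        push Not at hall
        exact hbC (Subgroup.mem_centralizer_iff.mpr fun y hy => ((hall y hy).eq).symm)
      have hy' : b * y * b⁻¹ ∈ Q := (Subgroup.mem_normalizer_iff.mp hbN y).mp hy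
      refine ⟨y * (b * y * b⁻¹)⁻¹, mul_mem hy (inv_mem hy'), b, Subgroup.mem_zpowers b, ?_, ?_⟩
      · intro h
        refine hyb ?_
        rw [mul_inv_eq_one] at h
        show b * y = y * b
        conv_rhs => rw [h]
        group
      · have e : b * (b * y * b⁻¹) * b⁻¹ = y := by
          have := Subgroup.mem_centralizer_iff.mp h2 y hy
          calc b * (b * y * b⁻¹) * b⁻¹ = b ^ 2 * y * (b ^ 2)⁻¹ := by rw [sq]; group
            _ = y := by rw [← this, mul_inv_cancel_right]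
        calc b * (y * (b * y * b⁻¹)⁻¹) * b⁻¹ = (b * y * b⁻¹) * (b * (b * y * b⁻¹) * b⁻¹)⁻¹ := by group
          _ = _ := by rw [e]; group
    · rcases Nat.eq_zero_or_pos k with rfl | hk0
      · rw [pow_zero, orderOf_eq_one_iff] at hk
        exact absurd (hk ▸ one_mem _) hbC
      obtain ⟨q, hq, c, hc, h⟩ := ih (k - 1) (by omega) (pow_mem hbN 2) h2 (by
        rw [orderOf_pow' b two_ne_zero, hk, Nat.gcd_eq_right (dvd_pow_self 2 (by omega))]
        calc 2 ^ k / 2 = 2 ^ (k - 1 + 1) / 2 := by rw [Nat.sub_add_cancel hk0]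
          _ = _ := by rw [pow_succ, Nat.mul_div_cancel _ two_pos])
      exact ⟨q, hq, c, Subgroup.zpowers_le.mpr (pow_mem (Subgroup.mem_zpowers b) 2) hc, h⟩

/-- The inductive statement at one group. -/
def InvDescends (p : ℕ) (Y : Type u) [Group Y] [Finite Y] : Prop :=
  ∀ S : Sylow p Y, HasInv p (⊤ : Subgroup Y) → HasInv p (Subgroup.normalizer (zIn 0 (S : Subgroup Y) : Set Y))

/-- Use of the induction hypothesis in a proper subgroup. -/
lemma hasInv_in_subgroup {Y : Type u} [Group Y] [Finite Y]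
    (ih : ∀ H : Subgroup Y, H ≠ ⊤ → InvDescends p H) {X : Subgroup Y} (hX : X ≠ ⊤) {R : Subgroup Y}
    (hRX : R ≤ X) (hR : IsPGroup p R) (hRi : ¬ p ∣ R.relIndex X) (h : HasInv p X) :
    HasInv p (Subgroup.normalizer (zIn 0 R : Set Y)) := by
  let T : Sylow p X := (hR.comap_of_injective X.subtype X.subtype_injective).toSylow hRi
  have htop : HasInv p (⊤ : Subgroup X) := by
    obtain ⟨x, hx, g, hg, hx1, ⟨k, hk⟩, he⟩ := h
    exact ⟨⟨x, hx⟩, trivial, ⟨g, hg⟩, trivial, fun e => hx1 (congrArg Subtype.val e), ⟨k, Subtype.ext hk⟩,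
      Subtype.ext he⟩
  refine ((ih X hX T htop).map X.subtype X.subtype_injective).mono ?_
  rintro _ ⟨n, hn, rfl⟩
  have e : (zIn 0 (T : Subgroup X)).map X.subtype = zIn 0 R := by
    rw [map_zIn_of_injective X.subtype X.subtype_injective]
    congr 1
    exact Subgroup.map_comap_eq_self (by rw [Subgroup.range_subtype]; exact hRX)
  rw [← e]
  exact Subgroup.le_normalizer_map X.subtype ⟨n, hn, rfl⟩

/-- Climbing: from a `p`-subgroup with a property forcing proper normalizers up to a Sylow subgroup. -/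
lemma hasInv_climb {Y : Type u} [Group Y] [Finite Y] (ih : ∀ H : Subgroup Y, H ≠ ⊤ → InvDescends p H)
    (S : Sylow p Y) (P : Subgroup Y → Prop) (hmono : ∀ R R' : Subgroup Y, R ≤ R' → P R → P R')
    (hprop : ∀ R : Subgroup Y, IsPGroup p R → P R → (∃ g, R < cj g (S : Subgroup Y)) →
      Subgroup.normalizer (zIn 0 R : Set Y) ≠ ⊤)
    {R : Subgroup Y} (hR : IsPGroup p R) (hPR : P R)
    (h : HasInv p (Subgroup.normalizer (zIn 0 R : Set Y))) :
    HasInv p (Subgroup.normalizer (zIn 0 (S : Subgroup Y) : Set Y)) := by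
  induction hn : Nat.card (S : Subgroup Y) - Nat.card R using Nat.strong_induction_on generalizing R with
  | _ n ih' =>
  obtain ⟨k, -, hk⟩ := exists_cj_le_of_not_dvd (le_top : (S : Subgroup Y) ≤ ⊤) S.2 (sylow_relIndex_top S)
    (le_top : R ≤ ⊤) hR
  have hk' : R ≤ cj k⁻¹ (S : Subgroup Y) := by
    have := cj_le_cj (g := k⁻¹) hk
    rwa [cj_inv_cj] at this
  rcases hk'.lt_or_eq with hlt | heq
  · set X := Subgroup.normalizer (zIn 0 R : Set Y) with hX
    have hXne : X ≠ ⊤ := hprop R hR hPR ⟨k⁻¹, hlt⟩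
    have hS' : IsPGroup p (cj k⁻¹ (S : Subgroup Y)) := isPGroup_cj S.2
    have hnX : nS (cj k⁻¹ (S : Subgroup Y)) R ≤ X := inf_le_right.trans (normalizer_le_normalizer_zIn 0 R)
    obtain ⟨R', hRR', hR'X, hR', hR'i⟩ := exists_sylow_in p X hnX (hS'.to_le inf_le_left)
    have hlt' : Nat.card R < Nat.card R' :=
      (card_lt_nS hS' hlt).trans_le (Subgroup.card_le_of_le hRR')
    refine ih' _ ?_ hR' (hmono R R' ((le_nS hk').trans hRR') hPR)
      (hasInv_in_subgroup ih hXne hR'X hR' hR'i h) rfl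
    have : Nat.card R' ≤ Nat.card (S : Subgroup Y) := by
      obtain ⟨k', -, hk'⟩ := exists_cj_le_of_not_dvd (le_top : (S : Subgroup Y) ≤ ⊤) S.2 (sylow_relIndex_top S)
        (le_top : R' ≤ ⊤) hR'
      have := Subgroup.card_le_of_le hk'
      rwa [card_cj] at this
    omega
  · rw [heq, normalizer_zIn_cj] at h
    have h1 := h.map (MulAut.conj k).toMonoidHom (MulAut.conj k).injective
    refine h1.mono ?_
    show cj k (cj k⁻¹ _) ≤ _
    rw [cj_cj, mul_inv_cancel, cj_one]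

/-- An inversion modulo `O_{p'}` lifts. -/
lemma hasInv_of_quotient {Y : Type u} [Group Y] [Finite Y] (S : Sylow p Y)
    (h : HasInv p (Subgroup.normalizer (zIn 0 ((S : Subgroup Y).map (QuotientGroup.mk' (Cfsg.pPrimeCore p Y))) :
      Set (Y ⧸ Cfsg.pPrimeCore p Y)))) :
    HasInv p (Subgroup.normalizer (zIn 0 (S : Subgroup Y) : Set Y)) := by
  set O := Cfsg.pPrimeCore p Y with hO
  set f := QuotientGroup.mk' O with hf
  obtain ⟨x', hx', g', hg', hx1, ⟨k, hk⟩, he⟩ := h
  have key : ∀ z ∈ Subgroup.normalizer (zIn 0 ((S : Subgroup Y).map f) : Set (Y ⧸ O)),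
      ∃ n ∈ Subgroup.normalizer (zIn 0 (S : Subgroup Y) : Set Y), f n = z := by
    intro z hz
    have := exists_lift_step (p := p) isCharPFunctor_zjA S (x := z) (by
      rw [inducedFunctor_zjA, ← zIn_zero_eq]; exact hz)
    rwa [inducedFunctor_zjA, ← zIn_zero_eq] at this
  obtain ⟨y₀, hy₀, rfl⟩ := key x' hx'
  obtain ⟨n₀, hn₀, rfl⟩ := key g' hg'
  set N := Subgroup.normalizer (zIn 0 (S : Subgroup Y) : Set Y) with hN
  -- the `p`-part of the lift
  obtain ⟨a, y, -, hy, ha, ⟨j, hj⟩, hae⟩ := Transfer.exists_pPart_decomp (p := p) y₀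
  have hfy : f y = f y₀ := by
    have h1 : f a = 1 := by
      obtain ⟨i, hi⟩ := Subgroup.mem_zpowers_iff.mp hy
      have h2 : f a = f y₀ * (f y)⁻¹ := by rw [← map_inv, ← map_mul, hae, mul_inv_cancel_right]
      have h3 : (f a) ^ p ^ k = 1 := by
        rw [h2, ← hi, map_zpow, ← zpow_neg, ← zpow_one_add, ← zpow_natCast, ← zpow_mul, mul_comm, zpow_mul,
          zpow_natCast, hk, one_zpow]
      rw [← orderOf_eq_one_iff]
      exact Nat.eq_one_of_dvd_coprimes (ha.pow_right k) (orderOf_map_dvd f a) (orderOf_dvd_of_pow_eq_one h3)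
    conv_rhs => rw [hae, map_mul, h1, one_mul]
  have hyN : y ∈ N := Subgroup.zpowers_le.mpr hy₀ hy
  set K := (Subgroup.zpowers y ⊔ O) ⊓ N with hK
  have hyK : Subgroup.zpowers y ≤ K := le_inf le_sup_left (Subgroup.zpowers_le.mpr hyN)
  have hyp : IsPGroup p (Subgroup.zpowers y) := IsPGroup.of_card (n := j) (by rw [Nat.card_zpowers, hj])
  have hyi : ¬ p ∣ (Subgroup.zpowers y).relIndex K := by
    have hop : (Nat.card O).Coprime p := Cores.pPrimeCore_coprime p Y
    intro hd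
    have h1 := hd.trans (Dvd.intro _ (Subgroup.relIndex_mul_relIndex _ _ _ hyK (inf_le_left : K ≤ _)))
    have h2 := Cfsg.Agent.Lib.Coprime.card_sup_mul_card_inf (N := O) (H := Subgroup.zpowers y) (by rw [Subgroup.normalizer_eq_top]; exact le_top)
    have h3 := Cfsg.Agent.Lib.Coprime.relIndex_mul_card (le_sup_left : Subgroup.zpowers y ≤ Subgroup.zpowers y ⊔ O)
    rw [sup_comm O] at h2
    rw [← h3] at h2
    have h4 : (Subgroup.zpowers y).relIndex (Subgroup.zpowers y ⊔ O) ∣ Nat.card O := by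
      refine Dvd.intro (Nat.card (O ⊓ Subgroup.zpowers y : Subgroup Y)) ?_
      refine Nat.eq_of_mul_eq_mul_left (Nat.card_pos (α := Subgroup.zpowers y)) ?_
      rw [← mul_assoc, h2, mul_comm]
    exact hp.out.coprime_iff_not_dvd.mp hop.symm (h1.trans h4)
  have hKn : n₀ ∈ Subgroup.normalizer (K : Set Y) := by
    refine mem_normalizer_of_cj_le ?_
    rw [hK, cj_inf, cj, Subgroup.map_sup, MonoidHom.map_zpowers]
    refine inf_le_inf (sup_le ?_ ?_) ?_
    · rw [Subgroup.zpowers_le]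
      show n₀ * y * n₀⁻¹ ∈ _
      have h2 : (y * (n₀ * y * n₀⁻¹)) ∈ O := by
        rw [← QuotientGroup.eq_one_iff]
        show f (y * (n₀ * y * n₀⁻¹)) = 1
        rw [map_mul, map_mul, map_mul, map_inv, hfy, he, mul_inv_cancel]
      have := mul_mem (Subgroup.mem_sup_left (T := O) (inv_mem (Subgroup.mem_zpowers y))) (Subgroup.mem_sup_right h2)
      simpa using this
    · exact le_trans (mem_normalizer_iff_cj.1 (show n₀ ∈ Subgroup.normalizer (O : Set Y) by
        rw [Subgroup.normalizer_eq_top]; trivial)).le le_sup_right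
    · exact (mem_normalizer_iff_cj.1 (Subgroup.le_normalizer hn₀)).le
  obtain ⟨c, hc, hcn⟩ := exists_frattini hyK hyp hyi hKn
  refine ⟨y, hyN, c * n₀, mul_mem (Subgroup.mem_inf.mp hc).2 hn₀, fun h1 => hx1 (by rw [← hfy, h1, map_one]),
    ⟨j, hj ▸ pow_orderOf_eq_one y⟩, ?_⟩
  have hinj : ∀ u ∈ Subgroup.zpowers y, f u = 1 → u = 1 := fun u hu h1 =>
    eq_one_of_mem_pPrimeCore hyp hu ((QuotientGroup.eq_one_iff u).mp h1)
  have h2 : c * n₀ * y * (c * n₀)⁻¹ ∈ Subgroup.zpowers y :=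
    (Subgroup.mem_normalizer_iff.mp hcn y).mp (Subgroup.mem_zpowers y)
  have hcc : Commute (f c) (f y) := by
    have hle : (Subgroup.zpowers y ⊔ O).map f ≤ Subgroup.centralizer {f y} := by
      rw [Subgroup.map_sup, sup_le_iff, MonoidHom.map_zpowers, Subgroup.zpowers_le,
        Subgroup.map_le_iff_le_comap]
      refine ⟨Subgroup.mem_centralizer_singleton_iff.mpr rfl, fun o ho => ?_⟩
      rw [Subgroup.mem_comap, show f o = 1 from (QuotientGroup.eq_one_iff o).mpr ho]
      exact one_mem _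
    exact Subgroup.mem_centralizer_singleton_iff.mp (hle ⟨c, (Subgroup.mem_inf.mp hc).1, rfl⟩)
  refine eq_inv_of_mul_eq_one_left (hinj _ (mul_mem h2 (Subgroup.mem_zpowers y)) ?_)
  rw [map_mul, map_mul, map_mul, map_inv, map_mul]
  calc f c * f n₀ * f y * (f c * f n₀)⁻¹ * f y = f c * (f n₀ * f y * (f n₀)⁻¹) * (f c)⁻¹ * f y := by group
    _ = f c * (f y)⁻¹ * (f c)⁻¹ * f y := by rw [hfy, he]
    _ = _ := by rw [hcc.inv_right.eq]; group

/-- The constrained case. -/
lemma hasInv_charP (hp2 : p ≠ 2) {Y : Type u} [Group Y] [Finite Y] (hC : CharPType p Y)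
    (ih : ∀ H : Subgroup Y, H ≠ ⊤ → InvDescends p H) (S : Sylow p Y)
    (hne : Subgroup.normalizer (zIn 0 (S : Subgroup Y) : Set Y) ≠ ⊤) :
    HasInv p (Subgroup.normalizer (zIn 0 (S : Subgroup Y) : Set Y)) := by
  set Z := zIn 0 (S : Subgroup Y) with hZ
  set V := Subgroup.normalClosure (Z : Set Y) with hV
  -- a witness against stability
  obtain ⟨B, hBn, hB, A₀, W, hA₀, hWA₀, hBW, hor, a, haW, hnot⟩ : ∃ (B : Subgroup Y) (_ : B.Normal), IsPGroup p B ∧
      ∃ A W : Subgroup Y, MaxIn 0 (S : Subgroup Y) A ∧ W ≤ A ∧ B ≤ Subgroup.normalizer (W : Set Y) ∧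
      (B ≤ V ∨ W = Z) ∧ ∃ a ∈ W,
        QuotientGroup.mk' (Subgroup.centralizer (B : Set Y)) a ∉
          Cfsg.pCore p (Y ⧸ Subgroup.centralizer (B : Set Y)) := by
    by_contra hcon
    push Not at hcon
    refine hne (Subgroup.normalizer_eq_top_iff.mpr (zIn_normal_of_pointwise hp2 hC (Or.inr rfl) S ?_))
    exact fun B _ hB A W hA hWA hBW hor a ha => hcon B inferInstance hB A W hA hWA hBW hor a ha
  haveI : V.Normal := Subgroup.normalClosure_normal
  obtain ⟨A, hA, hWA, hVA⟩ : ∃ A, MaxIn 0 (S : Subgroup Y) A ∧ W ≤ A ∧ ¬ V ≤ A := by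
    by_contra hcon
    push Not at hcon
    rcases hor with hBV | hWZ
    · refine hnot ?_
      rw [QuotientGroup.mk'_apply, (QuotientGroup.eq_one_iff a).mpr]
      · exact one_mem _
      refine Subgroup.mem_centralizer_iff.mpr fun y hy => ?_
      exact commute_of_elemAb hA₀.2.1 (hcon A₀ hA₀ hWA₀ (hBV hy)) (hWA₀ haW)
    · have hVZ : V ≤ Z := le_sInf fun A hA => hcon A hA (hWZ ▸ zIn_le hA)
      have : Z = V := le_antisymm (fun z hz => Subgroup.subset_normalClosure hz) hVZ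
      exact hne (Subgroup.normalizer_eq_top_iff.mpr (this ▸ inferInstance))
  have hWc : ∀ x ∈ W, ∀ y ∈ W, Commute x y := fun x hx y hy => commute_of_elemAb hA.2.1 (hWA hx) (hWA hy)
  have hq : ⁅⁅B, Subgroup.zpowers a⁆, Subgroup.zpowers a⁆ = ⊥ := by
    rw [Subgroup.commutator_eq_bot_iff_le_centralizer]
    refine le_trans ((Subgroup.commutator_mono le_rfl (Subgroup.zpowers_le.mpr haW)).trans
      (Subgroup.le_normalizer_iff_commutator_le_right.mp hBW)) ?_
    intro c hc z hz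
    exact (hWc z ((Subgroup.zpowers_le.mpr haW) hz) c hc)
  have haN : a ∈ Subgroup.normalizer (B : Set Y) := by rw [Subgroup.normalizer_eq_top]; trivial
  obtain ⟨b, hpl⟩ := exists_hasPlane_of_not_mem dicksonTwo hp2 hB haN hq (fun h1 => hnot (by
    set N := Subgroup.normalizer (B : Set Y) with hN
    set C := Subgroup.centralizer (B : Set Y) with hCdef
    have hs : Function.Surjective (QuotientGroup.map (C.subgroupOf N) C N.subtype (fun x hx => hx)) := by
      intro y
      obtain ⟨g, rfl⟩ := QuotientGroup.mk'_surjective C y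
      exact ⟨QuotientGroup.mk ⟨g, by rw [hN, Subgroup.normalizer_eq_top]; trivial⟩, rfl⟩
    exact Cores.map_pCore_le _ hs ⟨_, h1, rfl⟩))
  obtain ⟨K₀, φ, g₁, g₂, hK₀, hφ, -, hg₂, hn₁, hn₂, h₁, h₂, he₁, hce⟩ := hpl
  subst he₁
  obtain ⟨w, hwW, hwK, hw1, hwp, hd⟩ := exists_full_automiser hp2 K₀ (hB.to_le hK₀) φ hφ g₁ g₂ hn₁ hn₂ h₁ h₂
    (fun t ht htp k hk => hce t ((Subgroup.closure_le _).mpr (by
      rintro x (rfl | rfl)
      · exact Subgroup.subset_closure (Or.inl rfl)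
      · exact hg₂) ht) htp k hk) W hWc (hK₀.trans hBW) haW
  obtain ⟨τ, -, hτ⟩ := hd (-1)
  have hτw : τ * w * τ⁻¹ = w⁻¹ := by
    rw [hτ, eq_inv_iff_mul_eq_one, ← pow_succ, Units.val_neg, Units.val_one]
    refine orderOf_dvd_iff_pow_eq_one.mp ((orderOf_dvd_of_pow_eq_one hwp).trans ?_)
    rw [← ZMod.natCast_eq_zero_iff, Nat.cast_succ, ZMod.natCast_zmod_val, neg_add_cancel]
  have hwA : w ∈ A := hWA hwW
  have hwinv : ∀ {X : Subgroup Y}, w ∈ X → τ ∈ X → HasInv p X := fun hw ht =>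
    ⟨w, hw, τ, ht, hw1, ⟨1, by rwa [pow_one]⟩, hτw⟩
  set X := Subgroup.normalizer ((Subgroup.zpowers w : Subgroup Y) : Set Y) with hX
  have hτX : τ ∈ X := by
    refine mem_normalizer_of_cj_le ?_
    rw [cj, MonoidHom.map_zpowers, Subgroup.zpowers_le]
    show τ * w * τ⁻¹ ∈ _
    rw [hτw]
    exact inv_mem (Subgroup.mem_zpowers w)
  by_cases hXtop : X = ⊤
  · -- `w` is central in `S`
    haveI hwn : (Subgroup.zpowers w).Normal := Subgroup.normalizer_eq_top_iff.mp hXtop
    have hwS : w ∈ (S : Subgroup Y) := hA.1 hwA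
    have hSC : (S : Subgroup Y) ≤ Subgroup.centralizer {w} := by
      intro s hs
      rw [Subgroup.mem_centralizer_singleton_iff]
      have h1 : s * w * s⁻¹ ∈ Subgroup.zpowers w := hwn.conj_mem w (Subgroup.mem_zpowers w) s
      obtain ⟨i, hi⟩ := Subgroup.mem_zpowers_iff.mp h1
      by_contra hne'
      set P' := Subgroup.zpowers w with hP'
      have hlt : ⁅P', (S : Subgroup Y)⁆ < P' := Cfsg.Agent.Lib.Coprime.commutator_lt_of_isPGroup
        (S.2.to_le (Subgroup.zpowers_le.mpr hwS)) S.2 (by rw [Subgroup.normalizer_eq_top]; exact le_top)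
        (fun h => hw1 (Subgroup.mem_bot.mp (h ▸ Subgroup.mem_zpowers w)))
      have hbot : ⁅P', (S : Subgroup Y)⁆ = ⊥ := by
        have hc : Nat.card P' = p := by
          rw [hP', Nat.card_zpowers]; exact orderOf_eq_prime hwp hw1
        have h3 := (Nat.dvd_prime hp.out).mp (hc ▸ Subgroup.card_dvd_of_le hlt.le)
        exact Subgroup.card_eq_one.mp (h3.resolve_right fun h =>
          hlt.ne (Subgroup.eq_of_le_of_card_ge hlt.le (by rw [h, hc])))
      rw [Subgroup.commutator_eq_bot_iff_le_centralizer] at hbot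
      exact hne' (Subgroup.mem_centralizer_iff.mp (hbot (Subgroup.mem_zpowers w)) s hs)
    set C := Subgroup.centralizer ((Subgroup.zpowers w : Subgroup Y) : Set Y) with hCdef
    haveI : C.Normal := by rw [hCdef]; infer_instance
    have hSC' : (S : Subgroup Y) ≤ C := by
      rw [hCdef]
      intro s hs
      rw [Subgroup.mem_centralizer_iff]
      intro y hy
      obtain ⟨i, rfl⟩ := Subgroup.mem_zpowers_iff.mp hy
      exact ((show Commute w s from (Subgroup.mem_centralizer_singleton_iff.mp (hSC hs)).symm).zpow_left i).eq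
    obtain ⟨c, hc, hcn⟩ := exists_frattini hSC' S.2 (not_dvd_relIndex_of_le S hSC')
      (show τ ∈ Subgroup.normalizer (C : Set Y) by rw [Subgroup.normalizer_eq_top]; trivial)
    have hSN : Subgroup.normalizer ((S : Subgroup Y) : Set Y) ≤ Subgroup.normalizer (Z : Set Y) :=
      normalizer_le_normalizer_zIn 0 _
    refine ⟨w, hSN (Subgroup.le_normalizer hwS), c * τ, hSN hcn, hw1, ⟨1, by rwa [pow_one]⟩, ?_⟩
    rw [show c * τ * w * (c * τ)⁻¹ = c * (τ * w * τ⁻¹) * c⁻¹ by group, hτw,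
      ← Subgroup.mem_centralizer_iff.mp hc _ (inv_mem (Subgroup.mem_zpowers w)), mul_inv_cancel_right]
  -- climb from the normalizer of `⟨w⟩`, keeping a conjugate of `A`
  let P : Subgroup Y → Prop := fun R => ∃ g, cj g A ≤ R
  have hAX : A ≤ X := by
    intro x hx
    refine mem_normalizer_of_cj_le ?_
    rw [cj, MonoidHom.map_zpowers, Subgroup.zpowers_le]
    show x * w * x⁻¹ ∈ _
    rw [commute_of_elemAb hA.2.1 hx hwA, mul_inv_cancel_right]
    exact Subgroup.mem_zpowers w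
  obtain ⟨R, hAR, hRX, hR, hRi⟩ := exists_sylow_in p X hAX (S.2.to_le hA.1)
  refine hasInv_climb ih S P (fun R R' h ⟨g, hg⟩ => ⟨g, hg.trans h⟩) (fun R' hR' ⟨g, hg⟩ ⟨k, hk⟩ htop => ?_) hR
    ⟨1, by rw [cj_one]; exact hAR⟩ (hasInv_in_subgroup ih hXtop hRX hR hRi (hwinv (hAX hwA) hτX))
  -- `Z(J(R'))` is not normal
  have hmax : MaxIn 0 R' (cj g A) := by
    refine ⟨hg, elemAb_map hA.2.1 _, fun D hD hDe => ?_⟩
    rw [card_cj]
    have h1 := hA.2.2 (cj k⁻¹ D) (by
      have := cj_le_cj (g := k⁻¹) (hD.trans hk.le); rwa [cj_inv_cj] at this) (elemAb_map hDe _)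
    rwa [card_cj] at h1
  have hle : zIn 0 (cj k (S : Subgroup Y)) ≤ zIn 0 R' := le_sInf fun D hD => zIn_le ⟨hD.1.trans hk.le, hD.2.1,
    fun E hE hEe => by
      have h1 := hA.2.2 (cj k⁻¹ E) (by
        have := cj_le_cj (g := k⁻¹) hE; rwa [cj_inv_cj] at this) (elemAb_map hEe _)
      rw [card_cj] at h1
      have h2 := hD.2.2 (cj g A) hg (elemAb_map hA.2.1 _)
      rw [card_cj] at h2
      exact h1.trans h2⟩
  haveI hn : (zIn 0 R').Normal := Subgroup.normalizer_eq_top_iff.mp htop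
  have hVle : V ≤ zIn 0 R' := by
    refine Subgroup.normalClosure_le_normal ?_
    intro z hz
    have h1 : k * z * k⁻¹ ∈ zIn 0 R' := hle (by rw [zIn_cj]; exact conj_mem_cj hz)
    have := hn.conj_mem _ h1 k⁻¹
    simpa [mul_assoc] using this
  refine hVA fun v hv => ?_
  obtain ⟨y, hy, hye⟩ := zIn_le hmax (hVle ((inferInstance : V.Normal).conj_mem v hv g))
  have : y = v := (MulAut.conj g).injective hye
  exact this ▸ hy

/-- The hard case. -/
lemma hasInv_hard (hp2 : p ≠ 2) {Y : Type u} [Group Y] [Finite Y]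
    (ih : ∀ H : Subgroup Y, H ≠ ⊤ → InvDescends p H)
    (ihq : InvDescends p (Y ⧸ Cfsg.pCore p Y)) (S : Sylow p Y)
    (hO : Cfsg.pPrimeCore p Y = ⊥) (hC : ¬ CharPType p Y) (h : HasInv p (⊤ : Subgroup Y)) :
    HasInv p (Subgroup.normalizer (zIn 0 (S : Subgroup Y) : Set Y)) := by
  set Q := Cfsg.pCore p Y with hQdef
  set C := Subgroup.centralizer (Q : Set Y) with hCdef
  set CS := (S : Subgroup Y) ⊓ C with hCSdef
  haveI hQn : Q.Normal := by rw [hQdef]; infer_instance
  haveI hCn : C.Normal := by rw [hCdef]; infer_instance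
  have hQp : IsPGroup p Q := Cores.pCore_isPGroup p Y
  have hQS : Q ≤ (S : Subgroup Y) := pCore_le_S S
  have hCSQ : ¬ CS ≤ Q := inf_centralizer_pCore_not_le hO hC S
  have hsub : ∀ X : Subgroup Y, X ≠ ⊤ → (S : Subgroup Y) ≤ X → HasInv p X →
      HasInv p (Subgroup.normalizer (zIn 0 (S : Subgroup Y) : Set Y)) := fun X hX hle hX' =>
    hasInv_in_subgroup ih hX hle S.2 (not_dvd_relIndex_of_le S hle) hX'
  obtain ⟨x, -, g₀, -, hx1, ⟨k, hxk⟩, hg₀⟩ := h
  obtain ⟨b, -, hb2, hbx⟩ := exists_two_inverting hg₀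
  have hodd : Odd p := hp.out.odd_of_ne_two hp2
  by_cases hCS : (S : Subgroup Y) ⊔ C = ⊤
  · -- every element of order prime to `p` centralizes `Q`
    have hpel : ∀ y : Y, (orderOf y).Coprime p → y ∈ C := by
      intro y hy
      have hs : Function.Surjective ((QuotientGroup.mk' C).comp (S : Subgroup Y).subtype) := by
        intro w
        obtain ⟨z, rfl⟩ := QuotientGroup.mk'_surjective C w
        obtain ⟨s, hs, c, hc, rfl⟩ :=
          Subgroup.mem_sup_of_normal_right.1 (hCS ▸ Subgroup.mem_top z : z ∈ (S : Subgroup Y) ⊔ C)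
        refine ⟨⟨s, hs⟩, ?_⟩
        show QuotientGroup.mk' C s = QuotientGroup.mk' C (s * c)
        rw [mk'_eq_iff]; simpa using hc
      have := Transfer.pResidual_le_ker (S.2.of_surjective _ hs) (QuotientGroup.mk' C)
        (Transfer.mem_pResidual_of_coprime hy)
      rwa [QuotientGroup.ker_mk'] at this
    have h2el : ∀ y : Y, (∃ j, orderOf y = 2 ^ j) → y ∈ C := fun y ⟨j, hj⟩ =>
      hpel y (hj ▸ ((Nat.coprime_primes Nat.prime_two hp.out).mpr (Ne.symm hp2)).pow_left j)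
    set f := QuotientGroup.mk' Q with hf
    have hxQ : x ∉ Q := by
      intro hxQ
      have h1 := Subgroup.mem_centralizer_iff.mp (h2el b hb2) x hxQ
      rw [← h1, mul_inv_cancel_right] at hbx
      refine hx1 ?_
      have h2 : x ^ 2 = 1 := by rw [sq]; conv_lhs => arg 1; rw [hbx]
                                exact inv_mul_cancel x
      rw [← orderOf_eq_one_iff]
      exact Nat.eq_one_of_dvd_coprimes (((Nat.coprime_primes Nat.prime_two hp.out).mpr (Ne.symm hp2)).pow_right k)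
        (orderOf_dvd_of_pow_eq_one h2) (orderOf_dvd_of_pow_eq_one hxk)
    have hTi : ¬ p ∣ ((S : Subgroup Y).map f).relIndex ⊤ := by
      rw [Subgroup.relIndex_top_right]
      exact fun hd => S.not_dvd_index (hd.trans (Subgroup.index_map_dvd _ (QuotientGroup.mk'_surjective Q)))
    have hq : HasInv p (⊤ : Subgroup (Y ⧸ Q)) := ⟨f x, trivial, f b, trivial,
      fun h1 => hxQ ((QuotientGroup.eq_one_iff x).mp h1), ⟨k, by rw [← map_pow, hxk, map_one]⟩,
      by rw [← map_inv, ← map_mul, ← map_mul, hbx, map_inv]⟩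
    obtain ⟨y', hy', n', hn', hy1, ⟨j, hyj⟩, hn'y⟩ :=
      ihq (S.mapSurjective (f := f) (QuotientGroup.mk'_surjective Q)) hq
    rw [Sylow.coe_mapSurjective] at hy' hn'
    set Z' := zIn 0 ((S : Subgroup Y).map f) with hZ'
    set XW := Z'.comap f with hXW
    have hXWS : XW ≤ (S : Subgroup Y) := by
      have : ((S : Subgroup Y).map f).comap f = (S : Subgroup Y) := by
        rw [Subgroup.comap_map_eq, QuotientGroup.ker_mk', sup_eq_left.2 hQS]
      rw [← this]; exact Subgroup.comap_mono (zIn_le_self 0 _)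
    have hprop : Subgroup.normalizer (XW : Set Y) ≠ ⊤ := by
      refine normalizer_ne_top_of_pCore (S.2.to_le hXWS) fun hc => ?_
      refine zIn_ne_bot (p := p) (S.2.map f) (fun hb => hCSQ (inf_le_left.trans ?_)) ?_
      · rwa [Subgroup.map_eq_bot_iff, QuotientGroup.ker_mk'] at hb
      · rw [eq_bot_iff]
        intro z hz
        obtain ⟨w, rfl⟩ := QuotientGroup.mk'_surjective Q z
        exact Subgroup.mem_bot.2 ((QuotientGroup.eq_one_iff w).2 (hc hz))
    have hnorm : ∀ y : Y, f y ∈ Subgroup.normalizer (Z' : Set (Y ⧸ Q)) →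
        y ∈ Subgroup.normalizer (XW : Set Y) := by
      intro y hy
      rw [Subgroup.mem_normalizer_iff]
      intro z
      show f z ∈ Z' ↔ f (y * z * y⁻¹) ∈ Z'
      rw [map_mul, map_mul, map_inv]
      exact Subgroup.mem_normalizer_iff.1 hy (f z)
    have hSN : (S : Subgroup Y) ≤ Subgroup.normalizer (XW : Set Y) := fun s hs =>
      hnorm s ((Subgroup.le_normalizer.trans (normalizer_le_normalizer_zIn 0 _)) ⟨s, hs, rfl⟩)
    refine hsub _ hprop hSN ?_
    obtain ⟨c', hc', hc2, hc'y⟩ := exists_two_inverting hn'y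
    have hc'N : c' ∈ Subgroup.normalizer (Z' : Set (Y ⧸ Q)) := Subgroup.zpowers_le.mpr hn' hc'
    obtain ⟨c₀, hc₀⟩ := QuotientGroup.mk'_surjective Q c'
    haveI : Fact (Nat.Prime 2) := ⟨Nat.prime_two⟩
    obtain ⟨a, c, ha, hc, hac, hcj, hace⟩ := Transfer.exists_pPart_decomp (p := 2) c₀
    have hfc : f c = c' := by
      have h1 : f a = 1 := by
        obtain ⟨i, hi⟩ := Subgroup.mem_zpowers_iff.mp ha
        obtain ⟨e, he⟩ := hc2
        rw [← orderOf_eq_one_iff]
        refine Nat.eq_one_of_dvd_coprimes (hac.pow_right e) (orderOf_map_dvd f a) (orderOf_dvd_of_pow_eq_one ?_)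
        rw [← hi, map_zpow, hc₀, ← zpow_natCast, ← zpow_mul, mul_comm, zpow_mul, zpow_natCast, ← he,
          pow_orderOf_eq_one, one_zpow]
      rw [← hc₀, hace, map_mul, h1, one_mul]
    obtain ⟨y, rfl⟩ := QuotientGroup.mk'_surjective Q y'
    set P' := (Subgroup.zpowers (f y)).comap f with hP'
    have hP'p : IsPGroup p P' := by
      refine IsPGroup.comap_of_ker_isPGroup ?_ f (by rw [hf, QuotientGroup.ker_mk']; exact hQp)
      obtain ⟨i, -, hi⟩ := (Nat.dvd_prime_pow hp.out).mp (orderOf_dvd_of_pow_eq_one hyj)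
      exact IsPGroup.of_card (n := i) (by rw [Nat.card_zpowers, hi])
    have hcP : ∀ u ∈ P', c * u * c⁻¹ ∈ P' := by
      intro u hu
      obtain ⟨i, hi⟩ := Subgroup.mem_zpowers_iff.mp hu
      show f (c * u * c⁻¹) ∈ Subgroup.zpowers (f y)
      rw [map_mul, map_mul, map_inv, hfc, ← hi, ← conj_zpow, hc'y]
      exact zpow_mem (inv_mem (Subgroup.mem_zpowers _)) i
    have hyP : y ∈ P' := Subgroup.mem_zpowers (f y)
    have hc2C : c ^ 2 ∈ Subgroup.centralizer (P' : Set Y) := by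
      refine le_centralizer_of_coprime_stab (K := Q) (A := Subgroup.zpowers (c ^ 2)) ?_ ?_ ?_
        (Subgroup.mem_zpowers _)
      · rw [Subgroup.commutator_le]
        intro u hu s hs
        obtain ⟨i, rfl⟩ := Subgroup.mem_zpowers_iff.mp hs
        rw [← QuotientGroup.eq_one_iff]
        show f ⁅u, (c ^ 2) ^ i⁆ = 1
        rw [map_commutatorElement, map_zpow, map_pow, hfc, commutatorElement_eq_one_iff_mul_comm]
        have h2 : Commute (c' ^ 2) (f y) := by
          show c' ^ 2 * f y = f y * c' ^ 2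
          rw [sq]
          calc c' * c' * f y = c' * (c' * f y * c'⁻¹) * c' := by group
            _ = c' * (f y)⁻¹ * c' := by rw [hc'y]
            _ = (c' * f y * c'⁻¹)⁻¹ * (c' * c') := by group
            _ = _ := by rw [hc'y, inv_inv]
        obtain ⟨r, hr⟩ := Subgroup.mem_zpowers_iff.mp hu
        rw [← hr]
        exact ((h2.zpow_left i).zpow_right r).eq.symm
      · exact Subgroup.zpowers_le.mpr (pow_mem (h2el c hcj) 2)
      · obtain ⟨e, he⟩ := hcj
        obtain ⟨i, hi⟩ := hQp.exists_card_eq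
        rw [Nat.card_zpowers, hi]
        exact (((Nat.coprime_primes Nat.prime_two hp.out).mpr (Ne.symm hp2)).pow e i).coprime_dvd_left
          (he ▸ orderOf_pow_dvd 2)
    refine ⟨y * (c * y * c⁻¹)⁻¹, ?_, c, hnorm c (by rw [hfc]; exact hc'N), ?_, ?_, ?_⟩
    · exact mul_mem (hnorm y hy') (inv_mem (mul_mem (mul_mem (hnorm c (by rw [hfc]; exact hc'N))
        (hnorm y hy')) (inv_mem (hnorm c (by rw [hfc]; exact hc'N)))))
    · intro h1
      have h2 := congrArg f h1
      rw [map_mul, map_inv, map_mul, map_mul, map_inv, hfc, hc'y, inv_inv, map_one] at h2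
      refine hy1 ?_
      rw [← orderOf_eq_one_iff]
      exact Nat.eq_one_of_dvd_coprimes (((Nat.coprime_primes Nat.prime_two hp.out).mpr (Ne.symm hp2)).pow_right j)
        (orderOf_dvd_of_pow_eq_one (by rw [sq]; exact h2)) (orderOf_dvd_of_pow_eq_one hyj)
    · obtain ⟨i, hi⟩ := hP'p ⟨_, mul_mem hyP (inv_mem (hcP y hyP))⟩
      exact ⟨i, congrArg Subtype.val hi⟩
    · have h1 := Subgroup.mem_centralizer_iff.mp hc2C y hyP
      calc c * (y * (c * y * c⁻¹)⁻¹) * c⁻¹ = (c * y * c⁻¹) * (c ^ 2 * y * (c ^ 2)⁻¹)⁻¹ := by rw [sq]; group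
        _ = _ := by rw [← h1, mul_inv_cancel_right]; group
  · -- `C S` is proper
    have hNCS : Subgroup.normalizer (CS : Set Y) ≠ ⊤ :=
      normalizer_ne_top_of_pCore (S.2.to_le inf_le_left) hCSQ
    have hSNCS : (S : Subgroup Y) ≤ Subgroup.normalizer (CS : Set Y) := by
      intro s hs
      rw [mem_normalizer_iff_cj, hCSdef, cj_inf, mem_normalizer_iff_cj.1 (Subgroup.le_normalizer hs),
        mem_normalizer_iff_cj.1 (show s ∈ Subgroup.normalizer (C : Set Y) by rw [Subgroup.normalizer_eq_top]; trivial)]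
    by_cases hbC : b ∈ C
    · refine hsub _ hCS le_sup_left ⟨x, Subgroup.mem_sup_right ?_, b, Subgroup.mem_sup_right hbC, hx1,
        ⟨k, hxk⟩, hbx⟩
      have h1 : x ^ 2 ∈ C := by
        have h2 : b * (x * b⁻¹ * x⁻¹) ∈ C := mul_mem hbC (hCn.conj_mem _ (inv_mem hbC) x)
        rw [show b * (x * b⁻¹ * x⁻¹) = b * x * b⁻¹ * x⁻¹ by group, hbx] at h2
        have := inv_mem h2
        rwa [mul_inv_rev, inv_inv, ← sq] at this
      obtain ⟨r, hr⟩ := exists_pow_eq_self_of_coprime (n := 2) (x := x)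
        ((((Nat.coprime_primes Nat.prime_two hp.out).mpr (Ne.symm hp2)).pow_right k).coprime_dvd_right
          (orderOf_dvd_of_pow_eq_one hxk))
      rw [← hr]; exact pow_mem h1 r
    · obtain ⟨q, hq, c, hc, hq1, hcq⟩ := hasInv_of_not_centralizer hp2 hQp hb2
        (by rw [Subgroup.normalizer_eq_top]; trivial) hbC
      obtain ⟨o, ho, hoc⟩ := exists_frattini (K := C) (R := CS) inf_le_right (S.2.to_le inf_le_left)
        (not_dvd_relIndex_inf le_top S.2 (sylow_relIndex_top S) le_top (by rw [Subgroup.normalizer_eq_top]))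
        (show c ∈ Subgroup.normalizer (C : Set Y) by rw [Subgroup.normalizer_eq_top]; trivial)
      obtain ⟨i, hi⟩ := hQp ⟨q, hq⟩
      refine hsub _ hNCS hSNCS ⟨q, hSNCS (hQS hq), o * c, hoc, hq1, ⟨i, congrArg Subtype.val hi⟩, ?_⟩
      rw [show o * c * q * (o * c)⁻¹ = o * (c * q * c⁻¹) * o⁻¹ by group, hcq,
        ← Subgroup.mem_centralizer_iff.mp ho _ (inv_mem hq), mul_inv_cancel_right]

/-- If some `p`-element of `G` is inverted in `G`, one of `N(Z(J(S)))` is inverted there. -/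
theorem invDescends (hp2 : p ≠ 2) :
    ∀ (n : ℕ) (Y : Type u) [Group Y] [Finite Y], Nat.card Y = n → InvDescends p Y := by
  intro n
  induction n using Nat.strong_induction_on with
  | _ n ih =>
  intro Y _ _ hn S h
  have ihs : ∀ H : Subgroup Y, H ≠ ⊤ → InvDescends p H := fun H hH => ih _ (hn ▸ card_lt_of_ne_top hH) H rfl
  have ihq : ∀ N : Subgroup Y, [N.Normal] → N ≠ ⊥ → InvDescends p (Y ⧸ N) := fun N _ hne => ih _ (by
    rw [← hn, Subgroup.card_eq_card_quotient_mul_card_subgroup N]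
    exact lt_mul_of_one_lt_right Nat.card_pos (Subgroup.one_lt_card_iff_ne_bot N |>.2 hne)) (Y ⧸ N) rfl
  by_cases hne : Subgroup.normalizer (zIn 0 (S : Subgroup Y) : Set Y) = ⊤
  · rw [hne]; exact h
  by_cases hO : Cfsg.pPrimeCore p Y = ⊥
  · by_cases hQ : Cfsg.pCore p Y = ⊥
    · obtain ⟨x, -, g, -, hx1, ⟨k, hxk⟩, hgx⟩ := h
      have hxp : IsPGroup p (Subgroup.zpowers x) := by
        obtain ⟨i, -, hi⟩ := (Nat.dvd_prime_pow hp.out).mp (orderOf_dvd_of_pow_eq_one hxk)
        exact IsPGroup.of_card (n := i) (by rw [Nat.card_zpowers, hi])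
      set X := Subgroup.normalizer ((Subgroup.zpowers x : Subgroup Y) : Set Y) with hX
      have hXne : X ≠ ⊤ := fun htop => hx1 (Subgroup.mem_bot.mp (hQ ▸
        Cores.le_pCore (Subgroup.normalizer_eq_top_iff.mp htop) hxp (Subgroup.mem_zpowers x)))
      have hgX : g ∈ X := by
        refine mem_normalizer_of_cj_le ?_
        rw [cj, MonoidHom.map_zpowers, Subgroup.zpowers_le]
        show g * x * g⁻¹ ∈ _
        rw [hgx]
        exact inv_mem (Subgroup.mem_zpowers x)
      obtain ⟨R, hxR, hRX, hR, hRi⟩ := exists_sylow_in p X (Subgroup.le_normalizer) hxp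
      refine hasInv_climb ihs S (fun R => R ≠ ⊥) (fun R R' hle h h' => h (le_bot_iff.mp (h' ▸ hle)))
        (fun R' hR' hne' _ htop => zIn_ne_bot hR' hne' (le_bot_iff.mp (hQ ▸ Cores.le_pCore
          (Subgroup.normalizer_eq_top_iff.mp htop) (hR'.to_le (zIn_le_self 0 R'))))) hR
        (fun hb => hx1 (Subgroup.mem_bot.mp (hb ▸ hxR (Subgroup.mem_zpowers x))))
        (hasInv_in_subgroup ihs hXne hRX hR hRi
          ⟨x, Subgroup.le_normalizer (Subgroup.mem_zpowers x), g, hgX, hx1, ⟨k, hxk⟩, hgx⟩)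
    · by_cases hC : CharPType p Y
      · exact hasInv_charP hp2 hC ihs S hne
      · exact hasInv_hard hp2 ihs (ihq _ hQ) S hO hC h
  · refine hasInv_of_quotient S ?_
    have hs := QuotientGroup.mk'_surjective (Cfsg.pPrimeCore p Y)
    have := ihq _ hO (S.mapSurjective (f := QuotientGroup.mk' _) hs) ?_
    · rwa [Sylow.coe_mapSurjective] at this
    obtain ⟨x, -, g, -, hx1, ⟨k, hxk⟩, hgx⟩ := h
    refine ⟨QuotientGroup.mk' _ x, trivial, QuotientGroup.mk' _ g, trivial, fun h1 => hx1 ?_,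
      ⟨k, by rw [← map_pow, hxk, map_one]⟩, by rw [← map_inv, ← map_mul, ← map_mul, hgx, map_inv]⟩
    rw [← orderOf_eq_one_iff]
    exact Nat.eq_one_of_dvd_coprimes ((Cores.pPrimeCore_coprime p Y).pow_right k)
      (Subgroup.orderOf_dvd_natCard _ ((QuotientGroup.eq_one_iff x).mp h1)) (orderOf_dvd_of_pow_eq_one hxk)

/-- If a `p`-element is inverted in `G`, some element of the Sylow subgroup is inverted in `N(Z(J(S)))`. -/
theorem exists_inverted_in_normalizer (hp2 : p ≠ 2) {G : Type*} [Group G] [Finite G] (S : Sylow p G)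
    {x g : G} (hx1 : x ≠ 1) (hxp : ∃ k : ℕ, x ^ p ^ k = 1) (hg : g * x * g⁻¹ = x⁻¹) :
    ∃ y ∈ (S : Subgroup G), y ≠ 1 ∧
      ∃ n ∈ Subgroup.normalizer (Cfsg.centerThompsonAOf (S : Subgroup G) : Set G), n * y * n⁻¹ = y⁻¹ := by
  obtain ⟨y, hy, n, hn, hy1, ⟨k, hyk⟩, he⟩ :=
    invDescends hp2 (Nat.card G) G rfl S ⟨x, trivial, g, trivial, hx1, hxp, hg⟩
  rw [← zIn_zero_eq]
  set N := Subgroup.normalizer (zIn 0 (S : Subgroup G) : Set G) with hN
  have hSN : (S : Subgroup G) ≤ N := Subgroup.le_normalizer.trans (normalizer_le_normalizer_zIn 0 _)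
  have hyp : IsPGroup p (Subgroup.zpowers y) := by
    obtain ⟨i, -, hi⟩ := (Nat.dvd_prime_pow hp.out).mp (orderOf_dvd_of_pow_eq_one hyk)
    exact IsPGroup.of_card (n := i) (by rw [Nat.card_zpowers, hi])
  obtain ⟨c, hc, hle⟩ := exists_cj_le_of_not_dvd hSN S.2 (not_dvd_relIndex_of_le S hSN)
    (Subgroup.zpowers_le.mpr hy) hyp
  refine ⟨c * y * c⁻¹, hle (conj_mem_cj (Subgroup.mem_zpowers y)), fun h => hy1 ?_, c * n * c⁻¹,
    mul_mem (mul_mem hc hn) (inv_mem hc), ?_⟩
  · have := congrArg (fun u => c⁻¹ * u * c) h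
    simpa [mul_assoc] using this
  · rw [show c * n * c⁻¹ * (c * y * c⁻¹) * (c * n * c⁻¹)⁻¹ = c * (n * y * n⁻¹) * c⁻¹ by group, he]
    group

end Cfsg.Agent.Lib.PLocal
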