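import Cfsg.Agent.Lib.FusionControl.TransferAction
import Mathlib.GroupTheory.Perm.Cycle.Type
import Mathlib.GroupTheory.QuotientGroup.Basic

/-!
Products over the orbits of a `p`-group generated by a family of subgroups with trivial orbit products, and
the product of all elements of an abelian group of order divisible by four.
-/

set_option autoImplicit false
set_option linter.unusedSectionVars false

open MulAction Finset

namespace Cfsg.Agent.Lib.PLocal.OrbitTrace

variable {G : Type*} [Group G] {A : Type*} [CommGroup A] {p : ℕ} [Fact p.Prime]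

/-- an invariant set without fixed points, cut into orbits -/
theorem prod_eq_one_of_orbits {α : Type*} [MulAction G α] [Fintype α] (f : α → A) (C : Subgroup G)
    [∀ q : α, DecidablePred (· ∈ orbit C q)]
    (hnorm : ∀ q : α, q ∉ fixedPoints C α → ∏ y with y ∈ orbit C q, f y = 1) :
    ∀ O : Finset α, (∀ c : C, ∀ q ∈ O, c • q ∈ O) → (∀ q ∈ O, q ∉ fixedPoints C α) → ∏ q ∈ O, f q = 1 := by
  classical
  intro O
  induction O using Finset.strongInduction with
  | _ O ih =>
  intro hinv hfree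
  rcases O.eq_empty_or_nonempty with rfl | ⟨q, hq⟩
  · simp
  set D := univ.filter (fun y => y ∈ orbit C q) with hD
  have hDO : D ⊆ O := by
    intro y hy
    obtain ⟨c, rfl⟩ := (mem_filter.1 hy).2
    exact hinv c q hq
  have h1 : ∏ y ∈ D, f y = 1 := by rw [hD]; exact hnorm q (hfree q hq)
  have h2 : ∏ y ∈ O \ D, f y = 1 := by
    refine ih (O \ D) (sdiff_ssubset hDO ⟨q, mem_filter.2 ⟨mem_univ _, mem_orbit_self q⟩⟩) (fun c y hy => ?_)
      fun y hy => hfree y (mem_sdiff.1 hy).1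
    obtain ⟨hyO, hyD⟩ := mem_sdiff.1 hy
    refine mem_sdiff.2 ⟨hinv c y hyO, fun h => hyD (mem_filter.2 ⟨mem_univ _, ?_⟩)⟩
    obtain ⟨-, d, hd⟩ := mem_filter.1 h
    exact ⟨c⁻¹ * d, by simp only [mul_smul]; rw [inv_smul_eq_iff]; exact hd⟩
  rw [← prod_sdiff hDO, h1, h2, one_mul]

/-- subgroups with trivial orbit products generating a `p`-group only see its fixed points -/
theorem prod_eq_prod_fixed {α : Type*} [MulAction G α] [Fintype α] [Finite G] (f : α → A) {B : Subgroup G}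
    (hB : IsPGroup p B) {𝒜 : Set (Subgroup G)} (hA : B = sSup 𝒜)
    [∀ (C : Subgroup G) (q : α), DecidablePred (· ∈ orbit C q)]
    (hnorm : ∀ C ∈ 𝒜, ∀ q : α, q ∉ fixedPoints C α → ∏ y with y ∈ orbit C q, f y = 1)
    [DecidablePred fun q : α => q ∈ fixedPoints B α] :
    ∏ q, f q = ∏ q with q ∈ fixedPoints B α, f q := by
  classical
  rw [← prod_filter_mul_prod_filter_not univ (fun q => q ∈ fixedPoints B α)]
  suffices ∏ q with ¬ q ∈ fixedPoints B α, f q = 1 by
    rw [this, mul_one]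
  suffices H : ∀ O : Finset α, (∀ b : B, ∀ q ∈ O, b • q ∈ O) → (∀ q ∈ O, q ∉ fixedPoints B α) →
      ∏ q ∈ O, f q = 1 by
    refine H _ (fun b q hq => ?_) (fun q hq => (mem_filter.1 hq).2)
    refine mem_filter.2 ⟨mem_univ _, fun h => (mem_filter.1 hq).2 ?_⟩
    intro c
    have h1 := h (b * c * b⁻¹)
    rw [mul_smul, mul_smul, inv_smul_smul] at h1
    exact smul_left_cancel b h1
  intro O
  induction O using Finset.strongInduction with
  | _ O ih =>
  intro hinv hfix
  rcases O.eq_empty_or_nonempty with rfl | ⟨q, hq⟩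
  · simp
  set D := O.filter (fun y => y ∈ orbit B q) with hD
  have hDO : D ⊆ O := filter_subset _ _
  have hqD : q ∈ D := mem_filter.2 ⟨hq, mem_orbit_self q⟩
  have hst : stabilizer B q ≠ ⊤ := fun h => hfix q hq fun b => (h ▸ Subgroup.mem_top b : b ∈ stabilizer B q)
  obtain ⟨M, hM, hle⟩ := (eq_top_or_exists_le_coatom (stabilizer B q)).resolve_left hst
  have : Group.IsNilpotent B := hB.isNilpotent
  have hMn : M.Normal := Subgroup.NormalizerCondition.normal_of_coatom M Group.normalizerCondition_of_isNilpotent hM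
  obtain ⟨C, hC, hCM⟩ : ∃ C ∈ 𝒜, ¬ C.subgroupOf B ≤ M := by
    by_contra h
    push Not at h
    refine hM.1 (eq_top_iff.2 fun b _ => ?_)
    have hle : sSup 𝒜 ≤ M.map B.subtype := sSup_le fun C hC c hc =>
      ⟨⟨c, hA ▸ le_sSup hC hc⟩, h C hC (Subgroup.mem_subgroupOf.2 hc), rfl⟩
    obtain ⟨d, hd, hde⟩ := hle (hA ▸ b.2 : (b : G) ∈ sSup 𝒜)
    rwa [← Subtype.ext (a1 := d) (a2 := b) hde]
  obtain ⟨⟨w, hwB⟩, hwC, hwM⟩ := SetLike.not_le_iff_exists.1 hCM
  have hCB : C ≤ B := hA ▸ le_sSup hC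
  have h1 : ∏ y ∈ D, f y = 1 := by
    refine prod_eq_one_of_orbits f C (hnorm C hC) D (fun c y hy => ?_) fun y hy he => hwM ?_
    · obtain ⟨hyO, d, rfl⟩ := mem_filter.1 hy
      exact mem_filter.2 ⟨hinv ⟨c, hCB c.2⟩ _ hyO, ⟨c, hCB c.2⟩ * d, mul_smul _ _ _⟩
    · obtain ⟨hyO, d, rfl⟩ := mem_filter.1 hy
      have h2 : d⁻¹ * ⟨w, hwB⟩ * d ∈ stabilizer B q := by
        rw [mem_stabilizer_iff, mul_smul, mul_smul, inv_smul_eq_iff]
        exact he ⟨w, hwC⟩
      have := hMn.conj_mem _ (hle h2) d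
      simpa [mul_assoc] using this
  have h2 : ∏ y ∈ O \ D, f y = 1 := by
    refine ih (O \ D) (sdiff_ssubset hDO ⟨q, hqD⟩) (fun b y hy => ?_) fun y hy => hfix y (mem_sdiff.1 hy).1
    obtain ⟨hyO, hyD⟩ := mem_sdiff.1 hy
    refine mem_sdiff.2 ⟨hinv b y hyO, fun h => hyD (mem_filter.2 ⟨hyO, ?_⟩)⟩
    obtain ⟨-, d, hd⟩ := mem_filter.1 h
    exact ⟨b⁻¹ * d, by simp only [mul_smul]; rw [inv_smul_eq_iff]; exact hd⟩
  rw [← prod_sdiff hDO, h1, h2, one_mul]

/-- the product of all elements of an abelian group of order divisible by four is a square -/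
theorem prod_univ_mem_squares {T : Type*} [CommGroup T] [Fintype T] (h4 : 4 ∣ Nat.card T) :
    ∃ s : T, ∏ t, t = s ^ 2 := by
  classical
  haveI : Fact (Nat.Prime 2) := ⟨Nat.prime_two⟩
  obtain ⟨a, ha⟩ := exists_prime_orderOf_dvd_card' (G := T) 2 ((show (2 : ℕ) ∣ 4 by norm_num).trans h4)
  set Z := Subgroup.zpowers a with hZ
  have hmem : ∀ z : T, z ∈ Z ↔ z = 1 ∨ z = a := by
    intro z
    rw [hZ, mem_zpowers_iff_mem_range_orderOf, ha]
    simp [Finset.range_add_one, or_comm, eq_comm]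
  have ha1 : a ≠ 1 := fun h => by simp [h] at ha
  have ha2 : a ^ 2 = 1 := ha ▸ pow_orderOf_eq_one a
  letI := Fintype.ofFinite (T ⧸ Z)
  have hfib : ∀ r : T ⧸ Z, ∏ t with (QuotientGroup.mk t : T ⧸ Z) = r, t = r.out ^ 2 * a := by
    intro r
    have : univ.filter (fun t => (QuotientGroup.mk t : T ⧸ Z) = r) = {r.out, r.out * a} := by
      ext t
      rw [mem_filter, mem_insert, mem_singleton]
      conv_lhs => rw [← QuotientGroup.out_eq' r, QuotientGroup.eq, hmem]
      simp only [mem_univ, true_and, mul_eq_one_iff_eq_inv, inv_inj, inv_mul_eq_iff_eq_mul]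
      constructor
      · rintro (h | h)
        · exact Or.inl h
        · refine Or.inr ?_
          rw [h, mul_assoc, ← sq, ha2, mul_one]
      · rintro (h | h)
        · exact Or.inl h
        · refine Or.inr ?_
          rw [h, mul_assoc, ← sq, ha2, mul_one]
    rw [this, prod_pair (fun h => ha1 (mul_eq_left.1 h.symm)), sq, mul_assoc]
  rw [← prod_fiberwise univ (fun t => (QuotientGroup.mk t : T ⧸ Z)) (fun t => t),
    prod_congr rfl (fun r _ => hfib r), prod_mul_distrib, prod_const, card_univ, prod_pow]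
  obtain ⟨k, hk⟩ : 2 ∣ Fintype.card (T ⧸ Z) := by
    have h1 := Subgroup.card_eq_card_quotient_mul_card_subgroup Z
    rw [hZ, Nat.card_zpowers, ha, ← hZ] at h1
    rw [← Nat.card_eq_fintype_card]
    obtain ⟨j, hj⟩ := h4
    exact ⟨j, by omega⟩
  exact ⟨(∏ r : T ⧸ Z, r.out) * a ^ k, by rw [mul_pow, ← pow_mul, mul_comm k 2, ← hk]⟩

end Cfsg.Agent.Lib.PLocal.OrbitTrace
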