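import Cfsg.Agent.Lib.PLocal.Quadratic
import Cfsg.Agent.Lib.Coprime.PxQ

/-!
Thompson's and Timmesfeld's replacement theorems for an action on an elementary abelian group.
-/

set_option autoImplicit false

namespace Cfsg.Agent.Lib.PLocal

open scoped commutatorElement

variable {G : Type*} [Group G] [Finite G]

lemma card_mul_card_le (A B : Subgroup G) :
    Nat.card A * Nat.card B ≤ Nat.card (A ⊓ B : Subgroup G) * Nat.card (A ⊔ B : Subgroup G) := by
  have h1 : Nat.card (A ⊓ B : Subgroup G) * B.relIndex A = Nat.card A := by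
    have := Subgroup.relIndex_mul_relIndex (⊥ : Subgroup G) (A ⊓ B) A bot_le inf_le_left
    rwa [Subgroup.relIndex_bot_left, Subgroup.relIndex_bot_left, Subgroup.inf_relIndex_left] at this
  have h2 : Nat.card B * B.relIndex (A ⊔ B) = Nat.card (A ⊔ B : Subgroup G) := by
    have := Subgroup.relIndex_mul_relIndex (⊥ : Subgroup G) B (A ⊔ B) bot_le le_sup_right
    rwa [Subgroup.relIndex_bot_left, Subgroup.relIndex_bot_left] at this
  have h3 : B.relIndex A ≤ B.relIndex (A ⊔ B) :=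
    Subgroup.relIndex_le_of_le_right le_sup_left Subgroup.index_ne_zero_of_finite
  rw [← h1, ← h2]
  calc Nat.card (A ⊓ B : Subgroup G) * B.relIndex A * Nat.card B
      ≤ Nat.card (A ⊓ B : Subgroup G) * B.relIndex (A ⊔ B) * Nat.card B :=
        Nat.mul_le_mul_right _ (Nat.mul_le_mul_left _ h3)
    _ = _ := by ring

/-- The measure `|B| |C_V(B)|`. -/
noncomputable def fOn (V B : Subgroup G) : ℕ :=
  Nat.card B * Nat.card ↥(V ⊓ Subgroup.centralizer (B : Set G))

/-- The subgroup `C_A([U, A])`. -/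
def repl (A U : Subgroup G) : Subgroup G :=
  A ⊓ Subgroup.centralizer ((⁅U, A⁆ : Subgroup G) : Set G)

/-- The assertion of the replacement theorem for `U`. -/
def ReplOK (V A U : Subgroup G) : Prop :=
  fOn V (repl A U) = fOn V A ∧
    V ⊓ Subgroup.centralizer ((repl A U : Subgroup G) : Set G) =
      ⁅U, A⁆ ⊔ (V ⊓ Subgroup.centralizer (A : Set G))

variable {V A : Subgroup G}

omit [Finite G] in
lemma commutator_sup_eq_of_abelian (hab : ∀ a ∈ V, ∀ b ∈ V, a * b = b * a)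
    (hAV : A ≤ Subgroup.normalizer (V : Set G)) {U₁ U₂ : Subgroup G} (h1 : U₁ ≤ V) (h2 : U₂ ≤ V) :
    ⁅U₁ ⊔ U₂, A⁆ = ⁅U₁, A⁆ ⊔ ⁅U₂, A⁆ := by
  refine le_antisymm ?_ (sup_le (Subgroup.commutator_mono le_sup_left le_rfl)
    (Subgroup.commutator_mono le_sup_right le_rfl))
  set X := ⁅U₁, A⁆ ⊔ ⁅U₂, A⁆ with hX
  have hXV : X ≤ V := sup_le ((Subgroup.commutator_mono h1 le_rfl).trans (commutator_le_of_le_normalizer' hAV))
    ((Subgroup.commutator_mono h2 le_rfl).trans (commutator_le_of_le_normalizer' hAV))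
  rw [Subgroup.commutator_le]
  intro u hu a ha
  have huV : ∀ u ∈ U₁ ⊔ U₂, u ∈ V := fun u hu => sup_le h1 h2 hu
  rw [Subgroup.sup_eq_closure] at hu
  induction hu using Subgroup.closure_induction with
  | mem x hx =>
    rcases hx with hx | hx
    · exact Subgroup.mem_sup_left (Subgroup.commutator_mem_commutator hx ha)
    · exact Subgroup.mem_sup_right (Subgroup.commutator_mem_commutator hx ha)
  | one => simp
  | mul x y hx hy ihx ihy =>
    have hxV : x ∈ V := huV x (by rwa [Subgroup.sup_eq_closure])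
    have e : ⁅x * y, a⁆ = x * ⁅y, a⁆ * x⁻¹ * ⁅x, a⁆ := by
      simp only [commutatorElement_def]; group
    rw [e, hab x hxV _ (hXV ihy), mul_inv_cancel_right]
    exact mul_mem ihy ihx
  | inv x hx ihx =>
    have hxV : x ∈ V := huV x (by rwa [Subgroup.sup_eq_closure])
    have e : ⁅x⁻¹, a⁆ = x⁻¹ * ⁅x, a⁆⁻¹ * x := by
      simp only [commutatorElement_def]; group
    rw [e, hab _ (inv_mem hxV) _ (inv_mem (hXV ihx)), inv_mul_cancel_right]
    exact inv_mem ihx

omit [Finite G] in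
lemma le_centralizer_repl (U : Subgroup G) (hU : U ≤ V) (hAV : A ≤ Subgroup.normalizer (V : Set G)) :
    ⁅U, A⁆ ⊔ (V ⊓ Subgroup.centralizer (A : Set G)) ≤
      V ⊓ Subgroup.centralizer ((repl A U : Subgroup G) : Set G) := by
  refine sup_le (le_inf ((Subgroup.commutator_mono hU le_rfl).trans
    (commutator_le_of_le_normalizer' hAV)) ?_) (inf_le_inf_left _ (Subgroup.centralizer_le inf_le_left))
  intro x hx a ha
  exact (ha.2 x hx).symm

lemma replOK_zpowers (hab : ∀ a ∈ V, ∀ b ∈ V, a * b = b * a)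
    (hAV : A ≤ Subgroup.normalizer (V : Set G)) (hcomm : ⁅A, A⁆ ≤ Subgroup.centralizer (V : Set G))
    (hmax : ∀ B ≤ A, fOn V B ≤ fOn V A) {u : G} (hu : u ∈ V) :
    ReplOK V A (Subgroup.zpowers u) := by
  set X := ⁅Subgroup.zpowers u, A⁆ with hX
  set C := V ⊓ Subgroup.centralizer (A : Set G) with hC
  set A' := repl A (Subgroup.zpowers u) with hA'
  have huA : ∀ a ∈ A, ⁅a, u⁆ ∈ X := fun a ha =>
    commutatorElement_mem_commutator_symm (Subgroup.mem_zpowers u) ha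
  have hwV : ∀ a ∈ A, ⁅a, u⁆ ∈ V := fun a ha => commutatorElement_mem_left hAV hu ha
  have hcc : ∀ a ∈ A, ∀ c ∈ A, ∀ v ∈ V, a * c * v * (a * c)⁻¹ = c * a * v * (c * a)⁻¹ := by
    intro a ha c hc v hv
    set w := c * a * v * (c * a)⁻¹ with hw
    have hwv : w ∈ V := (Subgroup.mem_normalizer_iff.mp (mul_mem (hAV hc) (hAV ha)) v).mp hv
    have h1 := hcomm (Subgroup.commutator_mem_commutator ha hc) w hwv
    calc a * c * v * (a * c)⁻¹ = ⁅a, c⁆ * w * ⁅a, c⁆⁻¹ := by
          rw [hw]; simp only [commutatorElement_def]; group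
      _ = w := by rw [← h1, mul_inv_cancel_right]
  have key : ∀ a ∈ A, ∀ b ∈ A, (⁅b, u⁆)⁻¹ * ⁅a, u⁆ ∈ C →
      a⁻¹ * b ∈ Subgroup.centralizer (X : Set G) := by
    intro a ha b hb hw
    have hstep : ∀ c ∈ A, a * ⁅c, u⁆ * a⁻¹ = b * ⁅c, u⁆ * b⁻¹ := by
      intro c hc
      have hconj : ∀ x ∈ A, x * ⁅c, u⁆ * x⁻¹ = c * ⁅x, u⁆ * c⁻¹ * ⁅c, u⁆ * ⁅x, u⁆⁻¹ := by
        intro x hx
        calc x * ⁅c, u⁆ * x⁻¹ = x * c * u * (x * c)⁻¹ * (x * u * x⁻¹)⁻¹ := by
              simp only [commutatorElement_def]; group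
          _ = c * x * u * (c * x)⁻¹ * (x * u * x⁻¹)⁻¹ := by rw [hcc x hx c hc u hu]
          _ = _ := by simp only [commutatorElement_def]; group
      set w := ⁅b, u⁆⁻¹ * ⁅a, u⁆ with hwdef
      have haw : ⁅a, u⁆ = ⁅b, u⁆ * w := by rw [hwdef]; group
      have hcw : c * w = w * c := hw.2 c hc
      have hbV := hwV b hb
      have hcbV : c * ⁅b, u⁆ * c⁻¹ ∈ V := (Subgroup.mem_normalizer_iff.mp (hAV hc) _).mp hbV
      rw [hconj a ha, hconj b hb, haw]
      calc c * (⁅b, u⁆ * w) * c⁻¹ * ⁅c, u⁆ * (⁅b, u⁆ * w)⁻¹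
          = c * ⁅b, u⁆ * (w * c⁻¹) * ⁅c, u⁆ * (w⁻¹ * ⁅b, u⁆⁻¹) := by group
        _ = c * ⁅b, u⁆ * (c⁻¹ * w) * ⁅c, u⁆ * (w⁻¹ * ⁅b, u⁆⁻¹) := by
            rw [((show Commute c w from hcw).inv_left).eq]
        _ = c * ⁅b, u⁆ * c⁻¹ * (w * ⁅c, u⁆ * w⁻¹) * ⁅b, u⁆⁻¹ := by group
        _ = _ := by rw [hab w hw.1 _ (hwV c hc), mul_inv_cancel_right]
    have hle : X ≤ Subgroup.centralizer {a⁻¹ * b} := by
      rw [hX, Subgroup.commutator_comm, Subgroup.commutator_le]
      intro c hc v hv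
      rw [Subgroup.mem_centralizer_singleton_iff]
      have hA1 : ∀ c ∈ A, ⁅c, u⁆ * (a⁻¹ * b) = a⁻¹ * b * ⁅c, u⁆ := by
        intro c hc
        calc ⁅c, u⁆ * (a⁻¹ * b) = a⁻¹ * (a * ⁅c, u⁆ * a⁻¹) * b := by group
          _ = a⁻¹ * (b * ⁅c, u⁆ * b⁻¹) * b := by rw [hstep c hc]
          _ = _ := by group
      obtain ⟨n, rfl⟩ := Subgroup.mem_zpowers_iff.mp hv
      have hn : ⁅c, u ^ n⁆ = ⁅c, u⁆ ^ n := by
        have h2 : c * u * c⁻¹ ∈ V := (Subgroup.mem_normalizer_iff.mp (hAV hc) _).mp hu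
        rw [commutatorElement_def, commutatorElement_def,
          (show Commute (c * u * c⁻¹) u⁻¹ from hab _ h2 _ (inv_mem hu)).mul_zpow, conj_zpow, inv_zpow]
      rw [hn]
      exact ((show Commute (a⁻¹ * b) ⁅c, u⁆ from (hA1 c hc).symm).zpow_right n).eq.symm
    exact fun x hx => Subgroup.mem_centralizer_singleton_iff.mp (hle hx)
  have hXV : X ≤ V := (Subgroup.commutator_mono (Subgroup.zpowers_le.mpr hu) le_rfl).trans
    (commutator_le_of_le_normalizer' hAV)
  have hA'A : A' ≤ A := inf_le_left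
  -- the injection `A/A' → (X C)/C`
  have hinj : A'.relIndex A ≤ C.relIndex (X ⊔ C) := by
    have hmem : ∀ q : A ⧸ A'.subgroupOf A, ⁅((q.out : A) : G), u⁆ ∈ X ⊔ C :=
      fun q => Subgroup.mem_sup_left (huA _ q.out.2)
    let f : A ⧸ A'.subgroupOf A → ↥(X ⊔ C) ⧸ C.subgroupOf (X ⊔ C) :=
      fun q => QuotientGroup.mk ⟨⁅((q.out : A) : G), u⁆, hmem q⟩
    refine Nat.card_le_card_of_injective f ?_
    intro q r hqr
    simp only [f, QuotientGroup.eq] at hqr
    have h1 : (⁅((q.out : A) : G), u⁆)⁻¹ * ⁅((r.out : A) : G), u⁆ ∈ C := hqr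
    have h2 := key _ r.out.2 _ q.out.2 h1
    rw [← QuotientGroup.out_eq' q, ← QuotientGroup.out_eq' r, QuotientGroup.eq]
    refine ⟨((q.out : A)⁻¹ * r.out : A).2, ?_⟩
    show ((q.out : A) : G)⁻¹ * ((r.out : A) : G) ∈ Subgroup.centralizer (X : Set G)
    simpa using inv_mem h2
  have hge : fOn V A ≤ Nat.card A' * Nat.card ↥(X ⊔ C) := by
    have h1 := Subgroup.relIndex_mul_relIndex (⊥ : Subgroup G) A' A bot_le hA'A
    have h2 := Subgroup.relIndex_mul_relIndex (⊥ : Subgroup G) C (X ⊔ C) bot_le le_sup_right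
    rw [Subgroup.relIndex_bot_left, Subgroup.relIndex_bot_left] at h1 h2
    rw [fOn, ← hC, ← h1, ← h2, mul_assoc, mul_comm (A'.relIndex A)]
    exact Nat.mul_le_mul_left _ (Nat.mul_le_mul_left _ hinj)
  have hle2 : X ⊔ C ≤ V ⊓ Subgroup.centralizer (A' : Set G) :=
    le_centralizer_repl _ (Subgroup.zpowers_le.mpr hu) hAV
  have h3 : Nat.card A' * Nat.card ↥(X ⊔ C) ≤ fOn V A' :=
    Nat.mul_le_mul_left _ (Subgroup.card_le_of_le hle2)
  have h4 := hmax A' hA'A
  refine ⟨le_antisymm h4 (hge.trans h3), ?_⟩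
  refine (Subgroup.eq_of_le_of_card_ge hle2 ?_).symm
  exact Nat.le_of_mul_le_mul_left (h4.trans hge) Nat.card_pos

lemma replOK_sup (hab : ∀ a ∈ V, ∀ b ∈ V, a * b = b * a)
    (hAV : A ≤ Subgroup.normalizer (V : Set G))
    (hmax : ∀ B ≤ A, fOn V B ≤ fOn V A) {U₁ U₂ : Subgroup G} (h1 : U₁ ≤ V) (h2 : U₂ ≤ V)
    (o1 : ReplOK V A U₁) (o2 : ReplOK V A U₂) : ReplOK V A (U₁ ⊔ U₂) := by
  have hsup := commutator_sup_eq_of_abelian hab hAV h1 h2
  set A1 := repl A U₁ with hA1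
  set A2 := repl A U₂ with hA2
  have hA12 : repl A (U₁ ⊔ U₂) = A1 ⊓ A2 := by
    refine le_antisymm (le_inf (inf_le_inf_left _ (Subgroup.centralizer_le ?_))
      (inf_le_inf_left _ (Subgroup.centralizer_le ?_))) fun x hx => ⟨hx.1.1, ?_⟩
    · exact SetLike.coe_subset_coe.mpr (Subgroup.commutator_mono le_sup_left le_rfl)
    · exact SetLike.coe_subset_coe.mpr (Subgroup.commutator_mono le_sup_right le_rfl)
    · intro w hw
      have : ⁅U₁ ⊔ U₂, A⁆ ≤ Subgroup.centralizer {x} := by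
        rw [hsup]
        exact sup_le (fun v hv => Subgroup.mem_centralizer_singleton_iff.mpr (hx.1.2 v hv))
          (fun v hv => Subgroup.mem_centralizer_singleton_iff.mpr (hx.2.2 v hv))
      exact Subgroup.mem_centralizer_singleton_iff.mp (this hw)
  set C1 := V ⊓ Subgroup.centralizer (A1 : Set G) with hC1
  set C2 := V ⊓ Subgroup.centralizer (A2 : Set G) with hC2
  have hCle : C1 ⊔ C2 ≤ V ⊓ Subgroup.centralizer ((A1 ⊓ A2 : Subgroup G) : Set G) :=
    sup_le (inf_le_inf_left _ (Subgroup.centralizer_le inf_le_left))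
      (inf_le_inf_left _ (Subgroup.centralizer_le inf_le_right))
  have hinf : C1 ⊓ C2 = V ⊓ Subgroup.centralizer ((A1 ⊔ A2 : Subgroup G) : Set G) := by
    refine le_antisymm (fun v hv => ⟨hv.1.1, ?_⟩) (le_inf (inf_le_inf_left _
      (Subgroup.centralizer_le (SetLike.coe_subset_coe.mpr le_sup_left)))
      (inf_le_inf_left _ (Subgroup.centralizer_le (SetLike.coe_subset_coe.mpr le_sup_right))))
    intro a ha
    have : A1 ⊔ A2 ≤ Subgroup.centralizer {v} :=
      sup_le (fun a ha => Subgroup.mem_centralizer_singleton_iff.mpr (hv.1.2 a ha))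
        (fun a ha => Subgroup.mem_centralizer_singleton_iff.mpr (hv.2.2 a ha))
    exact Subgroup.mem_centralizer_singleton_iff.mp (this ha)
  have hM : fOn V A * fOn V A ≤
      (Nat.card ↥(A1 ⊓ A2) * Nat.card ↥(C1 ⊔ C2)) * fOn V (A1 ⊔ A2) := by
    have e1 := card_mul_card_le A1 A2
    have e2 := card_mul_card_le C1 C2
    rw [hinf] at e2
    conv_lhs => arg 1; rw [← o1.1]
    conv_lhs => arg 2; rw [← o2.1]
    simp only [fOn, ← hA1, ← hA2, ← hC1, ← hC2] at e1 e2 ⊢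
    calc Nat.card A1 * Nat.card C1 * (Nat.card A2 * Nat.card C2)
        = (Nat.card A1 * Nat.card A2) * (Nat.card C1 * Nat.card C2) := by ring
      _ ≤ _ := Nat.mul_le_mul e1 e2
      _ = _ := by ring
  have hsle : fOn V (A1 ⊔ A2) ≤ fOn V A := hmax _ (sup_le inf_le_left inf_le_left)
  have hge : fOn V A ≤ Nat.card ↥(A1 ⊓ A2) * Nat.card ↥(C1 ⊔ C2) := by
    have hpos : 0 < fOn V A := Nat.mul_pos Nat.card_pos Nat.card_pos
    exact Nat.le_of_mul_le_mul_right (hM.trans (Nat.mul_le_mul_left _ hsle)) hpos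
  have h4 : fOn V (A1 ⊓ A2) ≤ fOn V A := hmax _ (inf_le_left.trans inf_le_left)
  have heq : V ⊓ Subgroup.centralizer ((A1 ⊓ A2 : Subgroup G) : Set G) = C1 ⊔ C2 :=
    (Subgroup.eq_of_le_of_card_ge hCle (Nat.le_of_mul_le_mul_left (h4.trans hge) Nat.card_pos)).symm
  refine ⟨?_, ?_⟩
  · rw [hA12]
    exact le_antisymm h4 (hge.trans (Nat.mul_le_mul_left _ (Subgroup.card_le_of_le hCle)))
  · rw [hA12, heq, hC1, hC2, o1.2, o2.2, hsup, sup_sup_sup_comm, sup_idem]

/-- **Replacement theorem**: if `A` maximises `|B||C_V(B)|` over `B ≤ A` then so does `C_A([U,A])`. -/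
theorem replOK_of_max (hab : ∀ a ∈ V, ∀ b ∈ V, a * b = b * a)
    (hAV : A ≤ Subgroup.normalizer (V : Set G)) (hcomm : ⁅A, A⁆ ≤ Subgroup.centralizer (V : Set G))
    (hmax : ∀ B ≤ A, fOn V B ≤ fOn V A) (U : Subgroup G) (hU : U ≤ V) : ReplOK V A U := by
  classical
  suffices H : ∀ s : Finset G, (∀ x ∈ s, x ∈ V) → ReplOK V A (Subgroup.closure (s : Set G)) by
    have := H (Set.toFinite (U : Set G)).toFinset (fun x hx => hU (by simpa using hx))
    rwa [Set.Finite.coe_toFinset, Subgroup.closure_eq] at this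
  intro s
  induction s using Finset.induction with
  | empty =>
    intro _
    have h0 : ⁅(⊥ : Subgroup G), A⁆ = ⊥ := Subgroup.commutator_bot_left A
    have hA : repl A (⊥ : Subgroup G) = A := by
      rw [repl, h0, inf_eq_left]
      intro a _ x hx
      rw [Subgroup.mem_bot.mp (SetLike.mem_coe.mp hx), one_mul, mul_one]
    simp only [Finset.coe_empty, Subgroup.closure_empty]
    exact ⟨by rw [hA], by rw [hA, h0, bot_sup_eq]⟩
  | @insert x s _ ih =>
    intro hs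
    have hx := hs x (Finset.mem_insert_self x s)
    have hs' : ∀ y ∈ s, y ∈ V := fun y hy => hs y (Finset.mem_insert_of_mem hy)
    rw [Finset.coe_insert, Set.insert_eq, Subgroup.closure_union, ← Subgroup.zpowers_eq_closure]
    exact replOK_sup hab hAV hmax (Subgroup.zpowers_le.mpr hx) ((Subgroup.closure_le _).mpr hs')
      (replOK_zpowers hab hAV hcomm hmax hx) (ih hs')

/-- If `A` acts as a `p`-group and `[V, A] C_V(A) = V` then `A` centralises `V`. -/
lemma commutator_eq_bot_of_sup_eq {p : ℕ} [hp : Fact p.Prime] (hV : Cfsg.IsElementaryAbelian p V)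
    (hAV : A ≤ Subgroup.normalizer (V : Set G)) (hpow : ∀ a ∈ A, a ^ p ∈ Subgroup.centralizer (V : Set G))
    (h : V ≤ ⁅V, A⁆ ⊔ (V ⊓ Subgroup.centralizer (A : Set G))) : ⁅V, A⁆ = ⊥ := by
  have hab : ∀ a ∈ V, ∀ b ∈ V, a * b = b * a := fun a ha b hb => commute_of_elemAb hV ha hb
  set C := A ⊓ Subgroup.centralizer (V : Set G) with hC
  obtain ⟨P⟩ : Nonempty (Sylow p A) := inferInstance
  set P' := (P : Subgroup A).map A.subtype with hP'
  have hP'A : P' ≤ A := Subgroup.map_subtype_le _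
  -- `A = C_A(V) P'`
  haveI hCn : (C.subgroupOf A).Normal := ⟨fun x hx g => by
    have hg := Subgroup.le_normalizer (H := A) g.2
    show ((g * x * g⁻¹ : A) : G) ∈ C
    refine ⟨(g * x * g⁻¹ : A).2, fun v hv => ?_⟩
    have hv' : (g : G)⁻¹ * v * g ∈ V := (Subgroup.mem_normalizer_iff''.mp (hAV g.2) v).mp hv
    have h0 : (g : G)⁻¹ * v * g * (x : G) = (x : G) * ((g : G)⁻¹ * v * g) := hx.2 _ hv'
    show v * ((g : G) * x * (g : G)⁻¹) = (g : G) * x * (g : G)⁻¹ * v
    calc v * ((g : G) * x * (g : G)⁻¹) = (g : G) * ((g : G)⁻¹ * v * g * x) * (g : G)⁻¹ := by group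
      _ = _ := by rw [h0]; group⟩
  have hQ : IsPGroup p (A ⧸ C.subgroupOf A) := by
    intro q
    induction q using QuotientGroup.induction_on with
    | H a =>
      refine ⟨1, ?_⟩
      rw [pow_one, ← QuotientGroup.mk_pow, QuotientGroup.eq_one_iff]
      show ((a ^ p : A) : G) ∈ C
      exact ⟨(a ^ p).2, by
        show ((a ^ p : A) : G) ∈ Subgroup.centralizer (V : Set G)
        rw [SubgroupClass.coe_pow]; exact hpow a a.2⟩
  obtain ⟨k, hk⟩ := IsPGroup.iff_card.mp hQ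
  have htop : (P : Subgroup A) ⊔ C.subgroupOf A = ⊤ := by
    rw [← Subgroup.index_eq_one]
    refine Nat.eq_one_of_dvd_coprimes ?_ (Subgroup.index_dvd_of_le le_sup_right)
      (Subgroup.index_dvd_of_le le_sup_left)
    rw [Subgroup.index_eq_card, hk]
    exact Nat.Coprime.pow_left k (hp.out.coprime_iff_not_dvd.mpr P.not_dvd_index)
  have hCV : ∀ c ∈ C, ∀ v ∈ V, ⁅v, c⁆ = 1 := fun c hc v hv =>
    commutatorElement_eq_one_iff_mul_comm.mpr (hc.2 v hv)
  have h1 : ⁅V, A⁆ ≤ ⁅V, P'⁆ := by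
    rw [Subgroup.commutator_le]
    intro v hv a ha
    obtain ⟨b, hb, c, hc, hbc⟩ := Subgroup.mem_sup_of_normal_right.mp
      (htop ▸ Subgroup.mem_top (⟨a, ha⟩ : A))
    have hbc' : (b : G) * c = a := congrArg Subtype.val hbc
    have e : ⁅v, (b : G) * c⁆ = ⁅v, (b : G)⁆ * ((b : G) * ⁅v, (c : G)⁆ * (b : G)⁻¹) := by
      simp only [commutatorElement_def]; group
    rw [← hbc', e, hCV (c : G) hc v hv, mul_one, mul_inv_cancel, mul_one]
    exact Subgroup.commutator_mem_commutator hv ⟨b, hb, rfl⟩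
  by_contra hne
  have hWV : ⁅V, A⁆ ≤ V := commutator_le_of_le_normalizer' hAV
  have hlt := Cfsg.Agent.Lib.Coprime.commutator_lt_of_isPGroup
    (U := ⁅V, A⁆) (P := P') ((elemAb_isPGroup hV).to_le hWV) (P.2.map _)
    (hP'A.trans (fun a ha => by
      rw [Subgroup.mem_normalizer_iff_map_conj_eq, Subgroup.map_commutator,
        Subgroup.mem_normalizer_iff_map_conj_eq.mp (hAV ha),
        Subgroup.mem_normalizer_iff_map_conj_eq.mp (Subgroup.le_normalizer ha)])) hne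
  refine hlt.not_ge (h1.trans ?_)
  refine (Subgroup.commutator_mono h le_rfl).trans ?_
  rw [commutator_sup_eq_of_abelian hab (hP'A.trans hAV) hWV inf_le_left]
  refine sup_le le_rfl ?_
  have h0 : ⁅V ⊓ Subgroup.centralizer (A : Set G), P'⁆ = ⊥ :=
    Subgroup.commutator_eq_bot_iff_le_centralizer.mpr
      (inf_le_right.trans (Subgroup.centralizer_le hP'A))
  rw [h0]; exact bot_le

end Cfsg.Agent.Lib.PLocal
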