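import Cfsg.Agent.S2759
import Cfsg.Agent.Lib.InvChar.OddInverted
import Cfsg.Agent.Lib.PLocal.NoSLTwo

/-!
An element inducing a transvection on a normal abelian `2`-subgroup gives a section `S₄`.
-/

set_option autoImplicit false
set_option linter.unusedSectionVars false

universe u

namespace Cfsg.Agent.Lib.PLocal

/-- An odd prime element inverted by an element fixing a hyperplane of an abelian `2`-group has order three. -/
theorem eq_three_of_inverted {V Y : Type*} [CommGroup V] [Finite V] [Group Y] (hV : IsPGroup 2 V)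
    (φ : Y →* MulAut V) {b y : Y} {r : ℕ} (hr : r.Prime) (hr2 : r ≠ 2) (hyr : orderOf y = r)
    (hinv : b * y * b⁻¹ = y⁻¹) (hy : φ y ≠ 1) (F : Subgroup V) (hF : ∀ v ∈ F, φ b v = v) (hi : F.index ≤ 2) :
    r = 3 := by
  classical
  haveI : Fact (Nat.Prime 2) := ⟨Nat.prime_two⟩
  have hmul : ∀ g h v, φ (g * h) v = φ g (φ h v) := fun g h v => by rw [map_mul]; rfl
  obtain ⟨m, hm⟩ : ∃ m, (y ^ 2) ^ m = y := by
    refine exists_pow_eq_self_of_coprime ?_
    rw [hyr]
    exact (Nat.coprime_primes Nat.prime_two hr).2 (Ne.symm hr2)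
  set F' := F.map (φ y).toMonoidHom with hF'
  set F₀ := F ⊓ F' with hF₀
  have hyrF : ∀ v ∈ F₀, φ y v = v := by
    intro v hv
    obtain ⟨hv1, w, hw, hwv⟩ := hv
    have hwv' : φ y w = v := hwv
    have e : y ^ 2 = y * b * y⁻¹ * b⁻¹ := by
      rw [pow_two]
      calc y * y = y * (b * y * b⁻¹)⁻¹ := by rw [hinv, inv_inv]
        _ = _ := by group
    have h2 : φ (y ^ 2) v = v := by
      have hb : φ b⁻¹ v = v := by
        conv_lhs => rw [← hF v hv1]
        rw [← hmul, inv_mul_cancel, map_one]; rfl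
      rw [e, hmul, hb, hmul, hmul]
      have hy' : φ y⁻¹ v = w := by rw [← hwv', ← hmul, inv_mul_cancel, map_one]; rfl
      rw [hy', hF w hw, hwv']
    have h3 : ∀ n : ℕ, φ ((y ^ 2) ^ n) v = v := by
      intro n
      induction n with
      | zero => simp
      | succ n ih => rw [pow_succ', hmul, ih, h2]
    exact (congrArg (fun g => φ g v) hm.symm).trans (h3 m)
  have hcard : F₀.index ≤ 4 := by
    refine (Subgroup.index_inf_le (H := F) (K := F')).trans ?_
    have : F'.index = F.index := Subgroup.index_map_equiv F (φ y)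
    rw [this]
    calc F.index * F.index ≤ 2 * 2 := Nat.mul_le_mul hi hi
      _ = 4 := rfl
  -- the permutation of the cosets
  let σ : V ⧸ F₀ → V ⧸ F₀ := Quotient.map' (φ y) fun a c h => by
    rw [QuotientGroup.leftRel_apply] at h ⊢
    rw [← map_inv (φ y), ← map_mul (φ y), hyrF _ h]
    exact h
  have hσ : ∀ a : V, σ (a : V ⧸ F₀) = ((φ y a : V) : V ⧸ F₀) := fun a => rfl
  have hiter : ∀ (n : ℕ) (a : V), σ^[n] (a : V ⧸ F₀) = ((φ (y ^ n) a : V) : V ⧸ F₀) := by
    intro n
    induction n with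
    | zero => intro a; simp
    | succ n ih => intro a; rw [Function.iterate_succ_apply', ih, hσ, ← hmul, ← pow_succ']
  by_contra hne
  have hr5 : 5 ≤ r := by
    have h1 := hr.two_le
    have h4 : r ≠ 4 := fun h => absurd (h ▸ hr) (by norm_num)
    omega
  have hfix : ∀ a : V, σ (a : V ⧸ F₀) = (a : V ⧸ F₀) := by
    intro a
    have hper : Function.IsPeriodicPt σ r (a : V ⧸ F₀) := by
      show σ^[r] (a : V ⧸ F₀) = (a : V ⧸ F₀)
      rw [hiter, ← hyr, pow_orderOf_eq_one, map_one]; rfl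
    have hd := hper.minimalPeriod_dvd
    rcases (Nat.dvd_prime hr).1 hd with h | h
    · exact Function.minimalPeriod_eq_one_iff_isFixedPt.1 h
    · exfalso
      let g : Fin r → V ⧸ F₀ := fun i => σ^[(i : ℕ)] (a : V ⧸ F₀)
      have hinj : Function.Injective g := fun i j hij => Fin.ext
        (Function.iterate_injOn_Iio_minimalPeriod (f := σ) (x := (a : V ⧸ F₀))
          (h.symm ▸ i.2) (h.symm ▸ j.2) hij)
      have := Nat.card_le_card_of_injective g hinj
      rw [Nat.card_fin, ← Subgroup.index_eq_card] at this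
      omega
  refine hy (MulEquiv.ext fun a => ?_)
  have h1 : a⁻¹ * φ y a ∈ F₀ := QuotientGroup.eq.1 (hfix a).symm
  obtain ⟨c, hc, hca⟩ : ∃ c ∈ F₀, φ y a = a * c := ⟨_, h1, by rw [mul_inv_cancel_left]⟩
  have h2 : ∀ n : ℕ, φ (y ^ n) a = a * c ^ n := by
    intro n
    induction n with
    | zero => simp
    | succ n ih => rw [pow_succ', hmul, ih, map_mul, map_pow, hyrF c hc, hca, pow_succ']; rw [mul_assoc]
  have h3 := h2 r
  rw [← hyr, pow_orderOf_eq_one, map_one, MulAut.one_apply, hyr, eq_comm, mul_eq_left] at h3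
  obtain ⟨k, hk⟩ := hV c
  have h4 : orderOf c = 1 := Nat.eq_one_of_dvd_coprimes
    (((Nat.coprime_primes hr Nat.prime_two).2 hr2).pow_right k)
    (orderOf_dvd_of_pow_eq_one h3) (orderOf_dvd_of_pow_eq_one hk)
  rw [orderOf_eq_one_iff] at h4
  rw [hca, h4, mul_one, MulAut.one_apply]

/-- `⟨b, y⟩` with `b² = y³ = 1`, `y^b = y⁻¹` maps onto `S₃`. -/
theorem exists_surjective_three {Y : Type*} [Group Y] [Finite Y] {b y : Y} (hb : orderOf b = 2)
    (hy : orderOf y = 3) (hinv : b * y * b⁻¹ = y⁻¹) :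
    ∃ (D : Subgroup Y) (f : D →* Equiv.Perm (Fin 3)), Function.Surjective f := by
  classical
  set D := Subgroup.closure ({b, y} : Set Y) with hD
  have hbD : b ∈ D := Subgroup.subset_closure (Or.inl rfl)
  have hyD : y ∈ D := Subgroup.subset_closure (Or.inr rfl)
  let t : ZMod 3 → Y := fun i => y ^ i.val * b * (y ^ i.val)⁻¹
  have hy3 : y ^ 3 = 1 := by rw [← hy]; exact pow_orderOf_eq_one y
  have hb2 : b * b = 1 := by rw [← pow_two, ← hb]; exact pow_orderOf_eq_one b
  have hty : ∀ i, y * t i * y⁻¹ = t (i + 1) := by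
    intro i
    have : y ^ (i + 1).val = y ^ (i.val + 1) := by
      rw [ZMod.val_add]
      exact (pow_eq_pow_mod _ hy3).symm.trans (by rw [ZMod.val_one])
    show y * (y ^ i.val * b * (y ^ i.val)⁻¹) * y⁻¹ = y ^ (i + 1).val * b * (y ^ (i + 1).val)⁻¹
    rw [this, pow_succ']; group
  have htb : ∀ i, b * t i * b⁻¹ = t (-i) := by
    intro i
    have : y ^ (-i).val = (y ^ i.val)⁻¹ := by
      rw [eq_inv_iff_mul_eq_one, ← pow_add, pow_eq_pow_mod _ hy3, ← ZMod.val_add, neg_add_cancel, ZMod.val_zero, pow_zero]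
    show b * (y ^ i.val * b * (y ^ i.val)⁻¹) * b⁻¹ = y ^ (-i).val * b * (y ^ (-i).val)⁻¹
    have hbu : b * y ^ i.val * b⁻¹ = (y ^ i.val)⁻¹ := by rw [← conj_pow, hinv, inv_pow]
    rw [this, inv_inv]
    calc b * (y ^ i.val * b * (y ^ i.val)⁻¹) * b⁻¹
        = b * y ^ i.val * b⁻¹ * b * (b * y ^ i.val * b⁻¹)⁻¹ := by group
      _ = _ := by rw [hbu, inv_inv]
  have ht : Function.Injective t := by
    intro i j hij
    have h1 : ∀ k : ZMod 3, t k = y ^ (2 * k.val) * b := fun k => by
      show y ^ k.val * b * (y ^ k.val)⁻¹ = _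
      have : b * (y ^ k.val)⁻¹ = y ^ k.val * b := by
        rw [← mul_inv_eq_iff_eq_mul, ← inv_pow, ← conj_pow]
        rw [show b * y⁻¹ * b⁻¹ = (b * y * b⁻¹)⁻¹ by group, hinv, inv_inv]
      rw [mul_assoc, this, ← mul_assoc, ← pow_add, two_mul]
    rw [h1, h1, mul_left_inj, pow_eq_pow_iff_modEq, hy] at hij
    have h2 : ((2 * i.val : ℕ) : ZMod 3) = ((2 * j.val : ℕ) : ZMod 3) := (ZMod.natCast_eq_natCast_iff _ _ _).2 hij
    push_cast at h2
    rw [ZMod.natCast_zmod_val, ZMod.natCast_zmod_val] at h2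
    revert h2; revert i j; decide
  have hmem : ∀ g ∈ D, ∀ i, ∃ j, g * t i * g⁻¹ = t j := by
    intro g hg
    induction hg using Subgroup.closure_induction'' with
    | mem z hz =>
      intro i
      rcases hz with rfl | rfl
      · exact ⟨_, htb i⟩
      · exact ⟨_, hty i⟩
    | inv_mem z hz =>
      intro i
      rcases hz with rfl | rfl
      · refine ⟨-i, ?_⟩
        have := htb i
        rwa [show z⁻¹ = z from inv_eq_of_mul_eq_one_right hb2, ← inv_eq_of_mul_eq_one_right hb2,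
          inv_eq_of_mul_eq_one_right hb2]
      · refine ⟨i - 1, ?_⟩
        have := hty (i - 1)
        rw [sub_add_cancel] at this
        rw [← this]; group
    | one => exact fun i => ⟨i, by simp⟩
    | mul g g' _ _ hg hg' =>
      intro i
      obtain ⟨j, hj⟩ := hg' i
      obtain ⟨k, hk⟩ := hg j
      exact ⟨k, by rw [← hk, ← hj]; group⟩
  choose σ hσ using fun g : D => hmem g g.2
  have hcomp : ∀ g g' : D, ∀ i, σ (g * g') i = σ g (σ g' i) := fun g g' i => ht (by
    rw [← hσ, ← hσ, ← hσ, Subgroup.coe_mul]; group)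
  have hone : ∀ i, σ 1 i = i := fun i => ht (by rw [← hσ]; simp)
  let f₀ : D →* Equiv.Perm (ZMod 3) := MonoidHom.mk'
    (fun g => ⟨σ g, σ g⁻¹, fun i => by rw [← hcomp, inv_mul_cancel, hone],
      fun i => by rw [← hcomp, mul_inv_cancel, hone]⟩) fun g g' => Equiv.ext fun i => hcomp g g' i
  have hsy : ∀ i, σ ⟨y, hyD⟩ i = i + 1 := fun i => ht (by rw [← hσ]; exact hty i)
  have hsb : ∀ i, σ ⟨b, hbD⟩ i = -i := fun i => ht (by rw [← hσ]; exact htb i)
  let e₃ : ZMod 3 ≃ Fin 3 := (ZMod.finEquiv 3).toEquiv.symm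
  suffices hs : Function.Surjective f₀ from
    ⟨D, e₃.permCongrHom.toMonoidHom.comp f₀, e₃.permCongrHom.surjective.comp hs⟩
  rw [← MonoidHom.range_eq_top]
  refine Subgroup.eq_top_of_card_eq _ ?_
  have h6 : Nat.card (Equiv.Perm (ZMod 3)) = 6 := by rw [Nat.card_eq_fintype_card]; decide
  have hdy : orderOf (f₀ ⟨y, hyD⟩) = 3 := orderOf_eq_prime
    (by rw [← map_pow, show (⟨y, hyD⟩ : D) ^ 3 = 1 from Subtype.ext hy3, map_one])
    (fun h => by
      have := DFunLike.congr_fun h (0 : ZMod 3)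
      rw [show f₀ ⟨y, hyD⟩ 0 = σ ⟨y, hyD⟩ 0 from rfl, hsy] at this
      exact absurd this (by decide))
  have hdb : orderOf (f₀ ⟨b, hbD⟩) = 2 := orderOf_eq_prime
    (by rw [← map_pow, show (⟨b, hbD⟩ : D) ^ 2 = 1 from Subtype.ext (by simpa [pow_two] using hb2), map_one])
    (fun h => by
      have := DFunLike.congr_fun h (1 : ZMod 3)
      rw [show f₀ ⟨b, hbD⟩ 1 = σ ⟨b, hbD⟩ 1 from rfl, hsb] at this
      exact absurd this (by decide))
  refine Nat.dvd_antisymm (Subgroup.card_subgroup_dvd_card _) ?_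
  rw [h6, show (6 : ℕ) = 2 * 3 from rfl]
  refine Nat.Coprime.mul_dvd_of_dvd_of_dvd (by norm_num) ?_ ?_
  · have h := Subgroup.orderOf_dvd_natCard _ (show f₀ ⟨b, hbD⟩ ∈ f₀.range from ⟨_, rfl⟩)
    rwa [hdb] at h
  · have h := Subgroup.orderOf_dvd_natCard _ (show f₀ ⟨y, hyD⟩ ∈ f₀.range from ⟨_, rfl⟩)
    rwa [hdy] at h

/-- A transvection outside the core of the automiser gives `S₄`. -/
theorem involves_four_of_transvection {X : Type u} [Group X] [Finite X] {V : Subgroup X} [V.Normal]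
    (hVc : ∀ a ∈ V, ∀ c ∈ V, a * c = c * a) (hVp : IsPGroup 2 V)
    (hO : Cfsg.pCore 2 (X ⧸ Subgroup.centralizer (V : Set X)) = ⊥) {b : X}
    (hb : b ∉ Subgroup.centralizer (V : Set X)) (hb2 : b ^ 2 ∈ Subgroup.centralizer (V : Set X))
    (hi : (Subgroup.centralizer ({b} : Set X)).relIndex V ≤ 2) :
    Cfsg.Involves (Equiv.Perm (Fin 4)) X := by
  classical
  haveI : Fact (Nat.Prime 2) := ⟨Nat.prime_two⟩
  set C := Subgroup.centralizer (V : Set X) with hC
  set π := QuotientGroup.mk' C with hπ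
  have hπs : Function.Surjective π := QuotientGroup.mk'_surjective C
  have hob : orderOf (π b) = 2 := orderOf_eq_prime
    (by rw [← map_pow]; exact (QuotientGroup.eq_one_iff _).2 hb2)
    fun h => hb ((QuotientGroup.eq_one_iff b).1 h)
  obtain ⟨x, hx1, hxo, hxinv⟩ := InvChar.exists_odd_inverted hob (by
    rw [hO, Subgroup.mem_bot]; exact fun h => hb ((QuotientGroup.eq_one_iff b).1 h))
  obtain ⟨r, hr, hrx⟩ := Nat.exists_prime_and_dvd (n := orderOf x) (fun h => hx1 (orderOf_eq_one_iff.1 h))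
  set y := x ^ (orderOf x / r) with hy
  have hyr : orderOf y = r := orderOf_pow_orderOf_div (orderOf_pos x).ne' hrx
  have hyinv : π b * y * (π b)⁻¹ = y⁻¹ := by rw [hy, ← conj_pow, hxinv, inv_pow]
  have hr2 : r ≠ 2 := fun h => by
    subst h
    exact (Nat.not_even_iff_odd.2 hxo) (even_iff_two_dvd.2 hrx)
  letI : CommGroup V := { (inferInstance : Group V) with mul_comm := fun a c => Subtype.ext (hVc a a.2 c c.2) }
  let ψ : X →* MulAut V := MulAut.conjNormal
  have hψC : C ≤ ψ.ker := fun g hg => by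
    rw [MonoidHom.mem_ker]
    refine MulEquiv.ext fun v => Subtype.ext ?_
    show ((MulAut.conjNormal g v : V) : X) = v
    rw [MulAut.conjNormal_apply, ← Subgroup.mem_centralizer_iff.1 hg v v.2, mul_inv_cancel_right]
  let φ : X ⧸ C →* MulAut V := QuotientGroup.lift C ψ hψC
  have hφ : ∀ (g : X) (v : V), ((φ (π g) v : V) : X) = g * v * g⁻¹ := fun g v => MulAut.conjNormal_apply g v
  have hr3 : r = 3 := by
    refine eq_three_of_inverted hVp φ hr hr2 hyr hyinv (fun h => ?_)
      ((Subgroup.centralizer ({b} : Set X)).subgroupOf V) ?_ hi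
    · obtain ⟨g, hg⟩ := hπs y
      have hg1 : g ∈ C := Subgroup.mem_centralizer_iff.2 fun v hv => by
        have h1 := hφ g ⟨v, hv⟩
        rw [hg, h] at h1
        exact (mul_inv_eq_iff_eq_mul.1 h1.symm).symm
      have : y = 1 := hg ▸ (QuotientGroup.eq_one_iff g).2 hg1
      rw [this, orderOf_one] at hyr
      exact hr.one_lt.ne hyr
    · intro v hv
      refine Subtype.ext ?_
      have h' : (v : X) * b = b * (v : X) := Subgroup.mem_centralizer_singleton_iff.1 hv
      rw [hφ, ← h', mul_inv_cancel_right]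
  subst hr3
  obtain ⟨D, f, hf⟩ := exists_surjective_three hob hyr hyinv
  refine S2759.backward hVp (K := D.comap π) (fun g _ => by rw [Subgroup.normalizer_eq_top]; trivial)
    (f.comp (π.subgroupComap D)) (hf.comp (MonoidHom.subgroupComap_surjective_of_surjective π D hπs)) fun k hk => ?_
  have : π.subgroupComap D k = 1 := Subtype.ext ((QuotientGroup.eq_one_iff _).2 hk)
  show f (π.subgroupComap D k) = 1
  rw [this, map_one]

end Cfsg.Agent.Lib.PLocal
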