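import Cfsg.Agent.Lib.PLocal.WeakClosureFunctor
import Cfsg.Agent.Lib.PLocal.OrbitTrace
import Cfsg.Agent.Lib.PLocal.TransvectionFour
import Cfsg.Agent.Lib.PLocal.JZPair
import Cfsg.Agent.Lib.PLocal.Replacement
import Cfsg.Agent.Lib.FusionControl.KWeakElement
import Cfsg.Agent.Lib.LocalEven2.CD
import Cfsg.Agent.Lib.Fusion.SectionFree

/-!
Glauberman's theorem on weakly closed elements: central elements of the normalizer of the abelian Thompson
subgroup are weakly closed, for odd primes, for `p`th powers, and without `S₄`.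
-/

set_option autoImplicit false
set_option linter.unusedSectionVars false

universe u

namespace Cfsg.Agent.Lib.PLocal

open MulAction Finset
open Cfsg.Agent.Lib.FusionControl
open scoped commutatorElement

variable {p : ℕ} [Fact p.Prime] {X : Type u} [Group X] [Finite X]

/-- a quadratic abelian subgroup of `S` acting nontrivially on `N`, no worse than trivially -/
def IsOff (S N B : Subgroup X) : Prop :=
  B ≤ S ∧ (∀ a ∈ B, ∀ b ∈ B, a * b = b * a) ∧ ¬ B ≤ Subgroup.centralizer (N : Set X) ∧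
    ⁅⁅N, B⁆, B⁆ = ⊥ ∧
    Nat.card (B ⊓ Subgroup.centralizer (N : Set X) : Subgroup X) * Nat.card N ≤ fOn N B

/-- nontrivial action of `J(S)` gives a quadratic offender -/
theorem exists_isOff {S N : Subgroup X} (hS : IsPGroup p S) [N.Normal] (hNS : N ≤ S)
    (hNc : ∀ a ∈ N, ∀ b ∈ N, a * b = b * a) {A : Subgroup X} (hA : MaxIn 0 S A)
    (hAN : ¬ A ≤ Subgroup.centralizer (N : Set X)) : ∃ B, IsOff S N B := by
  have hAN' : A ≤ Subgroup.normalizer (N : Set X) := fun a _ => by rw [Subgroup.normalizer_eq_top]; trivial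
  have hAc : ∀ a ∈ A, ∀ b ∈ A, a * b = b * a := fun a ha b hb => commute_of_elemAb hA.2.1 ha hb
  have hmax : ∀ B ≤ A, fOn N B ≤ fOn N A := by
    intro B hB
    set W := N ⊓ Subgroup.centralizer (B : Set X) with hW
    have h1 := card_mul_card_le B W
    have hBW : Cfsg.IsElementaryAbelian 0 (B ⊔ W) := by
      refine ⟨?_, fun x _ => pow_zero x⟩
      rw [LocalEven2.CD.isMulCommutative_iff_le_centralizer]
      refine LocalEven2.CD.sup_abelian (fun a ha => Subgroup.mem_centralizer_iff.2 fun b hb => hAc b (hB hb) a (hB ha))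
        (fun a ha => Subgroup.mem_centralizer_iff.2 fun b hb => hNc b hb.1 a ha.1) inf_le_right
    have h2 := hA.2.2 (B ⊔ W) (sup_le (hB.trans hA.1) (inf_le_left.trans hNS)) hBW
    have h3 : Nat.card ↥(B ⊓ W) ≤ Nat.card ↥(N ⊓ Subgroup.centralizer (A : Set X)) :=
      Subgroup.card_le_of_le fun x hx => ⟨hx.2.1, fun a ha => hAc a ha x (hB hx.1)⟩
    exact h1.trans ((Nat.mul_le_mul h3 h2).trans (le_of_eq (mul_comm _ _)))
  have hok := replOK_of_max (V := N) (A := A) hNc hAN' (by
    have : ⁅A, A⁆ = ⊥ := Subgroup.commutator_eq_bot_iff_le_centralizer.2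
      (fun a ha => Subgroup.mem_centralizer_iff.2 fun b hb => hAc b hb a ha)
    rw [this]; exact bot_le) hmax N le_rfl
  set B := repl A N with hB
  have hBA : B ≤ A := inf_le_left
  refine ⟨B, hBA.trans hA.1, fun a ha b hb => hAc a (hBA ha) b (hBA hb), fun hBN => ?_, ?_, ?_⟩
  · -- a trivial replacement means a trivial action
    set W := ⁅N, A⁆ with hW
    have hWN : W ≤ N := commutator_le_of_le_normalizer' hAN'
    have hle : N ≤ W ⊔ (N ⊓ Subgroup.centralizer (A : Set X)) :=
      (le_inf le_rfl (Subgroup.le_centralizer_iff.1 hBN)).trans hok.2.le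
    have h1 : W ≤ ⁅W, A⁆ := by
      refine (Subgroup.commutator_mono hle le_rfl).trans ?_
      rw [commutator_sup_eq_of_abelian hNc hAN' hWN inf_le_left]
      refine sup_le le_rfl ?_
      rw [Subgroup.commutator_eq_bot_iff_le_centralizer.2 inf_le_right]
      exact bot_le
    have hne : W ≠ ⊥ := fun h => hAN (Subgroup.le_centralizer_iff.1
      (Subgroup.commutator_eq_bot_iff_le_centralizer.1 h))
    refine (Coprime.commutator_lt_of_isPGroup (U := W) (P := A) ((hS.to_le hNS).to_le hWN) (hS.to_le hA.1)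
      (fun a ha => by
        rw [Subgroup.mem_normalizer_iff_map_conj_eq, Subgroup.map_commutator,
          Subgroup.mem_normalizer_iff_map_conj_eq.mp (hAN' ha),
          Subgroup.mem_normalizer_iff_map_conj_eq.mp (Subgroup.le_normalizer ha)]) hne).not_ge h1
  · rw [Subgroup.commutator_eq_bot_iff_le_centralizer]
    refine (Subgroup.commutator_mono le_rfl hBA).trans ?_
    exact Subgroup.le_centralizer_iff.1 inf_le_right
  · set C := B ⊓ Subgroup.centralizer (N : Set X) with hC
    have h1 := hmax C (inf_le_left.trans hBA)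
    have h2 : fOn N C = Nat.card C * Nat.card N := by
      rw [fOn, inf_eq_left.2 (Subgroup.le_centralizer_iff.1 (inf_le_right : C ≤ Subgroup.centralizer (N : Set X)))]
    rw [← h2]
    exact h1.trans hok.1.ge

/-- the trace of a central element over a family of quadratic subgroups, modulo squares -/
theorem mul_sq_mem_of_family [Fact (Nat.Prime 2)] (S : Sylow 2 X) {M : Subgroup X} [hMn : M.Normal]
    (hMc : ∀ a ∈ M, ∀ b ∈ M, a * b = b * a)
    {x : X} (hxM : x ∈ M) (hxS : x ∈ Subgroup.centralizer ((S : Subgroup X) : Set X))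
    {𝒜 : Set (Subgroup X)} (hA : ∀ C ∈ 𝒜, C ≤ (S : Subgroup X) ∧ (∀ a ∈ C, ∀ b ∈ C, a * b = b * a) ∧
      (∀ a ∈ C, ∀ b ∈ C, ∀ y ∈ M, ⁅a, ⁅b, y⁆⁆ = 1) ∧
      ∀ C₀ ≤ C, C₀.relIndex C = 2 → ∀ n ∈ M, (∀ a ∈ C₀, a * n = n * a) → ∀ a ∈ C, a * n = n * a)
    (hfix : ∀ g : X, cj g (sSup 𝒜) ≤ (S : Subgroup X) → g * x * g⁻¹ = x) :
    ∀ g : X, ∃ m ∈ M, g * x * g⁻¹ = x * m ^ 2 := by
  classical
  letI : CommGroup M := { (inferInstance : Group M) with mul_comm := fun a b => Subtype.ext (hMc a a.2 b b.2) }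
  let P := (powMonoidHom 2 : M →* M).range
  let π : M →* M ⧸ P := QuotientGroup.mk' P
  have hπp : ∀ m : M, π m ^ 2 = 1 := fun m => by
    rw [← map_pow]; exact (QuotientGroup.eq_one_iff _).2 ⟨m, rfl⟩
  let c : X → M → M := fun g m => ⟨g * m * g⁻¹, hMn.conj_mem _ m.2 g⟩
  let x' : M := ⟨x, hxM⟩
  let f : X ⧸ (S : Subgroup X) → M ⧸ P := fun q => π (c q.out x')
  have hc : ∀ g h : X, (g : X ⧸ (S : Subgroup X)) = h → c g x' = c h x' := fun g h he => by
    refine Subtype.ext ?_
    show g * x * g⁻¹ = h * x * h⁻¹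
    obtain ⟨s, hs, rfl⟩ : ∃ s ∈ (S : Subgroup X), h = g * s := ⟨_, QuotientGroup.eq.1 he, by group⟩
    rw [mul_inv_rev]
    calc g * x * g⁻¹ = g * (s * x * s⁻¹) * g⁻¹ := by
          rw [Subgroup.mem_centralizer_iff.1 hxS s hs, mul_inv_cancel_right]
      _ = _ := by group
  have hrep : ∀ g : X, f (g : X ⧸ (S : Subgroup X)) = π (c g x') := fun g =>
    congrArg π (hc _ _ (QuotientGroup.out_eq' _))
  let := Fintype.ofFinite (X ⧸ (S : Subgroup X))
  set B := sSup 𝒜 with hB
  have hBp : IsPGroup 2 B := S.2.to_le (sSup_le fun C hC => (hA C hC).1)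
  have hsum := OrbitTrace.prod_eq_prod_fixed (G := X) f hBp hB (fun C hC q hq => by
    obtain ⟨y, rfl⟩ := QuotientGroup.mk_surjective q
    obtain ⟨hCS, hCc, hCq, hC2⟩ := hA C hC
    letI : CommGroup C := { (inferInstance : Group C) with mul_comm := fun a b => Subtype.ext (hCc a a.2 b b.2) }
    set n := c y x' with hn
    let D : C →* M := MonoidHom.mk' (fun t => c t n * n⁻¹) fun s t => Subtype.ext (by
      show (s : X) * t * n * ((s : X) * t)⁻¹ * (n : X)⁻¹ =
        (s : X) * n * (s : X)⁻¹ * (n : X)⁻¹ * ((t : X) * n * (t : X)⁻¹ * (n : X)⁻¹)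
      have h1 : Commute (s : X) ((t : X) * n * (t : X)⁻¹ * (n : X)⁻¹) :=
        commutatorElement_eq_one_iff_mul_comm.1 (hCq s s.2 t t.2 n n.2)
      have hm : ∀ g : X, g * (n : X) * g⁻¹ * (n : X)⁻¹ ∈ M := fun g =>
        mul_mem (hMn.conj_mem _ n.2 g) (inv_mem n.2)
      calc (s : X) * t * n * ((s : X) * t)⁻¹ * (n : X)⁻¹
          = ((s : X) * ((t : X) * n * (t : X)⁻¹ * (n : X)⁻¹) * (s : X)⁻¹) *
              ((s : X) * n * (s : X)⁻¹ * (n : X)⁻¹) := by group
        _ = _ := by rw [h1.eq, mul_inv_cancel_right, hMc _ (hm t) _ (hm s)])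
    set C₀ := stabilizer C ((y : X) : X ⧸ (S : Subgroup X)) with hC₀
    have hker : C₀ ≤ D.ker := fun t ht => by
      rw [MonoidHom.mem_ker]
      show c t n * n⁻¹ = 1
      rw [mul_inv_eq_one, hn]
      have h1 : (((t : X) * y : X) : X ⧸ (S : Subgroup X)) = y := ht
      exact (Subtype.ext (by show (t : X) * (y * x * y⁻¹) * (t : X)⁻¹ = t * y * x * (t * y)⁻¹; group) :
        c t (c y x') = c ((t : X) * y) x').trans (hc _ _ h1)
    let D' : C ⧸ C₀ →* M := QuotientGroup.lift C₀ D hker
    let := Fintype.ofFinite (C ⧸ C₀)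
    let e := orbitEquivQuotientStabilizer C ((y : X) : X ⧸ (S : Subgroup X))
    have hval : ∀ r : C ⧸ C₀, f (e.symm r : X ⧸ (S : Subgroup X)) = π n * π (D' r) := by
      intro r
      obtain ⟨t, rfl⟩ := QuotientGroup.mk_surjective r
      rw [orbitEquivQuotientStabilizer_symm_apply]
      show f (((t : X) * y : X) : X ⧸ (S : Subgroup X)) = π n * π (D t)
      rw [hrep, ← map_mul]
      congr 1
      show c (t * y) x' = n * (c t n * n⁻¹)
      rw [mul_comm n, inv_mul_cancel_right]
      exact Subtype.ext (by show (t : X) * y * x * ((t : X) * y)⁻¹ = t * (y * x * y⁻¹) * (t : X)⁻¹; group)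
    have hne1 : Nat.card (C ⧸ C₀) ≠ 1 := fun h => hq fun t => by
      rw [← Subgroup.index_eq_card, Subgroup.index_eq_one] at h
      exact (h ▸ Subgroup.mem_top t : t ∈ C₀)
    obtain ⟨k, hk⟩ : ∃ k, Nat.card (C ⧸ C₀) = 2 ^ k := ((S.2.to_le hCS).to_quotient C₀).exists_card_eq
    obtain ⟨k, rfl⟩ : ∃ j, k = j + 1 := Nat.exists_eq_succ_of_ne_zero (by
      rintro rfl; exact hne1 (by rw [hk, pow_zero]))
    calc ∏ z with z ∈ orbit C ((y : X) : X ⧸ (S : Subgroup X)), f z
        = ∏ z : orbit C ((y : X) : X ⧸ (S : Subgroup X)), f z := Finset.prod_subtype _ (by simp) f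
      _ = ∏ r : C ⧸ C₀, π n * π (D' r) :=
          (Fintype.prod_equiv e.symm _ _ fun r => (hval r).symm).symm
      _ = π n ^ Nat.card (C ⧸ C₀) * π (D' (∏ r, r)) := by
          rw [prod_mul_distrib, prod_const, card_univ, ← Nat.card_eq_fintype_card, map_prod, map_prod]
      _ = 1 := by
        rw [show π n ^ Nat.card (C ⧸ C₀) = 1 by rw [hk, pow_succ', pow_mul, hπp, one_pow], one_mul]
        rcases k with _ | k
        · -- an orbit of length two
          suffices ∀ r, D' r = 1 by rw [this, map_one]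
          intro r
          obtain ⟨t, rfl⟩ := QuotientGroup.mk_surjective r
          show c t n * n⁻¹ = 1
          have h2 : (C₀.map C.subtype).relIndex C = 2 := by
            rw [Subgroup.relIndex, Subgroup.subgroupOf, Subgroup.comap_map_eq_self_of_injective C.subtype_injective,
              Subgroup.index_eq_card, hk]
            rfl
          have h3 := hC2 _ (Subgroup.map_subtype_le _) h2 n n.2 (by
            rintro _ ⟨a, ha, rfl⟩
            have : c a n * n⁻¹ = 1 := hker ha
            exact mul_inv_eq_iff_eq_mul.1 (congrArg Subtype.val (mul_inv_eq_one.1 this))) t t.2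
          rw [mul_inv_eq_one]
          exact Subtype.ext (mul_inv_eq_iff_eq_mul.2 h3)
        · obtain ⟨s, hs⟩ := OrbitTrace.prod_univ_mem_squares (T := C ⧸ C₀) ⟨2 ^ k, by rw [hk]; ring⟩
          rw [hs, map_pow, map_pow, hπp])
  have hfixv : ∀ q ∈ fixedPoints B (X ⧸ (S : Subgroup X)), f q = π x' := by
    intro q hq
    show π (c q.out x') = _
    congr 1
    refine Subtype.ext ?_
    show q.out * x * q.out⁻¹ = x
    have h2 := hfix q.out⁻¹ (cj_le_iff.2 fun b hb => by
      have h1 : (b : X) • q = q := hq ⟨b, hb⟩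
      rw [← QuotientGroup.out_eq' q] at h1
      have := QuotientGroup.eq.1 (show (((b * q.out : X)) : X ⧸ (S : Subgroup X)) = (q.out : X) from h1)
      have := inv_mem this
      simpa [mul_assoc] using this)
    rw [inv_inv] at h2
    calc q.out * x * q.out⁻¹ = q.out * (q.out⁻¹ * x * q.out) * q.out⁻¹ := by rw [h2]
      _ = x := by group
  erw [prod_congr rfl (fun q hq => hfixv q (mem_filter.1 hq).2), prod_const] at hsum
  set N := (univ.filter fun q => q ∈ fixedPoints B (X ⧸ (S : Subgroup X))).card with hN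
  have hNodd : ¬ 2 ∣ N := by
    have h1 := hBp.card_modEq_card_fixedPoints (X ⧸ (S : Subgroup X))
    have h2 : Nat.card (fixedPoints B (X ⧸ (S : Subgroup X))) = N := by
      rw [hN, Nat.card_eq_fintype_card, Fintype.card_subtype]
    rw [h2] at h1
    intro hd
    apply S.not_dvd_index
    rw [Subgroup.index]
    exact (h1.dvd_iff dvd_rfl).2 hd
  intro g
  let cg : M →* M := MonoidHom.mk' (c g) fun a b => Subtype.ext (by
    show g * ((a : X) * b) * g⁻¹ = g * a * g⁻¹ * (g * b * g⁻¹); group)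
  have hPle : P ≤ P.comap cg := by
    rintro _ ⟨a, rfl⟩
    exact ⟨cg a, (map_pow cg a 2).symm⟩
  let γ := QuotientGroup.map P P cg hPle
  have hγ : ∀ q, γ (f q) = f (g • q) := fun q => by
    obtain ⟨y, rfl⟩ := QuotientGroup.mk_surjective q
    show γ (f y) = f ((g * y : X) : X ⧸ (S : Subgroup X))
    rw [hrep, hrep]
    show π (c g (c y x')) = _
    congr 1
    exact Subtype.ext (by show g * (y * x * y⁻¹) * g⁻¹ = g * y * x * (g * y)⁻¹; group)
  have h1 : γ (∏ q, f q) = ∏ q, f q := by
    rw [map_prod, prod_congr rfl (fun q _ => hγ q)]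
    exact Equiv.prod_comp (MulAction.toPerm g : Equiv.Perm (X ⧸ (S : Subgroup X))) f
  rw [hsum, map_pow] at h1
  have h2 : γ (π x') = π x' := by
    set u := γ (π x') * (π x')⁻¹ with hu
    have hu1 : u ^ N = 1 := by rw [hu, mul_pow, inv_pow, h1, mul_inv_cancel]
    have hu2 : u ^ 2 = 1 := by
      rw [hu, mul_pow, inv_pow, show γ (π x') ^ 2 = 1 by rw [← map_pow, hπp, map_one], hπp]; simp
    exact mul_inv_eq_one.1 (orderOf_eq_one_iff.1 (Nat.eq_one_of_dvd_coprimes
      ((Nat.Prime.coprime_iff_not_dvd Nat.prime_two).2 hNodd) (orderOf_dvd_of_pow_eq_one hu2) (orderOf_dvd_of_pow_eq_one hu1)))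
  have h3 : x'⁻¹ * c g x' ∈ P := QuotientGroup.eq.1 h2.symm
  obtain ⟨m, hm⟩ := h3
  refine ⟨m, m.2, ?_⟩
  have h4 := congrArg Subtype.val hm
  rw [powMonoidHom_apply, Subgroup.coe_pow, Subgroup.coe_mul, Subgroup.coe_inv] at h4
  rw [h4]
  show g * x * g⁻¹ = x * (x⁻¹ * (g * x * g⁻¹))
  group

set_option maxHeartbeats 1000000 in
/-- the configuration at the top -/
theorem central_of_overgroups_thompson (S : Sylow p X) {x : X}
    (hxS : x ∈ (S : Subgroup X) ⊓ Subgroup.centralizer ((S : Subgroup X) : Set X)) (hxQ : x ∈ Cfsg.pCore p X)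
    (hJ : Subgroup.normalizer ((Cfsg.thompsonSubgroupAOf (S : Subgroup X) : Subgroup X) : Set X) ≤
      Subgroup.centralizer ({x} : Set X))
    (hcase : p ≠ 2 ∨ (∃ z ∈ (S : Subgroup X) ⊓ Subgroup.centralizer ((S : Subgroup X) : Set X), z ^ p = x) ∨
      ¬ Cfsg.Involves (Equiv.Perm (Fin 4)) X)
    (hprop : ∀ M : Subgroup X, M ≠ ⊤ → (S : Subgroup X) ≤ M → M ≤ Subgroup.centralizer ({x} : Set X)) :
    Subgroup.centralizer ({x} : Set X) = ⊤ := by
  classical
  set Cx := Subgroup.centralizer ({x} : Set X) with hCx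
  have hW : Cfsg.IsCharPFunctor.{u} p (fun Q [Group Q] => Cfsg.thompsonSubgroupA Q) := isCharPFunctor_thompsonA
  have hSJ : (S : Subgroup X) ≤ Subgroup.normalizer ((Cfsg.thompsonSubgroupAOf (S : Subgroup X) : Subgroup X) : Set X) :=
    le_normalizer_inducedFunctor hW S.2
  have hSCx : (S : Subgroup X) ≤ Cx := hSJ.trans hJ
  set Q := Cfsg.pCore p X with hQdef
  have hQn : Q.Normal := by rw [hQdef]; infer_instance
  have hQS : Q ≤ (S : Subgroup X) := pCore_le_S S
  have hJn : (Cfsg.thompsonSubgroupAOf (S : Subgroup X)).Normal → Cx = ⊤ := fun hn => by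
    rw [eq_top_iff]; exact (Subgroup.normalizer_eq_top_iff.2 hn).ge.trans hJ
  have frat : ∀ C : Subgroup X, C.Normal → C ≤ Cx → ¬ (S : Subgroup X) ⊓ C ≤ Q → Cx = ⊤ := by
    intro C hCn hC hne
    set R := (S : Subgroup X) ⊓ C with hR
    have hSR : (S : Subgroup X) ≤ Subgroup.normalizer (R : Set X) := fun s hs => by
      rw [mem_normalizer_iff_cj, hR, cj_inf, mem_normalizer_iff_cj.1 (Subgroup.le_normalizer hs),
        mem_normalizer_iff_cj.1 (show s ∈ Subgroup.normalizer (C : Set X) by rw [Subgroup.normalizer_eq_top]; trivial)]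
    have hNR := hprop _ (normalizer_ne_top_of_pCore (S.2.to_le inf_le_left) hne) hSR
    rw [eq_top_iff]
    intro g _
    obtain ⟨k, hk, y, hy, rfl⟩ := exists_frattini_split (p := p) (K := C) (R := R) (x := g) inf_le_right
      (S.2.to_le inf_le_left) (not_dvd_relIndex_inf le_top S.2 (sylow_relIndex_top S) le_top
        (by rw [Subgroup.normalizer_eq_top])) (by rw [Subgroup.normalizer_eq_top]; trivial)
    exact mul_mem (hC hk) (hNR hy)
  by_cases hSC : (S : Subgroup X) ⊓ Subgroup.centralizer (Q : Set X) ≤ Q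
  swap
  · exact frat _ inferInstance (Subgroup.centralizer_le (Set.singleton_subset_iff.2 hxQ)) hSC
  -- normal closures of central elements
  have hncl : ∀ v ∈ (S : Subgroup X) ⊓ Subgroup.centralizer ((S : Subgroup X) : Set X),
      Subgroup.normalClosure ({v} : Set X) ≤ Q ⊓ Subgroup.centralizer (Q : Set X) := by
    intro v hv
    obtain ⟨hv1, hv2⟩ := Subgroup.mem_inf.1 hv
    have hvc := Subgroup.centralizer_le hQS hv2
    exact Subgroup.normalClosure_le_normal (Set.singleton_subset_iff.2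
      (Subgroup.mem_inf.2 ⟨hSC (Subgroup.mem_inf.2 ⟨hv1, hvc⟩), hvc⟩))
  have hprops : ∀ v ∈ (S : Subgroup X) ⊓ Subgroup.centralizer ((S : Subgroup X) : Set X),
      (∀ a ∈ Subgroup.normalClosure ({v} : Set X), ∀ b ∈ Subgroup.normalClosure ({v} : Set X), a * b = b * a) ∧
      Subgroup.normalClosure ({v} : Set X) ≤ (S : Subgroup X) ∧
      Q ≤ Subgroup.centralizer (Subgroup.normalClosure ({v} : Set X) : Set X) := by
    intro v hv
    have h := hncl v hv
    exact ⟨fun a ha b hb => Subgroup.mem_centralizer_iff.1 (h hb).2 a (h ha).1,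
      (h.trans inf_le_left).trans hQS, Subgroup.le_centralizer_iff.1 (h.trans inf_le_right)⟩
  have hcx : ∀ v ∈ (S : Subgroup X) ⊓ Subgroup.centralizer ((S : Subgroup X) : Set X),
      x ∈ Subgroup.normalClosure ({v} : Set X) →
      Cx = ⊤ ∨ ∃ B, IsOff (S : Subgroup X) (Subgroup.normalClosure ({v} : Set X)) B := by
    intro v hv hxv
    obtain ⟨hc, hS', hQc⟩ := hprops v hv
    set N := Subgroup.normalClosure ({v} : Set X) with hN
    by_cases hall : ∀ A, MaxIn 0 (S : Subgroup X) A → A ≤ Subgroup.centralizer (N : Set X)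
    · left
      by_cases hne : (S : Subgroup X) ⊓ Subgroup.centralizer (N : Set X) ≤ Q
      · exact hJn (thompsonSubgroupAOf_normal_of_le hQS fun A hA => (le_inf hA.1 (hall A hA)).trans hne)
      · exact frat _ inferInstance (Subgroup.centralizer_le (Set.singleton_subset_iff.2 hxv)) hne
    · push Not at hall
      obtain ⟨A, hA, hAN⟩ := hall
      exact Or.inr (exists_isOff S.2 hS' hc hA hAN)
  set M := Subgroup.normalClosure ({x} : Set X) with hM
  have hxM : x ∈ M := Subgroup.subset_normalClosure rfl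
  have hMn : M.Normal := by rw [hM]; infer_instance
  obtain ⟨hMc, hMS, hQM⟩ := hprops x hxS
  have hMp : IsPGroup p M := S.2.to_le hMS
  obtain ⟨z, hz, hzx⟩ | hp2 | ⟨hp, hS4⟩ : (∃ z ∈ (S : Subgroup X) ⊓ Subgroup.centralizer ((S : Subgroup X) : Set X), z ^ p = x) ∨
      p ≠ 2 ∨ (p = 2 ∧ ¬ Cfsg.Involves (Equiv.Perm (Fin 4)) X) := by
    rcases hcase with h | h | h
    · exact Or.inr (Or.inl h)
    · exact Or.inl h
    · by_cases hp : p = 2
      · exact Or.inr (Or.inr ⟨hp, h⟩)
      · exact Or.inr (Or.inl hp)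
  · -- powers of central elements
    have hzm : z ^ p ∈ Subgroup.normalClosure ({z} : Set X) := Subgroup.pow_mem _ (Subgroup.subset_normalClosure (Set.mem_singleton z)) p
    rw [hzx] at hzm
    rcases hcx z hz hzm with h | ⟨B, hBS, hBc, hBN, hBq, -⟩
    · exact h
    obtain ⟨hNc, -, hQN⟩ := hprops z hz
    set N := Subgroup.normalClosure ({z} : Set X) with hN
    set C := Subgroup.centralizer (N : Set X) with hC
    obtain ⟨g, hgB, hgC⟩ := SetLike.not_le_iff_exists.1 hBN
    obtain ⟨w, hwB, hwC, hwp⟩ : ∃ w, w ∈ B ∧ w ∉ C ∧ w ^ p ∈ C := by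
      obtain ⟨k, hk⟩ := S.2 ⟨g, hBS hgB⟩
      have hex : ∃ m, g ^ p ^ m ∈ C := ⟨k, by
        have h := congrArg Subtype.val hk
        rw [Subgroup.coe_pow, Subgroup.coe_one] at h
        rw [h]; exact one_mem _⟩
      obtain ⟨m, hm⟩ : ∃ m, Nat.find hex = m + 1 := by
        refine Nat.exists_eq_succ_of_ne_zero fun h0 => hgC ?_
        have := Nat.find_spec hex
        rwa [h0, pow_zero, pow_one] at this
      refine ⟨g ^ p ^ m, pow_mem hgB _, Nat.find_min hex (by omega), ?_⟩
      rw [← pow_mul, ← pow_succ, ← hm]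
      exact Nat.find_spec hex
    refine frat _ inferInstance (Subgroup.centralizer_le (Set.singleton_subset_iff.2 hxM)) fun hle =>
      hwC (hQN (hle (Subgroup.mem_inf.2 ⟨hBS hwB, ?_⟩)))
    have hle' : M ≤ Subgroup.centralizer ({w} : Set X) := by
      rw [hM, Subgroup.normalClosure, Subgroup.closure_le]
      intro v hv
      obtain ⟨_, hx', hcj⟩ := Group.mem_conjugatesOfSet_iff.1 hv
      obtain ⟨t, rfl⟩ := isConj_iff.1 hcj
      rw [Set.mem_singleton_iff.1 hx', SetLike.mem_coe, Subgroup.mem_centralizer_singleton_iff, ← hzx, ← conj_pow]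
      have hy : t * z * t⁻¹ ∈ N :=
        (Subgroup.normalClosure_normal).conj_mem z (Subgroup.subset_normalClosure (Set.mem_singleton z)) t
      have hcN : ∀ a ∈ B, ⁅a, t * z * t⁻¹⁆ ∈ ⁅N, B⁆ := fun a ha =>
        commutatorElement_mem_commutator_symm hy ha
      have hNB : ⁅N, B⁆ ≤ Subgroup.centralizer (B : Set X) := Subgroup.commutator_eq_bot_iff_le_centralizer.1 hBq
      refine (commute_pow_of_quad (commutatorElement_eq_one_iff_mul_comm.2
        (Subgroup.mem_centralizer_iff.1 (hNB (hcN w hwB)) w hwB)) (hNc _ hy _ ?_)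
        (Subgroup.mem_centralizer_iff.1 hwp _ hy).symm).eq.symm
      rw [commutatorElement_def]
      exact mul_mem ((Subgroup.normalClosure_normal).conj_mem _ hy w) (inv_mem hy)
    exact Subgroup.mem_centralizer_iff.2 fun v hv => Subgroup.mem_centralizer_singleton_iff.1 (hle' hv)
  all_goals rcases hcx x hxS hxM with h | ⟨B₀, hB₀⟩ <;> [exact h; skip]
  · -- odd primes
    set Ω := {u : X | u ∈ (S : Subgroup X) ∧ ∀ y ∈ M, ⁅u, ⁅u, y⁆⁆ = 1} with hΩ
    have hΩS : Ω ⊆ ((S : Subgroup X) : Set X) := fun u hu => hu.1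
    have hweak : ∀ g : X, cj g (Subgroup.closure Ω) ≤ (S : Subgroup X) →
        g ∈ Subgroup.normalizer ((Subgroup.closure Ω : Subgroup X) : Set X) := by
      intro g hg
      refine mem_normalizer_of_cj_le ?_
      rw [cj, MonoidHom.map_closure, Subgroup.closure_le]
      rintro _ ⟨u, hu, rfl⟩
      refine Subgroup.subset_closure ⟨hg ⟨u, Subgroup.subset_closure hu, rfl⟩, fun y hy => ?_⟩
      have h1 := congrArg (MulAut.conj g) (hu.2 (g⁻¹ * y * g⁻¹⁻¹) (hMn.conj_mem y hy g⁻¹))
      rw [map_one, map_commutatorElement, map_commutatorElement,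
        show MulAut.conj g (g⁻¹ * y * g⁻¹⁻¹) = y by rw [MulAut.conj_apply]; group] at h1
      exact h1
    have hne : ¬ Subgroup.closure Ω ≤ Q := fun h => hB₀.2.2.1 fun u hu => hQM (h (Subgroup.subset_closure
      ⟨hB₀.1 hu, fun y hy => commutatorElement_eq_one_iff_mul_comm.2 (Subgroup.mem_centralizer_iff.1
        (Subgroup.commutator_eq_bot_iff_le_centralizer.1 hB₀.2.2.2.1
          (commutatorElement_mem_commutator_symm hy hu)) u hu)⟩))
    have hSN : (S : Subgroup X) ≤ Subgroup.normalizer ((Subgroup.closure Ω : Subgroup X) : Set X) := fun s hs =>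
      hweak s ((cj_le_cj ((Subgroup.closure_le _).2 hΩS)).trans (mem_normalizer_iff_cj.1 (Subgroup.le_normalizer hs)).le)
    have hNle := hprop _ (normalizer_ne_top_of_pCore (S.2.to_le ((Subgroup.closure_le _).2 hΩS)) hne) hSN
    have htr := mul_pow_mem_of_trace hp2 S hMc hMp hxM (Subgroup.mem_inf.1 hxS).2 hΩS
      (fun w hw => hw.2) (fun g hg => by
        rw [Subgroup.mem_centralizer_singleton_iff.1 (hNle (hweak g hg)), mul_inv_cancel_right])
    have hcyc := normalClosure_le_zpowers hMp hMc htr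
    set C := Subgroup.centralizer (M : Set X) with hC
    by_cases hne' : (S : Subgroup X) ⊓ C ≤ Q
    · exfalso
      refine hB₀.2.2.1 fun u hu => Subgroup.mem_centralizer_iff.2 fun m hm => ?_
      obtain ⟨i, rfl⟩ := hcyc hm
      exact (((show Commute u x from Subgroup.mem_centralizer_iff.1 (Subgroup.mem_inf.1 hxS).2 u (hB₀.1 hu)).zpow_right i).eq).symm
    · exact frat C inferInstance (Subgroup.centralizer_le (Set.singleton_subset_iff.2 hxM)) hne'
  · -- the prime two without `S₄`
    subst hp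
    set C := Subgroup.centralizer (M : Set X) with hC
    have hCCx : C ≤ Cx := Subgroup.centralizer_le (Set.singleton_subset_iff.2 hxM)
    set π := QuotientGroup.mk' C with hπ
    have hπs : Function.Surjective π := QuotientGroup.mk'_surjective C
    set D := (Cfsg.pCore 2 (X ⧸ C)).comap π with hD
    have hDle : D ≤ (S : Subgroup X) ⊔ C := by
      have h := Cores.pCore_le_sylow (p := 2) (S.mapSurjective hπs)
      rw [Sylow.coe_mapSurjective] at h
      refine (Subgroup.comap_mono h).trans ?_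
      rw [Subgroup.comap_map_eq, hπ, QuotientGroup.ker_mk']
    by_cases hSD : (S : Subgroup X) ⊓ D ≤ Q
    swap
    · exact frat D ((Cfsg.pCore_normal 2 _).comap π) (hDle.trans (sup_le hSCx hCCx)) hSD
    have hO : Cfsg.pCore 2 (X ⧸ C) = ⊥ := by
      rw [eq_bot_iff]
      intro q hq
      obtain ⟨d, rfl⟩ := hπs q
      obtain ⟨s, hs, k, hk, rfl⟩ := Subgroup.mem_sup_of_normal_right.1 (hDle (show d ∈ D from hq))
      have hkD : k ∈ D := by
        rw [hD, Subgroup.mem_comap]
        rw [show π k = 1 from (QuotientGroup.eq_one_iff k).2 hk]; exact one_mem _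
      have hsD : s ∈ D := (Subgroup.mul_mem_cancel_right D hkD).1 hq
      exact Subgroup.mem_bot.2 ((QuotientGroup.eq_one_iff (s * k)).2
        (mul_mem (hQM (hSD (Subgroup.mem_inf.2 ⟨hs, hsD⟩))) hk))
    let idx : Subgroup X → ℕ := fun B => (B ⊓ C).relIndex B
    have hex : ∃ k, ∃ B, IsOff (S : Subgroup X) M B ∧ idx B = k := ⟨_, B₀, hB₀, rfl⟩
    set k₀ := Nat.find hex with hk₀
    have hidx : ∀ B : Subgroup X, Nat.card (B ⊓ C : Subgroup X) * idx B = Nat.card B := fun B => by
      have := Subgroup.relIndex_mul_relIndex (⊥ : Subgroup X) (B ⊓ C) B bot_le inf_le_left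
      rwa [Subgroup.relIndex_bot_left, Subgroup.relIndex_bot_left] at this
    set 𝒜 := {B | IsOff (S : Subgroup X) M B ∧ idx B = k₀} with h𝒜
    have h4 : ∀ B, IsOff (S : Subgroup X) M B → idx B ≠ 2 := by
      intro B hB h2
      obtain ⟨hBS, hBc, hBC, hBq, hBf⟩ := hB
      obtain ⟨b, hb, hbC⟩ := SetLike.not_le_iff_exists.1 hBC
      refine hS4 (involves_four_of_transvection hMc hMp hO hbC ?_ ?_)
      · have h3 : ((B ⊓ C).subgroupOf B).index = 2 := h2
        exact (Subgroup.mem_inf.1 (Subgroup.mem_subgroupOf.1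
          (Subgroup.sq_mem_of_index_two h3 (⟨b, hb⟩ : B)))).2
      · set W := M ⊓ Subgroup.centralizer (B : Set X) with hW
        have h1 : W.relIndex M ≤ 2 := by
          have h3 := Subgroup.relIndex_mul_relIndex (⊥ : Subgroup X) W M bot_le inf_le_left
          rw [Subgroup.relIndex_bot_left, Subgroup.relIndex_bot_left] at h3
          have h4 := hidx B
          rw [h2] at h4
          unfold fOn at hBf
          rw [← hW, ← h4, ← h3] at hBf
          refine le_of_mul_le_mul_left ?_
            (Nat.mul_pos (Nat.card_pos (α := ↥(B ⊓ C : Subgroup X))) (Nat.card_pos (α := W)))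
          calc _ = Nat.card (B ⊓ C : Subgroup X) * (Nat.card W * W.relIndex M) := by ring
            _ ≤ _ := hBf
            _ = _ := by ring
        refine le_trans (Nat.le_of_dvd (Nat.pos_of_ne_zero ?_) (Subgroup.relIndex_dvd_of_le_left M ?_)) h1
        · exact Subgroup.index_ne_zero_of_finite
        · exact inf_le_right.trans (Subgroup.centralizer_le (Set.singleton_subset_iff.2 hb))
    have hA : ∀ B ∈ 𝒜, B ≤ (S : Subgroup X) ∧ (∀ a ∈ B, ∀ b ∈ B, a * b = b * a) ∧
        (∀ a ∈ B, ∀ b ∈ B, ∀ y ∈ M, ⁅a, ⁅b, y⁆⁆ = 1) ∧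
        ∀ C₀ ≤ B, C₀.relIndex B = 2 → ∀ n ∈ M, (∀ a ∈ C₀, a * n = n * a) → ∀ a ∈ B, a * n = n * a := by
      rintro B ⟨hB, hBk⟩
      obtain ⟨hBS, hBc, hBC, hBq, hBf⟩ := hB
      refine ⟨hBS, hBc, fun a ha b hb y hy => commutatorElement_eq_one_iff_mul_comm.2
        (Subgroup.mem_centralizer_iff.1 (Subgroup.commutator_eq_bot_iff_le_centralizer.1 hBq
          (commutatorElement_mem_commutator_symm hy hb)) a ha), fun C₀ hC₀ h2 n hn hfix => ?_⟩
      set B₁ := C₀ ⊔ (B ⊓ C) with hB₁
      have hB₁n : ∀ a ∈ B₁, a * n = n * a := by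
        have : B₁ ≤ Subgroup.centralizer ({n} : Set X) := sup_le
          (fun a ha => Subgroup.mem_centralizer_singleton_iff.2 (hfix a ha))
          (fun a ha => Subgroup.mem_centralizer_singleton_iff.2
            (Subgroup.mem_centralizer_iff.1 (Subgroup.mem_inf.1 ha).2 n hn).symm)
        exact fun a ha => Subgroup.mem_centralizer_singleton_iff.1 (this ha)
      have hB₁B : B₁ ≤ B := sup_le hC₀ inf_le_left
      by_cases hCC : B ⊓ C ≤ C₀
      swap
      · have htop : B₁ = B := by
          refine le_antisymm hB₁B (Subgroup.relIndex_eq_one.1 ?_)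
          have h3 := Subgroup.relIndex_mul_relIndex C₀ B₁ B le_sup_left hB₁B
          rw [h2] at h3
          rcases (Nat.dvd_prime Nat.prime_two).1 (Dvd.intro_left _ h3) with h | h
          · exact h
          · exfalso
            rw [h, mul_eq_right₀ two_ne_zero] at h3
            exact hCC (le_sup_right.trans (Subgroup.relIndex_eq_one.1 h3))
        exact fun a ha => hB₁n a (htop ▸ ha)
      have hC₀C : C₀ ⊓ C = B ⊓ C := le_antisymm (inf_le_inf_right _ hC₀) (le_inf hCC inf_le_right)
      have h5 := Subgroup.relIndex_mul_relIndex (B ⊓ C) C₀ B hCC hC₀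
      rw [h2] at h5
      have hidx0 : idx C₀ * 2 = idx B := by
        show (C₀ ⊓ C).relIndex C₀ * 2 = _
        rw [hC₀C]; exact h5
      have hC₀ne : ¬ C₀ ≤ C := fun h => h4 B ⟨hBS, hBc, hBC, hBq, hBf⟩ (by
        rw [← hidx0, show idx C₀ = 1 from Subgroup.relIndex_eq_one.2 (le_inf le_rfl h)])
      have hnot : ¬ IsOff (S : Subgroup X) M C₀ := fun h => by
        have h6 := Nat.find_min' hex ⟨C₀, h, rfl⟩
        have h7 : idx C₀ ≠ 0 := Subgroup.index_ne_zero_of_finite
        rw [← hk₀, ← hBk] at h6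
        omega
      have hlt : fOn M C₀ < Nat.card (B ⊓ C : Subgroup X) * Nat.card M := by
        by_contra hge
        push Not at hge
        refine hnot ⟨hC₀.trans hBS, fun a ha b hb => hBc a (hC₀ ha) b (hC₀ hb), hC₀ne, ?_, by rw [← hC, hC₀C]; exact hge⟩
        exact le_bot_iff.1 (hBq ▸ Subgroup.commutator_mono (Subgroup.commutator_mono le_rfl hC₀) hC₀)
      have hcard : Nat.card B = Nat.card C₀ * 2 := by
        have := Subgroup.relIndex_mul_relIndex (⊥ : Subgroup X) C₀ B bot_le hC₀
        rw [Subgroup.relIndex_bot_left, Subgroup.relIndex_bot_left, h2] at this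
        exact this.symm
      set WB := M ⊓ Subgroup.centralizer (B : Set X) with hWB
      set W₀ := M ⊓ Subgroup.centralizer (C₀ : Set X) with hW₀
      have hWle : WB ≤ W₀ := inf_le_inf_left _ (Subgroup.centralizer_le hC₀)
      have h8 : Nat.card W₀ < 2 * Nat.card WB := by
        have := hlt.trans_le hBf
        unfold fOn at this
        rw [← hW₀, ← hWB, hcard, mul_assoc] at this
        exact Nat.lt_of_mul_lt_mul_left this
      have hWeq : WB = W₀ := by
        refine Subgroup.eq_of_le_of_card_ge hWle ?_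
        obtain ⟨d, hd⟩ := Subgroup.card_dvd_of_le hWle
        rw [hd]
        rcases d with _ | _ | d
        · rw [mul_zero]; exact Nat.zero_le _
        · simp
        · rw [hd] at h8
          have : 0 < Nat.card WB := Nat.card_pos
          nlinarith
      have hnW : n ∈ WB := hWeq ▸ Subgroup.mem_inf.2 ⟨hn, Subgroup.mem_centralizer_iff.2 hfix⟩
      exact fun a ha => Subgroup.mem_centralizer_iff.1 (Subgroup.mem_inf.1 hnW).2 a ha
    have h𝒜S : sSup 𝒜 ≤ (S : Subgroup X) := sSup_le fun B hB => hB.1.1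
    have hweak : ∀ g : X, cj g (sSup 𝒜) ≤ (S : Subgroup X) →
        g ∈ Subgroup.normalizer ((sSup 𝒜 : Subgroup X) : Set X) := by
      intro g hg
      refine mem_normalizer_of_cj_le ?_
      rw [cj, Subgroup.map_le_iff_le_comap]
      refine sSup_le fun B hB => ?_
      rw [← Subgroup.map_le_iff_le_comap]
      refine le_sSup (α := Subgroup X) ?_
      obtain ⟨⟨hBS, hBc, hBC, hBq, hBf⟩, hBk⟩ := hB
      set φ := (MulAut.conj g).toMonoidHom with hφ
      have hφi : Function.Injective φ := (MulAut.conj g).injective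
      have hMφ : M.map φ = M := mem_normalizer_iff_cj.1 (by rw [Subgroup.normalizer_eq_top]; trivial)
      have hCφ : C.map φ = C := mem_normalizer_iff_cj.1 (by rw [Subgroup.normalizer_eq_top]; trivial)
      have hWφ : (M ⊓ Subgroup.centralizer (B : Set X)).map φ = M ⊓ Subgroup.centralizer ((B.map φ : Subgroup X) : Set X) := by
        rw [Subgroup.map_inf _ _ _ hφi, hMφ]
        congr 1
        exact cj_centralizer g B
      refine ⟨⟨(Subgroup.map_mono (le_sSup (show B ∈ 𝒜 from ⟨⟨hBS, hBc, hBC, hBq, hBf⟩, hBk⟩))).trans hg, ?_, ?_, ?_, ?_⟩, ?_⟩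
      · rintro _ ⟨a, ha, rfl⟩ _ ⟨b, hb, rfl⟩
        rw [← map_mul, ← map_mul, hBc a ha b hb]
      · exact fun h => hBC ((Subgroup.map_le_map_iff_of_injective hφi).1 (h.trans hCφ.ge))
      · rw [← hMφ, ← Subgroup.map_commutator, ← Subgroup.map_commutator, hBq, Subgroup.map_bot]
      · unfold fOn at hBf ⊢
        rw [← hWφ, ← hC, ← hCφ, ← Subgroup.map_inf _ _ _ hφi, Subgroup.card_map_of_injective hφi,
          Subgroup.card_map_of_injective hφi, Subgroup.card_map_of_injective hφi]
        exact hBf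
      · show (B.map φ ⊓ C).relIndex (B.map φ) = k₀
        rw [← hCφ, ← Subgroup.map_inf _ _ _ hφi, Subgroup.relIndex_map_map_of_injective _ _ hφi]
        exact hBk
    obtain ⟨B₁, hB₁⟩ := Nat.find_spec hex
    have hne : ¬ sSup 𝒜 ≤ Q := fun h => hB₁.1.2.2.1 ((le_sSup hB₁ : B₁ ≤ sSup 𝒜).trans (h.trans hQM))
    have hSN : (S : Subgroup X) ≤ Subgroup.normalizer ((sSup 𝒜 : Subgroup X) : Set X) := fun s hs =>
      hweak s ((cj_le_cj h𝒜S).trans (mem_normalizer_iff_cj.1 (Subgroup.le_normalizer hs)).le)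
    have hNle := hprop _ (normalizer_ne_top_of_pCore (S.2.to_le h𝒜S) hne) hSN
    have htr := mul_sq_mem_of_family S hMc hxM (Subgroup.mem_inf.1 hxS).2 hA (fun g hg => by
      rw [Subgroup.mem_centralizer_singleton_iff.1 (hNle (hweak g hg)), mul_inv_cancel_right])
    have hcyc := normalClosure_le_zpowers hMp hMc htr
    exfalso
    refine hB₀.2.2.1 fun u hu => Subgroup.mem_centralizer_iff.2 fun m hm => ?_
    obtain ⟨i, rfl⟩ := hcyc hm
    exact (((show Commute u x from Subgroup.mem_centralizer_iff.1 (Subgroup.mem_inf.1 hxS).2 u (hB₀.1 hu)).zpow_right i).eq).symm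

omit [Finite X] in
theorem center_le_thompsonA {Q : Type u} [Group Q] [Finite Q] :
    Subgroup.center Q ≤ Cfsg.thompsonSubgroupA Q := by
  obtain ⟨A, hA⟩ := LocalEven2.CD.exists_maxAbelian (G := Q)
  refine le_trans (fun z hz => ?_) (le_sSup hA)
  rw [← LocalEven2.CD.centralizer_maxAbelian hA]
  exact Subgroup.mem_centralizer_iff.2 fun a _ => Subgroup.mem_center_iff.1 hz a

/-- Glauberman's theorem on weakly closed elements -/
theorem weaklyClosed_of_thompson {G : Type u} [Group G] [Finite G] (S : Sylow p G) {x : G}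
    (hxS : x ∈ (S : Subgroup G))
    (hxN : Subgroup.normalizer ((Cfsg.thompsonSubgroupAOf (S : Subgroup G) : Subgroup G) : Set G) ≤
      Subgroup.centralizer ({x} : Set G))
    (hcase : p ≠ 2 ∨ (∃ z ∈ (S : Subgroup G) ⊓ Subgroup.centralizer ((S : Subgroup G) : Set G), z ^ p = x) ∨
      ¬ Cfsg.Involves (Equiv.Perm (Fin 4)) G)
    (g : G) (hg : g * x * g⁻¹ ∈ (S : Subgroup G)) : g * x * g⁻¹ = x := by
  have hW : Cfsg.IsCharPFunctor.{u} p (fun Q [Group Q] => Cfsg.thompsonSubgroupA Q) := isCharPFunctor_thompsonA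
  have hxc : x ∈ Subgroup.centralizer ((S : Subgroup G) : Set G) :=
    Subgroup.mem_centralizer_iff.2 fun s hs => Subgroup.mem_centralizer_singleton_iff.1
      (hxN (le_normalizer_inducedFunctor hW S.2 hs))
  have hxZ := Subgroup.mem_inf.2 ⟨hxS, hxc⟩
  have hres : ∀ (G : Type u) [Group G] (M A : Subgroup G), A ≤ M →
      Subgroup.centralizer ((A.subgroupOf M : Subgroup M) : Set M) =
        (Subgroup.centralizer (A : Set G)).subgroupOf M := by
    intro G _ M A hAM
    ext y
    rw [Subgroup.mem_subgroupOf, Subgroup.mem_centralizer_iff, Subgroup.mem_centralizer_iff]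
    exact ⟨fun h a ha => congrArg Subtype.val (h ⟨a, hAM ha⟩ ha), fun h a ha => Subtype.ext (h a ha)⟩
  have hcz : Subgroup.centralizer ((Subgroup.zpowers x : Subgroup G) : Set G) = Subgroup.centralizer ({x} : Set G) := by
    rw [Subgroup.zpowers_eq_closure, Subgroup.centralizer_closure]
  suffices g ∈ Subgroup.centralizer ((Subgroup.zpowers x : Subgroup G) : Set G) by
    rw [hcz, Subgroup.mem_centralizer_singleton_iff] at this
    rw [this, mul_inv_cancel_right]
  have hgS : cj g (Subgroup.zpowers x) ≤ (S : Subgroup G) := by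
    rw [cj, MonoidHom.map_zpowers, Subgroup.zpowers_le]; exact hg
  obtain ⟨z, hz, hzx⟩ | hcase' : (∃ z ∈ (S : Subgroup G) ⊓ Subgroup.centralizer ((S : Subgroup G) : Set G), z ^ p = x) ∨
      (p ≠ 2 ∨ ¬ Cfsg.Involves (Equiv.Perm (Fin 4)) G) := by
    rcases hcase with h | h | h
    exacts [Or.inr (Or.inl h), Or.inl h, Or.inr (Or.inr h)]
  · refine weakClosure_induction_functor hW (fun Q _ _ _ => center_le_thompsonA) (fun _ _ => True)
      (fun _ _ _ h => h) p (fun G _ A => Subgroup.centralizer (A : Set G))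
      (fun G _ A => Subgroup.centralizer_le_normalizer _) hres ?_ _ G rfl trivial S (Subgroup.zpowers x) ?_
      (hxN.trans hcz.ge) g hgS
    · intro G _ _ S A _ hA hQ hK hprop
      rw [eq_top_iff]
      intro y _
      rw [Subgroup.mem_centralizer_iff]
      intro a ha
      have hle : Subgroup.centralizer (A : Set G) ≤ Subgroup.centralizer ({a} : Set G) :=
        Subgroup.centralizer_le (Set.singleton_subset_iff.2 ha)
      have hpw : ∃ z ∈ (S : Subgroup G) ⊓ Subgroup.centralizer ((S : Subgroup G) : Set G), z ^ p = a := by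
        have h : zPow p (S : Subgroup G) ≤
            ({ carrier := {a | ∃ z ∈ (S : Subgroup G) ⊓ Subgroup.centralizer ((S : Subgroup G) : Set G), z ^ p = a}
               one_mem' := ⟨1, one_mem _, one_pow p⟩
               mul_mem' := by
                 rintro a b ⟨u, hu, rfl⟩ ⟨v, hv, rfl⟩
                 exact ⟨u * v, mul_mem hu hv, (show Commute u v from
                   Subgroup.mem_centralizer_iff.1 (Subgroup.mem_inf.1 hv).2 u (Subgroup.mem_inf.1 hu).1).mul_pow p⟩
               inv_mem' := by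
                 rintro a ⟨u, hu, rfl⟩
                 exact ⟨u⁻¹, inv_mem hu, inv_pow u p⟩ } : Subgroup G) :=
          (Subgroup.closure_le _).2 (by rintro _ ⟨u, hu, rfl⟩; exact ⟨u, hu, rfl⟩)
        exact h (hA ha)
      have h1 := central_of_overgroups_thompson S ((hA.trans (zPow_le _)) ha) (hQ ha) (hK.trans hle)
        (Or.inr (Or.inl hpw)) (fun M h1 h2 => (hprop M h1 h2).trans hle)
      exact (Subgroup.mem_centralizer_singleton_iff.1 (h1 ▸ Subgroup.mem_top y : y ∈ Subgroup.centralizer ({a} : Set G))).symm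
    · rw [Subgroup.zpowers_le]
      exact Subgroup.subset_closure ⟨z, hz, hzx⟩
  · refine weakClosure_induction_functor hW (fun Q _ _ _ => center_le_thompsonA)
      (fun G _ => p ≠ 2 ∨ ¬ Cfsg.Involves (Equiv.Perm (Fin 4)) G)
      (fun G _ M h => h.imp_right fun h1 h2 => h1 (Fusion.involves_trans_injective M.subtype M.subtype_injective h2))
      1 (fun G _ A => Subgroup.centralizer (A : Set G))
      (fun G _ A => Subgroup.centralizer_le_normalizer _) hres ?_ _ G rfl hcase' S (Subgroup.zpowers x) ?_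
      (hxN.trans hcz.ge) g hgS
    · intro G _ _ S A hP hA hQ hK hprop
      rw [eq_top_iff]
      intro y _
      rw [Subgroup.mem_centralizer_iff]
      intro a ha
      have hle : Subgroup.centralizer (A : Set G) ≤ Subgroup.centralizer ({a} : Set G) :=
        Subgroup.centralizer_le (Set.singleton_subset_iff.2 ha)
      have h1 := central_of_overgroups_thompson S ((hA.trans (zPow_le _)) ha) (hQ ha) (hK.trans hle)
        (hP.imp_right Or.inr) (fun M h1 h2 => (hprop M h1 h2).trans hle)
      exact (Subgroup.mem_centralizer_singleton_iff.1 (h1 ▸ Subgroup.mem_top y : y ∈ Subgroup.centralizer ({a} : Set G))).symm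
    · rw [Subgroup.zpowers_le]
      exact Subgroup.subset_closure ⟨x, hxZ, pow_one x⟩

end Cfsg.Agent.Lib.PLocal
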