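import Cfsg.Agent.Lib.FusionControl.OffenderTwo
import Cfsg.Agent.Lib.Frobenius.Structure

/-!
An abelian `2`-group acting faithfully on an abelian group of odd order, and with it on an elementary
abelian `2`-group, is no offender there unless some element inverts an element of order three.
-/

set_option autoImplicit false

namespace Cfsg.Agent.Lib.PLocal.OffenderAb

variable {Y : Type*} [Group Y] [Finite Y]

/-- an inverted element of prime order at least five moves more than a hyperplane -/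
theorem four_le_relIndex' {V : Subgroup Y} (hVc : ∀ x ∈ V, ∀ y ∈ V, x * y = y * x) (hV2 : ∀ x ∈ V, x * x = 1)
    {a w : Y} {r : ℕ} (hr : r.Prime) (hr5 : 5 ≤ r) (hwr : orderOf w = r) (hwV : w ∈ Subgroup.normalizer (V : Set Y))
    (hinv : a * w * a⁻¹ = w⁻¹) (hw : w ∉ Subgroup.centralizer (V : Set Y)) :
    4 ≤ (Subgroup.centralizer ({a} : Set Y)).relIndex V := by
  classical
  have : Fact (Nat.Prime 2) := ⟨Nat.prime_two⟩
  by_contra hlt
  rw [not_le] at hlt
  have hVp : IsPGroup 2 V := fun v => ⟨1, Subtype.ext (by simpa [pow_two] using hV2 v v.2)⟩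
  obtain ⟨n, hn⟩ := hVp.exists_card_eq
  have hi2 : (Subgroup.centralizer ({a} : Set Y)).relIndex V ≤ 2 := by
    obtain ⟨j, -, hj⟩ := (Nat.dvd_prime_pow Nat.prime_two).1
      (hn ▸ (Subgroup.centralizer ({a} : Set Y)).relIndex_dvd_card V)
    rw [hj] at hlt ⊢
    rcases j with _ | _ | j
    · norm_num
    · norm_num
    · rw [pow_add] at hlt; have := Nat.one_le_two_pow (n := j); omega
  set b := w * a * w⁻¹ with hb
  set Ca := Subgroup.centralizer ({a} : Set Y) with hCa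
  set Cb := Subgroup.centralizer ({b} : Set Y) with hCb
  have hbi : Cb.relIndex V = Ca.relIndex V := by
    have e1 : Ca.map (MulAut.conj w).toMonoidHom = Cb := by
      ext x
      rw [hCb, Subgroup.mem_centralizer_singleton_iff]
      constructor
      · rintro ⟨y, hy, rfl⟩
        rw [hCa, SetLike.mem_coe, Subgroup.mem_centralizer_singleton_iff] at hy
        show w * y * w⁻¹ * (w * a * w⁻¹) = w * a * w⁻¹ * (w * y * w⁻¹)
        calc w * y * w⁻¹ * (w * a * w⁻¹) = w * (y * a) * w⁻¹ := by group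
          _ = w * (a * y) * w⁻¹ := by rw [hy]
          _ = _ := by group
      · intro hx
        refine ⟨w⁻¹ * x * w, ?_, by show w * (w⁻¹ * x * w) * w⁻¹ = x; group⟩
        rw [hCa, SetLike.mem_coe, Subgroup.mem_centralizer_singleton_iff]
        calc w⁻¹ * x * w * a = w⁻¹ * (x * b) * w := by rw [hb]; group
          _ = w⁻¹ * (b * x) * w := by rw [hx]
          _ = _ := by rw [hb]; group
    have e2 : V.map (MulAut.conj w).toMonoidHom = V := by
      refine le_antisymm ?_ fun x hx => ⟨w⁻¹ * x * w, ?_, by show w * (w⁻¹ * x * w) * w⁻¹ = x; group⟩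
      · rintro _ ⟨x, hx, rfl⟩; exact (Subgroup.mem_normalizer_iff.1 hwV x).1 hx
      · exact (Subgroup.mem_normalizer_iff''.1 hwV x).1 hx
    rw [← e1]
    conv_lhs => rw [← e2]
    exact Subgroup.relIndex_map_map_of_injective _ _ (MulAut.conj w).injective
  set C0 := V ⊓ (Ca ⊓ Cb) with hC0
  have hC0i : C0.relIndex V ≤ 4 := by
    rw [hC0, Subgroup.inf_relIndex_left] at *
    refine Subgroup.relIndex_inf_le.trans ?_
    rw [hbi]
    calc Ca.relIndex V * Ca.relIndex V ≤ 2 * 2 := Nat.mul_le_mul hi2 hi2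
      _ = 4 := rfl
  have hwodd : ∃ m, (w ^ 2) ^ m = w := by
    refine exists_pow_eq_self_of_coprime ?_
    rw [hwr]
    exact (Nat.coprime_primes Nat.prime_two hr).2 (by omega)
  have hfix : ∀ x ∈ C0, w * x = x * w := by
    intro x hx
    obtain ⟨-, h2⟩ := Subgroup.mem_inf.1 hx
    obtain ⟨h3, h4⟩ := Subgroup.mem_inf.1 h2
    rw [hCa, Subgroup.mem_centralizer_singleton_iff] at h3
    rw [hCb, Subgroup.mem_centralizer_singleton_iff] at h4
    have h5 : Commute x (b * a⁻¹) := Commute.mul_right h4 (Commute.inv_right h3)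
    have e : b * a⁻¹ = w ^ 2 := by
      have h6 : a * w⁻¹ * a⁻¹ = w := by
        calc a * w⁻¹ * a⁻¹ = (a * w * a⁻¹)⁻¹ := by group
          _ = w := by rw [hinv, inv_inv]
      rw [pow_two]
      calc b * a⁻¹ = w * (a * w⁻¹ * a⁻¹) := by rw [hb]; group
        _ = w * w := by rw [h6]
    rw [e] at h5
    obtain ⟨m, hm⟩ := hwodd
    have h7 := h5.pow_right m
    rw [hm] at h7
    exact h7.symm.eq
  apply hw
  rw [Subgroup.mem_centralizer_iff]
  intro v hv
  by_contra hne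
  set f : Fin 5 → ↥V ⧸ C0.subgroupOf V := fun i =>
    QuotientGroup.mk ⟨w ^ (i : ℕ) * v * (w ^ (i : ℕ))⁻¹, (Subgroup.mem_normalizer_iff.1 (pow_mem hwV _) v).1 hv⟩
  obtain ⟨i, j, hij, hfij⟩ : ∃ i j : Fin 5, i < j ∧ f i = f j := by
    let := Fintype.ofFinite (↥V ⧸ C0.subgroupOf V)
    obtain ⟨i, j, hne', he⟩ := Fintype.exists_ne_map_eq_of_card_lt f (by
      rw [Fintype.card_fin, ← Nat.card_eq_fintype_card]
      exact Nat.lt_succ_of_le hC0i)
    rcases lt_or_gt_of_ne hne' with h | h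
    · exact ⟨i, j, h, he⟩
    · exact ⟨j, i, h, he.symm⟩
  obtain ⟨k, hk⟩ := Nat.exists_eq_add_of_lt (show (i : ℕ) < j from hij)
  set d := (w ^ (i : ℕ) * v * (w ^ (i : ℕ))⁻¹)⁻¹ * (w ^ (j : ℕ) * v * (w ^ (j : ℕ))⁻¹) with hd
  have hdC : d ∈ C0 := Subgroup.mem_subgroupOf.1 (QuotientGroup.eq.1 hfij)
  have hzC : ∀ m : ℕ, ∀ x ∈ C0, w ^ m * x * (w ^ m)⁻¹ = x := fun m x hx => by
    rw [((show Commute w x from hfix x hx).pow_left m).eq, mul_inv_cancel_right]
  have hk1 : w ^ (k + 1) * v * (w ^ (k + 1))⁻¹ * v⁻¹ ∈ C0 := by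
    have hconjd : (w ^ (i : ℕ))⁻¹ * d * w ^ (i : ℕ) = d := by
      have := hzC i d hdC
      calc (w ^ (i : ℕ))⁻¹ * d * w ^ (i : ℕ) = (w ^ (i : ℕ))⁻¹ * (w ^ (i : ℕ) * d * (w ^ (i : ℕ))⁻¹) * w ^ (i : ℕ) := by
            rw [this]
        _ = d := by group
    have e : (w ^ (i : ℕ))⁻¹ * d * w ^ (i : ℕ) = v⁻¹ * (w ^ (k + 1) * v * (w ^ (k + 1))⁻¹) := by
      rw [hd, show (j : ℕ) = i + (k + 1) by omega, pow_add]; group
    rw [hconjd] at e
    have hc := hVc _ ((Subgroup.mem_normalizer_iff.1 (pow_mem hwV (k + 1)) v).1 hv) _ (inv_mem hv)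
    rw [hc, ← e]
    exact hdC
  obtain ⟨m, hm⟩ : ∃ m, (w ^ (k + 1)) ^ m = w := by
    refine exists_pow_eq_self_of_coprime ?_
    rw [hwr, Nat.coprime_comm, hr.coprime_iff_not_dvd]
    intro h
    have := Nat.le_of_dvd (Nat.succ_pos k) h
    have := j.2
    omega
  have h1 := FusionControl.pow_mul_shift (fun x hx => by rw [hzC _ x hx]; exact hx) hk1 m
  rw [hm] at h1
  obtain ⟨c, hc, hce⟩ : ∃ c ∈ C0, w * v * w⁻¹ = c * v := ⟨_, h1, by group⟩
  have hpow : ∀ m : ℕ, w ^ m * v * (w ^ m)⁻¹ = c ^ m * v := by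
    intro m
    induction m with
    | zero => simp
    | succ m ih =>
      calc w ^ (m + 1) * v * (w ^ (m + 1))⁻¹ = w * (w ^ m * v * (w ^ m)⁻¹) * w⁻¹ := by rw [pow_succ']; group
        _ = w * c ^ m * v * w⁻¹ := by rw [ih]; group
        _ = c ^ m * (w * v * w⁻¹) := by rw [((show Commute w c from hfix c hc).pow_right m).eq]; group
        _ = _ := by rw [hce, pow_succ]; group
  have h2 := hpow r
  rw [← hwr, pow_orderOf_eq_one, one_mul, inv_one, mul_one, eq_comm, mul_eq_right, hwr] at h2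
  have h3 : orderOf c = 1 := Nat.eq_one_of_dvd_coprimes ((Nat.coprime_primes hr Nat.prime_two).2 (by omega))
    (orderOf_dvd_of_pow_eq_one h2) (orderOf_dvd_of_pow_eq_one (by rw [pow_two]; exact hV2 c (Subgroup.mem_inf.1 hc).1))
  rw [orderOf_eq_one_iff] at h3
  rw [h3, one_mul, mul_inv_eq_iff_eq_mul] at hce
  exact hne hce.symm

/-- an element of `2`-power order moving a lot moves a lot of times more -/
theorem pow_le_relIndex {W : Subgroup Y} (hWc : ∀ x ∈ W, ∀ y ∈ W, x * y = y * x)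
    (hW2 : ∀ x ∈ W, x * x = 1) {a : Y} (haW : a ∈ Subgroup.normalizer (W : Set Y)) {k : ℕ}
    (hk : ∀ v ∈ W, a ^ 2 ^ (k + 1) * v = v * a ^ 2 ^ (k + 1))
    (h4 : 4 ≤ (Subgroup.centralizer ({a ^ 2 ^ k} : Set Y)).relIndex W) :
    2 ^ (2 ^ k + 1) ≤ (Subgroup.centralizer ({a} : Set Y)).relIndex W := by
  classical
  have hn : ∀ g ∈ Subgroup.normalizer (W : Set Y), ∀ v ∈ W, g * v * g⁻¹ * v⁻¹ ∈ W := fun g hg v hv =>
    mul_mem ((Subgroup.mem_normalizer_iff.1 hg v).1 hv) (inv_mem hv)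
  let d : Subgroup.normalizer (W : Set Y) → (W →* W) := fun gs =>
    MonoidHom.mk' (fun v => ⟨(gs : Y) * v * (gs : Y)⁻¹ * (v : Y)⁻¹, hn _ gs.2 v v.2⟩) fun v v' => Subtype.ext (by
      obtain ⟨g, hg⟩ := gs
      show g * ((v : Y) * v') * g⁻¹ * ((v : Y) * v')⁻¹ =
        g * v * g⁻¹ * (v : Y)⁻¹ * (g * v' * g⁻¹ * (v' : Y)⁻¹)
      have h1 : (g * (v' : Y) * g⁻¹ * (v' : Y)⁻¹) * (v : Y)⁻¹ = (v : Y)⁻¹ * (g * v' * g⁻¹ * (v' : Y)⁻¹) :=
        hWc _ (hn g hg v' v'.2) _ (inv_mem v.2)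
      calc g * ((v : Y) * v') * g⁻¹ * ((v : Y) * v')⁻¹
          = g * v * g⁻¹ * ((g * (v' : Y) * g⁻¹ * (v' : Y)⁻¹) * (v : Y)⁻¹) := by group
        _ = _ := by rw [h1]; group)
  have hd : ∀ (g : Subgroup.normalizer (W : Set Y)) (v : W),
      ((d g v : W) : Y) = (g : Y) * v * (g : Y)⁻¹ * (v : Y)⁻¹ := fun g v => rfl
  have hidx : ∀ (g : Y) (hg : g ∈ Subgroup.normalizer (W : Set Y)),
      (Subgroup.centralizer ({g} : Set Y)).relIndex W = Nat.card (d ⟨g, hg⟩).range := by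
    intro g hg
    rw [← Subgroup.index_ker, Subgroup.relIndex]
    congr 1
    ext v
    rw [MonoidHom.mem_ker, Subgroup.mem_subgroupOf, Subgroup.mem_centralizer_singleton_iff]
    constructor
    · intro h
      refine Subtype.ext ?_
      rw [hd, ← h]; group; rfl
    · intro h
      have h1 := congrArg Subtype.val h
      rw [hd, OneMemClass.coe_one, mul_inv_eq_one, mul_inv_eq_iff_eq_mul] at h1
      exact h1.symm
  let f := d ⟨a, haW⟩
  let I : ℕ → Subgroup ↥W := Nat.rec ⊤ fun _ J => J.map f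
  have hI : ∀ n, I (n + 1) = (I n).map f := fun n => rfl
  have hsq : ∀ j, ∀ v : W, (f^[2 ^ j]) v = d ⟨a ^ 2 ^ j, pow_mem haW _⟩ v := by
    intro j
    induction j with
    | zero =>
      intro v
      simp only [pow_zero, Function.iterate_one]
      refine Subtype.ext ?_
      rw [hd, hd]
      show a * (v : Y) * a⁻¹ * (v : Y)⁻¹ = a ^ (1 : ℕ) * (v : Y) * (a ^ (1 : ℕ))⁻¹ * (v : Y)⁻¹
      rw [pow_one]
    | succ j ih =>
      intro v
      rw [pow_succ, mul_two, Function.iterate_add_apply, ih, ih]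
      refine Subtype.ext ?_
      rw [hd, hd, hd]
      set g := a ^ 2 ^ j with hg
      have hgN : g ∈ Subgroup.normalizer (W : Set Y) := pow_mem haW _
      have e : a ^ (2 ^ j + 2 ^ j) = g * g := by rw [hg, ← pow_add]
      show g * (g * (v : Y) * g⁻¹ * (v : Y)⁻¹) * g⁻¹ * (g * (v : Y) * g⁻¹ * (v : Y)⁻¹)⁻¹ =
        a ^ (2 ^ j + 2 ^ j) * (v : Y) * (a ^ (2 ^ j + 2 ^ j))⁻¹ * (v : Y)⁻¹
      rw [e]
      have hc1 : g * (v : Y) * g⁻¹ ∈ W := (Subgroup.mem_normalizer_iff.1 hgN v).1 v.2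
      have hinv : ∀ x ∈ W, x⁻¹ = x := fun x hx => inv_eq_of_mul_eq_one_right (hW2 x hx)
      calc g * (g * (v : Y) * g⁻¹ * (v : Y)⁻¹) * g⁻¹ * (g * (v : Y) * g⁻¹ * (v : Y)⁻¹)⁻¹
          = g * g * v * (g * g)⁻¹ * ((g * (v : Y) * g⁻¹)⁻¹ * (v * (g * (v : Y) * g⁻¹)⁻¹)) := by group
        _ = g * g * v * (g * g)⁻¹ * (((g * (v : Y) * g⁻¹)⁻¹ * (g * (v : Y) * g⁻¹)⁻¹) * v) := by
            rw [hWc v v.2 _ (inv_mem hc1)]; group
        _ = _ := by rw [hinv _ hc1, hW2 _ hc1, one_mul, hinv _ v.2]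
  have hmemI : ∀ n (x : W), x ∈ I n ↔ ∃ v, (f^[n]) v = x := by
    intro n
    induction n with
    | zero => exact fun x => ⟨fun _ => ⟨x, rfl⟩, fun _ => Subgroup.mem_top x⟩
    | succ n ih =>
      intro x
      rw [hI, Subgroup.mem_map]
      constructor
      · rintro ⟨y, hy, rfl⟩
        obtain ⟨v, rfl⟩ := (ih y).1 hy
        exact ⟨v, Function.iterate_succ_apply' f n v⟩
      · rintro ⟨v, rfl⟩
        exact ⟨_, (ih _).2 ⟨v, rfl⟩, (Function.iterate_succ_apply' f n v).symm⟩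
  have hI1 : Nat.card ↥(I 1) = (Subgroup.centralizer ({a} : Set Y)).relIndex W := by
    rw [hidx a haW, MonoidHom.range_eq_map]; rfl
  have hIm : 4 ≤ Nat.card ↥(I (2 ^ k)) := by
    rw [hidx _ (pow_mem haW _)] at h4
    refine h4.trans (le_of_eq ?_)
    refine Nat.card_congr (Equiv.subtypeEquivRight fun x => ?_)
    rw [hmemI]
    simp only [MonoidHom.mem_range, hsq]
  have hend : I (2 ^ (k + 1)) = ⊥ := by
    rw [eq_bot_iff]
    intro x hx
    obtain ⟨v, rfl⟩ := (hmemI _ x).1 hx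
    rw [hsq, Subgroup.mem_bot]
    refine Subtype.ext ?_
    rw [hd, hk v v.2]; group; rfl
  have hanti : ∀ n, I (n + 1) ≤ I n := by
    intro n
    induction n with
    | zero => exact le_top
    | succ n ih => exact Subgroup.map_mono ih
  have hstrict : ∀ n, I n ≠ ⊥ → 2 * Nat.card ↥(I (n + 1)) ≤ Nat.card ↥(I n) := by
    intro n hn
    have hne : I (n + 1) ≠ I n := by
      intro he
      have hall : ∀ t, I (n + t) = I n := by
        intro t
        induction t with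
        | zero => rfl
        | succ t ih => rw [← Nat.add_assoc, hI, ih, ← hI, he]
      obtain ⟨N, hN⟩ : ∃ N, n + N = n + 2 ^ (k + 1) := ⟨_, rfl⟩
      have h1 : I (n + 2 ^ (k + 1)) ≤ I (2 ^ (k + 1)) := antitone_nat_of_succ_le hanti (Nat.le_add_left _ _)
      rw [hall, hend, le_bot_iff] at h1
      exact hn h1
    obtain ⟨c, hc⟩ := Subgroup.card_dvd_of_le (hanti n)
    rw [hc, mul_comm]
    refine Nat.mul_le_mul le_rfl ?_
    by_contra hlt
    have h0 : 0 < Nat.card ↥(I n) := Nat.pos_of_dvd_of_pos (Subgroup.card_subgroup_dvd_card (I n)) Nat.card_pos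
    interval_cases c
    · simp at hc
      omega
    · refine hne (SetLike.coe_injective (Set.eq_of_subset_of_ncard_le (hanti n) ?_ (Set.toFinite _)))
      rw [← Nat.card_coe_set_eq, ← Nat.card_coe_set_eq]
      exact le_of_eq (hc.trans (mul_one _))
  have hgrow : ∀ i, i < 2 ^ k → 4 * 2 ^ i ≤ Nat.card ↥(I (2 ^ k - i)) := by
    intro i
    induction i with
    | zero => intro _; simpa using hIm
    | succ i ih =>
      intro hi
      have h1 := ih (by omega)
      have e : 2 ^ k - i = 2 ^ k - (i + 1) + 1 := by omega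
      rw [e] at h1
      have hne : I (2 ^ k - (i + 1)) ≠ ⊥ := by
        intro hb
        have h2 := Subgroup.card_dvd_of_le (hanti (2 ^ k - (i + 1)))
        rw [hb, Subgroup.card_bot, Nat.dvd_one] at h2
        have := Nat.one_le_two_pow (n := i)
        omega
      have h2 := hstrict _ hne
      rw [pow_succ]
      omega
  have hpos := Nat.one_le_two_pow (n := k)
  have h := hgrow (2 ^ k - 1) (by omega)
  rw [show 2 ^ k - (2 ^ k - 1) = 1 by omega, hI1] at h
  refine le_trans (le_of_eq ?_) h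
  rw [show (4 : ℕ) = 2 ^ 2 from rfl, ← pow_add]
  congr 1
  omega

/-- no abelian offenders -/
theorem two_mul_card_le_relIndex {V R : Subgroup Y} (hVc : ∀ x ∈ V, ∀ y ∈ V, x * y = y * x)
    (hV2 : ∀ x ∈ V, x * x = 1) (hRc : ∀ x ∈ R, ∀ y ∈ R, x * y = y * x)
    (hRodd : Odd (Nat.card R)) (hRV : R ≤ Subgroup.normalizer (V : Set Y))
    (hRf : R ⊓ Subgroup.centralizer (V : Set Y) = ⊥) : ∀ (n : ℕ) (A : Subgroup Y), Nat.card A = n →
      (∀ x ∈ A, ∀ y ∈ A, x * y = y * x) → IsPGroup 2 A → A ≤ Subgroup.normalizer (V : Set Y) →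
      A ≤ Subgroup.normalizer (R : Set Y) → A ⊓ Subgroup.centralizer (R : Set Y) = ⊥ →
      (∀ a ∈ A, ∀ u ∈ R, orderOf u = 3 → a * u * a⁻¹ ≠ u⁻¹) →
      n ≤ (Subgroup.centralizer (A : Set Y)).relIndex V ∧
        (A ≠ ⊥ → 2 * n ≤ (Subgroup.centralizer (A : Set Y)).relIndex V) := by
  classical
  have : Fact (Nat.Prime 2) := ⟨Nat.prime_two⟩
  intro n
  induction n using Nat.strong_induction_on with
  | _ n ih =>
  intro A hn hAc hA2 hAV hAR hAf hS3
  have hpos : ∀ H : Subgroup Y, 1 ≤ H.relIndex V := fun H =>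
    Nat.pos_of_ne_zero Subgroup.FiniteIndex.index_ne_zero
  suffices main : A ≠ ⊥ → 2 * n ≤ (Subgroup.centralizer (A : Set Y)).relIndex V by
    refine ⟨?_, main⟩
    by_cases hA1 : A = ⊥
    · rw [← hn, hA1, Subgroup.card_bot]; exact hpos _
    · have := main hA1; omega
  intro hA1
  obtain ⟨B, ⟨hBA, hBR⟩, hmax⟩ := (Set.toFinite {B : Subgroup Y | B ≤ A ∧
      ¬ (R ⊓ Subgroup.centralizer (B : Set Y)) ≤ Subgroup.centralizer (A : Set Y)}).exists_maximal
    ⟨⊥, bot_le, fun h => hA1 (by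
      rw [eq_bot_iff, ← hAf]
      refine le_inf le_rfl (Subgroup.le_centralizer_iff.mp ?_)
      exact fun q hq => h (Subgroup.mem_inf.mpr ⟨hq, Subgroup.mem_centralizer_iff.mpr fun x hx => by
        rw [SetLike.mem_coe, Subgroup.mem_bot] at hx
        simp [hx]⟩))⟩
  set Q₁ := R ⊓ Subgroup.centralizer (B : Set Y) with hQ₁
  set Q₀ := Q₁ ⊓ Subgroup.centralizer (A : Set Y) with hQ₀
  have hQ₁R : Q₁ ≤ R := inf_le_left
  have hBfix : ∀ b ∈ B, ∀ q ∈ Q₁, b * q = q * b := fun b hb q hq =>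
    Subgroup.mem_centralizer_iff.1 (Subgroup.mem_inf.1 hq).2 b hb
  have hAQ₁ : ∀ x ∈ A, ∀ q ∈ Q₁, x * q * x⁻¹ ∈ Q₁ := by
    intro x hx q hq
    obtain ⟨hqR, hqB⟩ := Subgroup.mem_inf.1 hq
    refine Subgroup.mem_inf.2 ⟨(Subgroup.mem_normalizer_iff.1 (hAR hx) q).1 hqR,
      Subgroup.mem_centralizer_iff.2 fun z hz => ?_⟩
    have hxz : Commute z x := hAc z (hBA hz) x hx
    exact ((hxz.mul_right (Subgroup.mem_centralizer_iff.1 hqB z hz)).mul_right hxz.inv_right).eq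
  -- outside `B` an element fixes only what `A` fixes
  have hfix : ∀ a ∈ A, a ∉ B → ∀ q ∈ Q₁, a * q = q * a → q ∈ Q₀ := by
    intro a ha haB q hq hqa
    refine Subgroup.mem_inf.2 ⟨hq, ?_⟩
    by_contra hnot
    have hlt : B < B ⊔ Subgroup.zpowers a := lt_of_le_of_ne le_sup_left fun h =>
      haB (h ▸ Subgroup.mem_sup_right (Subgroup.mem_zpowers a))
    refine hlt.not_ge (hmax ⟨sup_le hBA (Subgroup.zpowers_le.mpr ha), fun h => hnot (h ?_)⟩ hlt.le)
    refine Subgroup.mem_inf.2 ⟨hQ₁R hq, ?_⟩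
    refine Subgroup.le_centralizer_iff.mp (sup_le ?_ (Subgroup.zpowers_le.mpr ?_)) (Subgroup.mem_zpowers q)
    · exact Subgroup.le_centralizer_iff.mp (Subgroup.zpowers_le.mpr (Subgroup.mem_inf.1 hq).2)
    · refine Subgroup.mem_centralizer_iff.mpr ?_
      rintro _ ⟨i, rfl⟩
      exact ((show Commute a q from hqa).zpow_right i).eq.symm
  have hQ₀A : ∀ a ∈ A, ∀ q ∈ Q₀, a * q * a⁻¹ = q := fun a ha q hq => by
    rw [Subgroup.mem_centralizer_iff.1 (Subgroup.mem_inf.1 hq).2 a ha, mul_inv_cancel_right]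
  -- an involution modulo `B` inverts modulo `Q₀`
  have hinvQ : ∀ a ∈ A, a ∉ B → a * a ∈ B → ∀ q ∈ Q₁, a * q * a⁻¹ * q ∈ Q₀ := by
    intro a ha haB hasq q hq
    refine hfix a ha haB _ (mul_mem (hAQ₁ a ha q hq) hq) ?_
    have h1 := hBfix _ hasq q hq
    have h2 : a * (a * q * a⁻¹) = q * a := by
      calc a * (a * q * a⁻¹) = (a * a) * q * a⁻¹ := by group
        _ = q * (a * a) * a⁻¹ := by rw [h1]
        _ = _ := by group
    have h3 := hRc _ (hQ₁R hq) _ (hQ₁R (hAQ₁ a ha q hq))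
    calc a * (a * q * a⁻¹ * q) = a * (a * q * a⁻¹) * q := by group
      _ = q * a * q := by rw [h2]
      _ = (q * (a * q * a⁻¹)) * a := by group
      _ = _ := by rw [h3]
  have huniq : ∀ a ∈ A, a ∉ B → a * a ∈ B → ∀ b ∈ A, b ∉ B → b * b ∈ B → a * b ∈ B := by
    intro a ha haB ha2 b hb hbB hb2
    by_contra hab
    have hab2 : a * b * (a * b) ∈ B := by
      rw [show a * b * (a * b) = a * (b * a) * b by group, hAc b hb a ha,
        show a * (a * b) * b = (a * a) * (b * b) by group]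
      exact mul_mem ha2 hb2
    apply hBR
    intro q hq
    obtain ⟨m, hm⟩ : ∃ m, (q ^ 2) ^ m = q := exists_pow_eq_self_of_coprime
      (Nat.coprime_two_left.2 (hRodd.of_dvd_nat (R.orderOf_dvd_natCard (hQ₁R hq))))
    suffices h2 : q ^ 2 ∈ Q₀ by
      rw [← hm]
      exact (Subgroup.mem_inf.1 (pow_mem h2 m)).2
    obtain ⟨q1, hq1, e1⟩ : ∃ q1 ∈ Q₀, a * q * a⁻¹ = q1 * q⁻¹ :=
      ⟨_, hinvQ a ha haB ha2 q hq, by group⟩
    obtain ⟨q2, hq2, e2⟩ : ∃ q2 ∈ Q₀, b * q * b⁻¹ = q2 * q⁻¹ :=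
      ⟨_, hinvQ b hb hbB hb2 q hq, by group⟩
    have h3 := hinvQ (a * b) (mul_mem ha hb) hab hab2 q hq
    have e3 : a * b * q * (a * b)⁻¹ * q = q2 * (q * q1⁻¹) * q := by
      calc a * b * q * (a * b)⁻¹ * q = a * (b * q * b⁻¹) * a⁻¹ * q := by group
        _ = (a * q2 * a⁻¹) * (a * q * a⁻¹)⁻¹ * q := by rw [e2]; group
        _ = _ := by rw [hQ₀A a ha q2 hq2, e1]; group
    rw [e3, show q * q1⁻¹ = q1⁻¹ * q from hRc _ (hQ₁R hq) _ (inv_mem (hQ₁R (Subgroup.mem_inf.1 hq1).1))] at h3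
    have h4 := mul_mem (mul_mem hq1 (inv_mem hq2)) h3
    rwa [show q1 * q2⁻¹ * (q2 * (q1⁻¹ * q) * q) = q ^ 2 by rw [pow_two]; group] at h4
  have hBne : B ≠ A := fun h => hBR (h ▸ inf_le_right)
  -- the quotient is cyclic
  have hBn : (B.subgroupOf A).Normal := ⟨fun x hx g => by
    have : g * x * g⁻¹ = x := Subtype.ext (by
      show (g : Y) * x * (g : Y)⁻¹ = x
      rw [hAc g g.2 x x.2, mul_inv_cancel_right])
    rwa [this]⟩
  let π := QuotientGroup.mk' (B.subgroupOf A)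
  have hπB : ∀ x : A, π x = 1 ↔ (x : Y) ∈ B := fun x => QuotientGroup.eq_one_iff x
  have hQ2 : IsPGroup 2 (↥A ⧸ B.subgroupOf A) := hA2.to_quotient _
  have hcyc : IsCyclic (↥A ⧸ B.subgroupOf A) := by
    refine Frobenius.isCyclic_of_commute_of_prime_roots (fun x y => ?_) fun r hr => ?_
    · obtain ⟨x, rfl⟩ := QuotientGroup.mk'_surjective _ x
      obtain ⟨y, rfl⟩ := QuotientGroup.mk'_surjective _ y
      rw [← map_mul, ← map_mul]
      exact congrArg _ (Subtype.ext (hAc x x.2 y y.2))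
    · by_cases hr2 : r = 2
      · subst hr2
        by_contra hlt
        rw [not_le] at hlt
        have hnt : ∃ x : {x : ↥A ⧸ B.subgroupOf A // x ^ 2 = 1}, x.1 ≠ 1 := by
          by_contra hcon
          push Not at hcon
          have : Subsingleton {x : ↥A ⧸ B.subgroupOf A // x ^ 2 = 1} :=
            ⟨fun x y => Subtype.ext ((hcon x).trans (hcon y).symm)⟩
          have := Nat.card_of_subsingleton (⟨1, one_pow 2⟩ : {x : ↥A ⧸ B.subgroupOf A // x ^ 2 = 1})
          omega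
        obtain ⟨x, hx⟩ := hnt
        have hle : Nat.card {x : ↥A ⧸ B.subgroupOf A // x ^ 2 = 1} ≤ Nat.card ({1, x.1} : Set (↥A ⧸ B.subgroupOf A)) := by
          refine Nat.card_le_card_of_injective (fun y => ⟨y.1, ?_⟩)
            fun y z h => Subtype.ext (congrArg (fun t : ({1, x.1} : Set (↥A ⧸ B.subgroupOf A)) => t.1) h)
          by_contra hy
          simp only [Set.mem_insert_iff, Set.mem_singleton_iff, not_or] at hy
          obtain ⟨a, ha⟩ := QuotientGroup.mk'_surjective _ x.1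
          obtain ⟨b, hb⟩ := QuotientGroup.mk'_surjective _ y.1
          have haB : (a : Y) ∉ B := fun h => hx (ha.symm.trans ((hπB a).2 h))
          have hbB : (b : Y) ∉ B := fun h => hy.1 (hb.symm.trans ((hπB b).2 h))
          have ha2 : (a : Y) * a ∈ B := (hπB (a * a)).1 (by rw [map_mul, ha, ← pow_two]; exact x.2)
          have hb2 : (b : Y) * b ∈ B := (hπB (b * b)).1 (by rw [map_mul, hb, ← pow_two]; exact y.2)
          have := (hπB (a * b)).2 (huniq a a.2 haB ha2 b b.2 hbB hb2)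
          rw [map_mul, ha, hb, mul_eq_one_iff_inv_eq] at this
          apply hy.2
          rw [← this]
          exact inv_eq_of_mul_eq_one_right (by rw [← pow_two]; exact x.2)
        have h2 : Nat.card ({1, x.1} : Set (↥A ⧸ B.subgroupOf A)) ≤ 2 := by
          rw [Nat.card_coe_set_eq]
          exact (Set.ncard_insert_le _ _).trans (by rw [Set.ncard_singleton])
        omega
      · refine le_trans ?_ hr.one_le
        have : Subsingleton {x : ↥A ⧸ B.subgroupOf A // x ^ r = 1} := by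
          refine ⟨fun x y => Subtype.ext ?_⟩
          have key : ∀ z : ↥A ⧸ B.subgroupOf A, z ^ r = 1 → z = 1 := fun z hz => by
            obtain ⟨i, hi⟩ := hQ2 z
            rw [← orderOf_eq_one_iff]
            exact Nat.eq_one_of_dvd_coprimes
              (Nat.Coprime.pow_left i ((Nat.coprime_primes Nat.prime_two hr).2 (Ne.symm hr2)))
              (orderOf_dvd_of_pow_eq_one hi) (orderOf_dvd_of_pow_eq_one hz)
          rw [key _ x.2, key _ y.2]
        exact (Nat.card_of_subsingleton (⟨1, one_pow r⟩ : {x : ↥A ⧸ B.subgroupOf A // x ^ r = 1})).le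
  obtain ⟨g, hg⟩ := hcyc.exists_generator
  obtain ⟨a, rfl⟩ := QuotientGroup.mk'_surjective _ g
  have haA : (a : Y) ∈ A := a.2
  have hgen : B ⊔ Subgroup.zpowers (a : Y) = A := by
    refine le_antisymm (sup_le hBA (Subgroup.zpowers_le.mpr haA)) fun x hx => ?_
    obtain ⟨i, hi⟩ := hg (π ⟨x, hx⟩)
    have h1 : π ((a ^ i)⁻¹ * ⟨x, hx⟩) = 1 := by
      rw [map_mul, map_inv, map_zpow]
      exact inv_mul_eq_one.2 hi
    have := mul_mem (Subgroup.mem_sup_right (Subgroup.zpow_mem_zpowers (a : Y) i) : (a : Y) ^ i ∈ B ⊔ Subgroup.zpowers (a : Y))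
      (Subgroup.mem_sup_left ((hπB _).1 h1))
    simpa using this
  obtain ⟨k', hk'⟩ := hQ2 (π a)
  obtain ⟨j, -, hj⟩ := (Nat.dvd_prime_pow Nat.prime_two).1 (orderOf_dvd_of_pow_eq_one hk')
  have hcardA : Nat.card A = Nat.card B * 2 ^ j := by
    rw [Subgroup.card_eq_card_quotient_mul_card_subgroup (B.subgroupOf A), ← hj,
      ← Nat.card_zpowers, show Subgroup.zpowers (π a) = ⊤ from eq_top_iff.2 fun x _ => hg x,
      Subgroup.card_top, Nat.card_congr (Subgroup.subgroupOfEquivOfLe hBA).toEquiv, mul_comm]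
  obtain ⟨k, rfl⟩ : ∃ k, j = k + 1 := by
    rcases j with _ | k
    · exfalso
      refine hBne (Subgroup.eq_of_le_of_card_ge hBA ?_)
      rw [hcardA, pow_zero, mul_one]
    · exact ⟨k, rfl⟩
  have haB : (a : Y) ^ 2 ^ k ∉ B := fun h => by
    have h1 : π (a ^ 2 ^ k) = 1 := (hπB _).2 (by simpa using h)
    rw [map_pow, ← orderOf_dvd_iff_pow_eq_one, hj] at h1
    have := Nat.le_of_dvd (pow_pos (by norm_num) k) h1
    rw [pow_succ] at this
    have := Nat.one_le_two_pow (n := k)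
    omega
  have ha2B : (a : Y) ^ 2 ^ (k + 1) ∈ B := by
    have h1 : π (a ^ 2 ^ (k + 1)) = 1 := by rw [map_pow, ← hj, pow_orderOf_eq_one]
    simpa using (hπB _).1 h1
  set t := (a : Y) ^ 2 ^ k with ht
  have htA : t ∈ A := pow_mem haA _
  have ht2 : t * t ∈ B := by rw [ht, ← pow_two, ← pow_mul, ← pow_succ]; exact ha2B
  -- the inverted element
  obtain ⟨q, hq, hqa⟩ : ∃ q ∈ Q₁, t * q ≠ q * t := by
    by_contra h
    push Not at h
    exact hBR fun q hq => (Subgroup.mem_inf.1 (hfix t htA haB q hq (h q hq))).2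
  set u := q⁻¹ * (t * q * t⁻¹) with hu
  have huQ : u ∈ Q₁ := mul_mem (inv_mem hq) (hAQ₁ t htA q hq)
  have htq : t * (t * q * t⁻¹) * t⁻¹ = q := by
    calc t * (t * q * t⁻¹) * t⁻¹ = (t * t) * q * (t * t)⁻¹ := by group
      _ = q := by rw [hBfix _ ht2 q hq, mul_inv_cancel_right]
  have huinv : t * u * t⁻¹ = u⁻¹ := by
    rw [hu, mul_inv_rev, inv_inv]
    calc t * (q⁻¹ * (t * q * t⁻¹)) * t⁻¹ = (t * q * t⁻¹)⁻¹ * (t * (t * q * t⁻¹) * t⁻¹) := by group
      _ = _ := by rw [htq]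
  have hu1 : u ≠ 1 := fun h => hqa (by
    rw [hu, inv_mul_eq_one, eq_mul_inv_iff_mul_eq] at h; exact h.symm)
  obtain ⟨r, hrp, hrd⟩ := Nat.exists_prime_and_dvd (fun h => hu1 (orderOf_eq_one_iff.1 h))
  set w := u ^ (orderOf u / r) with hw
  have hwQ : w ∈ Q₁ := pow_mem huQ _
  have hwr : orderOf w = r := by
    rw [hw, orderOf_pow_of_dvd (Nat.div_ne_zero_iff.2 ⟨hrp.ne_zero, Nat.le_of_dvd (orderOf_pos u) hrd⟩)
      (Nat.div_dvd_of_dvd hrd), Nat.div_div_self hrd (orderOf_pos u).ne']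
  have hwinv : t * w * t⁻¹ = w⁻¹ := by rw [hw, ← conj_pow, huinv, inv_pow]
  have hwR : w ∈ R := hQ₁R hwQ
  have hr5 : 5 ≤ r := by
    have h2 : r ≠ 2 := by
      rintro rfl
      have := hRodd.of_dvd_nat (R.orderOf_dvd_natCard hwR)
      rw [hwr] at this
      exact absurd this (by decide)
    have h3 : r ≠ 3 := by rintro rfl; exact hS3 t htA w hwR hwr hwinv
    have h4 : r ≠ 4 := by rintro rfl; exact absurd hrp (by decide)
    have := hrp.two_le
    omega
  set VB := V ⊓ Subgroup.centralizer (B : Set Y) with hVB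
  have hnorm : ∀ g ∈ Subgroup.normalizer (V : Set Y), (∀ z ∈ B, g * z = z * g) →
      g ∈ Subgroup.normalizer (VB : Set Y) := fun g hg hgB =>
    Subgroup.inf_normalizer_le_normalizer_inf (Subgroup.mem_inf.2 ⟨hg, Subgroup.le_normalizer
      (Subgroup.mem_centralizer_iff.2 fun z hz => (hgB z hz).symm)⟩)
  have hwB : ∀ z ∈ B, w * z = z * w := fun z hz => (hBfix z hz w hwQ).symm
  have hwnc : w ∉ Subgroup.centralizer (VB : Set Y) := by
    intro h
    have hle := Coprime.le_centralizer_of_PxQ (p := 2) (P := B) (Q := Subgroup.zpowers w) (U := V)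
      (hA2.to_le hBA) (by
        rw [Nat.coprime_two_right]
        exact hRodd.of_dvd_nat (Subgroup.card_dvd_of_le (Subgroup.zpowers_le.2 hwR)))
      (fun v => ⟨1, Subtype.ext (by simpa [pow_two] using hV2 v v.2)⟩)
      (fun z hz => Subgroup.mem_centralizer_iff.2 (by
        rintro _ ⟨i, rfl⟩
        exact ((show Commute w z from hwB z hz).zpow_left i).eq))
      (hBA.trans hAV) (Subgroup.zpowers_le.2 (hRV hwR))
      (Subgroup.le_centralizer_iff.1 (Subgroup.zpowers_le.2 h))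
    have hw1 : w = 1 := Subgroup.mem_bot.1 (hRf ▸ Subgroup.mem_inf.2 ⟨hwR, hle (Subgroup.mem_zpowers w)⟩)
    rw [hw1, orderOf_one] at hwr
    omega
  have hVBc : ∀ x ∈ VB, ∀ y ∈ VB, x * y = y * x := fun x hx y hy =>
    hVc x (Subgroup.mem_inf.1 hx).1 y (Subgroup.mem_inf.1 hy).1
  have hVB2 : ∀ x ∈ VB, x * x = 1 := fun x hx => hV2 x (Subgroup.mem_inf.1 hx).1
  have h4 := four_le_relIndex' (V := VB) hVBc hVB2 hrp hr5 hwr (hnorm w (hRV hwR) hwB) hwinv hwnc
  have h5 := pow_le_relIndex (W := VB) (a := (a : Y)) hVBc hVB2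
    (hnorm _ (hAV haA) fun z hz => hAc _ haA z (hBA hz)) (k := k)
    (fun v hv => Subgroup.mem_centralizer_iff.1 (Subgroup.mem_inf.1 hv).2 _ ha2B) h4
  have hIH := (ih _ (by
      rw [← hn, hcardA]
      exact lt_mul_of_one_lt_right Nat.card_pos (Nat.one_lt_two_pow (by omega))) B rfl
    (fun x hx y hy => hAc x (hBA hx) y (hBA hy)) (hA2.to_le hBA) (hBA.trans hAV) (hBA.trans hAR)
    (le_bot_iff.1 (hAf ▸ inf_le_inf_right _ hBA)) (fun x hx => hS3 x (hBA hx))).1
  have hCA : Subgroup.centralizer (A : Set Y) ⊓ V = Subgroup.centralizer ({(a : Y)} : Set Y) ⊓ VB := by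
    ext x
    simp only [hVB, Subgroup.mem_inf]
    constructor
    · rintro ⟨h1, h2⟩
      exact ⟨Subgroup.mem_centralizer_singleton_iff.2 (Subgroup.mem_centralizer_iff.1 h1 _ haA).symm, h2,
        Subgroup.centralizer_le hBA h1⟩
    · rintro ⟨h1, h2, h3⟩
      refine ⟨?_, h2⟩
      rw [← hgen]
      refine Subgroup.le_centralizer_iff.mp (sup_le ?_ (Subgroup.zpowers_le.mpr ?_)) (Subgroup.mem_zpowers x)
      · exact Subgroup.le_centralizer_iff.mp (Subgroup.zpowers_le.mpr h3)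
      · refine Subgroup.mem_centralizer_iff.mpr ?_
        rintro _ ⟨i, rfl⟩
        exact ((show Commute x (a : Y) from Subgroup.mem_centralizer_singleton_iff.1 h1).zpow_left i).eq
  have hmul := Subgroup.relIndex_mul_relIndex (Subgroup.centralizer ({(a : Y)} : Set Y) ⊓ VB) VB V inf_le_right inf_le_left
  rw [← hCA, Subgroup.inf_relIndex_right, hCA, Subgroup.inf_relIndex_right] at hmul
  have hVBi : VB.relIndex V = (Subgroup.centralizer (B : Set Y)).relIndex V := by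
    rw [hVB, Subgroup.inf_relIndex_left]
  rw [← hmul, hVBi, ← hn, hcardA]
  have hexp : 2 * 2 ^ (k + 1) ≤ 2 ^ (2 ^ k + 1) := by
    rw [← pow_succ']
    refine Nat.pow_le_pow_right (by norm_num) ?_
    have := Nat.lt_two_pow_self (n := k)
    omega
  calc 2 * (Nat.card B * 2 ^ (k + 1)) = (2 * 2 ^ (k + 1)) * Nat.card B := by ring
    _ ≤ _ := Nat.mul_le_mul (hexp.trans h5) hIH

end Cfsg.Agent.Lib.PLocal.OffenderAb
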