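import Cfsg.Agent.Lib.FusionControl.SFour
import Cfsg.Agent.Lib.PLocal.OffenderAb
import Cfsg.Agent.Lib.PLocal.ClosedTest
import Cfsg.Agent.Lib.PLocal.FusionNpcZJ

/-!
The minimal configuration of Thompson's criterion for the centre and the abelian Thompson subgroup.
-/

set_option autoImplicit false
set_option linter.unusedSectionVars false
set_option linter.style.haveILetI false

universe u

namespace Cfsg.Agent.Lib.PLocal

open Cfsg.Agent.Lib.FusionControl

variable {p : ℕ} [Fact p.Prime] {L : Type u} [Group L] [Finite L]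

/-- if the largest abelian subgroups of `T` lie in a normal subgroup `N ≤ T`, then `J(T)` is normal -/
theorem thompsonSubgroupAOf_normal_of_le {T N : Subgroup L} [N.Normal] (hNT : N ≤ T)
    (h : ∀ A, MaxIn 0 T A → A ≤ N) : (Cfsg.thompsonSubgroupAOf T).Normal := by
  refine ⟨fun x hx g => ?_⟩
  suffices h1 : Cfsg.thompsonSubgroupAOf T ≤ (Cfsg.thompsonSubgroupAOf T).comap (MulAut.conj g).toMonoidHom from h1 hx
  rw [FusionNpc.thompsonSubgroupAOf_eq_sSup]
  refine sSup_le fun A hA a ha => le_sSup (α := Subgroup L) (a := A.map (MulAut.conj g).toMonoidHom) ?_ ⟨a, ha, rfl⟩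
  refine ⟨?_, elemAb_map hA.2.1 _, fun B hB hBe => ?_⟩
  · rintro _ ⟨b, hb, rfl⟩
    exact hNT ((inferInstance : N.Normal).conj_mem b (h A hA hb) g)
  · rw [Subgroup.card_map_of_injective (MulAut.conj g).injective]
    exact hA.2.2 B hB hBe

/-- a largest abelian subgroup of a Sylow `2`-subgroup lies in the core, for the constrained configuration
without `S4` -/
theorem maxIn_le_pCore_two (hC : CharPType 2 L)
    (hnpc : Cfsg.HasNormalPComplement 2 (L ⧸ Cfsg.pCore 2 L))
    (hS4 : ¬ Cfsg.Involves (Equiv.Perm (Fin 4)) L) (T : Sylow 2 L) (hco : IsCoatom (T : Subgroup L))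
    (hZ : Subgroup.centralizer (((T : Subgroup L) ⊓ Subgroup.centralizer ((T : Subgroup L) : Set L) : Subgroup L) : Set L) ≤ (T : Subgroup L))
    (A : Subgroup L) (hA : MaxIn 0 (T : Subgroup L) A) : A ≤ Cfsg.pCore 2 L := by
  classical
  have : Fact (Nat.Prime 2) := ⟨Nat.prime_two⟩
  set Q := Cfsg.pCore 2 L with hQ
  have hQn : Q.Normal := by rw [hQ]; infer_instance
  have hQp : IsPGroup 2 Q := Cores.pCore_isPGroup 2 L
  have hQT : Q ≤ (T : Subgroup L) := Cores.pCore_le_sylow T
  by_contra hAQ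
  set ZQ := Q ⊓ Subgroup.centralizer (Q : Set L) with hZQ
  let V : Subgroup L :=
    { carrier := {z | z ∈ ZQ ∧ z * z = 1}
      one_mem' := ⟨one_mem _, one_mul 1⟩
      mul_mem' := fun {a b} ha hb => ⟨mul_mem ha.1 hb.1, by
        have hc : Commute b a := Subgroup.mem_centralizer_iff.1 (Subgroup.mem_inf.1 ha.1).2 b (Subgroup.mem_inf.1 hb.1).1
        calc a * b * (a * b) = a * (b * a) * b := by group
          _ = a * a * (b * b) := by rw [hc.eq]; group
          _ = 1 := by rw [ha.2, hb.2, one_mul]⟩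
      inv_mem' := fun {a} ha => ⟨inv_mem ha.1, by rw [← mul_inv_rev, ha.2, inv_one]⟩ }
  have hVc : ∀ a ∈ V, ∀ b ∈ V, a * b = b * a := fun a ha b hb =>
    Subgroup.mem_centralizer_iff.1 (Subgroup.mem_inf.1 hb.1).2 a (Subgroup.mem_inf.1 ha.1).1
  have hVn : V.Normal := ⟨fun v hv x => ⟨(inferInstance : ZQ.Normal).conj_mem v hv.1 x, by
    calc x * v * x⁻¹ * (x * v * x⁻¹) = x * (v * v) * x⁻¹ := by group
      _ = 1 := by rw [hv.2]; group⟩⟩
  have hVQ : V ≤ Q := fun v hv => (Subgroup.mem_inf.1 hv.1).1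
  -- the kernel on `V` is the core
  have hkerV : ∀ g : L, (∀ v ∈ V, g * v = v * g) → g ∈ Q := by
    intro g hgV
    have hCp : IsPGroup 2 (Subgroup.centralizer (V : Set L)) := by
      rintro ⟨y, hy⟩
      obtain ⟨y1, y2, hy1', -, hy1, ⟨i, hy2⟩, hy12⟩ := Cfsg.Agent.Lib.Transfer.exists_pPart_decomp (p := 2) y
      have hy1V : y1 ∈ Subgroup.centralizer (V : Set L) := (Subgroup.zpowers_le.2 hy) hy1'
      have hy1T : y1 ∈ (T : Subgroup L) := hZ (Subgroup.mem_centralizer_iff.2 fun z hz => by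
        obtain ⟨hzT, hzc⟩ := Subgroup.mem_inf.1 hz
        have hzC : z ∈ Subgroup.centralizer (Q : Set L) := Subgroup.centralizer_le hQT hzc
        obtain ⟨k, hk⟩ := hQp ⟨z, hC hzC⟩
        exact (commute_of_fix_involutions (Z := ZQ)
          (fun a ha b hb => Subgroup.mem_centralizer_iff.1 (Subgroup.mem_inf.1 hb).2 a (Subgroup.mem_inf.1 ha).1)
          (fun w hw => (inferInstance : ZQ.Normal).conj_mem w hw y1)
          (Nat.coprime_two_right.1 hy1) (fun w hw hw2 => (Subgroup.mem_centralizer_iff.1 hy1V w ⟨hw, hw2⟩).symm)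
          k z (Subgroup.mem_inf.2 ⟨hC hzC, hzC⟩) (by simpa using congrArg Subtype.val hk)).symm)
      refine ⟨i, Subtype.ext ?_⟩
      show y ^ 2 ^ i = 1
      rw [hy12, Cfsg.Agent.Lib.Transfer.eq_one_of_isPGroup_of_coprime T.2 hy1T hy1, one_mul]
      exact orderOf_dvd_iff_pow_eq_one.1 (hy2 ▸ dvd_rfl)
    exact Cores.le_pCore inferInstance hCp (Subgroup.mem_centralizer_iff.2 fun v hv => (hgV v hv).symm)
  -- the group acting on `V`
  set π := QuotientGroup.mk' Q with hπ
  have hπs : Function.Surjective π := QuotientGroup.mk'_surjective Q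
  let ψ : L →* MulAut V := MulAut.conjNormal (H := V)
  have hψQ : Q ≤ ψ.ker := fun g hg => by
    rw [MonoidHom.mem_ker]
    refine MulEquiv.ext fun v => Subtype.ext ?_
    show ((MulAut.conjNormal g v : V) : L) = v
    rw [MulAut.conjNormal_apply, Subgroup.mem_centralizer_iff.1 (Subgroup.mem_inf.1 v.2.1).2 _ hg,
      mul_inv_cancel_right]
  let φ : L ⧸ Q →* MulAut V := QuotientGroup.lift Q ψ hψQ
  have hφ : ∀ (g : L) (v : V), ((φ (π g) v : V) : L) = g * v * g⁻¹ := fun g v => MulAut.conjNormal_apply g v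
  have hφinj : ∀ h : L ⧸ Q, φ h = 1 → h = 1 := by
    intro h hh
    obtain ⟨g, rfl⟩ := hπs h
    refine (QuotientGroup.eq_one_iff g).2 (hkerV g fun v hv => ?_)
    have := hφ g ⟨v, hv⟩
    rw [hh] at this
    exact mul_inv_eq_iff_eq_mul.1 this.symm
  set R := Cfsg.pResidual 2 (L ⧸ Q) with hR
  have hRn : R.Normal := by rw [hR]; infer_instance
  have hcop : (Nat.card R).Coprime 2 := Cfsg.Agent.Lib.Transfer.hasNormalPComplement_iff_coprime.1 hnpc
  have hRodd : Odd (Nat.card R) := Nat.coprime_two_right.1 hcop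
  set U := T.mapSurjective hπs with hU
  have hUcoe : (U : Subgroup (L ⧸ Q)) = (T : Subgroup L).map π := Sylow.coe_mapSurjective _ T
  have hcomapT : ((T : Subgroup L).map π).comap π = (T : Subgroup L) := by
    rw [Subgroup.comap_map_eq, QuotientGroup.ker_mk', sup_eq_left.2 hQT]
  have hUco : IsCoatom (U : Subgroup (L ⧸ Q)) := by
    rw [hUcoe]
    refine ⟨fun h => hco.1 ?_, fun H hH => ?_⟩
    · rw [← hcomapT, h, Subgroup.comap_top]
    · have h2 := Subgroup.comap_lt_comap_of_surjective hπs |>.2 hH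
      rw [hcomapT] at h2
      have h3 := congrArg (Subgroup.map π) (hco.2 _ h2)
      rwa [Subgroup.map_comap_eq_self_of_surjective hπs, Subgroup.map_top_of_surjective π hπs] at h3
  obtain ⟨-, hRcomm⟩ := minimal_residual hcop U hUco
  set A'' := A.map π with hA''
  have hA''c : ∀ x ∈ A'', ∀ y ∈ A'', x * y = y * x := by
    rintro _ ⟨x, hx, rfl⟩ _ ⟨y, hy, rfl⟩
    rw [← map_mul, ← map_mul, commute_of_elemAb hA.2.1 hx hy]
  have hA''2 : IsPGroup 2 A'' := (T.2.to_le hA.1).map π
  have hA''U : A'' ≤ (U : Subgroup (L ⧸ Q)) := hUcoe ▸ Subgroup.map_mono hA.1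
  have hAR : A'' ⊓ Subgroup.centralizer (R : Set (L ⧸ Q)) = ⊥ := by
    set N := (U : Subgroup (L ⧸ Q)) ⊓ Subgroup.centralizer (R : Set (L ⧸ Q)) with hN
    have hNn : N.Normal := by
      rw [← Subgroup.normalizer_eq_top_iff, eq_top_iff,
        ← Cfsg.Agent.Lib.Transfer.sylow_sup_pResidual U]
      refine sup_le ?_ ?_
      · intro s hs
        exact Subgroup.inf_normalizer_le_normalizer_inf (Subgroup.mem_inf.2
          ⟨Subgroup.le_normalizer hs, by rw [Subgroup.normalizer_eq_top]; trivial⟩)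
      · intro r hr
        rw [Subgroup.mem_normalizer_iff]
        intro n
        have hcomm : ∀ m ∈ N, r * m = m * r := fun m hm =>
          Subgroup.mem_centralizer_iff.1 (Subgroup.mem_inf.1 hm).2 r hr
        constructor
        · intro hn; rwa [hcomm n hn, mul_inv_cancel_right]
        · intro hn
          have h1 := hcomm _ hn
          have h2 : r * n * r⁻¹ = n := by
            calc r * n * r⁻¹ = r⁻¹ * (r * (r * n * r⁻¹)) := by group
              _ = r⁻¹ * ((r * n * r⁻¹) * r) := by rw [h1]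
              _ = n := by group
          rwa [h2] at hn
    have hNb := Cores.le_pCore hNn (U.2.to_le (inf_le_left : N ≤ (U : Subgroup (L ⧸ Q))))
    rw [Cores.pCore_quotient_pCore 2 L] at hNb
    rw [eq_bot_iff]
    exact (inf_le_inf_right _ hA''U).trans hNb
  -- everything inside the semidirect product
  let Y := V ⋊[φ] (L ⧸ Q)
  have : Finite Y := Finite.of_equiv _ SemidirectProduct.equivProd.symm
  let iv : V →* Y := SemidirectProduct.inl
  let ih : L ⧸ Q →* Y := SemidirectProduct.inr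
  have hconj : ∀ (h : L ⧸ Q) (v : V), ih h * iv v * (ih h)⁻¹ = iv (φ h v) := fun h v => by
    rw [← map_inv]; exact (SemidirectProduct.inl_aut h v).symm
  have hivn : ∀ h : L ⧸ Q, ih h ∈ Subgroup.normalizer (iv.range : Set Y) := fun h => by
    rw [Subgroup.mem_normalizer_iff]
    intro y
    constructor
    · rintro ⟨v, rfl⟩; exact ⟨φ h v, (hconj h v).symm⟩
    · rintro ⟨v, hv⟩
      refine ⟨φ h⁻¹ v, ?_⟩
      rw [← hconj, hv, map_inv, inv_inv]; group
  have hvinj : Function.Injective iv := SemidirectProduct.inl_injective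
  have hhinj : Function.Injective ih := SemidirectProduct.inr_injective
  have hA1 : A''.map ih ≠ ⊥ := by
    rw [Ne, Subgroup.map_eq_bot_iff_of_injective _ hhinj, hA'', Subgroup.map_eq_bot_iff, QuotientGroup.ker_mk']
    exact hAQ
  have key := (OffenderAb.two_mul_card_le_relIndex (Y := Y) (V := iv.range) (R := R.map ih)
    (by rintro _ ⟨x, rfl⟩ _ ⟨y, rfl⟩
        rw [← map_mul, ← map_mul]
        exact congrArg iv (Subtype.ext (hVc x x.2 y y.2)))
    (by rintro _ ⟨x, rfl⟩
        rw [← map_mul, ← map_one iv]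
        exact congrArg iv (Subtype.ext x.2.2))
    (by rintro _ ⟨x, hx, rfl⟩ _ ⟨y, hy, rfl⟩; rw [← map_mul, ← map_mul, hRcomm x hx y hy])
    (by rwa [Subgroup.card_map_of_injective hhinj])
    (by rintro _ ⟨h, -, rfl⟩; exact hivn h)
    (by
      rw [eq_bot_iff]
      rintro _ ⟨⟨h, -, rfl⟩, hc⟩
      rw [Subgroup.mem_bot, hφinj h (MulEquiv.ext fun v => hvinj ?_), map_one]
      rw [← hconj, ← Subgroup.mem_centralizer_iff.1 hc _ ⟨v, rfl⟩, mul_inv_cancel_right]; rfl)
    _ (A''.map ih) rfl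
    (by rintro _ ⟨x, hx, rfl⟩ _ ⟨y, hy, rfl⟩; rw [← map_mul, ← map_mul, hA''c x hx y hy])
    (hA''2.map ih)
    (by rintro _ ⟨h, -, rfl⟩; exact hivn h)
    (fun y hy => Subgroup.le_normalizer_map ih ⟨_, by rw [Subgroup.normalizer_eq_top]; trivial, hy.choose_spec.2⟩)
    (by
      rw [eq_bot_iff]
      rintro _ ⟨⟨h, hh, rfl⟩, hc⟩
      have h1 : h ∈ A'' ⊓ Subgroup.centralizer (R : Set (L ⧸ Q)) := Subgroup.mem_inf.2 ⟨hh,
        Subgroup.mem_centralizer_iff.2 fun r hr => hhinj (by
          rw [map_mul, map_mul]; exact Subgroup.mem_centralizer_iff.1 hc _ ⟨r, hr, rfl⟩)⟩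
      rw [hAR, Subgroup.mem_bot] at h1
      rw [Subgroup.mem_bot, h1, map_one])
    (by
      rintro _ ⟨a', ⟨a, ha, rfl⟩, rfl⟩ _ ⟨u, -, rfl⟩ hu3 hinv
      rw [orderOf_injective ih hhinj] at hu3
      have hinv' : π a * u * (π a)⁻¹ = u⁻¹ := hhinj (by rwa [map_mul, map_mul, map_inv, map_inv])
      have : Fact (Nat.Prime 3) := ⟨Nat.prime_three⟩
      -- a lift of order three
      obtain ⟨u0, rfl⟩ := hπs u
      obtain ⟨z, hzo, -, hzu⟩ := exists_coprime_lift (p := 2) π u0 (by rw [hu3]; norm_num)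
      rw [← hzu] at hu3 hinv'
      have hz3 : z ^ 3 = 1 := by
        refine Cfsg.Agent.Lib.Transfer.eq_one_of_isPGroup_of_coprime hQp ((QuotientGroup.eq_one_iff _).1 ?_)
          (Nat.Coprime.coprime_dvd_left (orderOf_pow_dvd 3) hzo)
        show π (z ^ 3) = 1
        rw [map_pow, ← hu3, pow_orderOf_eq_one]
      have hzQ : z ∉ Q := fun h => by
        rw [show π z = 1 from (QuotientGroup.eq_one_iff z).2 h, orderOf_one] at hu3; omega
      have hz : orderOf z = 3 := orderOf_eq_prime hz3 fun h => hzQ (h ▸ one_mem _)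
      -- Sylow's theorem in `⟨z⟩Q`
      set M := (Subgroup.zpowers (π z)).comap π with hM
      have hPM : Subgroup.zpowers z ≤ M := Subgroup.zpowers_le.2 (Subgroup.mem_zpowers (π z))
      have hcard : Nat.card M = Nat.card Q * 3 := by
        rw [hM, hπ, Cores.card_comap_mk', Nat.card_zpowers, ← hπ, hu3]
      have hPi : ¬ 3 ∣ (Subgroup.zpowers z).relIndex M := by
        intro hd
        have h1 := Subgroup.relIndex_mul_relIndex (⊥ : Subgroup L) (Subgroup.zpowers z) M bot_le hPM
        rw [Subgroup.relIndex_bot_left, Subgroup.relIndex_bot_left, Nat.card_zpowers, hz, hcard,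
          mul_comm (Nat.card Q) 3] at h1
        rw [Nat.eq_of_mul_eq_mul_left (by norm_num) h1] at hd
        obtain ⟨n, hn⟩ := hQp.exists_card_eq
        rw [hn] at hd
        exact absurd ((Nat.prime_dvd_prime_iff_eq Nat.prime_three Nat.prime_two).1 (Nat.prime_three.dvd_of_dvd_pow hd)) (by norm_num)
      have hwM : a * z * a⁻¹ ∈ M := by
        show π (a * z * a⁻¹) ∈ Subgroup.zpowers (π z)
        rw [map_mul, map_mul, map_inv, hinv']
        exact inv_mem (Subgroup.mem_zpowers _)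
      obtain ⟨g, hgM, hg⟩ := exists_cj_le_of_not_dvd (p := 3) hPM (IsPGroup.of_card (n := 1) (by rw [Nat.card_zpowers, hz, pow_one])) hPi (Subgroup.zpowers_le.2 hwM)
        (IsPGroup.of_card (n := 1) (by rw [Nat.card_zpowers, ← MulAut.conj_apply, MulEquiv.orderOf_eq, hz, pow_one]))
      have hy : g * (a * z * a⁻¹) * g⁻¹ ∈ Subgroup.zpowers z :=
        hg ⟨a * z * a⁻¹, Subgroup.mem_zpowers _, rfl⟩
      have hgc : π g * (π z)⁻¹ * (π g)⁻¹ = (π z)⁻¹ := by
        obtain ⟨i, hi⟩ := (show π g ∈ Subgroup.zpowers (π z) from hgM)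
        rw [← hi]; group
      have hyz : g * (a * z * a⁻¹) * g⁻¹ * z = 1 := by
        have h1 : g * (a * z * a⁻¹) * g⁻¹ * z ∈ Subgroup.zpowers z := mul_mem hy (Subgroup.mem_zpowers z)
        refine Cfsg.Agent.Lib.Transfer.eq_one_of_isPGroup_of_coprime hQp ((QuotientGroup.eq_one_iff _).1 ?_) ?_
        · show π (g * (a * z * a⁻¹) * g⁻¹ * z) = 1
          rw [map_mul, map_mul, map_mul, map_mul, map_mul, map_inv, map_inv, hinv', hgc, inv_mul_cancel]
        · exact Nat.Coprime.coprime_dvd_left (orderOf_dvd_of_mem_zpowers h1) hzo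
      set t := g * a with ht
      have htz : t * z * t⁻¹ = z⁻¹ := by
        rw [ht, ← eq_inv_of_mul_eq_one_left hyz]; group
      obtain ⟨m, hm⟩ : ∃ m, orderOf t = 2 ^ m := by
        obtain ⟨i, hi⟩ := (show π g ∈ Subgroup.zpowers (π z) from hgM)
        have h2 : π t ^ 2 = π a ^ 2 := by
          rw [ht, map_mul, ← hi, pow_two, pow_two]
          calc π z ^ i * π a * (π z ^ i * π a) = π z ^ i * (π a * π z * (π a)⁻¹) ^ i * (π a * π a) := by
                rw [conj_zpow]; group
            _ = _ := by rw [hinv', inv_zpow, mul_inv_cancel, one_mul]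
        obtain ⟨j, hj⟩ := hA''2 ⟨π a, a, ha, rfl⟩
        have hj' : π a ^ 2 ^ j = 1 := by simpa using congrArg Subtype.val hj
        have h3 : t ^ 2 ^ (j + 1) ∈ Q := by
          refine (QuotientGroup.eq_one_iff _).1 ?_
          show π (t ^ 2 ^ (j + 1)) = 1
          rw [map_pow, pow_succ', pow_mul, h2, ← pow_mul, mul_comm, pow_mul, hj', one_pow]
        obtain ⟨k, hk⟩ := hQp ⟨_, h3⟩
        have hk' : t ^ 2 ^ (j + 1 + k) = 1 := by
          rw [pow_add, pow_mul]; simpa using congrArg Subtype.val hk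
        obtain ⟨m, -, hm⟩ := (Nat.dvd_prime_pow Nat.prime_two).1 (orderOf_dvd_of_pow_eq_one hk')
        exact ⟨m, hm⟩
      exact hS4 (Cfsg.Agent.S2759.to_four hQp (z := z) (t := t) (by rw [Subgroup.normalizer_eq_top]; trivial)
        (by rw [Subgroup.normalizer_eq_top]; trivial) htz ⟨1, by rw [hz, pow_one]⟩ ⟨m, hm⟩
        (by rw [hz3]; exact one_mem _) fun h => hzQ (hC h)))).2 hA1
  rw [Subgroup.card_map_of_injective hhinj] at key
  -- counting
  set CV := Subgroup.centralizer ((A''.map ih : Subgroup Y) : Set Y)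
  have hcount : CV.relIndex iv.range * Nat.card (V ⊓ Subgroup.centralizer (A : Set L) : Subgroup L) = Nat.card V := by
    have h1 := Subgroup.relIndex_mul_relIndex (⊥ : Subgroup Y) (CV ⊓ iv.range) iv.range bot_le inf_le_right
    rw [Subgroup.relIndex_bot_left, Subgroup.relIndex_bot_left, Subgroup.inf_relIndex_right, mul_comm] at h1
    have h2 : CV ⊓ iv.range = ((V ⊓ Subgroup.centralizer (A : Set L)).subgroupOf V).map iv := by
      ext y
      constructor
      · rintro ⟨hy, v, rfl⟩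
        refine ⟨v, Subgroup.mem_subgroupOf.2 (Subgroup.mem_inf.2 ⟨v.2, Subgroup.mem_centralizer_iff.2 fun a ha => ?_⟩), rfl⟩
        have h3 := Subgroup.mem_centralizer_iff.1 hy (ih (π a)) ⟨_, ⟨a, ha, rfl⟩, rfl⟩
        have h4 := hconj (π a) v
        rw [h3, mul_inv_cancel_right] at h4
        have h5 := congrArg Subtype.val (hvinj h4)
        rw [hφ] at h5
        exact (mul_inv_eq_iff_eq_mul.1 h5.symm)
      · rintro ⟨v, hv, rfl⟩
        refine ⟨Subgroup.mem_centralizer_iff.2 ?_, v, rfl⟩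
        rintro _ ⟨_, ⟨a, ha, rfl⟩, rfl⟩
        have h4 := hconj (π a) v
        have h5 : φ (π a) v = v := Subtype.ext (by
          rw [hφ]
          show a * (v : L) * a⁻¹ = v
          rw [show a * (v : L) = (v : L) * a from
            Subgroup.mem_centralizer_iff.1 (Subgroup.mem_inf.1 (Subgroup.mem_subgroupOf.1 hv)).2 _ ha, mul_inv_cancel_right])
        rw [h5] at h4
        exact mul_inv_eq_iff_eq_mul.1 h4
    rw [h2, Subgroup.card_map_of_injective hvinj,
      Nat.card_congr (Subgroup.subgroupOfEquivOfLe inf_le_left).toEquiv] at h1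
    rw [h1, Nat.card_congr (MonoidHom.ofInjective hvinj).toEquiv.symm]
  set A0 := A ⊓ Q with hA0
  have hquot : Nat.card A'' * Nat.card A0 = Nat.card A := by
    let f : A →* L ⧸ Q := π.comp A.subtype
    have hr : f.range = A'' := by
      ext h
      constructor
      · rintro ⟨a, rfl⟩; exact ⟨_, a.2, rfl⟩
      · rintro ⟨a, ha, rfl⟩; exact ⟨⟨a, ha⟩, rfl⟩
    have hk : f.ker = A0.subgroupOf A := by
      ext a
      rw [MonoidHom.mem_ker, Subgroup.mem_subgroupOf, hA0, Subgroup.mem_inf]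
      show (QuotientGroup.mk (a : L) : L ⧸ Q) = 1 ↔ _
      rw [QuotientGroup.eq_one_iff]
      exact ⟨fun h => ⟨a.2, h⟩, fun h => h.2⟩
    rw [Subgroup.card_eq_card_quotient_mul_card_subgroup f.ker, Nat.card_congr (QuotientGroup.quotientKerEquivRange f).toEquiv,
      hr, hk, Nat.card_congr (Subgroup.subgroupOfEquivOfLe (inf_le_left : A0 ≤ A)).toEquiv]
  have hsup := hA.2.2 (A0 ⊔ V) (sup_le (inf_le_left.trans hA.1) (hVQ.trans hQT))
    (elemAb_sup (elemAb_of_le hA.2.1 inf_le_left)
      (elemAb_zero ⟨⟨fun a b => Subtype.ext (hVc a a.2 b b.2)⟩⟩) fun a ha b hb =>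
      Subgroup.mem_centralizer_iff.1 (Subgroup.mem_inf.1 hb.1).2 a (Subgroup.mem_inf.1 ha).2)
  have hprod := card_mul_card_le A0 V
  have hinf : Nat.card (A0 ⊓ V : Subgroup L) ≤ Nat.card (V ⊓ Subgroup.centralizer (A : Set L) : Subgroup L) := by
    refine Subgroup.card_le_of_le fun x hx => Subgroup.mem_inf.2 ⟨(Subgroup.mem_inf.1 hx).2, ?_⟩
    rw [Subgroup.mem_centralizer_iff]
    intro a ha
    exact commute_of_elemAb hA.2.1 ha (Subgroup.mem_inf.1 (Subgroup.mem_inf.1 hx).1).1
  set r := CV.relIndex iv.range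
  set c := Nat.card (V ⊓ Subgroup.centralizer (A : Set L) : Subgroup L)
  set a0 := Nat.card A0
  have h3 : a0 * (r * c) ≤ c * (Nat.card A'' * a0) := by
    rw [hcount, hquot]
    exact hprod.trans (Nat.mul_le_mul hinf hsup)
  have ha0 : 0 < a0 := Nat.card_pos
  have hc0 : 0 < c := Nat.card_pos
  have h4 : r ≤ Nat.card A'' := Nat.le_of_mul_le_mul_left (show (a0 * c) * r ≤ (a0 * c) * Nat.card A'' by
    calc a0 * c * r = a0 * (r * c) := by ring
      _ ≤ c * (Nat.card A'' * a0) := h3
      _ = _ := by ring) (Nat.mul_pos ha0 hc0)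
  have := Nat.card_pos (α := A'')
  omega

/-- in the minimal configuration the centre of a Sylow subgroup has a larger centralizer, or the Thompson
subgroup a larger normalizer -/
theorem false_of_minimal (hC : CharPType p L) (hnpc : Cfsg.HasNormalPComplement p (L ⧸ Cfsg.pCore p L))
    (hp : p ≠ 2 ∨ ¬ Cfsg.Involves (Equiv.Perm (Fin 4)) L) (T : Sylow p L) (hco : IsCoatom (T : Subgroup L))
    (hZ : Subgroup.centralizer (((T : Subgroup L) ⊓ Subgroup.centralizer ((T : Subgroup L) : Set L) : Subgroup L) : Set L) ≤ (T : Subgroup L))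
    (hJ : Subgroup.normalizer (Cfsg.thompsonSubgroupAOf (T : Subgroup L) : Set L) ≤ (T : Subgroup L)) : False := by
  have hQn : (Cfsg.pCore p L).Normal := Cfsg.pCore_normal p L
  suffices h : ∀ A, MaxIn 0 (T : Subgroup L) A → A ≤ Cfsg.pCore p L by
    have := thompsonSubgroupAOf_normal_of_le (Cores.pCore_le_sylow T) h
    rw [Subgroup.normalizer_eq_top_iff.2 this, top_le_iff] at hJ
    exact hco.1 hJ
  intro A hA
  by_cases hp2 : p = 2
  · subst hp2
    exact maxIn_le_pCore_two hC hnpc (hp.resolve_left (not_not.2 rfl)) T hco hZ A hA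
  · have hst := isNormalizerPStable_of_hasAbTop hp2 (hasAbTop_minimal hnpc T hco)
    have hW := centerThompsonAOf_normal hp2 hC hst T
    set W := Cfsg.centerThompsonAOf (T : Subgroup L) with hWdef
    set C := Subgroup.centralizer (W : Set L) with hCdef
    have hCn : C.Normal := by rw [hCdef]; infer_instance
    have hCT : C ≤ (T : Subgroup L) := fun x hx => hZ (Subgroup.mem_centralizer_iff.2 fun z hz =>
      Subgroup.mem_centralizer_iff.1 hx z (by
        rw [hWdef, ← zIn_zero_eq]; exact center_le_zIn_zero _ hz))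
    refine le_trans ?_ (Cores.le_pCore hCn (T.2.to_le hCT))
    intro a ha
    rw [hCdef, Subgroup.mem_centralizer_iff]
    intro w hw
    have h1 : A ≤ Cfsg.thompsonSubgroupAOf (T : Subgroup L) := by
      rw [FusionNpc.thompsonSubgroupAOf_eq_sSup]; exact le_sSup hA
    exact (Subgroup.mem_centralizer_iff.1 (Subgroup.mem_inf.1 hw).2 a (h1 ha)).symm

end Cfsg.Agent.Lib.PLocal
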