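import Cfsg.Agent.Lib.Transfer.Basic
import Cfsg.Agent.Lib.Transfer.Frobenius
import Cfsg.Agent.Lib.Transfer.Gruen
import Cfsg.Agent.Lib.Coprime.Action
import Cfsg.Agent.Lib.LocalEven2.Replacement
import Cfsg.Prelude.Def_Transfer
import Mathlib

/-!
# A large prime dividing the orders of all mixed subgroups
-/

set_option autoImplicit false
set_option linter.unusedSectionVars false
open scoped Pointwise commutatorElement

namespace Cfsg.Agent.Lib.PLocal.LargePrime

open Subgroup

universe u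
variable {G : Type u} [Group G] [Finite G]

/-- Every subgroup of order divisible by `q` and prime to `p` is a `q`-group. -/
def Mixed (p q : ℕ) (G : Type u) [Group G] : Prop :=
  ∀ H : Subgroup G, q ∣ Nat.card H → ¬ p ∣ Nat.card H → IsPGroup q H

def PEl (p : ℕ) (g : G) : Prop := ∃ k : ℕ, g ^ p ^ k = 1

variable {p : ℕ} [hp : Fact p.Prime]

theorem pel_of_mem {P : Subgroup G} (hP : IsPGroup p P) {g : G} (hg : g ∈ P) : PEl p g := by
  obtain ⟨k, hk⟩ := hP ⟨g, hg⟩
  exact ⟨k, by simpa using congrArg Subtype.val hk⟩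

theorem pel_zpowers {g : G} (hg : PEl p g) : IsPGroup p (zpowers g) := by
  obtain ⟨k, hk⟩ := hg
  obtain ⟨j, -, hj⟩ := (Nat.dvd_prime_pow hp.out).mp (orderOf_dvd_of_pow_eq_one hk)
  exact IsPGroup.of_card (n := j) (by rw [Nat.card_zpowers, hj])

theorem pel_conj {g : G} (hg : PEl p g) (a : G) : PEl p (a * g * a⁻¹) := by
  obtain ⟨k, hk⟩ := hg
  exact ⟨k, by rw [conj_pow, hk, mul_one, mul_inv_cancel]⟩

theorem pel_inv {g : G} (hg : PEl p g) : PEl p g⁻¹ := by
  obtain ⟨k, hk⟩ := hg
  exact ⟨k, by rw [inv_pow, hk, inv_one]⟩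

theorem eq_one_of_pel {q : ℕ} [hq : Fact q.Prime] (hpq : p ≠ q) {g : G} (h1 : PEl p g)
    (h2 : PEl q g) : g = 1 := by
  obtain ⟨k, hk⟩ := h1
  obtain ⟨j, hj⟩ := h2
  have h3 : orderOf g ∣ 1 := by
    rw [← (Nat.Coprime.pow k j ((Nat.coprime_primes hp.out hq.out).mpr hpq)).gcd_eq_one]
    exact Nat.dvd_gcd (orderOf_dvd_of_pow_eq_one hk) (orderOf_dvd_of_pow_eq_one hj)
  exact orderOf_eq_one_iff.mp (Nat.dvd_one.mp h3)

theorem sq_ne_one_of_pel (hp2 : p ≠ 2) {g : G} (h1 : PEl p g) (h2 : g * g = 1) : g = 1 := by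
  haveI : Fact (Nat.Prime 2) := ⟨Nat.prime_two⟩
  exact eq_one_of_pel (q := 2) hp2 h1 ⟨1, by rw [pow_one, pow_two, h2]⟩

/-- Two commuting `p`-elements lie in a common Sylow subgroup. -/
theorem exists_sylow_pair {a b : G} (ha : PEl p a) (hb : PEl p b) (hab : a * b = b * a) :
    ∃ P : Sylow p G, a ∈ (P : Subgroup G) ∧ b ∈ (P : Subgroup G) := by
  have hle : zpowers a ≤ normalizer ((zpowers b : Subgroup G) : Set G) := by
    refine le_trans ?_ (centralizer_le_normalizer _)
    rw [zpowers_le, mem_centralizer_iff]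
    rintro c ⟨n, rfl⟩
    exact ((show Commute a b from hab).zpow_right n).eq.symm
  obtain ⟨P, hP⟩ := ((pel_zpowers ha).to_sup_of_normal_right' (pel_zpowers hb) hle).exists_le_sylow
  exact ⟨P, hP (mem_sup_left (mem_zpowers a)), hP (mem_sup_right (mem_zpowers b))⟩

theorem mem_sylow_of_mem_normalizer (P : Sylow p G) {g : G} (hg : PEl p g)
    (hgn : g ∈ normalizer ((P : Subgroup G) : Set G)) : g ∈ (P : Subgroup G) := by
  have h1 : IsPGroup p ((zpowers g ⊔ P : Subgroup G) : Subgroup G) :=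
    (pel_zpowers hg).to_sup_of_normal_right' P.2 (by rwa [zpowers_le])
  have h2 := P.3 h1 le_sup_right
  rw [← h2]
  exact mem_sup_left (mem_zpowers g)

theorem card_le_sylow {P : Subgroup G} (hP : IsPGroup p P) (S : Sylow p G) :
    Nat.card P ≤ Nat.card (S : Subgroup G) := by
  obtain ⟨T, hT⟩ := hP.exists_le_sylow
  rw [Sylow.card_eq_multiplicity S, ← Sylow.card_eq_multiplicity T]
  exact Subgroup.card_le_of_le hT

/-- A `p`-element permuting a set of fewer than `p` points fixes it pointwise. -/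
theorem commute_of_small {g : G} (hg : PEl p g) {R : Subgroup G}
    (hgR : g ∈ normalizer (R : Set G)) (T : Finset R) (hT : ∀ r ∈ T, g * (r : G) * g⁻¹ = r)
    (hcard : Nat.card R < T.card + p) : ∀ r ∈ R, g * r = r * g := by
  classical
  obtain ⟨k, hk⟩ := hg
  have hmem : g ∈ normalizer (R : Set G) := hgR
  let e : Equiv.Perm R :=
    { toFun := fun r => ⟨g * r * g⁻¹, (mem_normalizer_iff.mp hmem _).mp r.2⟩
      invFun := fun r => ⟨g⁻¹ * r * g, (mem_normalizer_iff.mp hmem _).mpr (by
        simpa [mul_assoc] using r.2)⟩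
      left_inv := fun r => Subtype.ext (by group)
      right_inv := fun r => Subtype.ext (by group) }
  have hpow : ∀ n : ℕ, ∀ r : R, ((e ^ n) r : G) = g ^ n * r * (g ^ n)⁻¹ := by
    intro n
    induction n with
    | zero => intro r; simp
    | succ n ih =>
      intro r
      rw [pow_succ', Equiv.Perm.mul_apply]
      show g * ((e ^ n) r : G) * g⁻¹ = _
      rw [ih r, pow_succ']; group
  have he : e ^ p ^ k = 1 := Equiv.ext fun r => Subtype.ext (by rw [hpow, hk]; simp)
  haveI := Fintype.ofFinite R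
  have hsupp : e.support.card < p := by
    have h1 : e.support ⊆ Tᶜ := fun r hr => Finset.mem_compl.mpr fun hrT =>
      Equiv.Perm.mem_support.mp hr (Subtype.ext (hT r hrT))
    have h2 := Finset.card_le_card h1
    rw [Finset.card_compl, ← Nat.card_eq_fintype_card] at h2
    have h3 : T.card ≤ Nat.card R := by
      rw [Nat.card_eq_fintype_card]; exact Finset.card_le_univ T
    omega
  have he1 : e = 1 := by
    rw [← Equiv.Perm.cycleType_eq_zero, Multiset.eq_zero_iff_forall_notMem]
    intro n hn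
    have h1 : n ∣ p ^ k := (Equiv.Perm.dvd_of_mem_cycleType hn).trans (orderOf_dvd_of_pow_eq_one he)
    obtain ⟨j, -, hj⟩ := (Nat.dvd_prime_pow hp.out).mp h1
    have h2 : 2 ≤ n := Equiv.Perm.two_le_of_mem_cycleType hn
    have h3 : n ≤ e.support.card := by
      rw [← Equiv.Perm.sum_cycleType]; exact Multiset.le_sum_of_mem hn
    rcases Nat.eq_zero_or_pos j with h | h
    · subst h; simp at hj; omega
    · have : p ≤ n := hj ▸ Nat.le_self_pow h.ne' p
      omega
  intro r hr
  have h1 : g * r * g⁻¹ = r := by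
    have := congrArg Subtype.val (Equiv.Perm.ext_iff.mp he1 ⟨r, hr⟩)
    exact this
  calc g * r = (g * r * g⁻¹) * g := by group
    _ = r * g := by rw [h1]

theorem commute_of_le {g : G} (hg : PEl p g) {R : Subgroup G}
    (hgR : g ∈ normalizer (R : Set G)) (hcard : Nat.card R ≤ p) : ∀ r ∈ R, g * r = r * g := by
  classical
  refine commute_of_small hg hgR {1} (fun r hr => ?_) (by rw [Finset.card_singleton]; omega)
  rw [Finset.mem_singleton] at hr; subst hr; simp

section Comp

variable {q : ℕ} [hq : Fact q.Prime]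

theorem isPGroup_map_subtype {H : Subgroup G} {R : Subgroup H} (hR : IsPGroup q R) :
    IsPGroup q (R.map H.subtype) := hR.map _

theorem mixed_subgroup (hA : Mixed p q G) (H : Subgroup G) : Mixed p q H := fun R h1 h2 => by
  have hc : Nat.card (R.map H.subtype) = Nat.card R := card_map_of_injective H.subtype_injective
  have h3 := hA (R.map H.subtype) (hc ▸ h1) (hc ▸ h2)
  exact h3.of_equiv (R.equivMapOfInjective H.subtype H.subtype_injective).symm

/-- If `p`-elements centralise the `q`-subgroups they normalise, there is a normal `q`-complement,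
and it is a `p`-group. -/
theorem exists_comp (hpq : p ≠ q) (hA : Mixed p q G) (hqG : q ∣ Nat.card G)
    (hfus : ∀ R : Subgroup G, IsPGroup q R → ∀ g ∈ normalizer (R : Set G), PEl p g →
      ∀ r ∈ R, g * r = r * g) :
    ∃ K : Subgroup G, K.Normal ∧ IsPGroup p K ∧ (∀ g : G, PEl p g → g ∈ K) ∧
      (∀ S : Sylow q G, K ⊔ S = ⊤) ∧ (∀ l : ℕ, l.Prime → l ∣ Nat.card G → l = p ∨ l = q) := by
  have hQ : ∀ Q : Sylow q G, Cfsg.HasNormalPComplement q G := by
    intro Q
    refine Cfsg.Agent.Lib.Transfer.hasNormalPComplement_of_frobenius Q fun R hR g hg hgo => ?_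
    have hRq : IsPGroup q R := Q.2.to_le hR
    rw [mem_centralizer_iff]
    intro r hr
    by_cases hRb : R = ⊥
    · subst hRb; rw [SetLike.mem_coe, mem_bot] at hr; simp [hr]
    suffices H : ∀ n : ℕ, ∀ x ∈ normalizer (R : Set G), orderOf x = n → Nat.Coprime n q →
        ∀ r ∈ R, x * r = r * x from (H _ g hg rfl hgo r hr).symm
    intro n
    induction n using Nat.strong_induction_on with
    | _ n ih =>
      intro x hx hxn hco r hr
      by_cases hdp : p ∣ n
      · by_cases hall : ∀ l : ℕ, l.Prime → l ∣ n → l = p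
        · refine hfus R hRq x hx ?_ r hr
          have hn0 : n ≠ 0 := hxn ▸ (orderOf_pos x).ne'
          obtain ⟨k, hk⟩ : ∃ k, n = p ^ k := ⟨n.primeFactorsList.length,
            Nat.eq_prime_pow_of_unique_prime_dvd hn0 fun {d} hd hdn => hall d hd hdn⟩
          exact ⟨k, by rw [← hk, ← hxn, pow_orderOf_eq_one]⟩
        · -- split off the `p`-part
          obtain ⟨k, m, hm, hkm⟩ := Nat.exists_eq_pow_mul_and_not_dvd (hxn ▸ (orderOf_pos x).ne')
            p hp.out.ne_one
          have hm1 : m ≠ 1 := by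
            intro h; apply hall; intro l hl hln
            rw [hkm, h, mul_one] at hln
            exact (Nat.prime_dvd_prime_iff_eq hl hp.out).mp (hl.dvd_of_dvd_pow hln)
          have hk1 : k ≠ 0 := by
            intro h; rw [h, pow_zero, one_mul] at hkm; exact hm (hkm ▸ hdp)
          have hn0 : 0 < n := hxn ▸ orderOf_pos x
          have ho1 : orderOf (x ^ m) = p ^ k := by
            rw [orderOf_pow' _ (by rintro rfl; simp at hkm; omega), hxn, hkm,
              Nat.gcd_mul_left_left, Nat.mul_div_cancel _ (Nat.pos_of_ne_zero (by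
                rintro rfl; simp at hkm; omega))]
          have ho2 : orderOf (x ^ p ^ k) = m := by
            rw [orderOf_pow' _ (pow_ne_zero _ hp.out.ne_zero), hxn, hkm, Nat.gcd_mul_right_left,
              Nat.mul_div_cancel_left _ (pow_pos hp.out.pos k)]
          have hlt1 : p ^ k < n := by
            rw [hkm]; exact (Nat.lt_mul_iff_one_lt_right (pow_pos hp.out.pos k)).mpr (by
              have : m ≠ 0 := by rintro rfl; simp at hkm; omega
              omega)
          have hlt2 : m < n := by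
            rw [hkm]; exact (Nat.lt_mul_iff_one_lt_left (Nat.pos_of_ne_zero (by
              rintro rfl; simp at hkm; omega))).mpr (Nat.one_lt_pow hk1 hp.out.one_lt)
          have c1 := ih _ hlt1 (x ^ m) (pow_mem hx m) ho1 (hco.coprime_dvd_left ⟨m, hkm⟩) r hr
          have c2 := ih _ hlt2 (x ^ p ^ k) (pow_mem hx _) ho2
            (hco.coprime_dvd_left ⟨p ^ k, hkm.trans (mul_comm _ _)⟩) r hr
          have hgen : Nat.Coprime (p ^ k) m := Nat.Coprime.pow_left k
            (hp.out.coprime_iff_not_dvd.mpr hm)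
          have hx' : ∃ a b : ℤ, x = (x ^ m) ^ a * (x ^ p ^ k) ^ b := by
            refine ⟨Nat.gcdB (p ^ k) m, Nat.gcdA (p ^ k) m, ?_⟩
            have h1 := Nat.gcd_eq_gcd_ab (p ^ k) m
            rw [hgen.gcd_eq_one] at h1
            push_cast at h1
            rw [← zpow_natCast x m, ← zpow_natCast x (p ^ k), ← zpow_mul, ← zpow_mul, ← zpow_add]
            rw [show ((m : ℤ) * Nat.gcdB (p ^ k) m + ((p ^ k : ℕ) : ℤ) * Nat.gcdA (p ^ k) m) = 1 by
              push_cast; linarith, zpow_one]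
          obtain ⟨a, b, hab⟩ := hx'
          rw [hab]
          exact ((Commute.zpow_left (show Commute (x ^ m) r from c1) a).mul_left
            (Commute.zpow_left (show Commute (x ^ p ^ k) r from c2) b)).eq
      · -- `x` of order prime to `p`: `R⟨x⟩` is a `q`-group
        have hx1 : x = 1 := by
          have hle : zpowers x ≤ normalizer (R : Set G) := by rwa [zpowers_le]
          have hcop : (Nat.card R).Coprime (Nat.card (zpowers x)) := by
            obtain ⟨j, hj⟩ := IsPGroup.iff_card.mp hRq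
            rw [hj, Nat.card_zpowers, hxn]; exact Nat.Coprime.pow_left j hco.symm
          have hc := Cfsg.Agent.Lib.Coprime.card_sup_of_coprime hle hcop
          have hqR : q ∣ Nat.card R := by
            obtain ⟨j, hj⟩ := IsPGroup.iff_card.mp hRq
            rcases Nat.eq_zero_or_pos j with h | h
            · rw [h, pow_zero, Subgroup.card_eq_one] at hj; exact absurd hj hRb
            · rw [hj]; exact dvd_pow_self q h.ne'
          have hg2 := hA (R ⊔ zpowers x) (by rw [hc]; exact dvd_mul_of_dvd_left hqR _) (by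
            rw [hc, Nat.card_zpowers, hxn, hp.out.dvd_mul]
            rintro (h | h)
            · obtain ⟨j, hj⟩ := IsPGroup.iff_card.mp hRq
              exact hpq ((Nat.prime_dvd_prime_iff_eq hp.out hq.out).mp
                (hp.out.dvd_of_dvd_pow (hj ▸ h)))
            · exact hdp h)
          exact Cfsg.Agent.Lib.Transfer.eq_one_of_isPGroup_of_coprime hg2
            (mem_sup_right (mem_zpowers x)) (hxn ▸ hco)
        simp [hx1]
  obtain ⟨P, K, hKn, hKc⟩ := hQ default
  haveI := hKn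
  have hKq : Nat.Coprime (Nat.card K) q :=
    Cfsg.Agent.Lib.Transfer.coprime_card_of_isComplement' hKc
  have hqP : q ∣ Nat.card (P : Subgroup G) := P.dvd_card_of_dvd_card hqG
  have hKl : ∀ l : ℕ, l.Prime → l ∣ Nat.card K → l = p := by
    intro l hl hlK
    by_contra hlp
    haveI := Fact.mk hl
    have hlq : l ≠ q := fun h => by
      subst h
      exact absurd hlK ((hl.coprime_iff_not_dvd).mp hKq.symm)
    obtain ⟨j, hj⟩ := IsPGroup.iff_card.mp P.2
    have hcop : (Nat.card (P : Subgroup G)).Coprime (Nat.card K) := by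
      rw [hj]; exact Nat.Coprime.pow_left j hKq.symm
    haveI := P.2.isNilpotent
    obtain ⟨R, hR⟩ := Cfsg.Agent.Lib.Coprime.exists_invariant_sylow (A := (P : Subgroup G)) (K := K)
      (by rw [normalizer_eq_top]; exact le_top) hcop (Or.inl inferInstance) l
    have hRl : IsPGroup l ((R : Subgroup K).map K.subtype) := R.2.map _
    obtain ⟨i, hi⟩ := IsPGroup.iff_card.mp hRl
    have hRne : i ≠ 0 := by
      rintro rfl
      have h1 := R.dvd_card_of_dvd_card hlK
      rw [pow_zero, card_map_of_injective K.subtype_injective] at hi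
      rw [hi] at h1
      exact hl.one_lt.ne' (Nat.dvd_one.mp h1)
    have hc := Cfsg.Agent.Lib.Coprime.card_sup_of_coprime hR (by
      rw [hi, hj]; exact Nat.Coprime.pow i j ((Nat.coprime_primes hl hq.out).mpr hlq))
    have h2 := hA ((R : Subgroup K).map K.subtype ⊔ P) (by rw [hc]; exact dvd_mul_of_dvd_right hqP _)
      (by
        rw [hc, hi, hj, hp.out.dvd_mul]
        rintro (h | h)
        · exact hlp ((Nat.prime_dvd_prime_iff_eq hp.out hl).mp (hp.out.dvd_of_dvd_pow h)).symm
        · exact hpq ((Nat.prime_dvd_prime_iff_eq hp.out hq.out).mp (hp.out.dvd_of_dvd_pow h)))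
    obtain ⟨e, he⟩ := IsPGroup.iff_card.mp h2
    have : l ∣ q ^ e := by
      rw [← he, hc, hi]; exact dvd_mul_of_dvd_left (dvd_pow_self l hRne) _
    exact hlq ((Nat.prime_dvd_prime_iff_eq hl hq.out).mp (hl.dvd_of_dvd_pow this))
  have hKp : IsPGroup p K := by
    refine IsPGroup.of_card (n := (Nat.card K).primeFactorsList.length) ?_
    exact Nat.eq_prime_pow_of_unique_prime_dvd Nat.card_pos.ne' fun {d} hd hdn => hKl d hd hdn
  obtain ⟨k, hk⟩ := Cfsg.Agent.Lib.Transfer.exists_index_of_isComplement' hKc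
  refine ⟨K, hKn, hKp, fun g hg => ?_, fun S => ?_, fun l hl hlG => ?_⟩
  · rw [Cfsg.Agent.Lib.Transfer.mem_iff_coprime hKc]
    obtain ⟨j, hj⟩ := hg
    obtain ⟨i, -, hi⟩ := (Nat.dvd_prime_pow hp.out).mp (orderOf_dvd_of_pow_eq_one hj)
    rw [hi]; exact Nat.Coprime.pow_left i ((Nat.coprime_primes hp.out hq.out).mpr hpq)
  · rw [sup_comm]; exact Cfsg.Agent.Lib.Transfer.sylow_sup_eq_top_of_index S K hk
  · rw [← K.card_mul_index, hk, hl.dvd_mul] at hlG
    rcases hlG with h | h
    · exact Or.inl (hKl l hl h)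
    · exact Or.inr ((Nat.prime_dvd_prime_iff_eq hl hq.out).mp (hl.dvd_of_dvd_pow h))

end Comp

theorem mem_normalizer_zpowers_of_conj {e y : G} (hey : e * y * e⁻¹ = y⁻¹) :
    e ∈ normalizer ((zpowers y : Subgroup G) : Set G) := by
  have h1 : (zpowers y).map (MulAut.conj e).toMonoidHom = zpowers y := by
    rw [MonoidHom.map_zpowers]
    show zpowers (e * y * e⁻¹) = _
    rw [hey, zpowers_inv]
  rw [mem_normalizer_iff]
  intro a
  refine ⟨fun ha => h1.le ⟨a, ha, rfl⟩, fun ha => ?_⟩
  obtain ⟨b, hb, hbe⟩ := h1.ge ha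
  have : b = a := (MulAut.conj e).injective hbe
  exact this ▸ hb

/-- An involution. -/
def IsInv (t : G) : Prop := t ≠ 1 ∧ t * t = 1

theorem IsInv.inv_eq {t : G} (h : IsInv t) : t⁻¹ = t := inv_eq_of_mul_eq_one_right h.2

theorem IsInv.conj {t : G} (h : IsInv t) (a : G) : IsInv (a * t * a⁻¹) := by
  refine ⟨fun he => h.1 ?_, by rw [show a * t * a⁻¹ * (a * t * a⁻¹) = a * (t * t) * a⁻¹ by group,
    h.2, mul_one, mul_inv_cancel]⟩
  calc t = a⁻¹ * (a * t * a⁻¹) * a := by group
    _ = 1 := by rw [he]; group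

theorem IsInv.pel_two {t : G} (h : IsInv t) : PEl 2 t := ⟨1, by rw [pow_one, pow_two, h.2]⟩

theorem IsInv.zpowers {t : G} (h : IsInv t) : IsPGroup 2 (Subgroup.zpowers t) :=
  haveI : Fact (Nat.Prime 2) := ⟨Nat.prime_two⟩
  pel_zpowers h.pel_two

theorem conj_mem_sylow {q : ℕ} [Fact q.Prime] (P : Sylow q G) {a g : G}
    (ha : a ∈ (P : Subgroup G)) : g * a * g⁻¹ ∈ ((g • P : Sylow q G) : Subgroup G) := by
  show g * a * g⁻¹ ∈ MulAut.conj g • (P : Subgroup G)
  exact ⟨a, ha, rfl⟩

/-- The situation of a minimal counterexample. -/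
structure Setting (p : ℕ) (G : Type u) [Group G] [Finite G] : Prop where
  hp2 : p ≠ 2
  hA : Mixed p 2 G
  hab : ∀ P : Sylow p G, ∀ a ∈ (P : Subgroup G), ∀ b ∈ (P : Subgroup G), a * b = b * a
  hpG : p ∣ Nat.card G
  hR : ∀ R : Subgroup G, IsPGroup 2 R → Nat.card R ≤ p + 1
  hsub : ∀ H : Subgroup G, H ≠ ⊤ → 2 ∣ Nat.card H →
    ∀ l, l.Prime → l ∣ Nat.card H → l = p ∨ l = 2
  hnorm : ∀ N : Subgroup G, N.Normal → N = ⊥ ∨ N = ⊤
  hna : ∃ a b : G, a * b ≠ b * a
  hS : ∀ S : Sylow 2 G, Nat.card (S : Subgroup G) = p + 1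
  hx : ∀ S : Sylow 2 G, ∃ x ∈ normalizer ((S : Subgroup G) : Set G), PEl p x ∧
    ∀ a ∈ (S : Subgroup G), ∀ b ∈ (S : Subgroup G), a ≠ 1 → b ≠ 1 →
      ∃ i : ℕ, x ^ i * a * (x ^ i)⁻¹ = b

/-- A `p`-element normalising a group of order `p + 1` without centralising it is transitive on
the other elements. -/
theorem transitive_of_move {x : G} (hx : PEl p x) {S : Subgroup G}
    (hxS : x ∈ normalizer (S : Set G)) (hS : Nat.card S ≤ p + 1)
    (hmove : ∃ r ∈ S, x * r ≠ r * x) :
    ∀ a ∈ S, ∀ b ∈ S, a ≠ 1 → b ≠ 1 → ∃ i : ℕ, x ^ i * a * (x ^ i)⁻¹ = b := by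
  classical
  intro a ha b hb ha1 hb1
  haveI : Finite (ConjAct G) := Finite.of_equiv G ConjAct.toConjAct.toEquiv
  let H : Subgroup (ConjAct G) := zpowers (ConjAct.toConjAct x)
  have hH : IsPGroup p H := by
    refine pel_zpowers ?_
    obtain ⟨k, hk⟩ := hx
    exact ⟨k, by rw [← map_pow, hk, map_one]⟩
  have horb : ∀ c : G, c ∈ MulAction.orbit H a → ∃ i : ℕ, x ^ i * a * (x ^ i)⁻¹ = c := by
    rintro c ⟨⟨h, hh⟩, rfl⟩
    rw [← IsOfFinOrder.mem_powers_iff_mem_zpowers (isOfFinOrder_of_finite _)] at hh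
    obtain ⟨i, hi⟩ := hh
    refine ⟨i, ?_⟩
    show _ = h • a
    rw [← hi, ConjAct.smul_def]
    simp
  have hsubset : MulAction.orbit H a ⊆ (S : Set G) \ {1} := by
    intro c hc
    obtain ⟨i, rfl⟩ := horb c hc
    refine ⟨(mem_normalizer_iff.mp (pow_mem hxS i) a).mp ha, fun h => ha1 ?_⟩
    rw [Set.mem_singleton_iff] at h
    calc a = (x ^ i)⁻¹ * (x ^ i * a * (x ^ i)⁻¹) * x ^ i := by group
      _ = 1 := by rw [h]; group
  have hcardS : ((S : Set G) \ {1}).ncard ≤ p := by
    rw [Set.ncard_sdiff_singleton_of_mem (one_mem S)]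
    have : (S : Set G).ncard = Nat.card S := (Nat.card_coe_set_eq _).symm
    omega
  obtain ⟨n, hn⟩ := hH.card_orbit a
  rw [Nat.card_coe_set_eq] at hn
  rcases Nat.eq_zero_or_pos n with rfl | hn0
  · exfalso
    rw [pow_zero, Set.ncard_eq_one] at hn
    obtain ⟨c, hc⟩ := hn
    have h1 : a = c := by simpa [hc] using MulAction.mem_orbit_self (M := H) a
    have h2 : x * a * x⁻¹ ∈ MulAction.orbit H a :=
      ⟨⟨ConjAct.toConjAct x, mem_zpowers _⟩, rfl⟩
    rw [hc, Set.mem_singleton_iff, ← h1] at h2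
    obtain ⟨r, hr, hne⟩ := hmove
    refine hne (commute_of_small hx hxS {1, ⟨a, ha⟩} (fun r hr => ?_) ?_ r hr)
    · simp only [Finset.mem_insert, Finset.mem_singleton] at hr
      rcases hr with rfl | rfl
      · simp
      · exact h2
    · rw [Finset.card_pair (fun h => ha1 (congrArg Subtype.val h).symm)]; omega
  · have hp_le : p ≤ (MulAction.orbit H a).ncard := hn ▸ Nat.le_self_pow hn0.ne' p
    have heq := Set.eq_of_subset_of_ncard_le hsubset (by omega)
    exact horb b (heq ▸ ⟨hb, hb1⟩)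

section Derived

variable (h : Setting p G)
include h

theorem Setting.two_fact : Fact (Nat.Prime 2) := ⟨Nat.prime_two⟩

theorem Setting.cent_ne_top {g : G} (hg : g ≠ 1) : centralizer ({g} : Set G) ≠ ⊤ := by
  intro he
  have hgc : g ∈ center G := by
    rw [mem_center_iff]
    intro a
    have : a ∈ centralizer ({g} : Set G) := by rw [he]; trivial
    exact (mem_centralizer_singleton_iff.mp this)
  rcases h.hnorm (center G) inferInstance with hc | hc
  · rw [hc, mem_bot] at hgc; exact hg hgc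
  · obtain ⟨a, b, hab⟩ := h.hna
    exact hab ((mem_center_iff.mp (hc ▸ mem_top b : b ∈ center G)) a)

theorem Setting.norm_ne_top {g : G} (hg : g ≠ 1) :
    normalizer ((zpowers g : Subgroup G) : Set G) ≠ ⊤ := by
  intro he
  rcases h.hnorm (zpowers g) (normalizer_eq_top_iff.mp he) with hc | hc
  · exact hg (by rwa [zpowers_eq_bot] at hc)
  · obtain ⟨a, b, hab⟩ := h.hna
    obtain ⟨i, hi⟩ := (hc ▸ mem_top a : a ∈ zpowers g)
    obtain ⟨j, hj⟩ := (hc ▸ mem_top b : b ∈ zpowers g)
    subst hi hj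
    exact hab ((Commute.refl g).zpow_zpow i j).eq

theorem Setting.sq {R : Subgroup G} (hR : IsPGroup 2 R) {a : G} (ha : a ∈ R) : a * a = 1 := by
  haveI := h.two_fact
  obtain ⟨S, hS⟩ := hR.exists_le_sylow
  by_cases ha1 : a = 1
  · simp [ha1]
  obtain ⟨x, -, -, htr⟩ := h.hx S
  obtain ⟨k, hk⟩ := IsPGroup.iff_orderOf.mp S.2 ⟨a, hS ha⟩
  rw [Subgroup.orderOf_mk] at hk
  have hk0 : k ≠ 0 := by rintro rfl; exact ha1 (orderOf_eq_one_iff.mp (by simpa using hk))
  obtain ⟨j, rfl⟩ := Nat.exists_eq_succ_of_ne_zero hk0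
  have hb : orderOf (a ^ 2 ^ j) = 2 := by
    rw [orderOf_pow' _ (pow_ne_zero _ two_ne_zero), hk,
      Nat.gcd_eq_right (pow_dvd_pow 2 j.le_succ), pow_succ,
      Nat.mul_div_cancel_left _ (pow_pos two_pos j)]
  obtain ⟨i, hi⟩ := htr (a ^ 2 ^ j) (pow_mem (hS ha) _) a (hS ha)
    (fun hh => by rw [hh, orderOf_one] at hb; omega) ha1
  calc a * a = (x ^ i * a ^ 2 ^ j * (x ^ i)⁻¹) * (x ^ i * a ^ 2 ^ j * (x ^ i)⁻¹) := by rw [hi]
    _ = x ^ i * (a ^ 2 ^ j) ^ orderOf (a ^ 2 ^ j) * (x ^ i)⁻¹ := by rw [hb, pow_two]; group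
    _ = 1 := by rw [pow_orderOf_eq_one]; group

theorem Setting.isInv {R : Subgroup G} (hR : IsPGroup 2 R) {a : G} (ha : a ∈ R) (ha1 : a ≠ 1) :
    IsInv a := ⟨ha1, h.sq hR ha⟩

theorem Setting.comm {R : Subgroup G} (hR : IsPGroup 2 R) {a b : G} (ha : a ∈ R) (hb : b ∈ R) :
    a * b = b * a := by
  have h1 := h.sq hR (mul_mem ha hb)
  calc a * b = (a * b)⁻¹ := (inv_eq_of_mul_eq_one_right h1).symm
    _ = b⁻¹ * a⁻¹ := mul_inv_rev a b
    _ = b * a := by
      rw [inv_eq_of_mul_eq_one_right (h.sq hR hb), inv_eq_of_mul_eq_one_right (h.sq hR ha)]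

theorem Setting.exists_sylow_pair {s t : G} (hs : IsInv s) (ht : IsInv t) (hst : s * t = t * s) :
    ∃ S : Sylow 2 G, s ∈ (S : Subgroup G) ∧ t ∈ (S : Subgroup G) :=
  haveI := h.two_fact
  LargePrime.exists_sylow_pair hs.pel_two ht.pel_two hst

theorem Setting.exists_sylow {t : G} (ht : IsInv t) : ∃ S : Sylow 2 G, t ∈ (S : Subgroup G) := by
  obtain ⟨S, hS, -⟩ := h.exists_sylow_pair ht ht rfl
  exact ⟨S, hS⟩

theorem Setting.isConj {s t : G} (hs : IsInv s) (ht : IsInv t) : ∃ a : G, a * s * a⁻¹ = t := by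
  haveI := h.two_fact
  obtain ⟨S, hsS⟩ := h.exists_sylow hs
  obtain ⟨T, htT⟩ := h.exists_sylow ht
  obtain ⟨g, hg⟩ := MulAction.exists_smul_eq G S T
  have h1 : g * s * g⁻¹ ∈ (T : Subgroup G) := hg ▸ conj_mem_sylow S hsS
  obtain ⟨x, -, -, htr⟩ := h.hx T
  obtain ⟨i, hi⟩ := htr _ h1 t htT (hs.conj g).1 ht.1
  exact ⟨x ^ i * g, by rw [← hi]; group⟩

theorem Setting.eq_sylow {R : Subgroup G} (hR : IsPGroup 2 R) (hc : p + 1 ≤ Nat.card R) :
    ∃ S : Sylow 2 G, (S : Subgroup G) = R := by
  haveI := h.two_fact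
  obtain ⟨S, hS⟩ := hR.exists_le_sylow
  exact ⟨S, (Subgroup.eq_of_le_of_card_ge hS (by rw [h.hS]; exact hc)).symm⟩

/-- The `p`-elements of a proper subgroup of even order without moving `p`-elements form a group. -/
theorem Setting.comp (H : Subgroup G) (heven : 2 ∣ Nat.card H)
    (hfus : ∀ S : Sylow 2 G, (S : Subgroup G) ≤ H → ∀ g ∈ H,
      g ∈ normalizer ((S : Subgroup G) : Set G) → PEl p g →
        ∀ r ∈ (S : Subgroup G), g * r = r * g) :
    ∃ K : Subgroup G, K ≤ H ∧ IsPGroup p K ∧ (∀ g ∈ H, PEl p g → g ∈ K) ∧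
      ∀ S : Sylow 2 G, (S : Subgroup G) ≤ H → H ≤ K ⊔ S := by
  haveI := h.two_fact
  have hf : ∀ R : Subgroup H, IsPGroup 2 R → ∀ g ∈ normalizer (R : Set H), PEl p g →
      ∀ r ∈ R, g * r = r * g := by
    intro R hR g hg hgp r hr
    have hgp' : PEl p (g : G) := hgp.imp fun k hk => by
      rw [← Subgroup.coe_pow, hk, Subgroup.coe_one]
    have hgn : (g : G) ∈ normalizer ((R.map H.subtype : Subgroup G) : Set G) :=
      le_normalizer_map H.subtype ⟨g, hg, rfl⟩
    have hR' : IsPGroup 2 (R.map H.subtype) := hR.map _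
    refine Subtype.ext ?_
    show (g : G) * r = r * g
    by_cases hc : Nat.card (R.map H.subtype) ≤ p
    · exact commute_of_le hgp' hgn hc _ ⟨r, hr, rfl⟩
    · obtain ⟨S, hS⟩ := h.eq_sylow hR' (by omega)
      exact hfus S (hS ▸ map_subtype_le R) g g.2 (by rw [hS]; exact hgn) hgp' r (hS ▸ ⟨r, hr, rfl⟩)
  obtain ⟨K, -, hKp, hKmem, hKS, -⟩ := exists_comp (p := p) (q := 2) h.hp2
    (mixed_subgroup h.hA H) heven hf
  refine ⟨K.map H.subtype, map_subtype_le K, hKp.map _, fun g hg hgp => ?_, fun S hS => ?_⟩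
  · exact ⟨⟨g, hg⟩, hKmem _ (hgp.imp fun k hk => Subtype.ext (by simpa using hk)), rfl⟩
  · have h1 := congrArg (Subgroup.map H.subtype) (hKS (S.subtype hS))
    rw [Subgroup.map_sup, ← MonoidHom.range_eq_map, Subgroup.range_subtype, Sylow.coe_subtype,
      Subgroup.map_subgroupOf_eq_of_le hS] at h1
    exact h1.ge

theorem Setting.cent_comp {t : G} (ht : IsInv t) :
    ∃ K : Subgroup G, IsPGroup p K ∧ (∀ g, g * t = t * g → PEl p g → g ∈ K) ∧
      ∀ S : Sylow 2 G, t ∈ (S : Subgroup G) →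
        ∀ g, g * t = t * g → g ∈ K ⊔ (S : Subgroup G) := by
  haveI := h.two_fact
  have hmem : ∀ g, g ∈ centralizer ({t} : Set G) ↔ g * t = t * g := fun g =>
    mem_centralizer_singleton_iff
  have heven : 2 ∣ Nat.card (centralizer ({t} : Set G)) := by
    have h1 := Subgroup.card_dvd_of_le (zpowers_le.mpr ((hmem t).mpr rfl))
    rwa [Nat.card_zpowers, orderOf_eq_prime (by rw [pow_two, ht.2]) ht.1] at h1
  obtain ⟨K, -, hKp, hKmem, hKS⟩ := h.comp _ heven (fun S hS g hg hgn hgp r hr => by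
    -- `t` lies in `S` and is fixed by `g`
    have htS : t ∈ (S : Subgroup G) := by
      refine mem_sylow_of_mem_normalizer S ht.pel_two ?_
      refine centralizer_le_normalizer _ ?_
      rw [mem_centralizer_iff]
      exact fun s hs => (hmem s).mp (hS hs)
    classical
    refine commute_of_small hgp hgn {1, ⟨t, htS⟩} (fun r hr => ?_) ?_ r hr
    · simp only [Finset.mem_insert, Finset.mem_singleton] at hr
      rcases hr with rfl | rfl
      · simp
      · show g * t * g⁻¹ = t
        rw [(hmem g).mp hg, mul_inv_cancel_right]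
    · rw [h.hS, Finset.card_pair (fun hh => ht.1 (congrArg Subtype.val hh).symm)]; omega)
  refine ⟨K, hKp, fun g hg => hKmem g ((hmem g).mpr hg), fun S htS g hg => hKS S ?_ ((hmem g).mpr hg)⟩
  intro s hs
  exact (hmem s).mpr (h.comm S.2 hs htS)

theorem Setting.comm_of_commute_inv {t : G} (ht : IsInv t) {u v : G} (hu : u * t = t * u)
    (hv : v * t = t * v) (hup : PEl p u) (hvp : PEl p v) : u * v = v * u ∧ PEl p (u * v) := by
  obtain ⟨K, hKp, hKm, -⟩ := h.cent_comp ht
  obtain ⟨P, hP⟩ := hKp.exists_le_sylow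
  exact ⟨h.hab P u (hP (hKm u hu hup)) v (hP (hKm v hv hvp)),
    pel_of_mem hKp (mul_mem (hKm u hu hup) (hKm v hv hvp))⟩

theorem Setting.exists_conj_into (M : Subgroup G) (P : Sylow p G) (hPM : (P : Subgroup G) ≤ M)
    {x : G} (hx : x ∈ M) (hxp : PEl p x) : ∃ m ∈ M, m * x * m⁻¹ ∈ (P : Subgroup G) := by
  have hx' : IsPGroup p (zpowers (⟨x, hx⟩ : M)) :=
    pel_zpowers (hxp.imp fun k hk => Subtype.ext (by simpa using hk))
  obtain ⟨T, hT⟩ := hx'.exists_le_sylow
  obtain ⟨m, hm⟩ := MulAction.exists_smul_eq M T (P.subtype hPM)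
  refine ⟨m, m.2, ?_⟩
  have h1 := conj_mem_sylow T (g := m) (hT (mem_zpowers _))
  rw [hm, Sylow.coe_subtype, mem_subgroupOf] at h1
  simpa using h1

/-- A subgroup with only the primes `2`, `p` is the product of any of its Sylow subgroups. -/
theorem Setting.product (M : Subgroup G) (hM : M ≠ ⊤) (P : Sylow p G) (S : Sylow 2 G)
    (hPM : (P : Subgroup G) ≤ M) (hSM : (S : Subgroup G) ≤ M) :
    ∀ m ∈ M, ∃ a ∈ (P : Subgroup G), ∃ b ∈ (S : Subgroup G), m = a * b := by
  classical
  haveI := h.two_fact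
  have heven : 2 ∣ Nat.card M := by
    refine dvd_trans ?_ (card_dvd_of_le hSM)
    obtain ⟨k, hk⟩ := IsPGroup.iff_card.mp S.2
    have := h.hS S
    rcases Nat.eq_zero_or_pos k with rfl | hk0
    · have := hp.out.two_le; omega
    · rw [hk]; exact dvd_pow_self 2 hk0.ne'
  let f : ↥(P : Subgroup G) × ↥(S : Subgroup G) → M := fun ab =>
    ⟨(ab.1 : G) * ab.2, mul_mem (hPM ab.1.2) (hSM ab.2.2)⟩
  have hf : Function.Injective f := by
    rintro ⟨a, b⟩ ⟨a', b'⟩ he
    have he' : (a : G) * b = a' * b' := congrArg Subtype.val he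
    have h1 : (a' : G)⁻¹ * a = b' * (b : G)⁻¹ := by
      calc (a' : G)⁻¹ * a = (a' : G)⁻¹ * (a * b) * (b : G)⁻¹ := by group
        _ = b' * (b : G)⁻¹ := by rw [he']; group
    have h2 : (a' : G)⁻¹ * a = 1 := eq_one_of_pel (q := 2) h.hp2
      (pel_of_mem P.2 (mul_mem (inv_mem a'.2) a.2))
      (h1 ▸ pel_of_mem S.2 (mul_mem b'.2 (inv_mem b.2)))
    have ha : a = a' := Subtype.ext (inv_mul_eq_one.mp h2).symm
    subst ha
    exact Prod.ext rfl (Subtype.ext (mul_left_cancel he'))
  have hcard : Nat.card M ≤ Nat.card (↥(P : Subgroup G) × ↥(S : Subgroup G)) := by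
    rw [Nat.card_prod]
    refine Nat.le_of_dvd (Nat.mul_pos Nat.card_pos Nat.card_pos) ?_
    rw [Nat.dvd_iff_prime_pow_dvd_dvd]
    intro l k hl hlk
    rcases Nat.eq_zero_or_pos k with rfl | hk
    · simp
    have hlM : l ∣ Nat.card M := (dvd_pow_self l hk.ne').trans hlk
    rcases h.hsub M hM heven l hl hlM with rfl | rfl
    · exact dvd_mul_of_dvd_left (P.pow_dvd_card_of_pow_dvd_card
        (hlk.trans (card_subgroup_dvd_card M))) _
    · exact dvd_mul_of_dvd_right (S.pow_dvd_card_of_pow_dvd_card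
        (hlk.trans (card_subgroup_dvd_card M))) _
  intro m hm
  obtain ⟨⟨a, b⟩, hab⟩ := (hf.bijective_of_nat_card_le hcard).surjective ⟨m, hm⟩
  exact ⟨a, a.2, b, b.2, (congrArg Subtype.val hab).symm⟩

/-- A `p`-element centralising a Sylow `2`-subgroup commutes with those normalising it. -/
theorem Setting.comm_normalizing (S : Sylow 2 G) {d x : G}
    (hd : ∀ s ∈ (S : Subgroup G), d * s = s * d) (hdp : PEl p d)
    (hx : x ∈ normalizer ((S : Subgroup G) : Set G)) (hxp : PEl p x) : d * x = x * d := by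
  haveI := h.two_fact
  let C := centralizer ((S : Subgroup G) : Set G)
  have hmem : ∀ g, g ∈ C ↔ ∀ s ∈ (S : Subgroup G), g * s = s * g := fun g => by
    rw [mem_centralizer_iff]; exact ⟨fun hh s hs => (hh s hs).symm, fun hh s hs => (hh s hs).symm⟩
  have hSC : (S : Subgroup G) ≤ C := fun s hs => (hmem s).mpr fun s' hs' => h.comm S.2 hs hs'
  have heven : 2 ∣ Nat.card C := by
    refine dvd_trans ?_ (card_dvd_of_le hSC)
    obtain ⟨k, hk⟩ := IsPGroup.iff_card.mp S.2
    have := h.hS S
    rcases Nat.eq_zero_or_pos k with rfl | hk0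
    · have := hp.out.two_le; omega
    · rw [hk]; exact dvd_pow_self 2 hk0.ne'
  obtain ⟨K, hKC, hKp, hKm, -⟩ := h.comp C heven (fun T hT g hg _ _ r hr => by
    have hrS : r ∈ (S : Subgroup G) := by
      refine mem_sylow_of_mem_normalizer S (pel_of_mem T.2 hr) (centralizer_le_normalizer _ ?_)
      exact hT hr
    exact (hmem g).mp hg r hrS)
  have hxK : zpowers x ≤ normalizer (K : Set G) := by
    rw [zpowers_le, mem_normalizer_iff]
    have key : ∀ y ∈ normalizer ((S : Subgroup G) : Set G), ∀ k ∈ K, y * k * y⁻¹ ∈ K := by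
      intro y hy k hk
      refine hKm _ ((hmem _).mpr fun s hs => ?_) (pel_conj (pel_of_mem hKp hk) y)
      have h1 : y⁻¹ * s * y ∈ (S : Subgroup G) := by
        have := (mem_normalizer_iff.mp (inv_mem hy) s).mp hs
        simpa using this
      have h2 := (hmem k).mp (hKC hk) _ h1
      calc y * k * y⁻¹ * s = y * (k * (y⁻¹ * s * y)) * y⁻¹ := by group
        _ = y * ((y⁻¹ * s * y) * k) * y⁻¹ := by rw [h2]
        _ = s * (y * k * y⁻¹) := by group
    intro k
    refine ⟨key x hx k, fun hk => ?_⟩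
    have := key x⁻¹ (inv_mem hx) _ hk
    simpa [mul_assoc] using this
  obtain ⟨P, hP⟩ := ((pel_zpowers hxp).to_sup_of_normal_right' hKp hxK).exists_le_sylow
  exact h.hab P d (hP (mem_sup_right (hKm d ((hmem d).mpr hd) hdp))) x
    (hP (mem_sup_left (mem_zpowers x)))

/-- Itô's argument inside the centraliser of a `p`-element centralising a Sylow `2`-subgroup. -/
theorem Setting.ito_core (S : Sylow 2 G) {d : G} (hd1 : d ≠ 1) (hdp : PEl p d)
    (hd : ∀ s ∈ (S : Subgroup G), d * s = s * d) (P : Sylow p G) (hdP : d ∈ (P : Subgroup G))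
    {a s r : G} (ha : a ∈ (P : Subgroup G)) (hs : s ∈ (S : Subgroup G))
    (hr : r ∈ (S : Subgroup G)) : Commute ⁅a, s⁆ r := by
  haveI := h.two_fact
  let M := centralizer ({d} : Set G)
  have hM : M ≠ ⊤ := h.cent_ne_top hd1
  have hPM : (P : Subgroup G) ≤ M := fun b hb =>
    mem_centralizer_singleton_iff.mpr (h.hab P b hb d hdP)
  have hSM : (S : Subgroup G) ≤ M := fun b hb =>
    mem_centralizer_singleton_iff.mpr (hd b hb).symm
  have hprod := h.product M hM P S hPM hSM
  have hset : ((((P : Subgroup G) ⊔ S : Subgroup G)) : Set G) =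
      ((P : Subgroup G) : Set G) * ((S : Subgroup G) : Set G) := by
    refine le_antisymm (fun m hm => ?_) ?_
    · obtain ⟨a, ha, b, hb, rfl⟩ := hprod m (sup_le hPM hSM hm)
      exact Set.mul_mem_mul ha hb
    · rintro _ ⟨a, ha, b, hb, rfl⟩
      exact mul_mem (mem_sup_left ha) (mem_sup_right hb)
  obtain ⟨x, hxn, hxp, htr⟩ := h.hx S
  have hxM : x ∈ M := mem_centralizer_singleton_iff.mpr
    (h.comm_normalizing S hd hdp hxn hxp).symm
  obtain ⟨m, hm, hmP⟩ := h.exists_conj_into M P hPM hxM hxp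
  obtain ⟨c, hc, b, hb, rfl⟩ := hprod m hm
  -- `x' = b x b⁻¹` lies in `P`
  have hx'P : b * x * b⁻¹ ∈ (P : Subgroup G) := by
    have h1 : c⁻¹ * (c * b * x * (c * b)⁻¹) * c ∈ (P : Subgroup G) :=
      mul_mem (mul_mem (inv_mem hc) hmP) hc
    simpa [mul_assoc, mul_inv_rev] using h1
  have hbn : b ∈ normalizer ((S : Subgroup G) : Set G) := le_normalizer hb
  have hx'n : b * x * b⁻¹ ∈ normalizer ((S : Subgroup G) : Set G) :=
    mul_mem (mul_mem hbn hxn) (inv_mem hbn)
  have hmem : ∀ e ∈ (S : Subgroup G), ⁅b * x * b⁻¹, e⁆ ∈ (S : Subgroup G) := fun e he => by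
    rw [commutatorElement_def]
    exact mul_mem ((mem_normalizer_iff.mp hx'n e).mp he) (inv_mem he)
  have hfree : ∀ e ∈ (S : Subgroup G), (b * x * b⁻¹) * e = e * (b * x * b⁻¹) → e = 1 := by
    intro e he hce
    by_contra he1
    have hxe : x * e = e * x := by
      have hbe := h.comm S.2 hb he
      calc x * e = b⁻¹ * ((b * x * b⁻¹) * (b * e * b⁻¹)) * b := by group
        _ = b⁻¹ * ((b * x * b⁻¹) * e) * b := by rw [hbe]; group
        _ = b⁻¹ * (e * (b * x * b⁻¹)) * b := by rw [hce]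
        _ = b⁻¹ * ((b * e * b⁻¹) * (b * x * b⁻¹)) * b := by rw [hbe]; group
        _ = e * x := by group
    have hall : ∀ e' ∈ (S : Subgroup G), e' ≠ 1 → e' = e := by
      intro e' he' he'1
      obtain ⟨i, hi⟩ := htr e he e' he' he1 he'1
      rw [← hi, ((show Commute x e from hxe).pow_left i).eq, mul_inv_cancel_right]
    have h2 : Nat.card (S : Subgroup G) ≤ 2 := by
      have hsub : ((S : Subgroup G) : Set G) ⊆ {1, e} := fun e' he' => by
        by_cases h1 : e' = 1
        · exact Or.inl h1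
        · exact Or.inr (hall e' he' h1)
      have h3 := Set.ncard_le_ncard hsub (Set.toFinite _)
      rw [← Nat.card_coe_set_eq] at h3
      refine le_trans h3 ?_
      exact le_trans (Set.ncard_insert_le _ _) (by rw [Set.ncard_singleton])
    have := h.hS S
    have := hp.out.two_le
    omega
  let φ : ↥(S : Subgroup G) → ↥(S : Subgroup G) := fun e => ⟨⁅b * x * b⁻¹, (e : G)⁆, hmem e e.2⟩
  have hφ : Function.Injective φ := by
    intro e e' he
    have he' : ⁅b * x * b⁻¹, (e : G)⁆ = ⁅b * x * b⁻¹, (e' : G)⁆ := congrArg Subtype.val he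
    simp only [commutatorElement_def] at he'
    generalize hy : b * x * b⁻¹ = y at he'
    have h1 : y * ((e' : G)⁻¹ * e) * y⁻¹ = (e' : G)⁻¹ * e := by
      calc y * ((e' : G)⁻¹ * e) * y⁻¹
          = (y * e' * y⁻¹)⁻¹ * (y * e * y⁻¹ * (e : G)⁻¹) * e := by group
        _ = (y * e' * y⁻¹)⁻¹ * (y * e' * y⁻¹ * (e' : G)⁻¹) * e := by rw [he']
        _ = (e' : G)⁻¹ * e := by group
    have h2 := hfree ((e' : G)⁻¹ * e) (mul_mem (inv_mem e'.2) e.2) (by
      rw [hy]
      calc y * ((e' : G)⁻¹ * e) = (y * ((e' : G)⁻¹ * e) * y⁻¹) * y := by group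
        _ = _ := by rw [h1])
    exact Subtype.ext (inv_mul_eq_one.mp h2).symm
  obtain ⟨e, he⟩ := (Finite.injective_iff_surjective.mp hφ) ⟨r, hr⟩
  have he' : ⁅b * x * b⁻¹, (e : G)⁆ = r := congrArg Subtype.val he
  rw [← he']
  exact Cfsg.Agent.Lib.LocalEven2.CD.ito_commute hset (h.hab P)
    (fun b₁ hb₁ b₂ hb₂ => h.comm S.2 hb₁ hb₂) ha hs hx'P e.2

end Derived

section Cases

variable (h : Setting p G)
include h

/-- If a `p`-element `u` commutes with an involution `t` but not with an involution `s` commuting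
with `t`, no `p`-element other than `1` centralises a Sylow `2`-subgroup. -/
theorem Setting.no_sylow {t s u : G} (ht : IsInv t) (hs : IsInv s) (hts : s * t = t * s)
    (hu : u * t = t * u) (hup : PEl p u) (hus : u * s ≠ s * u) :
    ∀ S : Sylow 2 G, ∀ d : G, PEl p d → (∀ e ∈ (S : Subgroup G), d * e = e * d) → d = 1 := by
  haveI := h.two_fact
  intro S d hdp hd
  by_contra hd1
  obtain ⟨S₀, hs₀, ht₀⟩ := h.exists_sylow_pair hs ht hts
  obtain ⟨g, hg⟩ := MulAction.exists_smul_eq G S S₀
  -- move `d` to `S₀`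
  have hd' : ∀ e ∈ (S₀ : Subgroup G), (g * d * g⁻¹) * e = e * (g * d * g⁻¹) := by
    intro e he
    rw [← hg] at he
    obtain ⟨e', he', rfl⟩ := he
    show g * d * g⁻¹ * (g * e' * g⁻¹) = g * e' * g⁻¹ * (g * d * g⁻¹)
    calc g * d * g⁻¹ * (g * e' * g⁻¹) = g * (d * e') * g⁻¹ := by group
      _ = g * (e' * d) * g⁻¹ := by rw [hd e' he']
      _ = _ := by group
  have hd'1 : g * d * g⁻¹ ≠ 1 := fun he => hd1 (by
    calc d = g⁻¹ * (g * d * g⁻¹) * g := by group
      _ = 1 := by rw [he]; group)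
  have hd'p : PEl p (g * d * g⁻¹) := pel_conj hdp g
  have hd't := hd' t ht₀
  obtain ⟨P, hdP, huP⟩ := LargePrime.exists_sylow_pair hd'p hup
    (h.comm_of_commute_inv ht hd't hu hd'p hup).1
  have hc := h.ito_core S₀ hd'1 hd'p hd' P hdP huP hs₀ hs₀
  have h1 : s * u⁻¹ * s * t = t * (s * u⁻¹ * s) := by
    have hu' : u⁻¹ * t = t * u⁻¹ := (Commute.inv_left (show Commute u t from hu)).eq
    calc s * u⁻¹ * s * t = s * (u⁻¹ * (s * t)) := by group
      _ = s * (u⁻¹ * t) * s := by rw [hts]; group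
      _ = (s * t) * u⁻¹ * s := by rw [hu']; group
      _ = t * (s * u⁻¹ * s) := by rw [hts]; group
  have hcp : PEl p ⁅u, s⁆ := by
    have h2 : ⁅u, s⁆ = u * (s * u⁻¹ * s) := by rw [commutatorElement_def, hs.inv_eq]; group
    rw [h2]
    refine (h.comm_of_commute_inv ht hu h1 hup ?_).2
    have := pel_conj (pel_inv hup) s
    rwa [hs.inv_eq] at this
  have hinv : s * ⁅u, s⁆ * s = ⁅u, s⁆⁻¹ := by
    rw [commutatorElement_inv, commutatorElement_def, commutatorElement_def, hs.inv_eq]
    calc s * (u * s * u⁻¹ * s) * s = s * u * s * u⁻¹ * (s * s) := by group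
      _ = _ := by rw [hs.2, mul_one]
  have hfix : s * ⁅u, s⁆ * s = ⁅u, s⁆ := by
    rw [← hc.eq, mul_assoc, hs.2, mul_one]
  have h3 : ⁅u, s⁆ = 1 :=
    sq_ne_one_of_pel h.hp2 hcp (mul_eq_one_iff_eq_inv.mpr (hfix.symm.trans hinv))
  exact hus (commutatorElement_eq_one_iff_mul_comm.mp h3)

/-- Elementwise conjugation invariance of having no Sylow `2`-subgroup in the centraliser. -/
theorem Setting.uniq (hns : ∀ S : Sylow 2 G, ∀ d : G, PEl p d →
      (∀ e ∈ (S : Subgroup G), d * e = e * d) → d = 1)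
    {u w : G} (hu1 : u ≠ 1) (hup : PEl p u) (hw : IsInv w) (huw : u * w = w * u)
    {P P' : Sylow p G} (hP : u ∈ (P : Subgroup G)) (hP' : u ∈ (P' : Subgroup G)) : P = P' := by
  haveI := h.two_fact
  let C := centralizer ({u} : Set G)
  have hwC : w ∈ C := mem_centralizer_singleton_iff.mpr huw.symm
  have heven : 2 ∣ Nat.card C := by
    have h1 := Subgroup.card_dvd_of_le (zpowers_le.mpr hwC)
    rwa [Nat.card_zpowers, orderOf_eq_prime (by rw [pow_two, hw.2]) hw.1] at h1
  obtain ⟨K, -, hKp, hKm, -⟩ := h.comp C heven (fun S hS g _ _ _ r _ =>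
    absurd (hns S u hup fun e he => (mem_centralizer_singleton_iff.mp (hS he)).symm) hu1)
  have key : ∀ Q : Sylow p G, u ∈ (Q : Subgroup G) → (Q : Subgroup G) = K := by
    intro Q hQ
    have hle : (Q : Subgroup G) ≤ K := fun a ha =>
      hKm a (mem_centralizer_singleton_iff.mpr (h.hab Q a ha u hQ)) (pel_of_mem Q.2 ha)
    exact (Q.3 hKp hle).symm
  exact Sylow.ext ((key P hP).trans (key P' hP').symm)

omit h in
/-- The two-graph of commuting involutions cannot have the friendship property. -/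
theorem no_friendship {ι : Type*} [Fintype ι] [DecidableEq ι] (R : ι → ι → Prop)
    [DecidableRel R] (hRs : ∀ i j, R i j → R j i) (k : ℕ) (hk : 3 ≤ k)
    (hdeg : ∀ i, (Finset.univ.filter (R i)).card = k)
    (hcommon : ∀ i j, i ≠ j → ∃! l, R i l ∧ R l j) (hirr : ∀ i, ¬ R i i) (hne : Nonempty ι) :
    False := by
  obtain ⟨l, hl, hlk⟩ := Nat.exists_prime_and_dvd (n := k - 1) (by omega)
  haveI := Fact.mk hl
  let A : Matrix ι ι (ZMod l) := Matrix.of fun i j => if R i j then 1 else 0
  let J : Matrix ι ι (ZMod l) := Matrix.of fun _ _ => 1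
  have hk1 : ((k : ℕ) : ZMod l) = 1 := by
    have h1 : ((k - 1 : ℕ) : ZMod l) = 0 := by
      obtain ⟨c, hc⟩ := hlk
      rw [hc, Nat.cast_mul, ZMod.natCast_self, zero_mul]
    rw [Nat.cast_sub (by omega), Nat.cast_one, sub_eq_zero] at h1
    exact h1
  have hAA : A * A = J := by
    ext i j
    have : (A * A) i j = ((Finset.univ.filter fun x => R i x ∧ R x j).card : ZMod l) := by
      rw [Matrix.mul_apply, Finset.natCast_card_filter]
      refine Finset.sum_congr rfl fun x _ => ?_
      simp only [A, Matrix.of_apply]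
      split_ifs <;> simp_all
    rw [this]
    show _ = (1 : ZMod l)
    by_cases hij : i = j
    · subst hij
      rw [show (Finset.univ.filter fun x => R i x ∧ R x i) = Finset.univ.filter (R i) from
        Finset.filter_congr fun x _ => ⟨fun hx => hx.1, fun hx => ⟨hx, hRs _ _ hx⟩⟩, hdeg, hk1]
    · obtain ⟨x, hx, hu⟩ := hcommon i j hij
      rw [show (Finset.univ.filter fun x => R i x ∧ R x j) = {x} by
        ext y; simp only [Finset.mem_filter, Finset.mem_univ, true_and, Finset.mem_singleton]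
        exact ⟨fun hy => hu y hy, fun hy => hy ▸ hx⟩]
      simp
  have hAJ : A * J = J := by
    ext i j
    simp only [Matrix.mul_apply, J, Matrix.of_apply, mul_one, A]
    rw [← Finset.natCast_card_filter, hdeg, hk1]
  have hpow : ∀ m : ℕ, A ^ (m + 2) = J := by
    intro m
    induction m with
    | zero => rw [zero_add, pow_two, hAA]
    | succ m ih => rw [pow_succ', ih, hAJ]
  obtain ⟨i₀⟩ := hne
  have hn : ((Fintype.card ι : ℕ) : ZMod l) = 1 := by
    have h1 : J * J = J := by
      calc J * J = A ^ (2 + 2) := by rw [pow_add, pow_two, hAA]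
        _ = J := hpow 2
    have h2 := congrArg (fun M : Matrix ι ι (ZMod l) => M i₀ i₀) h1
    simpa [Matrix.mul_apply, J] using h2
  have htr := ZMod.trace_pow_card A
  have h0 : Matrix.trace A = 0 := by simp [Matrix.trace, A, hirr]
  obtain ⟨m, hm⟩ := Nat.exists_eq_add_of_le hl.two_le
  rw [h0, zero_pow hl.ne_zero] at htr
  have hJ := hpow m
  rw [show m + 2 = l by omega] at hJ
  rw [hJ] at htr
  simp [Matrix.trace, J, hn] at htr

/-- Second case. -/
theorem Setting.case_two {t₁ s₁ u₁ : G} (ht₁ : IsInv t₁) (hs₁ : IsInv s₁)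
    (hts₁ : s₁ * t₁ = t₁ * s₁) (hu₁ : u₁ * t₁ = t₁ * u₁) (hup₁ : PEl p u₁)
    (hus₁ : u₁ * s₁ ≠ s₁ * u₁) : False := by
  classical
  haveI := h.two_fact
  have hns := h.no_sylow ht₁ hs₁ hts₁ hu₁ hup₁ hus₁
  have hu₁1 : u₁ ≠ 1 := fun he => hus₁ (by rw [he, one_mul, mul_one])
  -- every involution centralises some nontrivial `p`-element
  have hex : ∀ t : G, IsInv t → ∃ u, u ≠ 1 ∧ PEl p u ∧ u * t = t * u := by
    intro t ht
    obtain ⟨g, rfl⟩ := h.isConj ht₁ ht
    refine ⟨g * u₁ * g⁻¹, fun he => hu₁1 ?_, pel_conj hup₁ g, ?_⟩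
    · calc u₁ = g⁻¹ * (g * u₁ * g⁻¹) * g := by group
        _ = 1 := by rw [he]; group
    · calc g * u₁ * g⁻¹ * (g * t₁ * g⁻¹) = g * (u₁ * t₁) * g⁻¹ := by group
        _ = g * (t₁ * u₁) * g⁻¹ := by rw [hu₁]
        _ = _ := by group
  -- the local structure
  have hloc : ∀ (t : G) (ht : IsInv t) (S : Sylow 2 G) (htS : t ∈ (S : Subgroup G)) (u : G),
      u ≠ 1 → PEl p u → u * t = t * u → ∀ P : Sylow p G, u ∈ (P : Subgroup G) →
      (∀ s ∈ (S : Subgroup G), s ≠ 1 → s ≠ t → ∀ a ∈ (P : Subgroup G), s * a * s = a⁻¹) ∧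
      (∀ a ∈ (P : Subgroup G), a * t = t * a) ∧
      (∀ v ∈ (P : Subgroup G), ∀ s ∈ (S : Subgroup G), s ≠ 1 → s * v = v * s → v ≠ 1 → s = t) ∧
      Nat.card (S : Subgroup G) = 4 := by
    intro t ht S htS u hu1 hup hut P huP
    -- `S` normalises `P`
    have hnorm : ∀ s ∈ (S : Subgroup G), s • P = P := by
      intro s hs
      have hst : s * t = t * s := h.comm S.2 hs htS
      have h1 : (s * u * s⁻¹) * t = t * (s * u * s⁻¹) := by
        have h2 : s⁻¹ * t = t * s⁻¹ := (Commute.inv_left (show Commute s t from hst)).eq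
        calc s * u * s⁻¹ * t = s * (u * (s⁻¹ * t)) := by group
          _ = s * (u * t) * s⁻¹ := by rw [h2]; group
          _ = (s * t) * u * s⁻¹ := by rw [hut]; group
          _ = t * (s * u * s⁻¹) := by rw [hst]; group
      have hne : s * u * s⁻¹ ≠ 1 := fun he => hu1 (by
        calc u = s⁻¹ * (s * u * s⁻¹) * s := by group
          _ = 1 := by rw [he]; group)
      obtain ⟨P', hP'1, hP'2⟩ := LargePrime.exists_sylow_pair hup (pel_conj hup s)
        (h.comm_of_commute_inv ht hut h1 hup (pel_conj hup s)).1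
      have e1 := h.uniq hns hu1 hup ht hut hP'1 huP
      exact h.uniq hns hne (pel_conj hup s) ht h1 (conj_mem_sylow P huP) (e1 ▸ hP'2)
    have hmemP : ∀ s ∈ (S : Subgroup G), ∀ a ∈ (P : Subgroup G),
        s * a * s⁻¹ ∈ (P : Subgroup G) := fun s hs a ha => by
      have := conj_mem_sylow P (g := s) ha
      rwa [hnorm s hs] at this
    have hfix : ∀ v ∈ (P : Subgroup G), ∀ s ∈ (S : Subgroup G), s ≠ 1 → s * v = v * s →
        v ≠ 1 → s = t := by
      intro v hv s hs hs1 hsv hv1
      obtain ⟨x, hxn, hxp, htr⟩ := h.hx S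
      obtain ⟨i, hi⟩ := htr t htS s hs ht.1 hs1
      have hy : PEl p (x ^ i) := hxp.imp fun k hk => by
        rw [← pow_mul, mul_comm, pow_mul, hk, one_pow]
      generalize hyx : x ^ i = y at hi hy
      have hyn : y ∈ normalizer ((S : Subgroup G) : Set G) := hyx ▸ pow_mem hxn i
      have hsI := h.isInv S.2 hs hs1
      have h1 : (y * u * y⁻¹) * s = s * (y * u * y⁻¹) := by
        rw [← hi]
        calc y * u * y⁻¹ * (y * t * y⁻¹) = y * (u * t) * y⁻¹ := by group
          _ = y * (t * u) * y⁻¹ := by rw [hut]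
          _ = _ := by group
      have hne : y * u * y⁻¹ ≠ 1 := fun he => hu1 (by
        calc u = y⁻¹ * (y * u * y⁻¹) * y := by group
          _ = 1 := by rw [he]; group)
      obtain ⟨P', hP'1, hP'2⟩ := LargePrime.exists_sylow_pair (pel_of_mem P.2 hv) (pel_conj hup y)
        (h.comm_of_commute_inv hsI hsv.symm h1 (pel_of_mem P.2 hv) (pel_conj hup y)).1
      have e1 := h.uniq hns hv1 (pel_of_mem P.2 hv) hsI hsv.symm hP'1 hv
      have e2 : y • P = P :=
        h.uniq hns hne (pel_conj hup y) hsI h1 (conj_mem_sylow P huP) (e1 ▸ hP'2)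
      have hyP : y ∈ (P : Subgroup G) :=
        mem_sylow_of_mem_normalizer P hy (Sylow.smul_eq_iff_mem_normalizer.mp e2)
      have h3 : y * t * y⁻¹ * t⁻¹ = 1 := eq_one_of_pel (q := 2) h.hp2
        (pel_of_mem P.2 (show y * t * y⁻¹ * t⁻¹ ∈ (P : Subgroup G) by
          rw [show y * t * y⁻¹ * t⁻¹ = y * (t * y⁻¹ * t⁻¹) by group]
          exact mul_mem hyP (hmemP t htS _ (inv_mem hyP))))
        (pel_of_mem S.2 (mul_mem ((mem_normalizer_iff.mp hyn t).mp htS) (inv_mem htS)))
      rw [← hi]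
      calc y * t * y⁻¹ = (y * t * y⁻¹ * t⁻¹) * t := by group
        _ = t := by rw [h3, one_mul]
    have hinv : ∀ s ∈ (S : Subgroup G), s ≠ 1 → s ≠ t → ∀ a ∈ (P : Subgroup G),
        s * a * s = a⁻¹ := by
      intro s hs hs1 hst a ha
      have hss := h.sq S.2 hs
      have hsi : s⁻¹ = s := inv_eq_of_mul_eq_one_right hss
      have hb : s * a * s ∈ (P : Subgroup G) := by
        have := hmemP s hs a ha
        rwa [hsi] at this
      have hv : a * (s * a * s) = 1 := by
        by_contra hne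
        refine hst (hfix _ (mul_mem ha hb) s hs hs1 ?_ hne)
        have hab := h.hab P a ha _ hb
        calc s * (a * (s * a * s)) = (s * a * s) * a * s := by group
          _ = (a * (s * a * s)) * s := by rw [← hab]
      exact (inv_eq_of_mul_eq_one_right hv).symm
    -- only four elements
    have hpair : ∀ s ∈ (S : Subgroup G), ∀ s' ∈ (S : Subgroup G), s ≠ 1 → s ≠ t → s' ≠ 1 →
        s' ≠ t → s' = s ∨ s' = s * t := by
      intro s hs s' hs' hs1 hst hs'1 hs't
      by_contra hne
      push Not at hne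
      have hss := h.sq S.2 hs
      have hsi : s⁻¹ = s := inv_eq_of_mul_eq_one_right hss
      have hp1 : s * s' ≠ 1 := fun he => hne.1 (by
        calc s' = s⁻¹ * (s * s') := by group
          _ = s := by rw [he, mul_one, hsi])
      have hpt : s * s' ≠ t := fun he => hne.2 (by
        calc s' = s⁻¹ * (s * s') := by group
          _ = s * t := by rw [he, hsi])
      have h1 := hinv (s * s') (mul_mem hs hs') hp1 hpt u huP
      have h2 : s * s' * u * (s * s') = u := by
        calc s * s' * u * (s * s') = s * (s' * u * s) * s' := by group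
          _ = s * (s' * u * (s' * (s' * s))) * s' := by rw [← mul_assoc s', h.sq S.2 hs', one_mul]
          _ = s * ((s' * u * s') * (s * s')) * s' := by rw [h.comm S.2 hs' hs]; group
          _ = (s * u⁻¹ * s) * (s' * s') := by rw [hinv s' hs' hs'1 hs't u huP]; group
          _ = (s * u * s)⁻¹ * (s' * s') := by
            rw [show (s * u * s)⁻¹ = s⁻¹ * u⁻¹ * s⁻¹ by group, hsi]
          _ = u := by rw [hinv s hs hs1 hst u huP, inv_inv, h.sq S.2 hs', mul_one]
      exact hu1 (sq_ne_one_of_pel h.hp2 hup (mul_eq_one_iff_eq_inv.mpr (h2.symm.trans h1)))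
    obtain ⟨s, hs, hs1, hst⟩ : ∃ s ∈ (S : Subgroup G), s ≠ 1 ∧ s ≠ t := by
      by_contra hne
      push Not at hne
      have hsub : ((S : Subgroup G) : Set G) ⊆ {1, t} := fun e he => by
        by_cases h1 : e = 1
        · exact Or.inl h1
        · exact Or.inr (hne e he h1)
      have h3 := Set.ncard_le_ncard hsub (Set.toFinite _)
      rw [← Nat.card_coe_set_eq] at h3
      have h4 : Nat.card (S : Subgroup G) ≤ 2 := le_trans h3
        (le_trans (Set.ncard_insert_le _ _) (by rw [Set.ncard_singleton]))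
      have := h.hS S; have := hp.out.two_le; omega
    refine ⟨hinv, fun a ha => ?_, hfix, le_antisymm ?_ ?_⟩
    · have hst1 : s * t ≠ 1 := fun he => hst (by
        calc s = s * (t * t) := by rw [ht.2, mul_one]
          _ = t := by rw [← mul_assoc, he, one_mul])
      have hstt : s * t ≠ t := fun he => hs1 (mul_eq_right.mp he)
      have h1 := hinv (s * t) (mul_mem hs htS) hst1 hstt a ha
      have h2 := hinv s hs hs1 hst a ha
      have hcs : s * t = t * s := h.comm S.2 hs htS
      have h3 : t * a * t = a := by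
        calc t * a * t = (s * s) * t * a * t * (s * s) := by rw [h.sq S.2 hs]; group
          _ = s * ((s * t) * a * (t * s)) * s := by group
          _ = s * ((s * t) * a * (s * t)) * s := by rw [hcs]
          _ = s * a⁻¹ * s := by rw [h1]
          _ = (s⁻¹ * a * s⁻¹)⁻¹ := by group
          _ = a := by rw [inv_eq_of_mul_eq_one_right (h.sq S.2 hs), h2, inv_inv]
      calc a * t = (t * a * t) * t := by rw [h3]
        _ = t * a * (t * t) := by group
        _ = t * a := by rw [ht.2, mul_one]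
    · have hsub : ((S : Subgroup G) : Set G) ⊆ ↑({1, t, s, s * t} : Finset G) := fun e he => by
        simp only [Finset.coe_insert, Finset.coe_singleton, Set.mem_insert_iff,
          Set.mem_singleton_iff]
        by_cases h1 : e = 1
        · exact Or.inl h1
        · by_cases h2 : e = t
          · exact Or.inr (Or.inl h2)
          · exact Or.inr (Or.inr (hpair s hs e he hs1 hst h1 h2))
      have h3 := Set.ncard_le_ncard hsub (Finset.finite_toSet _)
      rw [Set.ncard_coe_finset, ← Nat.card_coe_set_eq] at h3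
      exact le_trans h3 Finset.card_le_four
    · rw [h.hS]
      have := hp.out.two_le
      have := h.hp2
      omega
  have hfour : ∀ S : Sylow 2 G, Nat.card (S : Subgroup G) = 4 := by
    intro S
    obtain ⟨S₁, hS₁, -⟩ := h.exists_sylow_pair ht₁ hs₁ hts₁.symm
    obtain ⟨P, hP, -⟩ := LargePrime.exists_sylow_pair hup₁ hup₁ rfl
    rw [h.hS, ← h.hS S₁]
    exact (hloc t₁ ht₁ S₁ hS₁ u₁ hu₁1 hup₁ hu₁ P hP).2.2.2
  -- every `p`-element commutes with an involution
  have hall : ∀ y : G, PEl p y → ∃ w, IsInv w ∧ y * w = w * y := by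
    intro y hyp
    obtain ⟨P, hyP, -⟩ := LargePrime.exists_sylow_pair hyp hyp rfl
    obtain ⟨P₁, hP₁, -⟩ := LargePrime.exists_sylow_pair hup₁ hup₁ rfl
    obtain ⟨S₁, hS₁⟩ := h.exists_sylow ht₁
    obtain ⟨g, hg⟩ := MulAction.exists_smul_eq G P₁ P
    refine ⟨g * t₁ * g⁻¹, ht₁.conj g, ?_⟩
    rw [← hg] at hyP
    obtain ⟨a, ha, rfl⟩ := hyP
    show g * a * g⁻¹ * (g * t₁ * g⁻¹) = g * t₁ * g⁻¹ * (g * a * g⁻¹)
    calc g * a * g⁻¹ * (g * t₁ * g⁻¹) = g * (a * t₁) * g⁻¹ := by group
      _ = g * (t₁ * a) * g⁻¹ := by rw [(hloc t₁ ht₁ S₁ hS₁ u₁ hu₁1 hup₁ hu₁ P₁ hP₁).2.1 a ha]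
      _ = _ := by group
  -- the involution commuting with a given `p`-element is unique
  have huniq : ∀ y : G, PEl p y → y ≠ 1 → ∀ w w', IsInv w → IsInv w' → y * w = w * y →
      y * w' = w' * y → w = w' := by
    intro y hyp hy1 w w' hw hw' hyw hyw'
    obtain ⟨P, hyP, -⟩ := LargePrime.exists_sylow_pair hyp hyp rfl
    obtain ⟨S, hwS⟩ := h.exists_sylow hw
    by_cases hcomm : w' * w = w * w'
    · obtain ⟨T, hwT, hw'T⟩ := h.exists_sylow_pair hw hw' hcomm.symm
      exact ((hloc w hw T hwT y hy1 hyp hyw P hyP).2.2.1 y hyP w' hw'T hw'.1 hyw'.symm hy1).symm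
    exfalso
    -- `P` is centralised by both, and `w * w'` has an odd prime in its order
    obtain ⟨T, hw'T⟩ := h.exists_sylow hw'
    have hwP := (hloc w hw S hwS y hy1 hyp hyw P hyP).2.1
    have hw'P := (hloc w' hw' T hw'T y hy1 hyp hyw' P hyP).2.1
    let C := centralizer ({y} : Set G)
    have hwC : w ∈ C := mem_centralizer_singleton_iff.mpr hyw.symm
    have hw'C : w' ∈ C := mem_centralizer_singleton_iff.mpr hyw'.symm
    have heven : 2 ∣ Nat.card C := by
      have h1 := Subgroup.card_dvd_of_le (zpowers_le.mpr hwC)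
      rwa [Nat.card_zpowers, orderOf_eq_prime (by rw [pow_two, hw.2]) hw.1] at h1
    have hzC : w * w' ∈ C := mul_mem hwC hw'C
    by_cases h2 : ∀ l : ℕ, l.Prime → l ∣ orderOf (w * w') → l = 2
    · obtain ⟨k, hk⟩ : ∃ k, orderOf (w * w') = 2 ^ k :=
        ⟨_, Nat.eq_prime_pow_of_unique_prime_dvd (orderOf_pos _).ne' fun {d} hd hdn => h2 d hd hdn⟩
      have hz := h.sq (pel_zpowers (p := 2) (g := w * w')
        ⟨k, by rw [← hk, pow_orderOf_eq_one]⟩) (mem_zpowers _)
      exact hcomm (by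
        calc w' * w = w'⁻¹ * w⁻¹ := by rw [hw.inv_eq, hw'.inv_eq]
          _ = (w * w')⁻¹ := (mul_inv_rev _ _).symm
          _ = w * w' := inv_eq_of_mul_eq_one_right hz)
    · push Not at h2
      obtain ⟨l, hl, hld, hl2⟩ := h2
      obtain ⟨c, hc⟩ := hld
      have hcpos : 0 < c := by
        rcases Nat.eq_zero_or_pos c with h0 | h0
        · rw [h0, mul_zero] at hc; exact absurd hc (orderOf_pos _).ne'
        · exact h0
      have hozc : orderOf ((w * w') ^ c) = l := by
        rw [orderOf_pow' _ hcpos.ne', hc, Nat.gcd_mul_left_left, Nat.mul_div_cancel _ hcpos]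
      have hlp : l = p := by
        refine (h.hsub C (h.cent_ne_top hy1) heven l hl ?_).resolve_right hl2
        rw [← hozc]; exact Subgroup.orderOf_dvd_natCard _ (pow_mem hzC c)
      have hzp : PEl p ((w * w') ^ c) := ⟨1, by rw [pow_one, ← hlp, ← hozc, pow_orderOf_eq_one]⟩
      have hz1 : (w * w') ^ c ≠ 1 := fun he => by
        rw [he, orderOf_one] at hozc; exact hl.one_lt.ne hozc
      obtain ⟨P', hP'1, hP'2⟩ := LargePrime.exists_sylow_pair hyp hzp
        ((show Commute y (w * w') from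
          (mem_centralizer_singleton_iff.mp hzC).symm).pow_right c).eq
      have hzP : (w * w') ^ c ∈ (P : Subgroup G) := (h.uniq hns hy1 hyp hw hyw hP'1 hyP) ▸ hP'2
      have h1 := hwP _ hzP
      have h3 : w * (w * w') ^ c * w⁻¹ = ((w * w') ^ c)⁻¹ := by
        rw [← conj_pow, ← inv_pow, mul_inv_rev, hw.inv_eq, hw'.inv_eq]
        congr 1
        calc w * (w * w') * w = (w * w) * w' * w := by group
          _ = w' * w := by rw [hw.2, one_mul]
      rw [← h1, mul_inv_cancel_right] at h3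
      exact hz1 (sq_ne_one_of_pel h.hp2 hzp (mul_eq_one_iff_eq_inv.mpr h3))
  -- the commuting graph on involutions
  let ι := {t : G // IsInv t}
  haveI := Fintype.ofFinite ι
  let R : ι → ι → Prop := fun i j => i.1 ≠ j.1 ∧ i.1 * j.1 = j.1 * i.1
  let N : ι → Finset ι := fun i => Finset.univ.filter (R i)
  let i₁ : ι := ⟨t₁, ht₁⟩
  have hle : ∀ i j : ι, (N i).card ≤ (N j).card := by
    intro i j
    obtain ⟨g, hg⟩ := h.isConj i.2 j.2
    refine Finset.card_le_card_of_injOn (fun x => (⟨g * x.1 * g⁻¹, x.2.conj g⟩ : ι))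
      (fun x hx => ?_) (fun x _ y _ hxy => ?_)
    · simp only [N, R, Finset.coe_filter, Finset.mem_univ, true_and, Set.mem_setOf_eq] at hx ⊢
      rw [← hg]
      refine ⟨fun he => hx.1 (mul_left_cancel (mul_right_cancel he)), ?_⟩
      calc g * i.1 * g⁻¹ * (g * x.1 * g⁻¹) = g * (i.1 * x.1) * g⁻¹ := by group
        _ = g * (x.1 * i.1) * g⁻¹ := by rw [hx.2]
        _ = _ := by group
    · exact Subtype.ext (mul_left_cancel (mul_right_cancel (congrArg Subtype.val hxy)))
  refine no_friendship R (fun i j hij => ⟨hij.1.symm, hij.2.symm⟩) (N i₁).card ?_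
    (fun i => le_antisymm (hle i i₁) (hle i₁ i)) ?_ (fun i hi => hi.1 rfl) ⟨i₁⟩
  · -- three neighbours
    obtain ⟨S, hs, ht⟩ := h.exists_sylow_pair hs₁ ht₁ hts₁
    obtain ⟨P, hP, -⟩ := LargePrime.exists_sylow_pair hup₁ hup₁ rfl
    obtain ⟨hinv, hcent, -, -⟩ := hloc t₁ ht₁ S ht u₁ hu₁1 hup₁ hu₁ P hP
    have hst : s₁ ≠ t₁ := fun he => hus₁ (he ▸ hu₁)
    have hu2 : u₁ * u₁ ≠ 1 := fun he => hu₁1 (sq_ne_one_of_pel h.hp2 hup₁ he)
    have hinvs : s₁ * u₁⁻¹ * s₁ = u₁ := by
      have := congrArg (·⁻¹) (hinv s₁ hs hs₁.1 hst u₁ hP)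
      simpa [mul_assoc, hs₁.inv_eq] using this
    have h3 : u₁ * s₁ * u₁⁻¹ = u₁ * u₁ * s₁ := by
      calc u₁ * s₁ * u₁⁻¹ = u₁ * (s₁ * u₁⁻¹) * (s₁ * s₁) := by rw [hs₁.2, mul_one, mul_assoc]
        _ = u₁ * (s₁ * u₁⁻¹ * s₁) * s₁ := by group
        _ = u₁ * u₁ * s₁ := by rw [hinvs]
    have hst' : IsInv (s₁ * t₁) := h.isInv S.2 (mul_mem hs ht) fun he => hst (by
      calc s₁ = s₁ * (t₁ * t₁) := by rw [ht₁.2, mul_one]
        _ = t₁ := by rw [← mul_assoc, he, one_mul])
    have hmem : ∀ i : ι, i.1 ≠ t₁ → i.1 * t₁ = t₁ * i.1 → i ∈ N i₁ := fun i h1 h2 =>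
      Finset.mem_filter.mpr ⟨Finset.mem_univ _, h1.symm, h2.symm⟩
    let a : ι := ⟨s₁, hs₁⟩
    let b : ι := ⟨s₁ * t₁, hst'⟩
    let c : ι := ⟨u₁ * s₁ * u₁⁻¹, hs₁.conj u₁⟩
    have hab : a ≠ b := fun he => ht₁.1 (mul_eq_left.mp (congrArg Subtype.val he).symm)
    have hac : a ≠ c := fun he => hu2 (mul_eq_right.mp (h3.symm.trans (congrArg Subtype.val he).symm))
    have hbc : b ≠ c := fun he => by
      have h4 : s₁ * t₁ = u₁ * u₁ * s₁ := (congrArg Subtype.val he).trans h3
      rw [hts₁] at h4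
      have h5 := mul_right_cancel h4
      exact ht₁.1 (eq_one_of_pel (q := 2) h.hp2 (h5 ▸ pel_of_mem P.2 (mul_mem hP hP)) ht₁.pel_two)
    have hsub : ({a, b, c} : Finset ι) ⊆ N i₁ := by
      intro i hi
      simp only [Finset.mem_insert, Finset.mem_singleton] at hi
      rcases hi with rfl | rfl | rfl
      · exact hmem _ hst hts₁
      · refine hmem _ (fun he => hs₁.1 (mul_eq_right.mp he)) ?_
        exact h.comm S.2 (mul_mem hs ht) ht
      · refine hmem _ (fun he => hst ?_) ?_
        · calc s₁ = u₁⁻¹ * (u₁ * s₁ * u₁⁻¹) * u₁ := by group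
            _ = u₁⁻¹ * (u₁ * t₁) := by rw [show (u₁ * s₁ * u₁⁻¹) = t₁ from he, hu₁]; group
            _ = t₁ := by group
        · have hu₁' : u₁⁻¹ * t₁ = t₁ * u₁⁻¹ := (Commute.inv_left (show Commute u₁ t₁ from hu₁)).eq
          calc u₁ * s₁ * u₁⁻¹ * t₁ = u₁ * (s₁ * (u₁⁻¹ * t₁)) := by group
            _ = u₁ * (s₁ * t₁) * u₁⁻¹ := by rw [hu₁']; group
            _ = (u₁ * t₁) * s₁ * u₁⁻¹ := by rw [hts₁]; group
            _ = t₁ * (u₁ * s₁ * u₁⁻¹) := by rw [hu₁]; group
    refine le_trans (le_of_eq ?_) (Finset.card_le_card hsub)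
    rw [Finset.card_insert_of_notMem (by simp [hab, hac]), Finset.card_pair hbc]
  · intro i j hij
    obtain ⟨t, ht⟩ := i
    obtain ⟨s, hs⟩ := j
    have hts : t ≠ s := fun he => hij (Subtype.ext he)
    by_cases hc : t * s = s * t
    · obtain ⟨S, htS, hsS⟩ := h.exists_sylow_pair ht hs hc
      have hp1 : t * s ≠ 1 := fun he => hts (by
        calc t = t * (s * s) := by rw [hs.2, mul_one]
          _ = s := by rw [← mul_assoc, he, one_mul])
      refine ⟨⟨t * s, h.isInv S.2 (mul_mem htS hsS) hp1⟩, ⟨⟨fun he => hs.1 (left_eq_mul.mp he),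
        h.comm S.2 htS (mul_mem htS hsS)⟩, ⟨fun he => ht.1 (mul_eq_right.mp he),
        h.comm S.2 (mul_mem htS hsS) hsS⟩⟩, ?_⟩
      rintro ⟨w, hw⟩ ⟨⟨hwt, hwct⟩, ⟨hws, hwcs⟩⟩
      apply Subtype.ext
      -- `⟨t, s, w⟩` lies in a Sylow subgroup of order four
      have hS2 : IsPGroup 2 (zpowers w ⊔ (zpowers t ⊔ zpowers s) : Subgroup G) := by
        refine hw.zpowers.to_sup_of_normal_right' (ht.zpowers.to_sup_of_normal_right' hs.zpowers ?_) ?_
        · refine le_trans ?_ (centralizer_le_normalizer _)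
          rw [zpowers_le, mem_centralizer_iff]
          rintro c ⟨n, rfl⟩
          exact ((show Commute t s from hc).zpow_right n).eq.symm
        · refine le_trans ?_ (centralizer_le_normalizer _)
          rw [zpowers_le, mem_centralizer_iff]
          have hle : zpowers t ⊔ zpowers s ≤ centralizer ({w} : Set G) :=
            sup_le (zpowers_le.mpr (mem_centralizer_singleton_iff.mpr hwct))
              (zpowers_le.mpr (mem_centralizer_singleton_iff.mpr hwcs.symm))
          intro c hcm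
          exact (mem_centralizer_singleton_iff.mp (hle hcm))
      obtain ⟨T, hT⟩ := hS2.exists_le_sylow
      have htT : t ∈ (T : Subgroup G) := hT (mem_sup_right (mem_sup_left (mem_zpowers t)))
      have hsT : s ∈ (T : Subgroup G) := hT (mem_sup_right (mem_sup_right (mem_zpowers s)))
      have hwT : w ∈ (T : Subgroup G) := hT (mem_sup_left (mem_zpowers w))
      by_contra hne
      have hsub : (({1, t, s, t * s, w} : Finset G) : Set G) ⊆ ((T : Subgroup G) : Set G) := by
        intro e he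
        simp only [Finset.coe_insert, Finset.coe_singleton, Set.mem_insert_iff,
          Set.mem_singleton_iff] at he
        rw [SetLike.mem_coe]
        rcases he with rfl | rfl | rfl | rfl | rfl
        exacts [one_mem _, htT, hsT, mul_mem htT hsT, hwT]
      have h5 : ({1, t, s, t * s, w} : Finset G).card = 5 := by
        have e1 : t * s ≠ t := fun he => hs.1 (mul_eq_left.mp he)
        have e2 : t * s ≠ s := fun he => ht.1 (mul_eq_right.mp he)
        rw [Finset.card_insert_of_notMem (by simp [ht.1.symm, hs.1.symm, hp1.symm, hw.1.symm]),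
          Finset.card_insert_of_notMem (by simp [hts, e1.symm, hwt]),
          Finset.card_insert_of_notMem (by simp [e2.symm, Ne.symm hws]),
          Finset.card_pair (fun he => hne he.symm)]
      have h6 := Set.ncard_le_ncard hsub (Set.toFinite _)
      rw [Set.ncard_coe_finset, h5, ← Nat.card_coe_set_eq] at h6
      exact absurd (le_trans h6 (le_of_eq (hfour T))) (by decide)
    · -- an element inverted by both
      by_cases h2 : ∀ l : ℕ, l.Prime → l ∣ orderOf (t * s) → l = 2
      · exfalso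
        obtain ⟨k, hk⟩ : ∃ k, orderOf (t * s) = 2 ^ k :=
          ⟨_, Nat.eq_prime_pow_of_unique_prime_dvd (orderOf_pos _).ne' fun {d} hd hdn => h2 d hd hdn⟩
        have hz := h.sq (pel_zpowers (p := 2) (g := t * s)
          ⟨k, by rw [← hk, pow_orderOf_eq_one]⟩) (mem_zpowers _)
        exact hc (by
          calc t * s = (t * s)⁻¹ := (inv_eq_of_mul_eq_one_right hz).symm
            _ = s⁻¹ * t⁻¹ := mul_inv_rev _ _
            _ = s * t := by rw [ht.inv_eq, hs.inv_eq])
      push Not at h2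
      obtain ⟨l, hl, hld, hl2⟩ := h2
      obtain ⟨c, hcz⟩ := hld
      have hcpos : 0 < c := by
        rcases Nat.eq_zero_or_pos c with h0 | h0
        · rw [h0, mul_zero] at hcz; exact absurd hcz (orderOf_pos _).ne'
        · exact h0
      have hozc : orderOf ((t * s) ^ c) = l := by
        rw [orderOf_pow' _ hcpos.ne', hcz, Nat.gcd_mul_left_left, Nat.mul_div_cancel _ hcpos]
      have hy1 : (t * s) ^ c ≠ 1 := fun he => by
        rw [he, orderOf_one] at hozc; exact hl.one_lt.ne hozc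
      have hty : t * (t * s) ^ c * t⁻¹ = ((t * s) ^ c)⁻¹ := by
        rw [← conj_pow, ← inv_pow, mul_inv_rev, ht.inv_eq, hs.inv_eq]
        congr 1
        calc t * (t * s) * t = (t * t) * s * t := by group
          _ = s * t := by rw [ht.2, one_mul]
      have hsy : s * (t * s) ^ c * s⁻¹ = ((t * s) ^ c)⁻¹ := by
        rw [← conj_pow, ← inv_pow, mul_inv_rev, ht.inv_eq, hs.inv_eq]
        congr 1
        calc s * (t * s) * s = s * t * (s * s) := by group
          _ = s * t := by rw [hs.2, mul_one]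
      have hlp : l = p := by
        refine (h.hsub _ (h.norm_ne_top hy1) ?_ l hl ?_).resolve_right hl2
        · have htN : t ∈ normalizer ((zpowers ((t * s) ^ c) : Subgroup G) : Set G) := by
            exact mem_normalizer_zpowers_of_conj hty
          have h1 := Subgroup.card_dvd_of_le (zpowers_le.mpr htN)
          rwa [Nat.card_zpowers, orderOf_eq_prime (by rw [pow_two, ht.2]) ht.1] at h1
        · rw [← hozc]; exact Subgroup.orderOf_dvd_natCard _ (le_normalizer (mem_zpowers _))
      have hyp : PEl p ((t * s) ^ c) := ⟨1, by rw [pow_one, ← hlp, ← hozc, pow_orderOf_eq_one]⟩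
      obtain ⟨w, hw, hyw⟩ := hall _ hyp
      -- `w` commutes with `t` and `s`
      have key : ∀ e : G, IsInv e → e * (t * s) ^ c * e⁻¹ = ((t * s) ^ c)⁻¹ →
          w ≠ e ∧ w * e = e * w := by
        intro e he hinv
        refine ⟨fun hwe => hy1 (sq_ne_one_of_pel h.hp2 hyp (mul_eq_one_iff_eq_inv.mpr ?_)), ?_⟩
        · rw [← hwe, ← hyw, mul_inv_cancel_right] at hinv
          exact hinv
        · generalize (t * s) ^ c = y at hyw hy1 hyp hinv
          have h1 : y * (e * w * e⁻¹) = (e * w * e⁻¹) * y := by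
            have h2 : y⁻¹ * w = w * y⁻¹ := (Commute.inv_left (show Commute y w from hyw)).eq
            have h3 : e * y⁻¹ * e⁻¹ = y := by
              have := congrArg (·⁻¹) hinv
              simpa [mul_assoc] using this
            calc y * (e * w * e⁻¹) = (e * y⁻¹ * e⁻¹) * (e * w * e⁻¹) := by rw [h3]
              _ = e * (y⁻¹ * w) * e⁻¹ := by group
              _ = e * (w * y⁻¹) * e⁻¹ := by rw [h2]
              _ = (e * w * e⁻¹) * (e * y⁻¹ * e⁻¹) := by group
              _ = _ := by rw [h3]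
          have h4 := huniq y hyp hy1 w _ hw (hw.conj e) hyw h1
          calc w * e = (e * w * e⁻¹) * e := by rw [← h4]
            _ = e * w := by group
      obtain ⟨hwt, hwct⟩ := key t ht hty
      obtain ⟨hws, hwcs⟩ := key s hs hsy
      refine ⟨⟨w, hw⟩, ⟨⟨Ne.symm hwt, hwct.symm⟩, ⟨hws, hwcs⟩⟩, ?_⟩
      rintro ⟨w', hw'⟩ ⟨⟨-, hct'⟩, ⟨-, hcs'⟩⟩
      exact Subtype.ext (huniq _ hyp hy1 w' w hw' hw
        (((show Commute t w' from hct').mul_left (show Commute s w' from hcs'.symm)).pow_left c).eq hyw)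

end Cases

section CaseOne

variable (h : Setting p G)
include h

/-- An element normalising a cyclic `p`-group and of even order: primes are `2` and `p`. -/
theorem Setting.inverted_prime {t y : G} (ht : IsInv t) (hy : y ≠ 1) (hty : t * y * t⁻¹ = y⁻¹)
    {l : ℕ} (hl : l.Prime) (hld : l ∣ orderOf y) : l = p ∨ l = 2 := by
  haveI := h.two_fact
  refine h.hsub _ (h.norm_ne_top hy) ?_ l hl
    (hld.trans (Subgroup.orderOf_dvd_natCard _ (le_normalizer (mem_zpowers y))))
  have h1 := Subgroup.card_dvd_of_le (zpowers_le.mpr (mem_normalizer_zpowers_of_conj hty))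
  rwa [Nat.card_zpowers, orderOf_eq_prime (by rw [pow_two, ht.2]) ht.1] at h1

/-- First case: `p`-elements in involution centralisers centralise all commuting involutions. -/
theorem Setting.case_one
    (h1 : ∀ t u s : G, IsInv t → IsInv s → s * t = t * s → u * t = t * u → PEl p u → u * s = s * u) :
    False := by
  classical
  haveI := h.two_fact
  -- centralisers of involutions centralise the Sylow subgroup
  have hC : ∀ (t : G) (_ : IsInv t) (S : Sylow 2 G), t ∈ (S : Subgroup G) →
      ∀ g, g * t = t * g → ∀ s ∈ (S : Subgroup G), g * s = s * g := by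
    intro t ht S htS g hg s hs
    by_cases hs1 : s = 1
    · simp [hs1]
    obtain ⟨K₀, hK₀le, hK₀p, -, hK₀S⟩ := h.comp (centralizer ({t} : Set G)) (by
        have h2 := Subgroup.card_dvd_of_le (zpowers_le.mpr
          (mem_centralizer_singleton_iff.mpr rfl : t ∈ centralizer ({t} : Set G)))
        rwa [Nat.card_zpowers, orderOf_eq_prime (by rw [pow_two, ht.2]) ht.1] at h2)
      (fun T hT x hx _ hxp r hr => by
        by_cases hr1 : r = 1
        · simp [hr1]
        exact h1 t x r ht (h.isInv T.2 hr hr1) (mem_centralizer_singleton_iff.mp (hT hr))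
          (mem_centralizer_singleton_iff.mp hx) hxp)
    have hSC : (S : Subgroup G) ≤ centralizer ({t} : Set G) := fun a ha =>
      mem_centralizer_singleton_iff.mpr (h.comm S.2 ha htS)
    have hle : K₀ ⊔ (S : Subgroup G) ≤ centralizer ({s} : Set G) := by
      refine sup_le (fun a ha => mem_centralizer_singleton_iff.mpr ?_) fun a ha =>
        mem_centralizer_singleton_iff.mpr (h.comm S.2 ha hs)
      exact h1 t a s ht (h.isInv S.2 hs hs1) (h.comm S.2 hs htS)
        (mem_centralizer_singleton_iff.mp (hK₀le ha)) (pel_of_mem hK₀p ha)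
    exact mem_centralizer_singleton_iff.mp
      (hle (hK₀S S hSC (mem_centralizer_singleton_iff.mpr hg)))
  -- involutions commuting with an involution lie in its Sylow subgroup
  have hclique : ∀ (t : G) (_ : IsInv t) (S : Sylow 2 G), t ∈ (S : Subgroup G) →
      ∀ s, IsInv s → s * t = t * s → s ∈ (S : Subgroup G) := by
    intro t ht S htS s hs hst
    refine mem_sylow_of_mem_normalizer S hs.pel_two (centralizer_le_normalizer _ ?_)
    rw [mem_centralizer_iff]
    exact fun a ha => (hC t ht S htS s hst a ha).symm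
  -- an inverted `p`-element commutes with no involution
  have hodd : ∀ t y w : G, IsInv t → PEl p y → y ≠ 1 → t * y * t⁻¹ = y⁻¹ → IsInv w →
      y * w ≠ w * y := by
    intro t y w ht hyp hy1 hty hw hyw
    obtain ⟨S, hwS⟩ := h.exists_sylow hw
    let M := centralizer ({y} : Set G)
    have hSM : (S : Subgroup G) ≤ M := fun a ha =>
      mem_centralizer_singleton_iff.mpr (hC w hw S hwS y hyw a ha).symm
    have htS : ((t • S : Sylow 2 G) : Subgroup G) ≤ M := by
      rintro _ ⟨a, ha, rfl⟩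
      refine mem_centralizer_singleton_iff.mpr ?_
      show t * a * t⁻¹ * y = y * (t * a * t⁻¹)
      have h2 := (Commute.inv_right (show Commute a y from mem_centralizer_singleton_iff.mp (hSM ha))).eq
      have h3 : t⁻¹ * y * t = y⁻¹ := by
        have := hty; rw [ht.inv_eq] at this ⊢; exact this
      calc t * a * t⁻¹ * y = t * (a * (t⁻¹ * y * t)) * t⁻¹ := by group
        _ = t * ((t⁻¹ * y * t) * a) * t⁻¹ := by rw [h3, h2]
        _ = y * (t * a * t⁻¹) := by group
    obtain ⟨c, hc⟩ := MulAction.exists_smul_eq M ((t • S).subtype htS) (S.subtype hSM)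
    have hct : ((c : G) * t) • S = S := by
      rw [mul_smul]
      refine Sylow.subtype_injective (hP := ?_) (hQ := hSM) ?_
      · rintro _ ⟨a, ha, rfl⟩
        exact mul_mem (mul_mem c.2 (htS ha)) (inv_mem c.2)
      · rw [← hc, Sylow.smul_subtype]; exact Sylow.ext rfl
    have hgn : (c : G) * t ∈ normalizer ((S : Subgroup G) : Set G) :=
      Sylow.smul_eq_iff_mem_normalizer.mp hct
    generalize hg : (c : G) * t = g at hgn
    have hgy : g * y * g⁻¹ = y⁻¹ := by
      have h2 : (c : G) * y⁻¹ = y⁻¹ * c :=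
        ((show Commute (c : G) y from mem_centralizer_singleton_iff.mp c.2).inv_right).eq
      rw [← hg]
      calc (c : G) * t * y * ((c : G) * t)⁻¹ = c * (t * y * t⁻¹) * (c : G)⁻¹ := by group
        _ = y⁻¹ := by rw [hty, h2, mul_inv_cancel_right]
    obtain ⟨i, m, hm, him⟩ := Nat.exists_eq_pow_mul_and_not_dvd (orderOf_pos g).ne' 2 (by norm_num)
    have hgm : ∀ n : ℕ, g ^ (2 * n + 1) * y * (g ^ (2 * n + 1))⁻¹ = y⁻¹ := by
      intro n
      induction n with
      | zero => simpa using hgy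
      | succ n ih =>
        rw [show 2 * (n + 1) + 1 = 1 + (1 + (2 * n + 1)) by omega, pow_add, pow_add, pow_one]
        calc g * (g * g ^ (2 * n + 1)) * y * (g * (g * g ^ (2 * n + 1)))⁻¹
            = g * (g * (g ^ (2 * n + 1) * y * (g ^ (2 * n + 1))⁻¹) * g⁻¹) * g⁻¹ := by group
          _ = g * (g * y * g⁻¹)⁻¹ * g⁻¹ := by rw [ih]; group
          _ = y⁻¹ := by rw [hgy, inv_inv, hgy]
    obtain ⟨n, hn⟩ : Odd m := Nat.odd_iff.mpr (by omega)
    have h2 : g ^ m ∈ (S : Subgroup G) := by
      refine mem_sylow_of_mem_normalizer S ⟨i, ?_⟩ (pow_mem hgn m)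
      rw [← pow_mul, mul_comm, ← him, pow_orderOf_eq_one]
    have h3 := hgm n
    rw [← hn, ← hC w hw S hwS y hyw _ h2, mul_inv_cancel_right] at h3
    exact hy1 (sq_ne_one_of_pel h.hp2 hyp (mul_eq_one_iff_eq_inv.mpr h3))
  -- an inverted `p`-element determines its Sylow subgroup, inverted by the involution
  have hsyl : ∀ t y : G, IsInv t → PEl p y → y ≠ 1 → t * y * t⁻¹ = y⁻¹ →
      ∀ P : Sylow p G, y ∈ (P : Subgroup G) →
        ∀ a ∈ (P : Subgroup G), t * a * t⁻¹ = a⁻¹ := by
    intro t y ht hyp hy1 hty P hyP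
    let N := normalizer ((zpowers y : Subgroup G) : Set G)
    have htN : t ∈ N := mem_normalizer_zpowers_of_conj hty
    have hCle : centralizer ({y} : Set G) ≤ N := fun a ha => by
      refine centralizer_le_normalizer _ ?_
      rw [mem_centralizer_iff]
      rintro b ⟨n, rfl⟩
      exact ((show Commute a y from mem_centralizer_singleton_iff.mp ha).zpow_right n).eq.symm
    have hNeven : 2 ∣ Nat.card N := by
      have h2 := Subgroup.card_dvd_of_le (zpowers_le.mpr htN)
      rwa [Nat.card_zpowers, orderOf_eq_prime (by rw [pow_two, ht.2]) ht.1] at h2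
    have hCp : IsPGroup p (centralizer ({y} : Set G)) := by
      refine IsPGroup.of_card
        (n := (Nat.card (centralizer ({y} : Set G))).primeFactorsList.length) ?_
      refine Nat.eq_prime_pow_of_unique_prime_dvd Nat.card_pos.ne' fun {l} hl hlC => ?_
      refine (h.hsub N (h.norm_ne_top hy1) hNeven l hl
        (hlC.trans (card_dvd_of_le hCle))).resolve_right ?_
      rintro rfl
      obtain ⟨w, hw⟩ := exists_prime_orderOf_dvd_card' 2 hlC
      have hw' : IsInv (w : G) := by
        refine ⟨fun he => ?_, ?_⟩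
        · rw [← Subgroup.orderOf_coe, he, orderOf_one] at hw; omega
        · rw [← pow_two, ← hw, ← Subgroup.orderOf_coe, pow_orderOf_eq_one]
      exact hodd t y w ht hyp hy1 hty hw' (mem_centralizer_singleton_iff.mp w.2).symm
    have hPC : (P : Subgroup G) ≤ centralizer ({y} : Set G) := fun a ha =>
      mem_centralizer_singleton_iff.mpr (h.hab P a ha y hyP)
    have hPe : centralizer ({y} : Set G) = (P : Subgroup G) := P.3 hCp hPC
    have htP : ∀ a ∈ (P : Subgroup G), t * a * t⁻¹ ∈ (P : Subgroup G) := by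
      intro a ha
      rw [← hPe]
      refine mem_centralizer_singleton_iff.mpr ?_
      have h2 := (Commute.inv_right (show Commute a y from h.hab P a ha y hyP)).eq
      have h3 : t⁻¹ * y * t = y⁻¹ := by
        have := hty; rw [ht.inv_eq] at this ⊢; exact this
      calc t * a * t⁻¹ * y = t * (a * (t⁻¹ * y * t)) * t⁻¹ := by group
        _ = t * ((t⁻¹ * y * t) * a) * t⁻¹ := by rw [h3, h2]
        _ = y * (t * a * t⁻¹) := by group
    intro a ha
    by_contra hne
    have hv1 : a * (t * a * t⁻¹) ≠ 1 := fun he => hne (inv_eq_of_mul_eq_one_right he).symm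
    have hvP := mul_mem ha (htP a ha)
    have hvt : a * (t * a * t⁻¹) * t = t * (a * (t * a * t⁻¹)) := by
      have hb := h.hab P a ha _ (htP a ha)
      calc a * (t * a * t⁻¹) * t = (t * a * t⁻¹) * a * t := by rw [hb]
        _ = t * (a * (t⁻¹ * a * t)) := by group
        _ = _ := by rw [ht.inv_eq]
    obtain ⟨S, htS⟩ := h.exists_sylow ht
    have hc := (h.ito_core S hv1 (pel_of_mem P.2 hvP) (hC t ht S htS _ hvt) P hvP hyP htS htS).eq
    have h2 : ⁅y, t⁆ = y * y := by
      rw [commutatorElement_def]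
      calc y * t * y⁻¹ * t⁻¹ = y * (t * y * t⁻¹)⁻¹ := by group
        _ = y * y := by rw [hty, inv_inv]
    rw [h2] at hc
    have h3 : t * (y * y) * t⁻¹ = (y * y)⁻¹ := by
      rw [show t * (y * y) * t⁻¹ = (t * y * t⁻¹) * (t * y * t⁻¹) by group, hty, mul_inv_rev]
    rw [← hc, mul_inv_cancel_right] at h3
    exact hy1 (sq_ne_one_of_pel h.hp2 hyp
      (sq_ne_one_of_pel h.hp2 (pel_of_mem P.2 (mul_mem hyP hyP)) (mul_eq_one_iff_eq_inv.mpr h3)))
  -- two non-commuting involutions give an inverted `p`-element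
  have hnc : ∀ t s : G, IsInv t → IsInv s → t * s ≠ s * t →
      PEl p (t * s) ∧ t * s ≠ 1 ∧ t * (t * s) * t⁻¹ = (t * s)⁻¹ := by
    intro t s ht hs hne
    have hinv : t * (t * s) * t⁻¹ = (t * s)⁻¹ := by
      rw [mul_inv_rev, ht.inv_eq, hs.inv_eq]
      calc t * (t * s) * t = (t * t) * s * t := by group
        _ = s * t := by rw [ht.2, one_mul]
    have h1' : t * s ≠ 1 := fun he => hne (by
      calc t * s = (t * s)⁻¹ := by rw [he, inv_one]
        _ = s * t := by rw [mul_inv_rev, ht.inv_eq, hs.inv_eq])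
    refine ⟨?_, h1', hinv⟩
    obtain ⟨k, hk⟩ : ∃ k, orderOf (t * s) = p ^ k := by
      refine ⟨_, Nat.eq_prime_pow_of_unique_prime_dvd (orderOf_pos _).ne' fun {l} hl hld => ?_⟩
      refine (h.inverted_prime ht h1' hinv hl hld).resolve_right ?_
      rintro rfl
      obtain ⟨m, hm⟩ := hld
      have hmpos : 0 < m := by
        rcases Nat.eq_zero_or_pos m with h0 | h0
        · rw [h0, mul_zero] at hm; exact absurd hm (orderOf_pos _).ne'
        · exact h0
      have ho : orderOf ((t * s) ^ m) = 2 := by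
        rw [orderOf_pow' _ hmpos.ne', hm, Nat.gcd_mul_left_left, Nat.mul_div_cancel _ hmpos]
      have hw : IsInv ((t * s) ^ m) := ⟨fun he => by rw [he, orderOf_one] at ho; omega, by
        rw [← pow_two, ← ho, pow_orderOf_eq_one]⟩
      have hwt : (t * s) ^ m * t = t * (t * s) ^ m := by
        have h2 : t * (t * s) ^ m * t⁻¹ = (t * s) ^ m := by
          rw [← conj_pow, hinv, inv_pow, hw.inv_eq]
        calc (t * s) ^ m * t = (t * (t * s) ^ m * t⁻¹) * t := by rw [h2]
          _ = t * (t * s) ^ m := by group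
      have hws : (t * s) ^ m * s = s * (t * s) ^ m := by
        have h2 : s = t * (t * s) := by rw [← mul_assoc, ht.2, one_mul]
        calc (t * s) ^ m * s = (t * s) ^ m * t * (t * s) := by rw [mul_assoc _ t, ← h2]
          _ = t * ((t * s) ^ m * (t * s)) := by rw [hwt, mul_assoc]
          _ = t * ((t * s) * (t * s) ^ m) := by rw [← pow_succ, pow_succ']
          _ = s * (t * s) ^ m := by rw [← mul_assoc, ← h2]
      obtain ⟨S, hwS⟩ := h.exists_sylow hw
      exact hne (h.comm S.2 (hclique _ hw S hwS t ht hwt.symm) (hclique _ hw S hwS s hs hws.symm))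
    exact ⟨k, by rw [← hk, pow_orderOf_eq_one]⟩
  -- some pair does not commute
  obtain ⟨t, s, ht, hs, hts⟩ : ∃ t s : G, IsInv t ∧ IsInv s ∧ t * s ≠ s * t := by
    by_contra hne
    push Not at hne
    let D : Set G := {x | IsInv x}
    have hDn : (closure D).Normal := by
      refine ⟨fun x hx g => ?_⟩
      have hle : closure D ≤ (closure D).comap (MulAut.conj g).toMonoidHom := by
        rw [closure_le]
        exact fun d hd => subset_closure (IsInv.conj hd g)
      exact hle hx
    obtain ⟨x, hx⟩ : ∃ x : G, IsInv x := by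
      obtain ⟨S⟩ : Nonempty (Sylow 2 G) := inferInstance
      have hcard := h.hS S
      have h2 : (S : Subgroup G) ≠ ⊥ := fun he => by
        rw [he, Subgroup.card_bot] at hcard
        have := hp.out.two_le; omega
      obtain ⟨x, hxS, hx1⟩ := (bot_or_exists_ne_one (S : Subgroup G)).resolve_left h2
      exact ⟨x, h.isInv S.2 hxS hx1⟩
    rcases h.hnorm _ hDn with hb | htop
    · have : x ∈ closure D := subset_closure hx
      rw [hb, mem_bot] at this
      exact hx.1 this
    · obtain ⟨a, b, hab⟩ := h.hna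
      haveI : IsMulCommutative (closure D) :=
        Subgroup.isMulCommutative_closure fun a ha b hb => hne a b ha hb
      exact hab (setLike_mul_comm (htop ▸ mem_top a : a ∈ closure D) (htop ▸ mem_top b : b ∈ closure D))
  obtain ⟨hzp, hz1, hzinv⟩ := hnc t s ht hs hts
  obtain ⟨P₀, hzP, -⟩ := LargePrime.exists_sylow_pair hzp hzp rfl
  have hP₀ := hsyl t _ ht hzp hz1 hzinv P₀ hzP
  let Inverts : G → Sylow p G → Prop := fun w P => ∀ a ∈ (P : Subgroup G), w * a * w⁻¹ = a⁻¹
  have hconj : ∀ g w P, Inverts w P → Inverts (g * w * g⁻¹) (g • P) := by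
    rintro g w P hw _ ⟨a, ha, rfl⟩
    show g * w * g⁻¹ * (g * a * g⁻¹) * (g * w * g⁻¹)⁻¹ = (g * a * g⁻¹)⁻¹
    calc g * w * g⁻¹ * (g * a * g⁻¹) * (g * w * g⁻¹)⁻¹ = g * (w * a * w⁻¹) * g⁻¹ := by group
      _ = _ := by rw [hw a ha]; group
  have hPinv : ∀ P : Sylow p G, ∃ w, IsInv w ∧ Inverts w P := by
    intro P
    obtain ⟨g, rfl⟩ := MulAction.exists_smul_eq G P₀ P
    exact ⟨_, ht.conj g, hconj g t P₀ hP₀⟩
  -- `p`-elements centralise no involution
  have hodd' : ∀ y : G, PEl p y → y ≠ 1 → ∀ w, IsInv w → y * w ≠ w * y := by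
    intro y hyp hy1 w hw
    obtain ⟨P, hyP, -⟩ := LargePrime.exists_sylow_pair hyp hyp rfl
    obtain ⟨w', hw', hinv⟩ := hPinv P
    exact hodd w' y w hw' hyp hy1 (hinv y hyP) hw
  -- a nontrivial element determines its Sylow subgroup
  have huniq : ∀ y : G, y ≠ 1 → ∀ P P' : Sylow p G, y ∈ (P : Subgroup G) →
      y ∈ (P' : Subgroup G) → P = P' := by
    intro y hy1 P P' hP hP'
    obtain ⟨w, hw, hinv⟩ := hPinv P
    have hyp := pel_of_mem P.2 hP
    have key : ∀ Q : Sylow p G, y ∈ (Q : Subgroup G) →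
        (Q : Subgroup G) = centralizer ({y} : Set G) := by
      intro Q hQ
      refine le_antisymm (fun a ha => mem_centralizer_singleton_iff.mpr (h.hab Q a ha y hQ)) ?_
      have hN : ∀ a ∈ centralizer ({y} : Set G), PEl p a := by
        intro a ha
        by_cases hall : ∀ l : ℕ, l.Prime → l ∣ orderOf a → l = p
        · obtain ⟨k, hk⟩ : ∃ k, orderOf a = p ^ k :=
            ⟨_, Nat.eq_prime_pow_of_unique_prime_dvd (orderOf_pos _).ne' fun {l} hl hld => hall l hl hld⟩
          exact ⟨k, by rw [← hk, pow_orderOf_eq_one]⟩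
        exfalso
        push Not at hall
        obtain ⟨l, hl, hla, hlp⟩ := hall
        have haN : a ∈ normalizer ((zpowers y : Subgroup G) : Set G) := by
          refine centralizer_le_normalizer _ ?_
          rw [mem_centralizer_iff]
          rintro b ⟨n, rfl⟩
          exact ((show Commute a y from mem_centralizer_singleton_iff.mp ha).zpow_right n).eq.symm
        have h2 := Subgroup.card_dvd_of_le
          (zpowers_le.mpr (mem_normalizer_zpowers_of_conj (hinv y hP)))
        rw [Nat.card_zpowers, orderOf_eq_prime (by rw [pow_two, hw.2]) hw.1] at h2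
        have h3 := (h.hsub _ (h.norm_ne_top hy1) h2 l hl
          (hla.trans (Subgroup.orderOf_dvd_natCard _ haN))).resolve_left hlp
        subst h3
        obtain ⟨m, hm⟩ := hla
        have hmpos : 0 < m := by
          rcases Nat.eq_zero_or_pos m with h0 | h0
          · rw [h0, mul_zero] at hm; exact absurd hm (orderOf_pos _).ne'
          · exact h0
        have ho : orderOf (a ^ m) = 2 := by
          rw [orderOf_pow' _ hmpos.ne', hm, Nat.gcd_mul_left_left, Nat.mul_div_cancel _ hmpos]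
        refine hodd' y hyp hy1 (a ^ m) ⟨fun he => by rw [he, orderOf_one] at ho; omega,
          by rw [← pow_two, ← ho, pow_orderOf_eq_one]⟩ ?_
        exact ((show Commute y a from (mem_centralizer_singleton_iff.mp ha).symm).pow_right m).eq
      have hCp : IsPGroup p (centralizer ({y} : Set G)) := fun a => by
        obtain ⟨k, hk⟩ := hN a a.2
        exact ⟨k, Subtype.ext (by simpa using hk)⟩
      exact (Q.3 hCp fun a ha => mem_centralizer_singleton_iff.mpr (h.hab Q a ha y hQ)).le
    exact Sylow.ext ((key P hP).trans (key P' hP').symm)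
  -- an involution normalising a Sylow `p`-subgroup inverts it
  have hninv : ∀ w, IsInv w → ∀ P : Sylow p G,
      w ∈ normalizer ((P : Subgroup G) : Set G) → Inverts w P := by
    intro w hw P hwn a ha
    have hb := (mem_normalizer_iff.mp hwn a).mp ha
    have hab' := h.hab P a ha _ hb
    have hfix : (a * (w * a * w⁻¹)) * w = w * (a * (w * a * w⁻¹)) := by
      calc a * (w * a * w⁻¹) * w = (w * a * w⁻¹) * a * w := by rw [hab']
        _ = w * (a * (w⁻¹ * a * w)) := by group
        _ = _ := by rw [hw.inv_eq]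
    by_contra hne
    exact hodd' _ (pel_of_mem P.2 (mul_mem ha hb))
      (fun he => hne (inv_eq_of_mul_eq_one_right he).symm) w hw hfix
  -- two inverters differ by an element of the subgroup
  have hcoset : ∀ (P : Sylow p G) (w w' : G), IsInv w → IsInv w' → Inverts w P → Inverts w' P →
      w' * w ∈ (P : Subgroup G) := by
    intro P w w' hw hw' hwi hw'i
    obtain ⟨a, ha, ha1⟩ : ∃ a ∈ (P : Subgroup G), a ≠ 1 := by
      refine (bot_or_exists_ne_one _).resolve_left fun he => ?_
      have h2 := P.dvd_card_of_dvd_card h.hpG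
      rw [he, Subgroup.card_bot] at h2
      exact hp.out.one_lt.ne' (Nat.dvd_one.mp h2)
    have hcomm : w' * w * a = a * (w' * w) := by
      have e1 : w * a = a⁻¹ * w := by
        calc w * a = (w * a * w⁻¹) * w := by group
          _ = _ := by rw [hwi a ha]
      have e2 : w' * a⁻¹ = a * w' := by
        calc w' * a⁻¹ = (w' * a * w'⁻¹)⁻¹ * w' := by group
          _ = _ := by rw [hw'i a ha, inv_inv]
      rw [mul_assoc, e1, ← mul_assoc, e2, mul_assoc]
    by_cases hc : w' * w = w * w'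
    · -- commuting involutions: the product would commute with `a`
      by_contra hmem
      refine hodd' a (pel_of_mem P.2 ha) ha1 (w' * w) ⟨fun he => hmem (he ▸ one_mem _), ?_⟩ hcomm.symm
      calc w' * w * (w' * w) = w' * (w * w') * w := by group
        _ = w' * (w' * w) * w := by rw [hc]
        _ = (w' * w') * (w * w) := by group
        _ = 1 := by rw [hw.2, hw'.2, one_mul]
    · obtain ⟨hp', hne1, -⟩ := hnc w' w hw' hw hc
      obtain ⟨P', h1', h2'⟩ := LargePrime.exists_sylow_pair hp' (pel_of_mem P.2 ha) hcomm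
      exact huniq a ha1 P' P h2' ha ▸ h1'
  -- counting
  haveI := Fintype.ofFinite G
  let ι := {w : G // IsInv w}
  let T : ι → Type u := fun w => {P : Sylow p G // Inverts w.1 P}
  have hm : ∀ w w' : ι, Nat.card (T w) ≤ Nat.card (T w') := by
    intro w w'
    obtain ⟨g, hg⟩ := h.isConj w.2 w'.2
    exact Nat.card_le_card_of_injective
      (fun P : T w => (⟨g • P.1, hg ▸ hconj g w.1 P.1 P.2⟩ : T w'))
      (fun P P' hPP => Subtype.ext (MulAction.injective g (congrArg Subtype.val hPP)))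
  obtain ⟨i₀⟩ : Nonempty ι := ⟨⟨t, ht⟩⟩
  -- each Sylow `p`-subgroup has as many inverters as elements
  have hfib : ∀ P : Sylow p G, Nat.card {w : ι // Inverts w.1 P} = Nat.card (P : Subgroup G) := by
    intro P
    obtain ⟨w, hw, hwi⟩ := hPinv P
    have hmk : ∀ a ∈ (P : Subgroup G), IsInv (a * w) ∧ Inverts (a * w) P := by
      intro a ha
      refine ⟨⟨fun he => ?_, ?_⟩, fun b hb => ?_⟩
      · have hwP : w ∈ (P : Subgroup G) := by
          rw [← inv_eq_of_mul_eq_one_right he]; exact inv_mem ha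
        exact hw.1 (eq_one_of_pel (q := 2) h.hp2 (pel_of_mem P.2 hwP) hw.pel_two)
      · calc a * w * (a * w) = a * (w * a * w⁻¹) * (w * w) := by group
          _ = 1 := by rw [hwi a ha, mul_inv_cancel, one_mul, hw.2]
      · calc a * w * b * (a * w)⁻¹ = a * (w * b * w⁻¹) * a⁻¹ := by group
          _ = b⁻¹ := by rw [hwi b hb, h.hab P a ha _ (inv_mem hb), mul_inv_cancel_right]
    refine (Nat.card_eq_of_bijective (fun a : (P : Subgroup G) =>
      (⟨⟨a * w, (hmk a a.2).1⟩, (hmk a a.2).2⟩ : {w : ι // Inverts w.1 P})) ⟨?_, ?_⟩).symm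
    · intro a b hab'
      exact Subtype.ext (mul_right_cancel (congrArg (fun z => z.1.1) hab'))
    · rintro ⟨⟨w', hw'⟩, hw'i⟩
      exact ⟨⟨w' * w, hcoset P w w' hw hw' hwi hw'i⟩, Subtype.ext (Subtype.ext (by
        show w' * w * w = w'
        rw [mul_assoc, hw.2, mul_one]))⟩
  have hpairs : Nat.card ι * Nat.card (T i₀) =
      Nat.card (Sylow p G) * Nat.card (P₀ : Subgroup G) := by
    have e : (Σ w : ι, T w) ≃ (Σ P : Sylow p G, {w : ι // Inverts w.1 P}) :=
      { toFun := fun x => ⟨x.2.1, ⟨x.1, x.2.2⟩⟩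
        invFun := fun x => ⟨x.2.1, ⟨x.1, x.2.2⟩⟩
        left_inv := fun x => rfl
        right_inv := fun x => rfl }
    haveI := Fintype.ofFinite ι
    haveI := Fintype.ofFinite (Sylow p G)
    have h2 := Nat.card_congr e
    rw [Nat.card_sigma, Nat.card_sigma] at h2
    simp only [hfib] at h2
    rw [Finset.sum_congr rfl (fun w _ => le_antisymm (hm w i₀) (hm i₀ w)),
      Finset.sum_congr rfl (fun (P : Sylow p G) _ => Sylow.card_eq_multiplicity P),
      Finset.sum_const, Finset.sum_const, smul_eq_mul, smul_eq_mul] at h2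
    rw [Nat.card_eq_fintype_card (α := ι), Nat.card_eq_fintype_card (α := Sylow p G),
      Sylow.card_eq_multiplicity P₀]
    simpa [Finset.card_univ] using h2
  -- involution centralisers
  obtain ⟨S, htS⟩ := h.exists_sylow ht
  have hcentS : centralizer ({t} : Set G) = (S : Subgroup G) := by
    refine le_antisymm (fun g hg => ?_) fun a ha =>
      mem_centralizer_singleton_iff.mpr (h.comm S.2 ha htS)
    obtain ⟨K₀, hK₀le, hK₀p, -, hK₀S⟩ := h.comp (centralizer ({t} : Set G)) (by
        have h2 := Subgroup.card_dvd_of_le (zpowers_le.mpr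
          (mem_centralizer_singleton_iff.mpr rfl : t ∈ centralizer ({t} : Set G)))
        rwa [Nat.card_zpowers, orderOf_eq_prime (by rw [pow_two, ht.2]) ht.1] at h2)
      (fun T hT x hx _ hxp r hr => by
        by_cases hx1 : x = 1
        · simp [hx1]
        exact absurd (mem_centralizer_singleton_iff.mp hx) (hodd' x hxp hx1 t ht))
    have hK₀ : K₀ = ⊥ := (Subgroup.eq_bot_iff_forall _).mpr fun a ha => by
      by_contra ha1
      exact hodd' a (pel_of_mem hK₀p ha) ha1 t ht (mem_centralizer_singleton_iff.mp (hK₀le ha))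
    have h2 := hK₀S S (fun a ha => mem_centralizer_singleton_iff.mpr (h.comm S.2 ha htS)) hg
    rwa [hK₀, bot_sup_eq] at h2
  have hI : Nat.card G = Nat.card ι * (p + 1) := by
    haveI : Finite (ConjAct G) := Finite.of_equiv G ConjAct.toConjAct.toEquiv
    have horb := MulAction.card_orbit_mul_card_stabilizer_eq_card_group (ConjAct G) t
    have hst : Nat.card (MulAction.stabilizer (ConjAct G) t) = Nat.card (S : Subgroup G) := by
      rw [← hcentS]
      refine Nat.card_congr (Equiv.subtypeEquiv ConjAct.ofConjAct.toEquiv fun x => ?_)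
      rw [MulAction.mem_stabilizer_iff, mem_centralizer_singleton_iff, ConjAct.smul_def]
      show _ ↔ ConjAct.ofConjAct x * t = t * ConjAct.ofConjAct x
      exact mul_inv_eq_iff_eq_mul
    have ho : Nat.card (MulAction.orbit (ConjAct G) t) = Nat.card ι := by
      refine Nat.card_congr (Equiv.setCongr ?_)
      ext x
      constructor
      · rintro ⟨g, rfl⟩
        show IsInv (g • t)
        rw [ConjAct.smul_def]
        exact ht.conj _
      · intro hx
        obtain ⟨g, hg⟩ := h.isConj ht hx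
        exact ⟨ConjAct.toConjAct g, by simpa [ConjAct.smul_def] using hg⟩
    rw [← Nat.card_eq_fintype_card, ← Nat.card_eq_fintype_card, ← Nat.card_eq_fintype_card] at horb
    rw [← h.hS S, ← hst, ← ho]
    exact (Nat.card_congr ConjAct.toConjAct.toEquiv).trans horb.symm
  have hn : Nat.card G = Nat.card (Sylow p G) * (2 * Nat.card (P₀ : Subgroup G)) := by
    rw [Sylow.card_eq_index_normalizer P₀,
      ← (normalizer ((P₀ : Subgroup G) : Set G)).index_mul_card]
    congr 1
    have htN : t ∈ normalizer ((P₀ : Subgroup G) : Set G) := by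
      refine mem_normalizer_iff.mpr fun a => ⟨fun ha => by rw [hP₀ a ha]; exact inv_mem ha,
        fun ha => ?_⟩
      have h2 : a = t * (t * a * t⁻¹) * t⁻¹ := by
        calc a = (t * t) * a * (t * t)⁻¹ := by rw [ht.2]; group
          _ = _ := by group
      rw [h2, hP₀ _ ha]
      exact inv_mem ha
    have hNtop : normalizer ((P₀ : Subgroup G) : Set G) ≠ ⊤ := by
      intro he
      rcases h.hnorm (P₀ : Subgroup G) (normalizer_eq_top_iff.mp he) with hb | htop
      · rw [hb, mem_bot] at hzP; exact hz1 hzP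
      · obtain ⟨a, b, hab⟩ := h.hna
        exact hab (h.hab P₀ a (htop ▸ mem_top a) b (htop ▸ mem_top b))
    have hdvd2 : 2 ∣ Nat.card (normalizer ((P₀ : Subgroup G) : Set G)) := by
      have h2 := Subgroup.card_dvd_of_le (zpowers_le.mpr htN)
      rwa [Nat.card_zpowers, orderOf_eq_prime (by rw [pow_two, ht.2]) ht.1] at h2
    have hdvdP := card_dvd_of_le (le_normalizer (H := (P₀ : Subgroup G)))
    obtain ⟨e, he⟩ := IsPGroup.iff_card.mp P₀.2
    have hcop : Nat.Coprime 2 (Nat.card (P₀ : Subgroup G)) := by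
      rw [he]; exact Nat.Coprime.pow_right e ((Nat.coprime_primes Nat.prime_two hp.out).mpr h.hp2.symm)
    refine Nat.dvd_antisymm ?_ (hcop.mul_dvd_of_dvd_of_dvd hdvd2 hdvdP)
    rw [Nat.dvd_iff_prime_pow_dvd_dvd]
    intro l k hl hlk
    rcases Nat.eq_zero_or_pos k with rfl | hk
    · simp
    rcases h.hsub _ hNtop hdvd2 l hl ((dvd_pow_self l hk.ne').trans hlk) with rfl | rfl
    · exact dvd_mul_of_dvd_right (P₀.pow_dvd_card_of_pow_dvd_card
        (hlk.trans (card_subgroup_dvd_card _))) _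
    · refine dvd_mul_of_dvd_left ?_ _
      obtain ⟨R⟩ : Nonempty (Sylow 2 (normalizer ((P₀ : Subgroup G) : Set G))) := inferInstance
      have hR2 := R.pow_dvd_card_of_pow_dvd_card hlk
      suffices hsub : ∀ a ∈ (R : Subgroup (normalizer ((P₀ : Subgroup G) : Set G))), a ≠ 1 →
          ∀ b ∈ (R : Subgroup (normalizer ((P₀ : Subgroup G) : Set G))), b ≠ 1 → b = a by
        have hle : Nat.card (R : Subgroup (normalizer ((P₀ : Subgroup G) : Set G))) ≤ 2 := by
          by_cases hb : (R : Subgroup (normalizer ((P₀ : Subgroup G) : Set G))) = ⊥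
          · rw [hb, Subgroup.card_bot]; omega
          obtain ⟨a, ha, ha1⟩ := (bot_or_exists_ne_one _).resolve_left hb
          have h3 := Set.ncard_le_ncard (t := {1, a}) (fun b hb' => by
            by_cases hb1 : b = 1
            · exact Or.inl hb1
            · exact Or.inr (hsub a ha ha1 b hb' hb1)) (Set.toFinite _)
              (s := ((R : Subgroup (normalizer ((P₀ : Subgroup G) : Set G))) : Set _))
          rw [← Nat.card_coe_set_eq] at h3
          exact le_trans h3 (le_trans (Set.ncard_insert_le _ _) (by rw [Set.ncard_singleton]))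
        rcases Nat.lt_or_ge k 2 with hk2 | hk2
        · interval_cases k; simp
        · exfalso
          have h4 : 2 ^ 2 ≤ 2 ^ k := Nat.pow_le_pow_right two_pos hk2
          have h5 := Nat.le_of_dvd Nat.card_pos hR2
          omega
      intro a ha ha1 b hb' hb1
      have hpel : ∀ c ∈ (R : Subgroup (normalizer ((P₀ : Subgroup G) : Set G))), c ≠ 1 → IsInv (c : G) ∧ Inverts (c : G) P₀ := by
        intro c hc hc1
        have hRG : IsPGroup 2 ((R : Subgroup _).map
            (normalizer ((P₀ : Subgroup G) : Set G)).subtype) := R.2.map _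
        have hcI := h.isInv hRG ⟨c, hc, rfl⟩ fun he => hc1 (Subtype.ext he)
        exact ⟨hcI, hninv _ hcI P₀ c.2⟩
      obtain ⟨haI, hai⟩ := hpel a ha ha1
      obtain ⟨hbI, hbi⟩ := hpel b hb' hb1
      have hm' := hcoset P₀ _ _ haI hbI hai hbi
      have hRG : IsPGroup 2 ((R : Subgroup _).map
          (normalizer ((P₀ : Subgroup G) : Set G)).subtype) := R.2.map _
      have h1' := eq_one_of_pel (q := 2) h.hp2 (pel_of_mem P₀.2 hm')
        (pel_of_mem hRG ⟨b * a, mul_mem hb' ha, rfl⟩)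
      exact Subtype.ext (by
        calc (b : G) = (b : G) * ((a : G) * a) := by rw [haI.2, mul_one]
          _ = a := by rw [← mul_assoc, h1', one_mul])
  have hm2 : 2 * Nat.card (T i₀) = p + 1 := by
    have h2 : Nat.card ι * (p + 1) = Nat.card ι * (2 * Nat.card (T i₀)) := by
      rw [← hI, hn]
      calc Nat.card (Sylow p G) * (2 * Nat.card (P₀ : Subgroup G))
          = 2 * (Nat.card (Sylow p G) * Nat.card (P₀ : Subgroup G)) := by ring
        _ = _ := by rw [← hpairs]; ring
    haveI : Nonempty ι := ⟨i₀⟩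
    exact (Nat.eq_of_mul_eq_mul_left (Nat.card_pos) h2).symm
  -- the partition of the involutions
  let j : ι := ⟨t, ht⟩
  have hpart : Nat.card {w : ι // w ≠ j} =
      Nat.card {a : (S : Subgroup G) // a.1 ≠ 1 ∧ a.1 ≠ t} +
        Nat.card (T j) * (Nat.card (P₀ : Subgroup G) - 1) := by
    have e0 : {w : ι // w ≠ j} ≃
        {w : {w : ι // w ≠ j} // w.1.1 * t = t * w.1.1} ⊕
          {w : {w : ι // w ≠ j} // ¬ w.1.1 * t = t * w.1.1} := (Equiv.sumCompl _).symm
    rw [Nat.card_congr e0, Nat.card_sum]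
    congr 1
    · exact Nat.card_congr
        { toFun := fun w => ⟨⟨w.1.1.1, hclique t ht S htS _ w.1.1.2 w.2⟩, w.1.1.2.1,
            fun he => w.1.2 (Subtype.ext he)⟩
          invFun := fun a => ⟨⟨⟨a.1.1, h.isInv S.2 a.1.2 a.2.1⟩,
            fun he => a.2.2 (congrArg Subtype.val he)⟩, h.comm S.2 a.1.2 htS⟩
          left_inv := fun w => rfl
          right_inv := fun a => rfl }
    · have hfwd : ∀ x : Σ P : T j, {a : (P.1 : Subgroup G) // a.1 ≠ 1},
          IsInv ((x.2.1 : G) * t) ∧ (x.2.1 : G) * t ≠ t ∧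
            ¬ (x.2.1 : G) * t * t = t * ((x.2.1 : G) * t) := by
        rintro ⟨⟨P, hP⟩, ⟨⟨a, ha⟩, ha1⟩⟩
        have hta : t * (a * t) = a⁻¹ := by
          calc t * (a * t) = t * a * t⁻¹ := by rw [ht.inv_eq, mul_assoc]
            _ = _ := hP a ha
        have e : a * t * t = a := by rw [mul_assoc, ht.2, mul_one]
        refine ⟨⟨fun he => ?_, ?_⟩, fun he => ha1 (mul_eq_right.mp he), fun he => ha1 ?_⟩
        · have htP : t ∈ (P : Subgroup G) := by
            rw [← inv_eq_of_mul_eq_one_right he]; exact inv_mem ha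
          exact ht.1 (eq_one_of_pel (q := 2) h.hp2 (pel_of_mem P.2 htP) ht.pel_two)
        · rw [mul_assoc, hta, mul_inv_cancel]
        · rw [e, hta] at he
          exact sq_ne_one_of_pel h.hp2 (pel_of_mem P.2 ha) (mul_eq_one_iff_eq_inv.mpr he)
      refine (Eq.trans (Nat.card_eq_of_bijective
        (fun x => (⟨⟨⟨_, (hfwd x).1⟩, fun he => (hfwd x).2.1 (congrArg Subtype.val he)⟩, (hfwd x).2.2⟩ :
          {w : {w : ι // w ≠ j} // ¬ w.1.1 * t = t * w.1.1})) ⟨?_, ?_⟩).symm ?_)
      · rintro ⟨⟨P, hP⟩, ⟨⟨a, ha⟩, ha1⟩⟩ ⟨⟨P', hP'⟩, ⟨⟨a', ha'⟩, ha1'⟩⟩ he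
        have e : a = a' := mul_right_cancel (congrArg (fun z => z.1.1.1) he)
        subst e
        obtain rfl := huniq a ha1 P P' ha ha'
        rfl
      · rintro ⟨⟨⟨w, hw⟩, hwj⟩, hwc⟩
        obtain ⟨hwp, hw1, hwinv⟩ := hnc t w ht hw (fun he => hwc he.symm)
        obtain ⟨P, hwP, -⟩ := LargePrime.exists_sylow_pair hwp hwp rfl
        refine ⟨⟨⟨P, hsyl t _ ht hwp hw1 hwinv P hwP⟩, ⟨⟨(t * w)⁻¹, inv_mem hwP⟩,
          fun he => hw1 (inv_eq_one.mp he)⟩⟩, Subtype.ext (Subtype.ext (Subtype.ext ?_))⟩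
        show (t * w)⁻¹ * t = w
        rw [mul_inv_rev, ht.inv_eq, hw.inv_eq, mul_assoc, ht.2, mul_one]
      · haveI := Fintype.ofFinite (T j)
        rw [Nat.card_sigma]
        have : ∀ P : T j, Nat.card {a : (P.1 : Subgroup G) // a.1 ≠ 1} =
            Nat.card (P₀ : Subgroup G) - 1 := by
          intro P
          rw [Sylow.card_eq_multiplicity P₀, ← Sylow.card_eq_multiplicity P.1,
            Nat.card_eq_fintype_card, Nat.card_eq_fintype_card, Fintype.card_subtype_compl]
          congr 1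
          exact Fintype.card_eq_one_iff.mpr ⟨⟨1, rfl⟩, fun a => Subtype.ext (Subtype.ext a.2)⟩
        rw [Finset.sum_congr rfl (fun P _ => this P), Finset.sum_const, smul_eq_mul,
          Nat.card_eq_fintype_card (α := T j)]
        rfl
  have hS2 : Nat.card {a : (S : Subgroup G) // a.1 ≠ 1 ∧ a.1 ≠ t} = p - 1 := by
    have h2 : Nat.card {a : (S : Subgroup G) // a.1 ≠ 1 ∧ a.1 ≠ t} =
        (((S : Subgroup G) : Set G) \ {1, t}).ncard := by
      rw [← Nat.card_coe_set_eq]
      exact Nat.card_congr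
        { toFun := fun a => ⟨a.1.1, a.1.2, fun hm => hm.elim a.2.1 a.2.2⟩
          invFun := fun a => ⟨⟨a.1, a.2.1⟩, fun he => a.2.2 (Or.inl he), fun he => a.2.2 (Or.inr he)⟩
          left_inv := fun a => rfl
          right_inv := fun a => rfl }
    rw [h2, Set.ncard_sdiff (by
      intro a ha
      rcases ha with rfl | rfl
      exacts [one_mem _, htS]), Set.ncard_pair ht.1.symm, ← Nat.card_coe_set_eq]
    show Nat.card (S : Subgroup G) - 2 = p - 1
    rw [h.hS]; omega
  have hsucc : Nat.card ι = Nat.card {w : ι // w ≠ j} + 1 := by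
    haveI := Fintype.ofFinite ι
    haveI : Nonempty ι := ⟨j⟩
    rw [Nat.card_eq_fintype_card, Nat.card_eq_fintype_card, Fintype.card_subtype_compl,
      Fintype.card_subtype_eq]
    have := Fintype.card_pos (α := ι)
    omega
  have hTj : Nat.card (T j) = Nat.card (T i₀) := le_antisymm (hm j i₀) (hm i₀ j)
  rw [hpart, hS2, hTj] at hsucc
  have hpI : p ∣ Nat.card ι := by
    have h2 := h.hpG
    rw [hI] at h2
    refine (hp.out.dvd_mul.mp h2).resolve_right fun h3 => ?_
    have := (Nat.dvd_add_right dvd_rfl).mp h3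
    exact hp.out.one_lt.ne' (Nat.dvd_one.mp this)
  obtain ⟨e, he⟩ := IsPGroup.iff_card.mp P₀.2
  have hpP : p ∣ Nat.card (P₀ : Subgroup G) := P₀.dvd_card_of_dvd_card h.hpG
  have hpos : 1 ≤ Nat.card (P₀ : Subgroup G) := Nat.card_pos
  have hp1 := hp.out.two_le
  have h3 : p ∣ Nat.card (T i₀) * (Nat.card (P₀ : Subgroup G) - 1) := by
    rw [hsucc, show p - 1 + Nat.card (T i₀) * (Nat.card (P₀ : Subgroup G) - 1) + 1 =
      p + Nat.card (T i₀) * (Nat.card (P₀ : Subgroup G) - 1) by omega] at hpI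
    exact (Nat.dvd_add_right dvd_rfl).mp hpI
  rcases hp.out.dvd_mul.mp h3 with h4 | h4
  · have := Nat.le_of_dvd (by omega) h4
    omega
  · have h5 := Nat.dvd_sub hpP h4
    rw [Nat.sub_sub_self hpos] at h5
    exact hp.out.one_lt.ne' (Nat.dvd_one.mp h5)

end CaseOne

/-- The induction. -/
theorem aux (hp2 : p ≠ 2) : ∀ (n : ℕ) (G : Type u) [Group G] [Finite G], Nat.card G = n →
    Mixed p 2 G → (∀ P : Sylow p G, ∀ a ∈ (P : Subgroup G), ∀ b ∈ (P : Subgroup G), a * b = b * a) →
    (∀ R : Subgroup G, IsPGroup 2 R → Nat.card R ≤ p + 1) → p ∣ Nat.card G → 2 ∣ Nat.card G →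
    ∀ l : ℕ, l.Prime → l ∣ Nat.card G → l = p ∨ l = 2 := by
  classical
  intro n
  induction n using Nat.strong_induction_on with
  | _ n ih =>
  intro G _ _ hn hA hab hR hpG h2G l hl hlG
  by_contra hbad
  push Not at hbad
  haveI : Fact (Nat.Prime 2) := ⟨Nat.prime_two⟩
  haveI := Fact.mk hl
  have hsub : ∀ H : Subgroup G, H ≠ ⊤ → 2 ∣ Nat.card H →
      ∀ l', l'.Prime → l' ∣ Nat.card H → l' = p ∨ l' = 2 := by
    intro H hH h2H l' hl' hl'H
    by_cases hpH : p ∣ Nat.card H
    · refine ih (Nat.card H) ?_ H rfl (mixed_subgroup hA H) ?_ ?_ hpH h2H l' hl' hl'H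
      · rw [← hn]
        exact lt_of_le_of_ne (card_le_card_group H) fun he => hH (H.eq_top_of_card_eq he)
      · intro P a ha b hb
        obtain ⟨Q, hQ⟩ := (P.2.map H.subtype).exists_le_sylow
        exact Subtype.ext (hab Q a (hQ ⟨a, ha, rfl⟩) b (hQ ⟨b, hb, rfl⟩))
      · intro R hR'
        rw [← card_map_of_injective H.subtype_injective]
        exact hR _ (hR'.map _)
    · obtain ⟨k, hk⟩ := IsPGroup.iff_card.mp (hA H h2H hpH)
      rw [hk] at hl'H
      exact Or.inr ((Nat.prime_dvd_prime_iff_eq hl' Nat.prime_two).mp (hl'.dvd_of_dvd_pow hl'H))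
  have hS : ∀ S : Sylow 2 G, Nat.card (S : Subgroup G) = p + 1 ∧
      ∃ x ∈ normalizer ((S : Subgroup G) : Set G), PEl p x ∧ ∃ r ∈ (S : Subgroup G), x * r ≠ r * x := by
    by_contra hno
    obtain ⟨R, hRp, g, hgn, hgp, r, hr, hgr⟩ : ∃ R : Subgroup G, IsPGroup 2 R ∧
        ∃ g ∈ normalizer (R : Set G), PEl p g ∧ ∃ r ∈ R, g * r ≠ r * g := by
      by_contra hne
      push Not at hne
      obtain ⟨-, -, -, -, -, hpr⟩ := exists_comp (p := p) (q := 2) hp2 hA h2G
        fun R hR' g hg hgp r hr => hne R hR' g hg hgp r hr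
      rcases hpr l hl hlG with h | h
      exacts [hbad.1 h, hbad.2 h]
    have hc : p < Nat.card R := by
      by_contra hc
      exact hgr (commute_of_le hgp hgn (by omega) r hr)
    obtain ⟨S₀, hS₀⟩ := hRp.exists_le_sylow
    have hS₀R : R = (S₀ : Subgroup G) :=
      Subgroup.eq_of_le_of_card_ge hS₀ (le_trans (hR _ S₀.2) hc)
    subst hS₀R
    refine hno fun S => ⟨?_, ?_⟩
    · rw [Sylow.card_eq_multiplicity S, ← Sylow.card_eq_multiplicity S₀]
      exact le_antisymm (hR _ S₀.2) hc
    · obtain ⟨a, rfl⟩ := MulAction.exists_smul_eq G S₀ S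
      refine ⟨a * g * a⁻¹, ?_, pel_conj hgp a, a * r * a⁻¹, conj_mem_sylow S₀ hr, fun he => hgr ?_⟩
      · refine Sylow.smul_eq_iff_mem_normalizer.mp ?_
        rw [mul_smul, mul_smul, inv_smul_smul, Sylow.smul_eq_iff_mem_normalizer.mpr hgn]
      · calc g * r = a⁻¹ * ((a * g * a⁻¹) * (a * r * a⁻¹)) * a := by group
          _ = a⁻¹ * ((a * r * a⁻¹) * (a * g * a⁻¹)) * a := by rw [he]
          _ = r * g := by group
  have hx : ∀ S : Sylow 2 G, ∃ x ∈ normalizer ((S : Subgroup G) : Set G), PEl p x ∧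
      ∀ a ∈ (S : Subgroup G), ∀ b ∈ (S : Subgroup G), a ≠ 1 → b ≠ 1 →
        ∃ i : ℕ, x ^ i * a * (x ^ i)⁻¹ = b := fun S => by
    obtain ⟨hc, x, hxn, hxp, hmove⟩ := hS S
    exact ⟨x, hxn, hxp, transitive_of_move hxp hxn hc.le hmove⟩
  -- no nontrivial `2`-subgroup is normalised by the Sylow `l`-subgroup
  have hTl : ∀ T : Subgroup G, IsPGroup 2 T → T ≠ ⊥ → ¬ l ∣ Nat.card (normalizer (T : Set G)) := by
    intro T hT hTne hlN
    obtain ⟨y, hy⟩ := exists_prime_orderOf_dvd_card' l hlN
    rw [← Subgroup.orderOf_coe] at hy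
    have hle : zpowers (y : G) ≤ normalizer (T : Set G) := zpowers_le.mpr y.2
    obtain ⟨j, hj⟩ := IsPGroup.iff_card.mp hT
    have hcop : (Nat.card T).Coprime (Nat.card (zpowers (y : G))) := by
      rw [hj, Nat.card_zpowers, hy]
      exact Nat.Coprime.pow_left j ((Nat.coprime_primes Nat.prime_two hl).mpr (Ne.symm hbad.2))
    have hc := Cfsg.Agent.Lib.Coprime.card_sup_of_coprime hle hcop
    have hj0 : j ≠ 0 := by
      rintro rfl
      rw [pow_zero, Subgroup.card_eq_one] at hj; exact hTne hj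
    have h2 := hA (T ⊔ zpowers (y : G)) (by rw [hc, hj]; exact dvd_mul_of_dvd_left (dvd_pow_self 2 hj0) _)
      (by
        rw [hc, hj, Nat.card_zpowers, hy, hp.out.dvd_mul]
        rintro (h | h)
        · exact hp2 ((Nat.prime_dvd_prime_iff_eq hp.out Nat.prime_two).mp (hp.out.dvd_of_dvd_pow h))
        · exact hbad.1 ((Nat.prime_dvd_prime_iff_eq hp.out hl).mp h).symm)
    obtain ⟨e, he⟩ := IsPGroup.iff_card.mp h2
    have : l ∣ 2 ^ e := by rw [← he, hc, Nat.card_zpowers, hy]; exact dvd_mul_left l _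
    exact hbad.2 ((Nat.prime_dvd_prime_iff_eq hl Nat.prime_two).mp (hl.dvd_of_dvd_pow this))
  obtain ⟨S₁⟩ : Nonempty (Sylow 2 G) := inferInstance
  obtain ⟨hS₁c, x₁, hx₁n, hx₁p, r₁, hr₁, hxr⟩ := hS S₁
  have heventop : ∀ N : Subgroup G, N.Normal → 2 ∣ Nat.card N → N = ⊤ := by
    intro N hN h2N
    by_contra hne
    obtain ⟨Q⟩ : Nonempty (Sylow 2 N) := inferInstance
    have hfr := Sylow.normalizer_sup_eq_top Q
    have hQ : IsPGroup 2 ((Q : Subgroup N).map N.subtype) := Q.2.map _
    have hQne : (Q : Subgroup N).map N.subtype ≠ ⊥ := fun he => by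
      rw [map_eq_bot_iff_of_injective _ N.subtype_injective] at he
      exact Q.ne_bot_of_dvd_card h2N he
    have hc := Cfsg.Agent.Lib.Coprime.card_sup_mul_card_inf (N := N)
      (H := normalizer (((Q : Subgroup N).map N.subtype : Subgroup G) : Set G))
      (le_top.trans (normalizer_eq_top_iff.mpr hN).ge)
    rw [sup_comm, hfr, Subgroup.card_top] at hc
    have : l ∣ Nat.card N * Nat.card (normalizer (((Q : Subgroup N).map N.subtype : Subgroup G) : Set G)) := by
      rw [← hc]; exact dvd_mul_of_dvd_left hlG _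
    rcases hl.dvd_mul.mp this with h | h
    · rcases hsub N hne h2N l hl h with h | h
      exacts [hbad.1 h, hbad.2 h]
    · exact hTl _ hQ hQne h
  have hcomm : ∀ N : Subgroup G, N.Normal → ∀ a ∈ (S₁ : Subgroup G), ∀ g ∈ N,
      g * a * g⁻¹ * a⁻¹ ∈ N := fun N hN a _ g hg => by
    rw [show g * a * g⁻¹ * a⁻¹ = g * (a * g⁻¹ * a⁻¹) by group]
    exact mul_mem hg (hN.conj_mem _ (inv_mem hg) a)
  have hmoved : x₁ * r₁ * x₁⁻¹ * r₁⁻¹ ∈ (S₁ : Subgroup G) ∧ x₁ * r₁ * x₁⁻¹ * r₁⁻¹ ≠ 1 :=
    ⟨mul_mem ((mem_normalizer_iff.mp hx₁n r₁).mp hr₁) (inv_mem hr₁), fun he => hxr (by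
      calc x₁ * r₁ = (x₁ * r₁ * x₁⁻¹ * r₁⁻¹) * r₁ * x₁ := by group
        _ = r₁ * x₁ := by rw [he, one_mul])⟩
  have heven_of_x : ∀ N : Subgroup G, N.Normal → x₁ ∈ N → 2 ∣ Nat.card N := by
    intro N hN hx1N
    have hmem := hcomm N hN r₁ hr₁ x₁ hx1N
    obtain ⟨k, hk⟩ := IsPGroup.iff_orderOf.mp S₁.2 ⟨_, hmoved.1⟩
    rw [Subgroup.orderOf_mk] at hk
    have hk0 : k ≠ 0 := by
      rintro rfl; exact hmoved.2 (orderOf_eq_one_iff.mp (by simpa using hk))
    exact ((dvd_pow_self 2 hk0).trans (hk ▸ dvd_rfl)).trans (Subgroup.orderOf_dvd_natCard _ hmem)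
  have hna : ∃ a b : G, a * b ≠ b * a := ⟨x₁, r₁, hxr⟩
  have hnorm : ∀ N : Subgroup G, N.Normal → N = ⊥ ∨ N = ⊤ := by
    intro N hN
    by_cases h2N : 2 ∣ Nat.card N
    · exact Or.inr (heventop N hN h2N)
    left
    -- an odd normal subgroup is a `p`-group
    have hNp : IsPGroup p N := by
      refine IsPGroup.of_card (n := (Nat.card N).primeFactorsList.length) ?_
      refine Nat.eq_prime_pow_of_unique_prime_dvd Nat.card_pos.ne' fun {d} hd hdN => ?_
      by_contra hdp
      haveI := Fact.mk hd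
      have hd2 : d ≠ 2 := fun h => h2N (h ▸ hdN)
      obtain ⟨j, hj⟩ := IsPGroup.iff_card.mp S₁.2
      have hcop : (Nat.card (S₁ : Subgroup G)).Coprime (Nat.card N) := by
        rw [hj]; exact Nat.Coprime.pow_left j ((Nat.prime_two.coprime_iff_not_dvd).mpr h2N)
      haveI := S₁.2.isNilpotent
      obtain ⟨R, hR'⟩ := Cfsg.Agent.Lib.Coprime.exists_invariant_sylow (A := (S₁ : Subgroup G))
        (K := N) (by rw [normalizer_eq_top]; exact le_top) hcop (Or.inl inferInstance) d
      obtain ⟨i, hi⟩ := IsPGroup.iff_card.mp (R.2.map N.subtype)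
      have hi0 : i ≠ 0 := by
        rintro rfl
        have h1 := R.dvd_card_of_dvd_card hdN
        rw [pow_zero, card_map_of_injective N.subtype_injective] at hi
        rw [hi] at h1
        exact hd.one_lt.ne' (Nat.dvd_one.mp h1)
      have hc := Cfsg.Agent.Lib.Coprime.card_sup_of_coprime hR' (by
        rw [hi, hj]; exact Nat.Coprime.pow i j ((Nat.coprime_primes hd Nat.prime_two).mpr hd2))
      have hj0 : j ≠ 0 := by
        rintro rfl
        rw [pow_zero] at hj
        have := hp.out.two_le; omega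
      have h2 := hA ((R : Subgroup N).map N.subtype ⊔ S₁)
        (by rw [hc, hj]; exact dvd_mul_of_dvd_right (dvd_pow_self 2 hj0) _)
        (by
          rw [hc, hi, hj, hp.out.dvd_mul]
          rintro (h | h)
          · exact hdp ((Nat.prime_dvd_prime_iff_eq hp.out hd).mp (hp.out.dvd_of_dvd_pow h)).symm
          · exact hp2 ((Nat.prime_dvd_prime_iff_eq hp.out Nat.prime_two).mp (hp.out.dvd_of_dvd_pow h)))
      obtain ⟨e, he⟩ := IsPGroup.iff_card.mp h2
      have : d ∣ 2 ^ e := by rw [← he, hc, hi]; exact dvd_mul_of_dvd_left (dvd_pow_self d hi0) _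
      exact hd2 ((Nat.prime_dvd_prime_iff_eq hd Nat.prime_two).mp (hd.dvd_of_dvd_pow this))
    obtain ⟨P, hP⟩ := ((pel_zpowers hx₁p).to_sup_of_normal_right' hNp
      (by rw [normalizer_eq_top]; exact le_top)).exists_le_sylow
    haveI := hN
    have hCtop : centralizer (N : Set G) = ⊤ := by
      refine heventop _ inferInstance (heven_of_x _ inferInstance ?_)
      rw [mem_centralizer_iff]
      exact fun a ha => hab P a (hP (mem_sup_right ha)) x₁ (hP (mem_sup_left (mem_zpowers x₁)))
    have hcomtop : commutator G = ⊤ := by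
      refine heventop _ inferInstance ?_
      obtain ⟨k, hk⟩ := IsPGroup.iff_orderOf.mp S₁.2 ⟨_, hmoved.1⟩
      rw [Subgroup.orderOf_mk] at hk
      have hk0 : k ≠ 0 := by
        rintro rfl; exact hmoved.2 (orderOf_eq_one_iff.mp (by simpa using hk))
      exact ((dvd_pow_self 2 hk0).trans (hk ▸ dvd_rfl)).trans
        (Subgroup.orderOf_dvd_natCard _ (commutator_mem_commutator (mem_top x₁) (mem_top r₁)))
    haveI : IsMulCommutative (P : Subgroup G) :=
      ⟨⟨fun a b => Subtype.ext (hab P a a.2 b b.2)⟩⟩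
    have h1 := Cfsg.Agent.Lib.Transfer.abelian_hall_inf_commutator_inf_center (P : Subgroup G)
      P.card_coprime_index
    rw [hcomtop, inf_top_eq] at h1
    rw [eq_bot_iff, ← h1]
    refine fun a ha => ⟨hP (mem_sup_right ha), ?_⟩
    show a ∈ center G
    rw [mem_center_iff]
    intro g
    exact (mem_centralizer_iff.mp (hCtop ▸ mem_top g : g ∈ centralizer (N : Set G)) a ha).symm
  have st : Setting p G := ⟨hp2, hA, hab, hpG, hR, hsub, hnorm, hna, fun S => (hS S).1, hx⟩
  by_cases hcase : ∀ t u s : G, IsInv t → IsInv s → s * t = t * s → u * t = t * u → PEl p u →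
      u * s = s * u
  · exact st.case_one hcase
  · push Not at hcase
    obtain ⟨t, u, s, ht, hs, hst, hut, hup, hus⟩ := hcase
    exact st.case_two ht hs hst hut hup hus

/-- The statement. -/
theorem main {q : ℕ} (hq : q.Prime) (hpq : p ≠ q) (hp2 : p ≠ 2)
    (hpG : p ∣ Nat.card G) (hqG : q ∣ Nat.card G)
    (hmix : ∀ H : Subgroup G, H ≠ ⊤ → ¬ IsPGroup q H → q ∣ Nat.card H → p ∣ Nat.card H)
    (hlarge : q ^ (Nat.card G).factorization q - 1 < p ∨
      (p = q ^ (Nat.card G).factorization q - 1 ∧ ∀ P : Sylow p G, IsMulCommutative P)) :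
    ∀ r : ℕ, r.Prime → r ∣ Nat.card G → r = p ∨ r = q := by
  haveI := Fact.mk hq
  have hA : Mixed p q G := by
    intro H hqH hpH
    by_contra hH
    refine hpH (hmix H ?_ hH hqH)
    rintro rfl
    exact hpH (by rwa [Subgroup.card_top])
  have hR : ∀ R : Subgroup G, IsPGroup q R →
      Nat.card R ≤ q ^ (Nat.card G).factorization q := by
    intro R hR
    obtain ⟨S, hS⟩ := hR.exists_le_sylow
    rw [← Sylow.card_eq_multiplicity S]
    exact Subgroup.card_le_of_le hS
  rcases hlarge with hlt | ⟨heq, hab⟩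
  · obtain ⟨-, -, -, -, -, hpr⟩ := exists_comp hpq hA hqG fun R hR' g hg hgp r hr => by
      refine commute_of_le hgp hg ?_ r hr
      have := hR R hR'
      omega
    exact hpr
  · obtain ⟨a, ha⟩ : ∃ a, (Nat.card G).factorization q = a := ⟨_, rfl⟩
    rw [ha] at heq hR
    have ha0 : a ≠ 0 := by
      rintro rfl
      rw [pow_zero] at heq
      exact hp.out.ne_zero (by omega)
    have hq2 : q = 2 := by
      by_contra hq2
      have h1 : Odd (q ^ a) := (hq.odd_of_ne_two hq2).pow
      have h2 := hp.out.odd_of_ne_two hp2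
      rw [Nat.odd_iff] at h1 h2
      omega
    subst hq2
    refine aux hp2 _ G rfl hA (fun P b hb c hc => ?_) (fun R hR' => ?_) hpG hqG
    · haveI := hab P
      exact setLike_mul_comm hb hc
    · have := hR R hR'
      have := Nat.one_le_pow a 2 two_pos
      omega

end Cfsg.Agent.Lib.PLocal.LargePrime
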