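import Cfsg.Agent.Lib.Fusion.NormalCriteria
import Cfsg.Agent.Lib.Fusion.Saturation
import Cfsg.Agent.Lib.OddLocal.Coprime
import Cfsg.Agent.Lib.OddLocal.PStable
import Cfsg.Agent.S0638
import Mathlib.GroupTheory.SemidirectProduct

/-!
Strongly closed metacyclic subgroups at an odd prime are normal in a saturated fusion system.
-/

set_option autoImplicit false
set_option linter.unusedSectionVars false
set_option linter.style.haveILetI false

namespace Cfsg.Agent.Lib.PLocal.MetacyclicClosed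

open Cfsg Cfsg.FusionSystem Cfsg.Agent.Lib.Fusion
open scoped commutatorElement

variable {p : ℕ} [hp : Fact p.Prime]

/-- A `p`-group of automorphisms of a group with a fixed point and at most `p` elements is trivial. -/
theorem eq_one_of_card_le {E : Type*} [Group E] [Finite E] (hE : Nat.card E ≤ p)
    {σ : MulAut E} {k : ℕ} (hσ : σ ^ p ^ k = 1) (x : E) : σ x = x := by
  classical
  by_contra hne
  have hX : IsPGroup p (Subgroup.zpowers σ) := by
    obtain ⟨j, -, hj⟩ := (Nat.dvd_prime_pow hp.out).1 (orderOf_dvd_of_pow_eq_one hσ)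
    exact IsPGroup.of_card (n := j) (by rw [Nat.card_zpowers, hj])
  have hmod := hX.card_modEq_card_fixedPoints E
  have h1 : (1 : E) ∈ MulAction.fixedPoints (Subgroup.zpowers σ) E := fun a => map_one (a : MulAut E)
  have hlt : Nat.card (MulAction.fixedPoints (Subgroup.zpowers σ) E) < Nat.card E := by
    refine Finite.card_subtype_lt (x := x) fun hx => hne ?_
    exact hx ⟨σ, Subgroup.mem_zpowers σ⟩
  have hpos : 0 < Nat.card (MulAction.fixedPoints (Subgroup.zpowers σ) E) :=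
    Nat.card_pos_iff.2 ⟨⟨⟨1, h1⟩⟩, inferInstance⟩
  have hd : p ∣ Nat.card E - Nat.card (MulAction.fixedPoints (Subgroup.zpowers σ) E) :=
    (Nat.modEq_iff_dvd' hlt.le).1 hmod.symm
  have := Nat.le_of_dvd (Nat.sub_pos_of_lt hlt) hd
  omega

/-- A group of automorphisms of an elementary abelian group of order at most `p²` with a nonnormal
`p`-element contains the inversion. -/
theorem exists_inversion (hp2 : p ≠ 2) {E : Type*} [Group E] [Finite E]
    (hcomm : ∀ x y : E, x * y = y * x) (hexp : ∀ x : E, x ^ p = 1) (hcard : Nat.card E ≤ p ^ 2)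
    (H : Subgroup (MulAut E)) {σ : H} {k : ℕ} (hσ : σ ^ p ^ k = 1)
    (hN : ∀ N : Subgroup H, N.Normal → IsPGroup p N → σ ∉ N) :
    Nat.card E = p ^ 2 ∧ ∃ w ∈ H, ∀ x : E, w x = x⁻¹ := by
  have hσ1 : (σ : MulAut E) ≠ 1 := fun h =>
    hN ⊥ inferInstance IsPGroup.of_bot (Subgroup.mem_bot.2 (Subtype.ext h))
  have hσp : (σ : MulAut E) ^ p ^ k = 1 := congrArg Subtype.val hσ
  have hEp : IsPGroup p E := fun x => ⟨1, by rw [pow_one]; exact hexp x⟩
  obtain ⟨n, hn⟩ := IsPGroup.iff_card.1 hEp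
  have hn2 : n = 2 := by
    have hle : n ≤ 2 := (Nat.pow_le_pow_iff_right hp.out.one_lt).1 (hn ▸ hcard)
    by_contra hne
    refine hσ1 (MulEquiv.ext fun x => eq_one_of_card_le ?_ hσp x)
    rw [hn]
    exact (Nat.pow_le_pow_right hp.out.pos (show n ≤ 1 by omega)).trans_eq (pow_one p)
  subst hn2
  refine ⟨hn, ?_⟩
  -- a fixed element
  obtain ⟨z, hz, hz1⟩ : ∃ z : E, (σ : MulAut E) z = z ∧ z ≠ 1 := by
    have hX : IsPGroup p (Subgroup.zpowers (σ : MulAut E)) := by
      obtain ⟨j, -, hj⟩ := (Nat.dvd_prime_pow hp.out).1 (orderOf_dvd_of_pow_eq_one hσp)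
      exact IsPGroup.of_card (n := j) (by rw [Nat.card_zpowers, hj])
    obtain ⟨z, hz, hz1⟩ := hX.exists_fixed_point_of_prime_dvd_card_of_fixed_point E
      (hn ▸ dvd_pow_self p two_ne_zero) (a := 1) (fun a => map_one (a : MulAut E))
    exact ⟨z, hz ⟨_, Subgroup.mem_zpowers _⟩, hz1.symm⟩
  -- the fixed line and its quotient
  have line : ∀ (τ : MulAut E) (u : E), u ≠ 1 → τ ^ p ^ k = 1 → τ u = u →
      ∀ x, x⁻¹ * τ x ∈ Subgroup.zpowers u := by
    intro τ u hu hτ hτu x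
    set L := Subgroup.zpowers u with hL
    have hLn : L.Normal := ⟨fun a ha g => by rwa [hcomm g a, mul_inv_cancel_right]⟩
    have hLc : Nat.card L = p := by rw [hL, Nat.card_zpowers, orderOf_eq_prime (hexp u) hu]
    have hQc : Nat.card (E ⧸ L) = p := by
      have := Subgroup.card_mul_index L
      rw [hn, hLc, Subgroup.index_eq_card, pow_two] at this
      exact Nat.eq_of_mul_eq_mul_left hp.out.pos this
    have hmap : L.map τ.toMonoidHom = L := by
      rw [hL, MonoidHom.map_zpowers]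
      exact congrArg Subgroup.zpowers hτu
    let π : MulAut (E ⧸ L) := QuotientGroup.congr L L τ hmap
    have hπ : ∀ y : E, π (y : E ⧸ L) = ((τ y : E) : E ⧸ L) := fun y => rfl
    have hπj : ∀ j : ℕ, ∀ y : E, (π ^ j) (y : E ⧸ L) = (((τ ^ j) y : E) : E ⧸ L) := by
      intro j
      induction j with
      | zero => intro y; rfl
      | succ j ih => intro y; rw [pow_succ, pow_succ, MulAut.mul_apply, MulAut.mul_apply, hπ, ih]
    have hπp : π ^ p ^ k = 1 := MulEquiv.ext fun q => by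
      obtain ⟨y, rfl⟩ := QuotientGroup.mk_surjective q
      rw [hπj, hτ]
      rfl
    exact QuotientGroup.eq.1 ((eq_one_of_card_le hQc.le hπp (x : E ⧸ L)).symm.trans (hπ x))
  have span : ∀ u v : E, u ≠ 1 → v ∉ Subgroup.zpowers u → ∀ x, ∃ i j : ℤ, x = u ^ i * v ^ j := by
    intro u v hu hv x
    let S₂ : Subgroup E :=
      { carrier := {x | ∃ i j : ℤ, x = u ^ i * v ^ j}
        one_mem' := ⟨0, 0, by simp⟩
        mul_mem' := by
          rintro a b ⟨i, j, rfl⟩ ⟨i', j', rfl⟩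
          exact ⟨i + i', j + j', by
            rw [zpow_add, zpow_add, mul_assoc, mul_assoc, ← mul_assoc (v ^ j), hcomm (v ^ j),
              mul_assoc]⟩
        inv_mem' := by
          rintro a ⟨i, j, rfl⟩
          exact ⟨-i, -j, by rw [mul_inv_rev, zpow_neg, zpow_neg, hcomm]⟩ }
    suffices h : S₂ = ⊤ by
      have hx : x ∈ S₂ := h ▸ Subgroup.mem_top x
      exact hx
    have hle : Subgroup.zpowers u < S₂ := by
      refine lt_of_le_of_ne (Subgroup.zpowers_le.2 (show u ∈ S₂ from ⟨1, 0, by simp⟩)) fun e => hv ?_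
      rw [e]
      exact (⟨0, 1, by simp⟩ : v ∈ S₂)
    obtain ⟨j, hj, hj'⟩ := (Nat.dvd_prime_pow hp.out).1 (hn ▸ Subgroup.card_subgroup_dvd_card S₂)
    refine Subgroup.eq_top_of_card_eq _ ?_
    rw [hn, hj']
    congr 1
    by_contra hne
    refine hle.ne (Subgroup.eq_of_le_of_card_ge hle.le ?_)
    rw [hj', Nat.card_zpowers, orderOf_eq_prime (hexp u) hu]
    exact (Nat.pow_le_pow_right hp.out.pos (show j ≤ 1 by omega)).trans_eq (pow_one p)
  by_cases hfix : ∀ h : H, (h : MulAut E) z ∈ Subgroup.zpowers z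
  · exfalso
    have hz' : ∀ h : H, ∀ c ∈ Subgroup.zpowers z, (h : MulAut E) c ∈ Subgroup.zpowers z := by
      rintro h c ⟨i, rfl⟩
      rw [map_zpow]
      exact Subgroup.zpow_mem _ (hfix h) i
    let N : Subgroup H :=
      { carrier := {h | (h : MulAut E) z = z ∧ ∀ x, x⁻¹ * (h : MulAut E) x ∈ Subgroup.zpowers z}
        one_mem' := ⟨rfl, fun x => by simp⟩
        mul_mem' := by
          intro a b ha hb
          refine ⟨by rw [Subgroup.coe_mul, MulAut.mul_apply, hb.1, ha.1], fun x => ?_⟩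
          have e : x⁻¹ * (a : MulAut E) ((b : MulAut E) x) =
              (x⁻¹ * (b : MulAut E) x) * (((b : MulAut E) x)⁻¹ * (a : MulAut E) ((b : MulAut E) x)) := by
            group
          rw [Subgroup.coe_mul, MulAut.mul_apply, e]
          exact mul_mem (hb.2 x) (ha.2 _)
        inv_mem' := by
          intro a ha
          refine ⟨?_, fun x => ?_⟩
          · rw [Subgroup.coe_inv]
            conv_lhs => rw [← ha.1]
            exact MulEquiv.symm_apply_apply (a : MulAut E) z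
          · have h1 := inv_mem (ha.2 ((a : MulAut E)⁻¹ x))
            rw [show (a : MulAut E) ((a : MulAut E)⁻¹ x) = x from MulEquiv.apply_symm_apply (a : MulAut E) x,
              mul_inv_rev, inv_inv] at h1
            exact h1 }
    have hNn : N.Normal := ⟨fun a ha g => by
      have hg : ∀ x, (g : MulAut E) ((g : MulAut E)⁻¹ x) = x := MulEquiv.apply_symm_apply (g : MulAut E)
      refine ⟨?_, fun x => ?_⟩
      · obtain ⟨i, hi⟩ := Subgroup.mem_zpowers_iff.1 (hfix g⁻¹)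
        rw [Subgroup.coe_mul, Subgroup.coe_mul, MulAut.mul_apply, MulAut.mul_apply, ← hi, map_zpow,
          ha.1, hi, Subgroup.coe_inv]
        exact hg z
      · have h1 := hz' g _ (ha.2 ((g : MulAut E)⁻¹ x))
        rw [map_mul, map_inv, hg] at h1
        rw [Subgroup.coe_mul, Subgroup.coe_mul, MulAut.mul_apply, MulAut.mul_apply, Subgroup.coe_inv]
        exact h1⟩
    refine hN N hNn (fun a => ⟨1, Subtype.ext (Subtype.ext (MulEquiv.ext fun x => ?_))⟩)
      ⟨hz, line _ z hz1 hσp hz⟩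
    obtain ⟨ha1, ha2⟩ := a.2
    simp only [pow_one, SubmonoidClass.coe_pow, OneMemClass.coe_one, MulAut.one_apply]
    set c := x⁻¹ * ((a : H) : MulAut E) x with hc
    have hac : ((a : H) : MulAut E) c = c := by
      obtain ⟨i, hi⟩ := Subgroup.mem_zpowers_iff.1 (ha2 x)
      rw [hc, ← hi, map_zpow, ha1]
    have key : ∀ j : ℕ, (((a : H) : MulAut E) ^ j) x = x * c ^ j := by
      intro j
      induction j with
      | zero => simp
      | succ j ih =>
        rw [pow_succ', MulAut.mul_apply, ih, map_mul, map_pow, hac, pow_succ', ← mul_assoc, hc,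
          mul_inv_cancel_left]
    rw [key, hexp, mul_one]
  · push Not at hfix
    obtain ⟨h, hy⟩ := hfix
    set y := (h : MulAut E) z with hyz
    have hy1 : y ≠ 1 := fun e => hy (e ▸ one_mem _)
    have hsp := span z y hz1 hy
    have ext : ∀ f : MulAut E, f z = z → f y = y → f = 1 := fun f h1 h2 => MulEquiv.ext fun x => by
      obtain ⟨i, j, rfl⟩ := hsp x
      rw [map_mul, map_zpow, map_zpow, h1, h2]
      rfl
    -- the two transvections
    set τ : MulAut E := (h : MulAut E) * σ * (h : MulAut E)⁻¹ with hτ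
    have hτH : τ ∈ H := mul_mem (mul_mem h.2 σ.2) (inv_mem h.2)
    have hτy : τ y = y := by
      rw [hτ, hyz, MulAut.mul_apply, MulAut.mul_apply,
        show (h : MulAut E)⁻¹ ((h : MulAut E) z) = z from MulEquiv.symm_apply_apply (h : MulAut E) z, hz]
    have hτp : τ ^ p ^ k = 1 := by rw [hτ, conj_pow, hσp, mul_one, mul_inv_cancel]
    obtain ⟨a, ha⟩ := Subgroup.mem_zpowers_iff.1 (line _ z hz1 hσp hz y)
    obtain ⟨b, hb⟩ := Subgroup.mem_zpowers_iff.1 (line τ y hy1 hτp hτy z)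
    have hσy : (σ : MulAut E) y = y * z ^ a := by rw [ha, mul_inv_cancel_left]
    have hτz : τ z = z * y ^ b := by rw [hb, mul_inv_cancel_left]
    have ha0 : (a : ZMod p) ≠ 0 := fun e => hσ1 (ext _ hz (by
      obtain ⟨q, rfl⟩ := (ZMod.intCast_zmod_eq_zero_iff_dvd a p).1 e
      rw [hσy, zpow_mul, zpow_natCast, hexp, one_zpow, mul_one]))
    have hb0 : (b : ZMod p) ≠ 0 := fun e => by
      have h1 : τ = 1 := ext _ (by
        obtain ⟨q, rfl⟩ := (ZMod.intCast_zmod_eq_zero_iff_dvd b p).1 e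
        rw [hτz, zpow_mul, zpow_natCast, hexp, one_zpow, mul_one]) hτy
      rw [hτ, mul_inv_eq_one, mul_eq_left] at h1
      exact hσ1 h1
    have zp : ∀ (u : E) (i j : ℤ), (i : ZMod p) = j → u ^ i = u ^ j := by
      intro u i j hij
      obtain ⟨q, hq⟩ := (ZMod.intCast_eq_intCast_iff_dvd_sub i j p).1 hij
      rw [show j = i + (p : ℤ) * q by omega, zpow_add, zpow_mul, zpow_natCast, hexp, one_zpow, mul_one]
    have pw : ∀ (f : MulAut E) (u v : E) (i : ℤ), f u = u → f v = v * u ^ i →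
        ∀ j : ℕ, (f ^ j) v = v * u ^ (i * j) := by
      intro f u v i hu hv j
      induction j with
      | zero => simp
      | succ j ih =>
        rw [pow_succ', MulAut.mul_apply, ih, map_mul, map_zpow, hu, hv, mul_assoc, ← zpow_add]
        congr 2
        push_cast
        ring
    obtain ⟨i, hi⟩ : ∃ i : ℕ, (a : ZMod p) * i = 1 :=
      ⟨((a : ZMod p)⁻¹).val, by rw [ZMod.natCast_zmod_val, mul_inv_cancel₀ ha0]⟩
    obtain ⟨j, hj⟩ : ∃ j : ℕ, (b : ZMod p) * j = -1 :=
      ⟨(-(b : ZMod p)⁻¹).val, by rw [ZMod.natCast_zmod_val, mul_neg, mul_inv_cancel₀ hb0]⟩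
    set U : MulAut E := (σ : MulAut E) ^ i with hU
    set V : MulAut E := τ ^ j with hV
    have hUz : U z = z := by
      have := pw (σ : MulAut E) z z 0 hz (by simpa using hz) i
      simpa using this
    have hUy : U y = y * z := by
      rw [hU, pw (σ : MulAut E) z y a hz hσy i, zp z (a * i) 1 (by push_cast; exact hi), zpow_one]
    have hVy : V y = y := by
      have := pw τ y y 0 hτy (by simpa using hτy) j
      simpa using this
    have hVz : V z = z * y⁻¹ := by
      rw [hV, pw τ y z b hτy hτz j, zp y (b * j) (-1) (by push_cast; exact hj), zpow_neg_one]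
    have h1 : (U * V * U) z = y⁻¹ := by
      rw [MulAut.mul_apply, MulAut.mul_apply, hUz, hVz, map_mul, map_inv, hUz, hUy, mul_inv_rev,
        mul_inv_cancel_left]
    have h2 : (U * V * U) y = z := by
      rw [MulAut.mul_apply, MulAut.mul_apply, hUy, map_mul, hVy, hVz, hcomm z, ← mul_assoc,
        mul_inv_cancel, one_mul, hUz]
    refine ⟨(U * V * U) * (U * V * U), mul_mem ?_ ?_, fun x => ?_⟩
    · exact mul_mem (mul_mem (pow_mem σ.2 i) (pow_mem hτH j)) (pow_mem σ.2 i)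
    · exact mul_mem (mul_mem (pow_mem σ.2 i) (pow_mem hτH j)) (pow_mem σ.2 i)
    obtain ⟨i', j', rfl⟩ := hsp x
    show (U * V * U) ((U * V * U) (z ^ i' * y ^ j')) = _
    rw [map_mul, map_zpow, map_zpow, h1, h2, map_mul, map_zpow, map_zpow, map_inv, h2, h1, mul_inv_rev,
      inv_zpow, inv_zpow]
    exact hcomm _ _

/-- The elements of order dividing `p` of a metacyclic `p`-group, `p` odd. -/
theorem exists_omega (hp2 : p ≠ 2) {R : Type*} [Group R] [Finite R] (hR : IsPGroup p R)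
    (hm : Cfsg.IsMetacyclic R) : ∃ E : Subgroup R, (∀ x, x ∈ E ↔ x ^ p = 1) ∧ Nat.card E ≤ p ^ 2 ∧
      ∀ x ∈ E, ∀ y ∈ E, x * y = y * x := by
  by_cases hc : IsCyclic R
  · have hco : ∀ x y : R, x * y = y * x := fun x y => by
      obtain ⟨e, he⟩ := IsCyclic.exists_generator (α := R)
      obtain ⟨i, rfl⟩ := Subgroup.mem_zpowers_iff.1 (he x)
      obtain ⟨j, rfl⟩ := Subgroup.mem_zpowers_iff.1 (he y)
      rw [← zpow_add, ← zpow_add, add_comm]
    let E : Subgroup R :=
      { carrier := {x | x ^ p = 1}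
        one_mem' := one_pow p
        mul_mem' := fun {a b} ha hb => by
          show (a * b) ^ p = 1
          rw [(show Commute a b from hco a b).mul_pow, ha, hb, mul_one]
        inv_mem' := fun {a} ha => by
          show a⁻¹ ^ p = 1
          rw [inv_pow, ha, inv_one] }
    refine ⟨E, fun x => Iff.rfl, ?_, fun x _ y _ => ?_⟩
    · obtain ⟨e, he⟩ := IsCyclic.exists_generator (α := E)
      rw [← orderOf_eq_card_of_forall_mem_zpowers he]
      refine (Nat.le_of_dvd hp.out.pos (orderOf_dvd_of_pow_eq_one (Subtype.ext ?_))).trans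
        (Nat.le_self_pow two_ne_zero p)
      exact e.2
    · exact hco x y
  · obtain ⟨⟨hab, hexp⟩, hcard⟩ := Cfsg.Agent.S0638.result hp2 hR hm hc
    refine ⟨Cfsg.omegaOne p (⊤ : Subgroup R), fun x => ⟨hexp x, fun hx => ?_⟩, hcard.le, ?_⟩
    · exact Subgroup.subset_closure ⟨trivial, hx⟩
    · exact fun x hx y hy => congrArg Subtype.val (hab.is_comm.comm ⟨x, hx⟩ ⟨y, hy⟩)

variable {Ω : Type*} [Group Ω] {S : Subgroup Ω} [Finite S]

open SemidirectProduct in
/-- A `p'`-automorphism stabilizing `R ≥ Q` and fixing the elements of order `p` of `Q` is trivial. -/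
theorem eq_one_of_fix (hp2 : p ≠ 2) {R : Type*} [Group R] [Finite R] (Q : Subgroup R) (hQ : IsPGroup p Q)
    {a : MulAut R} (hord : (orderOf a).Coprime p) (hinv : ∀ x ∈ Q, a x ∈ Q)
    (hfix : ∀ x ∈ Q, x ^ p = 1 → a x = x) (hquot : ∀ x, x⁻¹ * a x ∈ Q) : a = 1 := by
  have : Finite (MulAut R) := Finite.of_injective (fun f : MulAut R => (f : R → R)) DFunLike.coe_injective
  let φ : MulAut R →* MulAut R := MonoidHom.id _
  have : Finite (R ⋊[φ] MulAut R) := Finite.of_equiv _ SemidirectProduct.equivProd.symm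
  set A : Subgroup (R ⋊[φ] MulAut R) := Subgroup.zpowers (inr a) with hA
  have hcard : (Nat.card A).Coprime p := by
    rw [hA, Nat.card_zpowers, orderOf_injective (inr : MulAut R →* R ⋊[φ] MulAut R) inr_injective]
    exact hord
  have hconj : ∀ x : R, (inr a : R ⋊[φ] MulAut R) * inl x * (inr a)⁻¹ = inl (a x) := fun x => by
    rw [← map_inv, ← inl_aut]; rfl
  set H : Subgroup (R ⋊[φ] MulAut R) := Q.map inl with hH
  have hn : A ≤ Subgroup.normalizer (H : Set (R ⋊[φ] MulAut R)) := by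
    rw [hA, Subgroup.zpowers_le]
    refine Fusion.mem_normalizer_of_finite fun h hh => ?_
    obtain ⟨x, hx, rfl⟩ := hh
    exact ⟨a x, hinv x hx, (hconj x).symm⟩
  have hHc : A ≤ Subgroup.centralizer (H : Set (R ⋊[φ] MulAut R)) := by
    refine OddLocal.le_centralizer_of_fixes_pow_eq_one hp2 hcard H (hQ.map _) hn fun h hh hhp => ?_
    obtain ⟨x, hx, rfl⟩ := hh
    rw [hA, Subgroup.zpowers_le]
    refine OddLocal.mem_centralizer_of_conj_eq fun y hy => ?_
    rw [Set.mem_singleton_iff] at hy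
    rw [hy, hconj, hfix x hx (inl_injective (by rw [map_pow, hhp, map_one]))]
  have hcomm : ⁅(inl : R →* R ⋊[φ] MulAut R).range, A⁆ ≤ H := by
    rw [Subgroup.commutator_le]
    rintro _ ⟨x, rfl⟩ b hb
    rw [hA] at hb
    obtain ⟨i, rfl⟩ := Subgroup.mem_zpowers_iff.1 hb
    rw [← map_zpow]
    let M : Subgroup (MulAut R) := (Subgroup.zpowers a)
    have hi : ∀ c ∈ M, ∀ y, y⁻¹ * c y ∈ Q ∧ ((y ∈ Q) → c y ∈ Q) := by
      intro c hc
      obtain ⟨j, rfl⟩ := (isOfFinOrder_of_finite a).mem_powers_iff_mem_zpowers.2 hc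
      induction j with
      | zero => intro y; simp
      | succ j ih =>
        intro y
        have h1 := ih (Subgroup.pow_mem _ (Subgroup.mem_zpowers a) j) (a y)
        simp only [pow_succ, MulAut.mul_apply]
        refine ⟨?_, fun hy => h1.2 (hinv y hy)⟩
        have := mul_mem (hquot y) h1.1
        rwa [mul_assoc, mul_inv_cancel_left] at this
    refine ⟨x * (a ^ i) x⁻¹, ?_, ?_⟩
    · have := (hi _ (Subgroup.zpow_mem _ (Subgroup.mem_zpowers a) i) x⁻¹).1
      rwa [inv_inv] at this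
    · rw [commutatorElement_def, map_mul]
      have e : (inr (a ^ i) : R ⋊[φ] MulAut R) * inl x⁻¹ * inr (a ^ i)⁻¹ = inl ((a ^ i) x⁻¹) :=
        (inl_aut _ _).symm
      rw [← e, map_inv, map_inv]
      group
  obtain ⟨m, hm⟩ := IsPGroup.iff_card.1 (hQ.map (inl : R →* R ⋊[φ] MulAut R))
  have hRc := OddLocal.le_centralizer_of_coprime_stab hcomm hHc (hm ▸ hcard.pow_right m)
  refine MulEquiv.ext fun x => inl_injective (φ := φ) ?_
  rw [← hconj]
  exact OddLocal.conj_eq_of_mem_centralizer (hRc (Subgroup.mem_zpowers _)) ⟨x, rfl⟩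

/-- A metacyclic strongly closed subgroup, `p` odd, is normal. -/
theorem isNormal_of_metacyclic (hS : IsPGroup p S) (hp2 : p ≠ 2) {F : FusionSystem S}
    (hF : F.IsSaturated p) {P : Subgroup Ω} (hP : F.StronglyClosed P) (hm : Cfsg.IsMetacyclic P) :
    F.IsNormal P := by
  classical
  refine normal_of_stronglyClosed_of_le hS hF hP fun R hR => ?_
  have hPc := hR.1
  have hRS : R ≤ S := hPc.1
  have hPS : P ≤ S := hP.1
  have := finite_of_le hRS
  have := finite_of_le hPS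
  have hfinA := finite_mulAut hRS
  refine le_of_normalizer_le hS hRS hPS (hRS.trans (WeaklyClosed.le_normalizer (StronglyClosed.weaklyClosed hP))) ?_
  intro g hg
  by_contra hgR
  obtain ⟨hgP, hgN⟩ := hg
  have hrad := IsEssential.radical hS hF hR
  obtain ⟨EP, hEP, hEPc, hEPab⟩ := exists_omega hp2 (hS.to_le hPS) hm
  let E₀ : Subgroup Ω := EP.map P.subtype
  have hE₀P : E₀ ≤ P := Subgroup.map_subtype_le _
  have hE₀ : ∀ x, x ∈ E₀ ↔ x ∈ P ∧ x ^ p = 1 := by
    intro x
    refine ⟨?_, fun ⟨hx, hxp⟩ => ⟨⟨x, hx⟩, (hEP _).2 (Subtype.ext hxp), rfl⟩⟩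
    rintro ⟨y, hy, rfl⟩
    exact ⟨y.2, congrArg Subtype.val ((hEP y).1 hy)⟩
  have hE₀c : Nat.card E₀ ≤ p ^ 2 := by
    rw [Subgroup.card_map_of_injective P.subtype_injective]
    exact hEPc
  have : Finite E₀ := finite_of_le (hE₀P.trans hPS)
  let Q : Subgroup R := P.subgroupOf R
  let E : Subgroup R := E₀.subgroupOf R
  have hEQ : ∀ x : R, x ∈ E ↔ x ∈ Q ∧ x ^ p = 1 := fun x => by
    rw [Subgroup.mem_subgroupOf, hE₀, Subgroup.mem_subgroupOf, Subtype.ext_iff (a1 := x ^ p)]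
    rfl
  -- invariance
  have hQinv : ∀ α ∈ F.autGroup R, ∀ x ∈ Q, α x ∈ Q := fun α hα x hx =>
    hP.2 (P ⊓ R) inf_le_left _ (restr_mem F (autHom_mem F hRS hα) inf_le_right) ⟨x, hx, x.2⟩
  have hEinv : ∀ α ∈ F.autGroup R, ∀ x ∈ E, α x ∈ E := fun α hα x hx => by
    rw [hEQ] at hx ⊢
    exact ⟨hQinv α hα x hx.1, by rw [← map_pow, hx.2, map_one]⟩
  let res : F.autGroup R →* MulAut E :=
    { toFun := fun α =>
        { toFun := fun x => ⟨(α : MulAut R) x, hEinv _ α.2 x x.2⟩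
          invFun := fun x => ⟨((α⁻¹ : F.autGroup R) : MulAut R) x, hEinv _ (α⁻¹).2 x x.2⟩
          left_inv := fun x => Subtype.ext ((α : MulAut R).symm_apply_apply (x : R))
          right_inv := fun x => Subtype.ext ((α : MulAut R).apply_symm_apply (x : R))
          map_mul' := fun x y => Subtype.ext (map_mul (α : MulAut R) (x : R) (y : R)) }
      map_one' := MulEquiv.ext fun x => Subtype.ext rfl
      map_mul' := fun α β => MulEquiv.ext fun x => Subtype.ext rfl }
  have hres : ∀ α x, ((res α x : E) : R) = (α : MulAut R) x := fun α x => rfl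
  let M : Subgroup (F.autGroup R) :=
    { carrier := {α | ∀ x : R, x⁻¹ * (α : MulAut R) x ∈ Q}
      one_mem' := fun x => by simp
      mul_mem' := by
        intro a b ha hb x
        have := mul_mem (hb x) (ha ((b : MulAut R) x))
        rwa [mul_assoc, mul_inv_cancel_left] at this
      inv_mem' := by
        intro a ha x
        have h1 := inv_mem (ha ((a : MulAut R)⁻¹ x))
        rw [show (a : MulAut R) ((a : MulAut R)⁻¹ x) = x from MulEquiv.apply_symm_apply (a : MulAut R) x,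
          mul_inv_rev, inv_inv] at h1
        exact h1 }
  have hMn : M.Normal := ⟨fun a ha α x => by
    have h1 := hQinv _ α.2 _ (ha ((α : MulAut R)⁻¹ x))
    rw [map_mul, map_inv, show (α : MulAut R) ((α : MulAut R)⁻¹ x) = x from
      MulEquiv.apply_symm_apply (α : MulAut R) x] at h1
    exact h1⟩
  have hQp : IsPGroup p Q := (hS.to_le hRS).to_subgroup Q
  have hK : ∀ t ∈ M, res t = 1 → ∃ k : ℕ, t ^ p ^ k = 1 := by
    intro t ht hrt
    obtain ⟨k, hk⟩ := OddLocal.exists_orderOf_pow_coprime p t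
    refine ⟨k, Subtype.ext ?_⟩
    rw [OneMemClass.coe_one]
    refine eq_one_of_fix hp2 Q hQp (by rwa [Subgroup.orderOf_coe]) (hQinv _ (t ^ p ^ k).2) (fun x hx hxp => ?_)
      (pow_mem ht (p ^ k))
    have h1 : res (t ^ p ^ k) = 1 := by rw [map_pow, hrt, one_pow]
    exact congrArg Subtype.val (DFunLike.congr_fun h1 ⟨x, (hEQ x).2 ⟨hx, hxp⟩⟩)
  -- conjugation by `g`
  have hgS : g ∈ S := hPS hgP
  have hgA := conjAut_mem_autGroup F hRS hgS hgN
  set cg : F.autGroup R := ⟨conjAut hgN, hgA⟩ with hcg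
  have hPn : ∀ s ∈ S, s ∈ Subgroup.normalizer (P : Set Ω) :=
    WeaklyClosed.le_normalizer (StronglyClosed.weaklyClosed hP)
  have hcgM : cg ∈ M := fun x => by
    show (x : Ω)⁻¹ * (g * x * g⁻¹) ∈ P
    have := P.mul_mem (conj_mem_of_mem_normalizer (hPn _ (S.inv_mem (hRS x.2))) hgP) (P.inv_mem hgP)
    rw [inv_inv] at this
    simpa only [mul_assoc] using this
  have hcgp : ∃ k : ℕ, cg ^ p ^ k = 1 := by
    obtain ⟨k, hk⟩ := hS ⟨g, hgS⟩
    refine ⟨k, Subtype.ext ?_⟩
    rw [SubmonoidClass.coe_pow, OneMemClass.coe_one, hcg]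
    show (R.normalizerMonoidHom ⟨g, hgN⟩) ^ p ^ k = 1
    rw [← map_pow, show (⟨g, hgN⟩ : Subgroup.normalizer (R : Set Ω)) ^ p ^ k = 1 from
      Subtype.ext (congrArg Subtype.val hk :), map_one]
  obtain ⟨k, hk⟩ := hcgp
  have hN : ∀ N : Subgroup res.range, N.Normal → IsPGroup p N → res.rangeRestrict cg ∉ N := by
    intro N hNn hNp hmem
    refine hgR (mem_of_conjAut_inn hPc ⟨hgS, hgN⟩ ?_)
    rw [← hrad.2]
    have : (M ⊓ N.comap res.rangeRestrict).Normal := inferInstance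
    refine ⟨cg, le_pCore_of_normal (N := M ⊓ N.comap res.rangeRestrict) ?_ ⟨hcgM, hmem⟩, rfl⟩
    rintro ⟨t, htM, htN⟩
    obtain ⟨i, hi⟩ := hNp ⟨_, htN⟩
    have h1 : res (t ^ p ^ i) = 1 := by
      rw [map_pow]
      exact congrArg (fun z => ((z : res.range) : MulAut E)) (congrArg Subtype.val hi :)
    obtain ⟨j, hj⟩ := hK _ (pow_mem htM _) h1
    exact ⟨i + j, Subtype.ext (by rw [SubmonoidClass.coe_pow, pow_add, pow_mul]; exact hj)⟩
  obtain ⟨hEc, w, ⟨h₀, rfl⟩, hinvE⟩ := exists_inversion hp2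
    (fun x y : E => Subtype.ext (Subtype.ext (by
      obtain ⟨a, ha, hax⟩ := (x.2 : ((x : R) : Ω) ∈ E₀)
      obtain ⟨b, hb, hbx⟩ := (y.2 : ((y : R) : Ω) ∈ E₀)
      show ((x : R) : Ω) * ((y : R) : Ω) = ((y : R) : Ω) * ((x : R) : Ω)
      have hax' : (a : Ω) = ((x : R) : Ω) := hax
      have hbx' : (b : Ω) = ((y : R) : Ω) := hbx
      rw [← hax', ← hbx', ← Subgroup.coe_mul, ← Subgroup.coe_mul, hEPab a ha b hb])))
    (fun x => Subtype.ext ((hEQ _).1 x.2).2)
    (by
      refine le_trans ?_ hE₀c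
      exact Nat.card_le_card_of_injective (fun x : E => (⟨((x : R) : Ω), x.2⟩ : E₀)) fun x y h =>
        Subtype.ext (Subtype.ext (congrArg Subtype.val h :)))
    res.range (σ := res.rangeRestrict cg) (k := k) (by rw [← map_pow, hk, map_one]) hN
  have hER : E₀ ≤ R := by
    have h1 : E.map R.subtype = E₀ := by
      refine Subgroup.eq_of_le_of_card_ge ?_ ?_
      · rintro _ ⟨x, hx, rfl⟩; exact hx
      · rw [Subgroup.card_map_of_injective R.subtype_injective, hEc]; exact hE₀c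
    rw [← h1]; exact Subgroup.map_subtype_le _
  -- an inverting automorphism normalizing the induced Sylow subgroup
  have hsat := IsSaturated.automized_receptive hS hF hR.2.1
  obtain ⟨-, T, hT⟩ := hsat.1
  set U := ((T : Subgroup (F.autGroup R)).map res).comap res with hU
  have hTU : (T : Subgroup (F.autGroup R)) ≤ U := Subgroup.le_comap_map _ _
  set T₁ := h₀ • T with hT₁
  have hT₁U : (T₁ : Subgroup (F.autGroup R)) ≤ U := by
    intro t ht
    rw [hT₁, Sylow.coe_subgroup_smul] at ht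
    obtain ⟨s, hs, rfl⟩ := ht
    refine ⟨s, hs, ?_⟩
    show res s = res (h₀ * s * h₀⁻¹)
    rw [map_mul, map_mul, map_inv]
    refine MulEquiv.ext fun x => ?_
    rw [MulAut.mul_apply, MulAut.mul_apply, hinvE, ← map_inv]
    congr 1
    have hx2 : res h₀ ((res h₀)⁻¹ x) = x := MulEquiv.apply_symm_apply (res h₀) x
    rw [hinvE] at hx2
    exact hx2.symm
  obtain ⟨c, hc⟩ := MulAction.exists_smul_eq U (T₁.subtype hT₁U) (T.subtype hTU)
  rw [Sylow.smul_subtype] at hc
  have hc' : ((c : F.autGroup R) • T₁ : Sylow p (F.autGroup R)) = T := Sylow.subtype_injective hc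
  obtain ⟨t₀, ht₀, htc⟩ := c.2
  set h₁ := t₀⁻¹ * ((c : F.autGroup R) * h₀) with hh₁
  have hres₁ : ∀ x, res h₁ x = x⁻¹ := fun x => by
    rw [hh₁, map_mul, map_mul, map_inv, htc, inv_mul_cancel_left, hinvE]
  have hnorm : ∀ s ∈ (T : Subgroup (F.autGroup R)), h₁ * s * h₁⁻¹ ∈ (T : Subgroup (F.autGroup R)) := by
    intro s hs
    have h2 : ((c : F.autGroup R) * h₀) * s * ((c : F.autGroup R) * h₀)⁻¹ ∈ (T : Subgroup (F.autGroup R)) := by
      have h4 : ((c : F.autGroup R) * h₀) • T = T := by rw [mul_smul, ← hT₁]; exact hc'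
      have h5 : ((c : F.autGroup R) * h₀) * s * ((c : F.autGroup R) * h₀)⁻¹ ∈
          (((c : F.autGroup R) * h₀) • T : Sylow p (F.autGroup R)) := by
        show _ ∈ ((((c : F.autGroup R) * h₀) • T : Sylow p (F.autGroup R)) : Subgroup (F.autGroup R))
        rw [Sylow.coe_subgroup_smul]
        exact ⟨s, hs, rfl⟩
      rwa [h4] at h5
    have h3 := mul_mem (mul_mem (inv_mem ht₀) h2) ht₀
    have e : h₁ * s * h₁⁻¹ = t₀⁻¹ * (((c : F.autGroup R) * h₀) * s * ((c : F.autGroup R) * h₀)⁻¹) * t₀ := by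
      rw [hh₁]; group
    rw [e]; exact h3
  -- extend it to `N_S(R)`
  set W : Subgroup Ω := P ⊓ normalizerIn S R with hW
  have hφ := autHom_mem F hRS h₁.2
  obtain ⟨ψ, hψ, hψe⟩ := hsat.2.2 R _ hφ (range_autHom _)
  have hWN : W ≤ extender S R (autHom (h₁ : MulAut R)) := by
    rintro v ⟨-, hvS, hvN⟩
    refine Subgroup.subset_closure ⟨hvS, hvN, ?_⟩
    have h2 := hnorm ⟨conjAut hvN, conjAut_mem_autGroup F hRS hvS hvN⟩
      (hT ▸ conjAut_mem_autInducedBy hvS hvN)
    rw [hT] at h2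
    obtain ⟨s, hs, hs'⟩ := mem_autInducedBy.1 h2
    refine ⟨s, hs, fun x hx => ?_⟩
    have h3 := hs' ((h₁ : MulAut R) x)
    change (((h₁ : MulAut R) (conjAut hvN ((h₁ : MulAut R)⁻¹ ((h₁ : MulAut R) x))) : R) : Ω) = _ at h3
    rw [show (h₁ : MulAut R)⁻¹ ((h₁ : MulAut R) x) = x from MulEquiv.symm_apply_apply _ x] at h3
    exact h3
  have hres' : restr hWN ψ ∈ F.Hom W := restr_mem F hψ hWN
  have hRN : ∀ x ∈ R, x ∈ extender S R (autHom (h₁ : MulAut R)) := fun x hx =>
    le_extender hRS (apply_mem hφ) hx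
  have hψR : ∀ (x : R), ψ ⟨x, hRN x x.2⟩ = ((h₁ : MulAut R) x : R) := fun x => hψe x x.2 _
  have hWinv : ∀ v : W, restr hWN ψ v ∈ W := by
    intro v
    refine ⟨hP.2 W inf_le_left _ hres' v, apply_mem hres' v, mem_normalizer_of_finite fun x hx => ?_⟩
    obtain ⟨y, hy⟩ := (h₁ : MulAut R).surjective ⟨x, hx⟩
    have hvy : (v : Ω) * (y : Ω) * (v : Ω)⁻¹ ∈ R := conj_mem_of_mem_normalizer v.2.2.2 y.2
    have h4 : restr hWN ψ v * x * (restr hWN ψ v)⁻¹ = ψ ⟨_, hRN _ hvy⟩ := by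
      rw [show x = ψ ⟨y, hRN y y.2⟩ by rw [hψR, hy]]
      show ψ _ * _ * (ψ _)⁻¹ = _
      rw [← map_inv, ← map_mul, ← map_mul]
      rfl
    rw [h4, hψR ⟨_, hvy⟩]
    exact SetLike.coe_mem _
  have : Finite W := finite_of_le (inf_le_left.trans hPS)
  let β₀ : W →* W := (restr hWN ψ).codRestrict W hWinv
  have hβinj : Function.Injective β₀ := fun a b h =>
    F.injective_of_mem hres' (congrArg Subtype.val h :)
  let β : MulAut W := MulEquiv.ofBijective β₀ ⟨hβinj, Finite.injective_iff_surjective.1 hβinj⟩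
  have hEW : ∀ e ∈ E₀, e ∈ W := fun e he =>
    ⟨hE₀P he, le_normalizerIn hRS (hER he)⟩
  have hβE : ∀ e : W, (e : Ω) ∈ E₀ → β e = e⁻¹ := fun e he => by
    refine Subtype.ext ?_
    show ψ ⟨e, _⟩ = (e : Ω)⁻¹
    rw [show ψ ⟨e, hWN e.2⟩ = _ from hψR ⟨e, hER he⟩]
    exact congrArg (fun z : E => ((z : R) : Ω)) (hres₁ ⟨⟨e, hER he⟩, he⟩)
  -- pass to the 2-part
  obtain ⟨l, m, hmodd, hlm⟩ := Nat.exists_eq_two_pow_mul_odd (orderOf_pos β).ne'
  set γ := β ^ m with hγ
  have hγp : γ ^ 2 ^ l = 1 := by rw [hγ, ← pow_mul, mul_comm, ← hlm, pow_orderOf_eq_one]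
  have hγE : ∀ e : W, (e : Ω) ∈ E₀ → γ e = e⁻¹ := by
    intro e he
    obtain ⟨r, rfl⟩ := hmodd
    have h2 : ∀ r : ℕ, ((β * β) ^ r) e = e := by
      intro r
      induction r with
      | zero => rfl
      | succ r ih =>
        rw [pow_succ, MulAut.mul_apply, MulAut.mul_apply, hβE e he, map_inv, hβE e he, inv_inv, ih]
    rw [hγ, pow_succ', MulAut.mul_apply, pow_mul, pow_two, h2, hβE e he]
  have hgW : g ∈ W := ⟨hgP, hgS, hgN⟩
  have hEconj : ∀ v ∈ P, ∀ e ∈ E₀, v * e * v⁻¹ ∈ E₀ := fun v hv e he => by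
    rw [hE₀] at he ⊢
    exact ⟨P.mul_mem (P.mul_mem hv he.1) (P.inv_mem hv), by rw [conj_pow, he.2, mul_one, mul_inv_cancel]⟩
  let X : Type _ := {v : W // ∀ e ∈ E₀, (v : Ω) * e * (v : Ω)⁻¹ = g * e * g⁻¹}
  have hXinv : ∀ v : W, (∀ e ∈ E₀, (v : Ω) * e * (v : Ω)⁻¹ = g * e * g⁻¹) →
      ∀ e ∈ E₀, ((γ v : W) : Ω) * e * ((γ v : W) : Ω)⁻¹ = g * e * g⁻¹ := by
    intro v hv e he
    let e' : W := ⟨e, hEW e he⟩
    let d : W := ⟨g * e * g⁻¹, hEW _ (hEconj g hgP e he)⟩
    have h1 : v * e'⁻¹ * v⁻¹ = d⁻¹ := Subtype.ext (by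
      show (v : Ω) * e⁻¹ * (v : Ω)⁻¹ = (g * e * g⁻¹)⁻¹
      rw [← hv e he]; group)
    have h2 : γ v * e' * (γ v)⁻¹ = d := by
      have := congrArg γ h1
      rwa [map_mul, map_mul, map_inv, map_inv, map_inv, hγE e' he, hγE d (hEconj g hgP e he), inv_inv,
        inv_inv] at this
    exact congrArg Subtype.val h2
  let π₀ : X → X := fun v => ⟨γ v.1, hXinv v.1 v.2⟩
  have hπinj : Function.Injective π₀ := fun a b h => Subtype.ext (γ.injective (congrArg Subtype.val h :))
  have : Finite X := Subtype.finite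
  let π : Equiv.Perm X := Equiv.ofBijective π₀ ⟨hπinj, Finite.injective_iff_surjective.1 hπinj⟩
  have hπj : ∀ j : ℕ, ∀ v : X, ((π ^ j) v).1 = (γ ^ j) v.1 := by
    intro j
    induction j with
    | zero => intro v; rfl
    | succ j ih =>
      intro v
      rw [pow_succ, pow_succ, Equiv.Perm.mul_apply, MulAut.mul_apply, ih]
      rfl
  have hπp : π ^ 2 ^ l = 1 := Equiv.ext fun v => Subtype.ext (by rw [hπj, hγp]; rfl)
  have : Fact (Nat.Prime 2) := ⟨Nat.prime_two⟩
  have h2g : IsPGroup 2 (Subgroup.zpowers π) := by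
    obtain ⟨j, -, hj⟩ := (Nat.dvd_prime_pow Nat.prime_two).1 (orderOf_dvd_of_pow_eq_one hπp)
    exact IsPGroup.of_card (n := j) (by rw [Nat.card_zpowers, hj])
  let C : Subgroup W :=
    { carrier := {c | ∀ e ∈ E₀, (c : Ω) * e * (c : Ω)⁻¹ = e}
      one_mem' := fun e _ => by simp
      mul_mem' := by
        intro a b ha hb e he
        conv_rhs => rw [← ha e he]
        conv_rhs => rw [← hb e he]
        simp [mul_assoc]
      inv_mem' := by
        intro a ha e he
        conv_lhs => rw [← ha e he]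
        simp [mul_assoc] }
  have hXC : Nat.card X = Nat.card C := by
    refine Nat.card_congr
      ⟨fun v => ⟨(⟨g, hgW⟩ : W)⁻¹ * v.1, fun e he => ?_⟩, fun c => ⟨⟨g, hgW⟩ * c.1, fun e he => ?_⟩,
        fun v => Subtype.ext (mul_inv_cancel_left _ _), fun c => Subtype.ext (inv_mul_cancel_left _ _)⟩
    · show g⁻¹ * (v.1 : Ω) * e * (g⁻¹ * (v.1 : Ω))⁻¹ = e
      rw [show g⁻¹ * (v.1 : Ω) * e * (g⁻¹ * (v.1 : Ω))⁻¹ = g⁻¹ * ((v.1 : Ω) * e * (v.1 : Ω)⁻¹) * g by group,
        v.2 e he]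
      group
    · show g * (c.1 : Ω) * e * (g * (c.1 : Ω))⁻¹ = g * e * g⁻¹
      rw [show g * (c.1 : Ω) * e * (g * (c.1 : Ω))⁻¹ = g * ((c.1 : Ω) * e * (c.1 : Ω)⁻¹) * g⁻¹ by group,
        c.2 e he]
  have hndvd : ¬ 2 ∣ Nat.card X := by
    obtain ⟨j, hj⟩ := IsPGroup.iff_card.1 (((hS.to_le hPS).to_le (inf_le_left : W ≤ P)).to_subgroup C)
    rw [hXC, hj]
    exact fun h => hp2 ((Nat.prime_dvd_prime_iff_eq Nat.prime_two hp.out).1 (Nat.prime_two.dvd_of_dvd_pow h)).symm
  obtain ⟨v, hv⟩ := h2g.nonempty_fixed_point_of_prime_not_dvd_card X hndvd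
  have hvfix : γ v.1 = v.1 := congrArg Subtype.val (hv ⟨π, Subgroup.mem_zpowers π⟩)
  have hv1 : v.1 ≠ 1 := by
    intro e
    refine hN ⊥ inferInstance IsPGroup.of_bot (Subgroup.mem_bot.2 (Subtype.ext (MulEquiv.ext fun x =>
      Subtype.ext (Subtype.ext ?_))))
    show g * ((x : R) : Ω) * g⁻¹ = ((x : R) : Ω)
    have := v.2 _ x.2
    rw [e] at this
    simpa using this.symm
  obtain ⟨j, hj⟩ := ((hS.to_le hPS).to_le (inf_le_left : W ≤ P)).exists_orderOf_eq_pow v.1
  obtain ⟨j, rfl⟩ : ∃ j', j = j' + 1 := Nat.exists_eq_succ_of_ne_zero (by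
    rintro rfl
    exact hv1 (orderOf_eq_one_iff.1 (by rw [hj, pow_zero])))
  set z := v.1 ^ p ^ j with hz
  have hzp : z ^ p = 1 := by rw [hz, ← pow_mul, ← pow_succ, ← hj, pow_orderOf_eq_one]
  have hzE : (z : Ω) ∈ E₀ := (hE₀ _).2 ⟨z.2.1, by rw [← SubmonoidClass.coe_pow, hzp]; rfl⟩
  have hzz : z = z⁻¹ := by
    rw [← hγE z hzE, hz, map_pow, hvfix]
  have hz2 : z ^ 2 = 1 := by
    nth_rewrite 1 [pow_two]
    nth_rewrite 2 [hzz]
    exact mul_inv_cancel z
  have h1 : orderOf z = 1 := Nat.eq_one_of_dvd_coprimes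
    ((Nat.coprime_primes Nat.prime_two hp.out).2 (Ne.symm hp2))
    (orderOf_dvd_of_pow_eq_one hz2) (orderOf_dvd_of_pow_eq_one hzp)
  have h2 : orderOf v.1 ∣ p ^ j := orderOf_dvd_of_pow_eq_one (orderOf_eq_one_iff.1 h1)
  rw [hj, Nat.pow_dvd_pow_iff_le_right hp.out.one_lt] at h2
  omega

end Cfsg.Agent.Lib.PLocal.MetacyclicClosed
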