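import Cfsg.Agent.Lib.Characters.Kernel
import Cfsg.Agent.Lib.Coprime.Action
import Cfsg.Agent.Lib.Coprime.Generation

namespace Cfsg.Agent.Lib.PLocal.MulChar

open Cfsg.Agent.Lib.Characters
open Cfsg.Agent.Lib.Coprime
open scoped ComplexConjugate
open scoped commutatorElement

variable {G : Type*} [Group G] [Finite G]

omit [Finite G] in
theorem conj_inv_mul_mem (z : G) {x : G} (h : IsConj z x) : z⁻¹ * x ∈ commutator G := by
  obtain ⟨c, rfl⟩ := isConj_iff.mp h
  have h1 := Subgroup.commutator_mem_commutator (Subgroup.mem_top z⁻¹) (Subgroup.mem_top c)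
  have h2 : z⁻¹ * (c * z * c⁻¹) = ⁅z⁻¹, c⁆ := by rw [commutatorElement_def]; group
  rw [h2, commutator_def]
  exact h1

theorem isConj_mul_of_card_eq {z : G}
    (hz : Nat.card (Subgroup.centralizer ({z} : Set G)) = (commutator G).index)
    {c : G} (hc : c ∈ commutator G) : IsConj z (z * c) := by
  let f : {x : G // IsConj z x} → commutator G := fun x => ⟨z⁻¹ * x.1, conj_inv_mul_mem z x.2⟩
  have hf : Function.Injective f := fun a b hab => Subtype.ext
    (mul_left_cancel (congrArg (fun t : commutator G => (t : G)) hab))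
  have hcard : Nat.card {x : G // IsConj z x} = Nat.card (commutator G) := by
    have h1 := card_conj_mul_card_centralizer z
    rw [hz, ← Subgroup.card_mul_index (commutator G)] at h1
    exact Nat.eq_of_mul_eq_mul_right (Nat.pos_of_ne_zero Subgroup.index_ne_zero_of_finite) h1
  obtain ⟨x, hx⟩ := (hf.bijective_of_nat_card_le hcard.ge).2 ⟨c, hc⟩
  have h2 : z⁻¹ * x.1 = c := congrArg (fun t : commutator G => (t : G)) hx
  rw [← h2, mul_inv_cancel_left]
  exact x.2

theorem card_centralizer_eq_of_isConj {z y : G} (h : IsConj z y) :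
    Nat.card (Subgroup.centralizer ({y} : Set G)) =
      Nat.card (Subgroup.centralizer ({z} : Set G)) := by
  have h1 := card_conj_mul_card_centralizer z
  have h2 := card_conj_mul_card_centralizer y
  have he : Nat.card {x : G // IsConj z x} = Nat.card {x : G // IsConj y x} :=
    Nat.card_congr (Equiv.subtypeEquivRight fun x => ⟨h.symm.trans, h.trans⟩)
  rw [he] at h1
  have hpos : 0 < Nat.card {x : G // IsConj y x} := by
    by_contra hcon
    rw [Nat.pos_iff_ne_zero, not_not] at hcon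
    rw [hcon, zero_mul] at h1
    exact Nat.card_pos.ne' h1.symm
  exact Nat.eq_of_mul_eq_mul_left hpos (h2.trans h1.symm)

theorem linear_mul_conj {χ : Cfsg.IrrCharacter G} (h1 : (χ : G → ℂ) 1 = 1) (z : G) :
    (χ : G → ℂ) z * conj ((χ : G → ℂ) z) = 1 := by
  obtain ⟨lam, hlam⟩ := IsCharacter.exists_hom_of_apply_one (irr_isCharacter χ) h1
  rw [← IsCharacter.apply_inv (irr_isCharacter χ)]
  simp [hlam]

open scoped Classical in
theorem forall_zero_iff (z : G) :
    (∀ χ : Cfsg.IrrCharacter G, (χ : G → ℂ) 1 ≠ 1 → (χ : G → ℂ) z = 0) ↔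
      Nat.card (Subgroup.centralizer ({z} : Set G)) = (commutator G).index := by
  haveI := Fintype.ofFinite G
  haveI : Finite (Cfsg.IrrCharacter G) := irr_linearIndependent.finite
  haveI := Fintype.ofFinite (Cfsg.IrrCharacter G)
  have hsum := sum_irr_mul_conj z z
  rw [if_pos (IsConj.refl z), ← Finset.sum_filter_add_sum_filter_not Finset.univ
    (fun χ : Cfsg.IrrCharacter G => (χ : G → ℂ) 1 = 1)] at hsum
  rw [Finset.sum_congr rfl (fun χ hχ => linear_mul_conj (Finset.mem_filter.mp hχ).2 z),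
    Finset.sum_const, nsmul_eq_mul, mul_one] at hsum
  have hlin := card_linear_irr (G := G)
  rw [Nat.card_eq_fintype_card, Fintype.card_subtype] at hlin
  rw [hlin] at hsum
  constructor
  · intro h
    rw [Finset.sum_eq_zero fun χ hχ => by rw [h χ (Finset.mem_filter.mp hχ).2, zero_mul],
      add_zero] at hsum
    exact_mod_cast hsum.symm
  · intro h χ hχ
    rw [h, add_eq_left] at hsum
    have hs2 : ∑ ψ ∈ Finset.univ.filter (fun χ : Cfsg.IrrCharacter G => ¬ (χ : G → ℂ) 1 = 1),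
        Complex.normSq ((ψ : G → ℂ) z) = 0 := by
      have h3 := hsum
      simp only [Complex.mul_conj] at h3
      exact_mod_cast h3
    exact Complex.normSq_eq_zero.mp ((Finset.sum_eq_zero_iff_of_nonneg
      fun ψ _ => Complex.normSq_nonneg _).mp hs2 χ (Finset.mem_filter.mpr ⟨Finset.mem_univ _, hχ⟩))

/-- Hypothesis (1). -/
def MulProp (G : Type*) [Group G] : Prop :=
  ∀ (x y : G) (χ : Cfsg.IrrCharacter G), x ≠ 1 → y ≠ 1 →
    (∃ p q a b : ℕ, p.Prime ∧ q.Prime ∧ p ≠ q ∧ orderOf x = p ^ a ∧ orderOf y = q ^ b) →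
    (χ : G → ℂ) (x * y) = (χ : G → ℂ) x * (χ : G → ℂ) y

theorem zero_of_mulProp (h : MulProp G) {x y : G} {p q a b : ℕ} (hp : p.Prime) (hq : q.Prime)
    (hpq : p ≠ q) (hx1 : x ≠ 1) (hy1 : y ≠ 1) (hx : orderOf x = p ^ a) (hy : orderOf y = q ^ b)
    (χ : Cfsg.IrrCharacter G) (hχ : (χ : G → ℂ) 1 ≠ 1) : (χ : G → ℂ) (x * y) = 0 := by
  haveI := Fintype.ofFinite G
  have hs := IsIrrCharacter.sum_conj_translate χ.2 x y
  have hterm : ∀ g : G, (χ : G → ℂ) (x * (g * y * g⁻¹)) = (χ : G → ℂ) x * (χ : G → ℂ) y := by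
    intro g
    rw [h x (g * y * g⁻¹) χ hx1 (fun hh => hy1 (by simpa using hh))
      ⟨p, q, a, b, hp, hq, hpq, hx, by rw [← MulAut.conj_apply g y, MulEquiv.orderOf_eq]; exact hy⟩,
      IsCharacter.conj_apply (irr_isCharacter χ)]
  rw [Finset.sum_congr rfl (fun g _ => hterm g), Finset.sum_const, nsmul_eq_mul,
    Finset.card_univ, ← Nat.card_eq_fintype_card, h x y χ hx1 hy1 ⟨p, q, a, b, hp, hq, hpq, hx, hy⟩] at *
  have hG : (Nat.card G : ℂ) ≠ 0 := natCard_ne_zero_complex
  have h1 : (χ : G → ℂ) 1 ≠ 0 := IsIrrCharacter.apply_one_ne_zero χ.2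
  field_simp at hs
  by_contra hne
  apply hχ
  have h2 : (χ : G → ℂ) x * (χ : G → ℂ) y * ((χ : G → ℂ) 1 - 1) = 0 := by
    linear_combination hs
  exact sub_eq_zero.mp ((mul_eq_zero.mp h2).resolve_left hne)

theorem mul_notMem_of_mulProp (h : MulProp G) {x y : G} {p q a b : ℕ} (hp : p.Prime) (hq : q.Prime)
    (hpq : p ≠ q) (hx1 : x ≠ 1) (hy1 : y ≠ 1) (hx : orderOf x = p ^ a) (hy : orderOf y = q ^ b) :
    x * y ∉ commutator G := by
  classical
  haveI := Fintype.ofFinite G
  haveI : Finite (Cfsg.IrrCharacter G) := irr_linearIndependent.finite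
  haveI := Fintype.ofFinite (Cfsg.IrrCharacter G)
  intro hmem
  have hne : x * y ≠ 1 := by
    intro hh
    have h1 : orderOf y = orderOf x := by rw [eq_inv_of_mul_eq_one_right hh, orderOf_inv]
    have hx0 : a ≠ 0 := fun h0 => hx1 (orderOf_eq_one_iff.mp (by rw [hx, h0, pow_zero]))
    have h2 : p ∣ q ^ b := hy ▸ h1.symm ▸ hx ▸ dvd_pow_self p hx0
    exact hpq ((Nat.prime_dvd_prime_iff_eq hp hq).mp (hp.dvd_of_dvd_pow h2))
  have hs := sum_degree_mul (x * y)
  rw [← Finset.sum_filter_add_sum_filter_not Finset.univ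
    (fun χ : Cfsg.IrrCharacter G => (χ : G → ℂ) 1 = 1),
    Finset.sum_eq_zero (s := Finset.univ.filter (fun χ : Cfsg.IrrCharacter G => ¬ (χ : G → ℂ) 1 = 1))
      (fun χ hχ => by rw [zero_of_mulProp h hp hq hpq hx1 hy1 hx hy χ (Finset.mem_filter.mp hχ).2,
        mul_zero]), add_zero, if_neg hne] at hs
  rw [Finset.sum_congr rfl (g := fun _ => (1 : ℂ)) (fun χ hχ => by
    have h1 := (Finset.mem_filter.mp hχ).2
    rw [h1, one_mul]
    exact IsCharacter.apply_of_mem_commutator (irr_isCharacter χ) h1 hmem),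
    Finset.sum_const, nsmul_eq_mul, mul_one, Nat.cast_eq_zero, ← Fintype.card_subtype,
    ← Nat.card_eq_fintype_card, card_linear_irr] at hs
  exact Subgroup.index_ne_zero_of_finite hs

theorem fpf_of_mulProp (h : MulProp G) {p : ℕ} [Fact p.Prime] (P A : Subgroup G)
    (hPp : IsPGroup p P) (hGP : commutator G ≤ P) (hsup : A ⊔ P = ⊤) (hco : (Nat.card A).Coprime p)
    (hAc : ∀ a ∈ A, ∀ a' ∈ A, a * a' = a' * a) (hne : commutator G ≠ ⊥)
    {a : G} (ha : a ∈ A) (ha1 : a ≠ 1) {d : G} (hd : d ∈ commutator G)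
    (had : a * d = d * a) : d = 1 := by
  classical
  obtain ⟨q, hq, hqd⟩ := Nat.exists_prime_and_dvd (n := orderOf a) (by
    rw [Ne, orderOf_eq_one_iff]; exact ha1)
  haveI := Fact.mk hq
  set b := a ^ (orderOf a / q) with hb
  have hbo : orderOf b = q := by
    rw [hb, orderOf_pow_orderOf_div (orderOf_pos a).ne' hqd]
  have hbA : b ∈ A := pow_mem ha _
  have hb1 : b ≠ 1 := fun h1 => hq.ne_one (by rw [← hbo, h1, orderOf_one])
  have hqA : q ∣ Nat.card A := hqd.trans (Subgroup.orderOf_dvd_natCard A ha)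
  have hpq : p ≠ q := by
    rintro rfl
    exact (Fact.out : p.Prime).ne_one (Nat.eq_one_of_dvd_coprimes hco hqA dvd_rfl)
  obtain ⟨u, hu⟩ := (Subgroup.bot_or_exists_ne_one (commutator G)).resolve_left hne
  obtain ⟨k, hk⟩ := IsPGroup.iff_orderOf.mp hPp ⟨u, hGP hu.1⟩
  have hku : orderOf u = p ^ k := by rw [← hk, Subgroup.orderOf_mk]
  have hz := (forall_zero_iff (u * b)).mp
    (zero_of_mulProp h Fact.out hq hpq hu.2 hb1 hku (b := 1) (by rw [pow_one, hbo]))
  have hc : b⁻¹ * u⁻¹ * b ∈ commutator G := by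
    have := (Subgroup.Normal.conj_mem inferInstance u⁻¹ (inv_mem hu.1) b⁻¹ :
      b⁻¹ * u⁻¹ * b⁻¹⁻¹ ∈ commutator G)
    rwa [inv_inv] at this
  have hconj := isConj_mul_of_card_eq hz hc
  rw [show u * b * (b⁻¹ * u⁻¹ * b) = b by group] at hconj
  have hCb : Nat.card (Subgroup.centralizer ({b} : Set G)) = (commutator G).index :=
    (card_centralizer_eq_of_isConj hconj).trans hz
  set N := commutator G with hN
  set H := Subgroup.centralizer ({b} : Set G) with hH
  have hNtop : ∀ x : G, x ∈ Subgroup.normalizer (N : Set G) := fun x => by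
    rw [Subgroup.normalizer_eq_top]; trivial
  have hAH : A ≤ H := fun x hx => Subgroup.mem_centralizer_singleton_iff.mpr (hAc x hx b hbA)
  have hcopN : (Nat.card (Subgroup.zpowers b)).Coprime (Nat.card N) := by
    obtain ⟨n, hn⟩ := hPp.exists_card_eq
    rw [Nat.card_zpowers, hbo]
    refine Nat.Coprime.coprime_dvd_right (Subgroup.card_dvd_of_le hGP) ?_
    rw [hn]
    exact Nat.Coprime.pow_right _ ((Nat.coprime_primes hq Fact.out).mpr hpq.symm)
  have hPH : P ≤ N ⊔ H := by
    intro x hx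
    obtain ⟨n, hn, hc2⟩ := exists_mem_centralizer_of_fixed_coset (A := Subgroup.zpowers b) (N := N)
      (fun y _ => hNtop y) hcopN (Or.inl (isSolvable_zpowers b)) (hNtop x)
      (fun y _ => by
        rw [hN, commutator_def]
        exact Subgroup.commutator_mem_commutator (Subgroup.mem_top y) (Subgroup.mem_top x))
    have hxn : x * n ∈ H := Subgroup.mem_centralizer_singleton_iff.mpr
      ((Subgroup.mem_centralizer_iff.mp hc2 b (Subgroup.mem_zpowers b)).symm)
    have := mul_mem (Subgroup.mem_sup_right hxn : x * n ∈ N ⊔ H)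
      (Subgroup.mem_sup_left (inv_mem hn))
    simpa using this
  have htop : N ⊔ H = ⊤ := eq_top_iff.mpr (hsup ▸ sup_le (hAH.trans le_sup_right) hPH)
  have hc2 := card_sup_mul_card_inf (N := N) (H := H) (fun y _ => hNtop y)
  rw [htop, Subgroup.card_top, hCb, Subgroup.card_mul_index] at hc2
  have hinf : N ⊓ H = ⊥ := by
    rw [← Subgroup.card_eq_one]
    exact (mul_eq_left₀ Nat.card_pos.ne').mp hc2
  have : d ∈ N ⊓ H := ⟨hd, Subgroup.mem_centralizer_singleton_iff.mpr
    (Commute.pow_right (show Commute d a from had.symm) _)⟩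
  rwa [hinf, Subgroup.mem_bot] at this

/-- Structure (2), third case. -/
def StrProp (G : Type*) [Group G] : Prop :=
  ∃ (p : ℕ) (_ : Fact p.Prime) (P : Sylow p G) (A : Subgroup G), (P : Subgroup G).Normal ∧ IsCyclic ↥A ∧ A ≠ ⊥ ∧ (Nat.card ↥A).Coprime p ∧ A ⊔ (P : Subgroup G) = ⊤ ∧ IsMulCommutative ↥((P : Subgroup G) ⊓ Subgroup.centralizer (A : Set G)) ∧ (⁅A, (P : Subgroup G)⁆).Normal ∧ ((P : Subgroup G) ⊓ Subgroup.centralizer (A : Set G)) ⊔ ⁅A, (P : Subgroup G)⁆ = (P : Subgroup G) ∧ ((P : Subgroup G) ⊓ Subgroup.centralizer (A : Set G)) ⊓ ⁅A, (P : Subgroup G)⁆ = ⊥ ∧ ∀ a ∈ A, a ≠ 1 → ∀ d ∈ ⁅A, (P : Subgroup G)⁆, a * d = d * a → d = 1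

theorem str_of_mulProp (h : MulProp G) (hnp : ¬ ∃ p : ℕ, p.Prime ∧ IsPGroup p G)
    (hnab : ¬ IsMulCommutative G) : StrProp G := by
  classical
  have hne : commutator G ≠ ⊥ := fun h0 => hnab ⟨⟨fun a b => commutatorElement_eq_one_iff_mul_comm.mp
    (Subgroup.mem_bot.mp (h0 ▸ (commutator_def G) ▸
      Subgroup.commutator_mem_commutator (Subgroup.mem_top a) (Subgroup.mem_top b)))⟩⟩
  obtain ⟨p, hp, hpd⟩ := Nat.exists_prime_and_dvd (n := Nat.card (commutator G)) (by
    rw [Ne, Subgroup.card_eq_one]; exact hne)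
  haveI := Fact.mk hp
  obtain ⟨u, hu⟩ := exists_prime_orderOf_dvd_card' p hpd
  rw [← Subgroup.orderOf_coe] at hu
  have hGp : IsPGroup p (commutator G) := by
    refine IsPGroup.of_card (n := (Nat.card (commutator G)).primeFactorsList.length) ?_
    refine Nat.eq_prime_pow_of_unique_prime_dvd Nat.card_pos.ne' fun {q} hq hqd => ?_
    by_contra hqp
    haveI := Fact.mk hq
    obtain ⟨w, hw⟩ := exists_prime_orderOf_dvd_card' q hqd
    rw [← Subgroup.orderOf_coe] at hw
    refine mul_notMem_of_mulProp h hp hq (Ne.symm hqp) (x := (u : G)) (y := (w : G)) ?_ ?_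
      (a := 1) (b := 1) (by rw [pow_one, hu]) (by rw [pow_one, hw]) (mul_mem u.2 w.2)
    · exact fun h1 => hp.ne_one (by rw [← hu, h1, orderOf_one])
    · exact fun h1 => hq.ne_one (by rw [← hw, h1, orderOf_one])
  obtain ⟨P⟩ : Nonempty (Sylow p G) := inferInstance
  have hGP : commutator G ≤ (P : Subgroup G) := hGp.le_sylow_of_normal P
  have hPn : (P : Subgroup G).Normal := ⟨fun x hx g => by
    have h1 := hGP ((commutator_def G) ▸
      Subgroup.commutator_mem_commutator (Subgroup.mem_top g) (Subgroup.mem_top x))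
    rw [commutatorElement_def] at h1
    simpa using mul_mem h1 hx⟩
  obtain ⟨A, hA⟩ := Subgroup.exists_right_complement'_of_coprime (N := (P : Subgroup G))
    P.card_coprime_index
  have hdisj : Disjoint (P : Subgroup G) A := hA.disjoint
  have hsup : A ⊔ (P : Subgroup G) = ⊤ := sup_comm (a := A) (b := (P : Subgroup G)) ▸ hA.sup_eq_top
  have hcardA : Nat.card A = (P : Subgroup G).index := (Subgroup.IsComplement'.index_eq_card hA.symm).symm
  have hco : (Nat.card A).Coprime p := by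
    rw [hcardA]
    exact ((Nat.Prime.coprime_iff_not_dvd hp).mpr P.not_dvd_index).symm
  have hAc : ∀ a ∈ A, ∀ a' ∈ A, a * a' = a' * a := fun a ha a' ha' =>
    commutatorElement_eq_one_iff_mul_comm.mp (Subgroup.disjoint_def.mp hdisj
      (hGP ((commutator_def G) ▸
        Subgroup.commutator_mem_commutator (Subgroup.mem_top a) (Subgroup.mem_top a')))
      (by rw [commutatorElement_def]; exact mul_mem (mul_mem (mul_mem ha ha') (inv_mem ha)) (inv_mem ha')))
  haveI : IsMulCommutative A := ⟨⟨fun a b => Subtype.ext (hAc a a.2 b b.2)⟩⟩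
  have hAne : A ≠ ⊥ := by
    intro h0
    apply hnp
    rw [h0, bot_sup_eq] at hsup
    refine ⟨p, hp, ?_⟩
    exact (hsup ▸ P.2).of_equiv Subgroup.topEquiv
  have hfpf : ∀ a ∈ A, a ≠ 1 → ∀ d ∈ commutator G, a * d = d * a → d = 1 :=
    fun a ha ha1 d hd had => fpf_of_mulProp h (P : Subgroup G) A P.2 hGP hsup hco hAc hne ha ha1 hd had
  obtain ⟨a₀, ha₀, ha₀1⟩ := (Subgroup.bot_or_exists_ne_one A).resolve_left hAne
  set C := (P : Subgroup G) ⊓ Subgroup.centralizer (A : Set G) with hC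
  have hCG : ∀ c ∈ C, c ∈ commutator G → c = 1 := fun c hc hcG =>
    hfpf a₀ ha₀ ha₀1 c hcG (Subgroup.mem_centralizer_iff.mp hc.2 a₀ ha₀)
  have hPN : A ≤ Subgroup.normalizer ((P : Subgroup G) : Set G) := fun x _ => by
    rw [Subgroup.normalizer_eq_top]; trivial
  have hcop : (Nat.card A).Coprime (Nat.card (P : Subgroup G)) := by
    obtain ⟨n, hn⟩ := P.2.exists_card_eq
    rw [hn]
    exact hco.pow_right n
  have hdec := commutator_sup_centralizer_eq hPN hcop
    (Or.inl (Group.isSolvable_of_comm fun a b => Subtype.ext (hAc a a.2 b b.2)))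
  have hDG : ⁅A, (P : Subgroup G)⁆ ≤ commutator G := by
    rw [commutator_def]; exact Subgroup.commutator_mono le_top le_top
  have hD : ⁅A, (P : Subgroup G)⁆ = commutator G := by
    refine le_antisymm hDG fun g hg => ?_
    have hgP : g ∈ ⁅(P : Subgroup G), A⁆ ⊔ C := by rw [hC, hdec]; exact hGP hg
    obtain ⟨d, hd, c, hc, rfl⟩ := exists_mul_of_mem_sup
      (inf_le_left.trans (Subgroup.normalizer_commutator_ge_left (P : Subgroup G) A)) hgP
    rw [Subgroup.commutator_comm] at hd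
    have : c = 1 := hCG c hc (by simpa using mul_mem (inv_mem (hDG hd)) hg)
    rw [this, mul_one]
    exact hd
  refine ⟨p, inferInstance, P, A, hPn, ?_, hAne, hco, hsup, ?_, ?_, ?_, ?_, ?_⟩
  · by_contra hcyc
    apply hne
    have hgen := iSup_centralizer_eq (K := commutator G) hcyc
      (fun x _ => by rw [Subgroup.normalizer_eq_top]; trivial)
      (hcop.coprime_dvd_right (Subgroup.card_dvd_of_le hGP))
    rw [← hgen, eq_bot_iff]
    refine iSup₂_le fun a ha => fun d hd => ?_
    rw [Subgroup.mem_bot]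
    exact hfpf a ha.1 ha.2 d hd.1 (Subgroup.mem_centralizer_singleton_iff.mp hd.2).symm
  · refine ⟨⟨fun a b => Subtype.ext (commutatorElement_eq_one_iff_mul_comm.mp (hCG _ ?_ ?_))⟩⟩
    · rw [commutatorElement_def]
      exact mul_mem (mul_mem (mul_mem a.2 b.2) (inv_mem a.2)) (inv_mem b.2)
    · exact (commutator_def G) ▸
        Subgroup.commutator_mem_commutator (Subgroup.mem_top (a : G)) (Subgroup.mem_top (b : G))
  · rw [hD]; infer_instance
  · rw [sup_comm, Subgroup.commutator_comm]; exact hdec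
  · rw [hD, eq_bot_iff]
    exact fun c hc => Subgroup.mem_bot.mpr (hCG c hc.1 hc.2)
  · rw [hD]; exact hfpf

theorem mulProp_of_str (hs : StrProp G) : MulProp G := by
  classical
  obtain ⟨p, hp, P, A, hPn, hcyc, hAne, hco, hsup, hCc, hDn, hCD, hCDi, hfpf⟩ := hs
  set C := (P : Subgroup G) ⊓ Subgroup.centralizer (A : Set G) with hC
  set D := ⁅A, (P : Subgroup G)⁆ with hD
  have hAc : ∀ a ∈ A, ∀ a' ∈ A, a * a' = a' * a := fun a ha a' ha' =>
    congrArg (fun t : A => (t : G)) (mul_comm' (⟨a, ha⟩ : A) ⟨a', ha'⟩)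
  set K := A ⊔ C with hK
  have hAC : A ≤ Subgroup.normalizer (C : Set G) := by
    intro a ha
    refine mem_normalizer_of_conj_smul_eq ?_
    ext x
    rw [mem_conj_smul]
    constructor
    · intro hx
      have h1 := Subgroup.mem_centralizer_iff.mp hx.2 a ha
      have : a⁻¹ * x * a = x → True := fun _ => trivial
      have h2 : x = a * (a⁻¹ * x * a) * a⁻¹ := by group
      rw [h2, h1, mul_assoc, mul_inv_cancel, mul_one]
      exact hx
    · intro hx
      have h1 := Subgroup.mem_centralizer_iff.mp hx.2 a ha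
      rw [mul_assoc, ← h1, inv_mul_cancel_left]
      exact hx
  have hKdec : ∀ k ∈ K, ∃ c ∈ C, ∃ a ∈ A, k = c * a := fun k hk => by
    rw [hK, sup_comm] at hk
    obtain ⟨c, hc, a, ha, h⟩ := exists_mul_of_mem_sup hAC hk
    exact ⟨c, hc, a, ha, h⟩
  have hcomm : ∀ c ∈ C, ∀ a ∈ A, a * c = c * a := fun c hc a ha =>
    Subgroup.mem_centralizer_iff.mp hc.2 a ha
  have hKc : ∀ k ∈ K, ∀ k' ∈ K, k * k' = k' * k := by
    intro k hk k' hk'
    obtain ⟨c, hc, a, ha, rfl⟩ := hKdec k hk
    obtain ⟨c', hc', a', ha', rfl⟩ := hKdec k' hk'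
    have e1 : c * c' = c' * c :=
      congrArg (fun t : C => (t : G)) (hCc.is_comm.comm (⟨c, hc⟩ : C) ⟨c', hc'⟩)
    calc c * a * (c' * a') = c * (a * c') * a' := by group
      _ = c * c' * (a * a') := by rw [hcomm c' hc' a ha]; group
      _ = c' * (c * a') * a := by rw [e1, hAc a ha a' ha']; group
      _ = c' * a' * (c * a) := by rw [← hcomm c hc a' ha']; group
  have hDK : D ⊔ K = ⊤ := by
    rw [hK, eq_top_iff, ← hsup]
    refine sup_le (le_sup_left.trans le_sup_right) ?_
    rw [← hCD]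
    exact sup_le (le_sup_right.trans le_sup_right) le_sup_left
  have hdec : ∀ g : G, ∃ d ∈ D, ∃ k ∈ K, g = d * k := fun g => by
    obtain ⟨d, hd, k, hk, h⟩ := exists_mul_of_mem_sup (N := D) (H := K)
      (fun x _ => by rw [Subgroup.normalizer_eq_top]; trivial) (hDK ▸ Subgroup.mem_top g)
    exact ⟨d, hd, k, hk, h⟩
  have hmk : ∀ d ∈ D, ∀ k : G, QuotientGroup.mk' D (d * k) = QuotientGroup.mk' D k := fun d hd k => by
    rw [map_mul, (QuotientGroup.eq_one_iff d).mpr hd |> fun h => (show QuotientGroup.mk' D d = 1 from h),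
      one_mul]
  have hGD : commutator G ≤ D := by
    rw [commutator_def, Subgroup.commutator_le]
    intro g _ g' _
    obtain ⟨d, hd, k, hk, rfl⟩ := hdec g
    obtain ⟨d', hd', k', hk', rfl⟩ := hdec g'
    refine (QuotientGroup.eq_one_iff _).mp ?_
    show QuotientGroup.mk' D _ = 1
    rw [map_commutatorElement, hmk d hd, hmk d' hd', ← map_commutatorElement,
      commutatorElement_eq_one_iff_mul_comm.mpr (hKc k hk k' hk'), map_one]
  have hmem : ∀ (x : G) (m : ℕ), orderOf x = p ^ m → x ∈ (P : Subgroup G) := by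
    intro x m hx
    have h1 : IsPGroup p (Subgroup.zpowers x) :=
      IsPGroup.of_card (n := m) (by rw [Nat.card_zpowers, hx])
    obtain ⟨Q, hQ⟩ := h1.exists_le_sylow
    haveI := Sylow.unique_of_normal P hPn
    rw [Subsingleton.elim P Q]
    exact hQ (Subgroup.mem_zpowers x)
  obtain ⟨n, hn⟩ := P.2.exists_card_eq
  have hcardG : Nat.card G ∣ Nat.card A * p ^ n := by
    have := card_sup_mul_card_inf (N := (P : Subgroup G)) (H := A)
      (fun x _ => by rw [Subgroup.normalizer_eq_top]; trivial)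
    rw [sup_comm, hsup, Subgroup.card_top, hn] at this
    exact ⟨_, by rw [mul_comm (Nat.card A)]; exact this.symm⟩
  have hz : ∀ z : G, z ∉ (P : Subgroup G) → ∀ χ : Cfsg.IrrCharacter G, (χ : G → ℂ) 1 ≠ 1 →
      (χ : G → ℂ) z = 0 := by
    intro z hzP
    rw [forall_zero_iff]
    set w := z ^ (p ^ n) with hw
    have hwA : w ^ Nat.card A = 1 := by
      rw [hw, ← pow_mul, mul_comm, orderOf_dvd_iff_pow_eq_one.mp ((orderOf_dvd_natCard z).trans hcardG)]
    have hw1 : w ≠ 1 := by
      intro h1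
      obtain ⟨m, -, hm⟩ := (Nat.dvd_prime_pow hp.out).mp (orderOf_dvd_iff_pow_eq_one.mpr (hw ▸ h1))
      exact hzP (hmem z m hm)
    have hwP : w ∉ (P : Subgroup G) := by
      intro hh
      have h1 : orderOf w ∣ p ^ n := hn ▸ Subgroup.orderOf_dvd_natCard _ hh
      exact hw1 (orderOf_eq_one_iff.mp (Nat.eq_one_of_dvd_coprimes (hco.pow_right n)
        (orderOf_dvd_of_pow_eq_one hwA) h1))
    obtain ⟨d, hd, k, hk, hwk⟩ := hdec w
    obtain ⟨c, hc, a, ha, hka⟩ := hKdec k hk
    have hc1 : c = 1 := by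
      have h1 : QuotientGroup.mk' D (k ^ Nat.card A) = 1 := by
        rw [map_pow, ← hmk d hd k, ← hwk, ← map_pow, hwA, map_one]
      have h2 : k ^ Nat.card A = c ^ Nat.card A := by
        rw [hka, (show Commute c a from (hcomm c hc a ha).symm).mul_pow]
        have : a ^ Nat.card A = 1 := congrArg (fun t : A => (t : G)) (pow_card_eq_one' (x := (⟨a, ha⟩ : A)))
        rw [this, mul_one]
      rw [h2] at h1
      have h3 : c ^ Nat.card A ∈ C ⊓ D := ⟨pow_mem hc _, (QuotientGroup.eq_one_iff _).mp h1⟩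
      rw [hCDi, Subgroup.mem_bot] at h3
      exact orderOf_eq_one_iff.mp (Nat.eq_one_of_dvd_coprimes (hco.pow_right n)
        (orderOf_dvd_of_pow_eq_one h3) (hn ▸ Subgroup.orderOf_dvd_natCard _ hc.1))
    rw [hka, hc1, one_mul] at hwk
    have ha1 : a ≠ 1 := by
      intro h1
      rw [h1, mul_one] at hwk
      exact hwP (hwk ▸ (hCD ▸ le_sup_right : D ≤ (P : Subgroup G)) hd)
    let f : D → D := fun e => ⟨(e : G) * (a * (e : G)⁻¹ * a⁻¹), mul_mem e.2 (hDn.conj_mem _ (inv_mem e.2) a)⟩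
    have hf : Function.Injective f := by
      intro e e' hee
      have h1 : (e : G) * (a * (e : G)⁻¹ * a⁻¹) = (e' : G) * (a * (e' : G)⁻¹ * a⁻¹) :=
        congrArg (fun t : D => (t : G)) hee
      have h2 : (e' : G)⁻¹ * e * a = a * ((e' : G)⁻¹ * e) := by
        calc (e' : G)⁻¹ * e * a = (e' : G)⁻¹ * ((e : G) * (a * (e : G)⁻¹ * a⁻¹)) * a * e := by group
          _ = (e' : G)⁻¹ * ((e' : G) * (a * (e' : G)⁻¹ * a⁻¹)) * a * e := by rw [h1]
          _ = a * ((e' : G)⁻¹ * e) := by group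
      have h3 := hfpf a ha ha1 _ (mul_mem (inv_mem e'.2) e.2) h2.symm
      exact Subtype.ext (inv_mul_eq_one.mp h3).symm
    obtain ⟨e, he⟩ := (hf.bijective_of_nat_card_le le_rfl).2 ⟨d, hd⟩
    have he' : (e : G) * (a * (e : G)⁻¹ * a⁻¹) = d := congrArg (fun t : D => (t : G)) he
    have hwe : w = (e : G) * a * (e : G)⁻¹ := by rw [hwk, ← he']; group
    have hint : D ⊓ Subgroup.centralizer ({z} : Set G) = ⊥ := by
      rw [eq_bot_iff]
      intro y hy
      rw [Subgroup.mem_bot]
      have h1 : y * w = w * y :=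
        Commute.pow_right (show Commute y z from Subgroup.mem_centralizer_singleton_iff.mp hy.2) _
      rw [hwe] at h1
      have h2 : a * ((e : G)⁻¹ * y * e) = (e : G)⁻¹ * y * e * a := by
        calc a * ((e : G)⁻¹ * y * e) = (e : G)⁻¹ * ((e : G) * a * (e : G)⁻¹ * y) * e := by group
          _ = (e : G)⁻¹ * (y * ((e : G) * a * (e : G)⁻¹)) * e := by rw [h1]
          _ = (e : G)⁻¹ * y * e * a := by group
      have h3 := hfpf a ha ha1 _ (mul_mem (mul_mem (inv_mem e.2) hy.1) e.2) h2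
      calc y = (e : G) * ((e : G)⁻¹ * y * e) * (e : G)⁻¹ := by group
        _ = 1 := by rw [h3]; group
    have hup := card_sup_mul_card_inf (N := D) (H := Subgroup.centralizer ({z} : Set G))
      (fun x _ => by rw [Subgroup.normalizer_eq_top]; trivial)
    rw [hint, Subgroup.card_bot, mul_one] at hup
    have hle : Nat.card D * Nat.card (Subgroup.centralizer ({z} : Set G)) ≤ Nat.card G :=
      hup ▸ Subgroup.card_le_card_group _
    have hlow : Nat.card {x : G // IsConj z x} ≤ Nat.card (commutator G) :=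
      Nat.card_le_card_of_injective (fun x => (⟨z⁻¹ * x.1, conj_inv_mul_mem z x.2⟩ : commutator G))
        fun a b hab => Subtype.ext (mul_left_cancel (congrArg (fun t : commutator G => (t : G)) hab))
    have h1 := card_conj_mul_card_centralizer z
    have h2 := Subgroup.card_mul_index (commutator G)
    have h3 : Nat.card (commutator G) ≤ Nat.card D := Subgroup.card_le_of_le hGD
    have hpos : 0 < Nat.card (commutator G) := Nat.card_pos
    nlinarith
  intro x y χ hx1 hy1 hord
  by_cases hχ : (χ : G → ℂ) 1 = 1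
  · obtain ⟨lam, hlam⟩ := IsCharacter.exists_hom_of_apply_one (irr_isCharacter χ) hχ
    simp [hlam]
  obtain ⟨q, r, a, b, hq, hr, hqr, hx, hy⟩ := hord
  by_cases hxP : x ∈ (P : Subgroup G)
  · have hyP : y ∉ (P : Subgroup G) := by
      intro hyP
      have key : ∀ {s : G} {l e : ℕ}, l.Prime → s ≠ 1 → s ∈ (P : Subgroup G) → orderOf s = l ^ e → l = p := by
        intro s l e hl hs1 hsP hs
        have h1 : orderOf s ∣ p ^ n := hn ▸ Subgroup.orderOf_dvd_natCard _ hsP
        have he : e ≠ 0 := fun h0 => hs1 (orderOf_eq_one_iff.mp (by rw [hs, h0, pow_zero]))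
        exact (Nat.prime_dvd_prime_iff_eq hl hp.out).mp
          (hl.dvd_of_dvd_pow ((hs ▸ dvd_pow_self l he : l ∣ orderOf s).trans h1))
      exact hqr ((key hq hx1 hxP hx).trans (key hr hy1 hyP hy).symm)
    rw [hz y hyP χ hχ, mul_zero, hz _ (fun hh => hyP (by simpa using mul_mem (inv_mem hxP) hh)) χ hχ]
  · rw [hz x hxP χ hχ, zero_mul, hz _ (fun hh => ?_) χ hχ]
    by_cases hyP : y ∈ (P : Subgroup G)
    · exact hxP (by simpa using mul_mem hh (inv_mem hyP))
    apply hxP
    refine (QuotientGroup.eq_one_iff x).mp ?_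
    show QuotientGroup.mk' (P : Subgroup G) x = 1
    have h1 : QuotientGroup.mk' (P : Subgroup G) x * QuotientGroup.mk' (P : Subgroup G) y = 1 := by
      rw [← map_mul]; exact (QuotientGroup.eq_one_iff _).mpr hh
    have h2 : orderOf (QuotientGroup.mk' (P : Subgroup G) x) ∣ r ^ b := by
      rw [eq_inv_of_mul_eq_one_left h1, orderOf_inv]
      exact hy ▸ orderOf_map_dvd _ y
    exact orderOf_eq_one_iff.mp (Nat.eq_one_of_dvd_coprimes
      (((Nat.coprime_primes hq hr).mpr hqr).pow a b) (hx ▸ orderOf_map_dvd _ x) h2)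

end Cfsg.Agent.Lib.PLocal.MulChar
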