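import Cfsg.Agent.Lib.PLocal.PolySeq
import Cfsg.Agent.Lib.PGroups.Commutator
import Cfsg.Agent.Lib.RankTwo.MaxClass

/-!
A `p`-group with an element of order `p` whose centralizer has order `p ^ 2` has all subgroups generated by
at most `p` elements.
-/

set_option autoImplicit false
set_option linter.unusedSectionVars false
set_option linter.style.haveILetI false

namespace Cfsg.Agent.Lib.PLocal.SmallCentralizer

open scoped commutatorElement

universe u

variable {p : ℕ} [hp : Fact p.Prime] {G : Type u} [Group G] [Finite G]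

/-- the lower central series -/
abbrev L (G : Type u) [Group G] (k : ℕ) : Subgroup G := (⊤ : Subgroup G).lowerCentralSeries k

instance (k : ℕ) : (L G k).Normal := by
  have : (L G k).Characteristic := inferInstance
  infer_instance

theorem comm_le : ∀ a b : ℕ, ⁅L G a, L G b⁆ ≤ L G (a + b + 1) := by
  intro a b
  induction b generalizing a with
  | zero => simp [L, Subgroup.lowerCentralSeries_zero, Subgroup.lowerCentralSeries_succ]
  | succ b ih =>
    rw [Subgroup.commutator_comm]
    show ⁅⁅L G b, ⊤⁆, L G a⁆ ≤ _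
    refine PGroups.three_subgroup_normal ?_ ?_
    · rw [show ⁅(⊤ : Subgroup G), L G a⁆ = L G (a + 1) from Subgroup.commutator_comm _ _]
      exact (ih (a + 1)).trans ((⊤ : Subgroup G).lowerCentralSeries_antitone (by omega))
    · refine (Subgroup.commutator_mono (ih a) le_rfl).trans ?_
      exact ((⊤ : Subgroup G).lowerCentralSeries_antitone (show a + (b + 1) + 1 ≤ a + b + 1 + 1 by omega))

theorem anti : Antitone (L G) := (⊤ : Subgroup G).lowerCentralSeries_antitone

variable {n : ℕ} {x : G}

/-- The hypothesis. -/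
structure Setting (p : ℕ) (G : Type u) [Group G] (n : ℕ) (x : G) : Prop where
  card : Nat.card G = p ^ n
  three_le : 3 ≤ n
  pow : x ^ p = 1
  cent : Nat.card (Subgroup.centralizer ({x} : Set G)) = p ^ 2

theorem Setting.inv (h : Setting p G n x) : Setting p G n x⁻¹ := by
  refine ⟨h.card, h.three_le, by rw [inv_pow, h.pow, inv_one], ?_⟩
  rw [show Subgroup.centralizer ({x⁻¹} : Set G) = Subgroup.centralizer ({x} : Set G) from ?_]
  · exact h.cent
  ext g
  rw [Subgroup.mem_centralizer_singleton_iff, Subgroup.mem_centralizer_singleton_iff]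
  exact ⟨fun e => by simpa using (show Commute g x⁻¹ from e).inv_right.eq,
    fun e => (show Commute g x from e).inv_right.eq⟩

theorem Setting.isPGroup (h : Setting p G n x) : IsPGroup p G := IsPGroup.of_card h.card

theorem Setting.step (h : Setting p G n x) {j : ℕ} (hj : j ≤ n - 2) : L G (j + 1) < L G j := by
  have := h.isPGroup.isNilpotent
  refine lt_of_le_of_ne (anti (Nat.le_succ j)) fun e => ?_
  have hst : ∀ k, L G (j + k) = L G j := by
    intro k
    induction k with
    | zero => rfl
    | succ k ih => rw [← add_assoc, L, Subgroup.lowerCentralSeries_succ, ← L, ih]; exact e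
  refine RankTwo.lowerCentralSeries_ne_bot_of_centralizer n h.card x h.cent ?_
  obtain ⟨c, hc⟩ := Subgroup.nilpotent_iff_lowerCentralSeries.mp (inferInstance : Group.IsNilpotent G)
  refine le_bot_iff.1 ?_
  calc L G (n - 2) ≤ L G j := anti hj
    _ = L G (j + c) := (hst c).symm
    _ ≤ L G c := anti (Nat.le_add_left _ _)
    _ = ⊥ := hc

theorem Setting.card_one_le (h : Setting p G n x) : Nat.card (L G 1) ≤ p ^ (n - 2) := by
  obtain ⟨i, hi, hi'⟩ := (Nat.dvd_prime_pow hp.out).1 (h.card ▸ Subgroup.card_subgroup_dvd_card (L G 1))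
  rw [hi']
  refine Nat.pow_le_pow_right hp.out.pos ?_
  by_contra hgt
  have hidx : (L G 1).index = 1 ∨ (L G 1).index = p := by
    have := Subgroup.card_mul_index (L G 1)
    rw [h.card, hi', show n = i + (n - i) by omega, pow_add] at this
    have e := Nat.eq_of_mul_eq_mul_left (pow_pos hp.out.pos i) this
    rcases (show n - i = 0 ∨ n - i = 1 by omega) with h' | h' <;> rw [h'] at e
    · left; rw [e, pow_zero]
    · right; rw [e, pow_one]
  have hc : IsCyclic (G ⧸ L G 1) := by
    rcases hidx with e | e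
    · rw [Subgroup.index_eq_card] at e
      have : Subsingleton (G ⧸ L G 1) := (Nat.card_eq_one_iff_unique.mp e).1
      exact isCyclic_of_subsingleton
    · exact isCyclic_of_prime_card (p := p) ((Subgroup.index_eq_card _).symm.trans e)
  obtain ⟨q, hq⟩ := hc.exists_generator
  obtain ⟨a, rfl⟩ := QuotientGroup.mk_surjective q
  have := h.isPGroup.isNilpotent
  have htop : Subgroup.zpowers a = ⊤ := by
    refine frattini_nongenerating (eq_top_iff.2 fun g _ => ?_)
    obtain ⟨i, hi⟩ := Subgroup.mem_zpowers_iff.1 (hq (g : G ⧸ L G 1))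
    have hmem : (a ^ i)⁻¹ * g ∈ L G 1 := by
      rw [← QuotientGroup.eq]; exact hi
    have hf : L G 1 ≤ frattini G := by
      rw [L, Subgroup.top_lowerCentralSeries_one]; exact Cores.commutator_le_frattini
    rw [show g = a ^ i * ((a ^ i)⁻¹ * g) by group]
    exact mul_mem (Subgroup.mem_sup_left (Subgroup.zpow_mem _ (Subgroup.mem_zpowers a) i))
      (Subgroup.mem_sup_right (hf hmem))
  have hcomm : ∀ u v : G, u * v = v * u := fun u v => by
    obtain ⟨i, rfl⟩ := Subgroup.mem_zpowers_iff.1 (htop ▸ Subgroup.mem_top u : u ∈ Subgroup.zpowers a)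
    obtain ⟨k, rfl⟩ := Subgroup.mem_zpowers_iff.1 (htop ▸ Subgroup.mem_top v : v ∈ Subgroup.zpowers a)
    rw [← zpow_add, ← zpow_add, add_comm]
  have htopC : Subgroup.centralizer ({x} : Set G) = ⊤ :=
    eq_top_iff.2 fun g _ => Subgroup.mem_centralizer_singleton_iff.2 (hcomm g x)
  have h2 := h.cent
  rw [htopC, Subgroup.card_top, h.card] at h2
  have := Nat.pow_right_injective hp.out.two_le h2
  have := h.three_le
  omega

theorem Setting.card_L (h : Setting p G n x) : ∀ j, 1 ≤ j → Nat.card (L G j) = p ^ (n - 1 - j) := by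
  have hne := RankTwo.lowerCentralSeries_ne_bot_of_centralizer n h.card x h.cent
  have hl : ∀ j, ∃ i, Nat.card (L G j) = p ^ i := fun j => IsPGroup.iff_card.1 (h.isPGroup.to_subgroup _)
  choose l hl using hl
  have hlt : ∀ j, j ≤ n - 2 → l (j + 1) < l j := fun j hj => by
    have h1 := h.step hj
    by_contra hge
    refine h1.ne (Subgroup.eq_of_le_of_card_ge h1.le ?_)
    rw [hl, hl]
    exact Nat.pow_le_pow_right hp.out.pos (by omega)
  have h1 : l 1 ≤ n - 2 := (Nat.pow_le_pow_iff_right hp.out.one_lt).1 (hl 1 ▸ h.card_one_le)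
  have hup : ∀ j, 1 ≤ j → j ≤ n - 1 → l j + j ≤ n - 1 := by
    intro j hj
    induction j, hj using Nat.le_induction with
    | base => intro _; have := h.three_le; omega
    | succ j hj ih =>
      intro hjn
      have := ih (by omega)
      have := hlt j (by omega)
      omega
  have hlow : ∀ i, i ≤ n - 1 → i ≤ l (n - 1 - i) := by
    intro i
    induction i with
    | zero => intro _; omega
    | succ i ih =>
      intro hi
      have := ih (by omega)
      have := hlt (n - 1 - (i + 1)) (by omega)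
      rw [show n - 1 - (i + 1) + 1 = n - 1 - i by omega] at this
      omega
  intro j hj
  rcases le_or_gt j (n - 1) with hjn | hjn
  · have := hup j hj hjn
    have := hlow (n - 1 - j) (by omega)
    rw [show n - 1 - (n - 1 - j) = j by omega] at this
    rw [hl, show l j = n - 1 - j by omega]
  · have hb : L G (n - 1) = ⊥ := by
      have := hup (n - 1) (by have := h.three_le; omega) le_rfl
      refine Subgroup.eq_bot_of_card_eq _ ?_
      rw [hl, show l (n - 1) = 0 by omega, pow_zero]
    rw [show n - 1 - j = 0 by omega, pow_zero, Subgroup.card_eq_one]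
    exact le_bot_iff.1 (hb ▸ anti hjn.le)

theorem Setting.eq_bot (h : Setting p G n x) {j : ℕ} (hj : n - 1 ≤ j) : L G j = ⊥ := by
  refine Subgroup.eq_bot_of_card_eq _ ?_
  rw [h.card_L j (by have := h.three_le; omega), show n - 1 - j = 0 by omega, pow_zero]

/-- every element of `L₁ x` is a conjugate of `x` -/
theorem Setting.exists_conj (h : Setting p G n x) {y : G} (hy : y ∈ L G 1) : ∃ g : G, ⁅g, x⁆ = y := by
  classical
  set C := Subgroup.centralizer ({x} : Set G) with hC
  have hmem : ∀ g : G, ⁅g, x⁆ ∈ L G 1 := fun g => by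
    rw [L, Subgroup.top_lowerCentralSeries_one]
    exact Subgroup.commutator_mem_commutator trivial trivial
  let f : G ⧸ C → L G 1 := Quotient.lift (fun g => (⟨⁅g, x⁆, hmem g⟩ : L G 1)) fun a b hab => by
    have hab' : a⁻¹ * b ∈ C := QuotientGroup.leftRel_apply.1 hab
    have hc : Commute (a⁻¹ * b) x := Subgroup.mem_centralizer_singleton_iff.1 hab'
    refine Subtype.ext ?_
    show ⁅a, x⁆ = ⁅b, x⁆
    rw [show b = a * (a⁻¹ * b) by group, commutatorElement_mul_left_eq_conj_mul,
      commutatorElement_eq_one_iff_mul_comm.2 hc.eq, mul_one, mul_inv_cancel, one_mul]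
  have hinj : Function.Injective f := by
    intro qa qb
    induction qa using Quotient.inductionOn with
    | h a =>
    induction qb using Quotient.inductionOn with
    | h b =>
    intro hab
    have e : a * x * a⁻¹ * x⁻¹ = b * x * b⁻¹ * x⁻¹ := congrArg Subtype.val hab
    apply Quotient.sound
    show (QuotientGroup.leftRel C).r a b
    rw [QuotientGroup.leftRel_apply]
    refine Subgroup.mem_centralizer_singleton_iff.2 ?_
    calc a⁻¹ * b * x = a⁻¹ * (b * x * b⁻¹ * x⁻¹) * x * b := by group
      _ = a⁻¹ * (a * x * a⁻¹ * x⁻¹) * x * b := by rw [e]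
      _ = _ := by group
  have hcard : Nat.card (L G 1) ≤ Nat.card (G ⧸ C) := by
    have h1 := Subgroup.card_eq_card_quotient_mul_card_subgroup C
    rw [h.card, h.cent, show n = n - 2 + 2 by have := h.three_le; omega, pow_add] at h1
    rw [← Nat.eq_of_mul_eq_mul_right (pow_pos hp.out.pos 2) h1]
    exact h.card_one_le
  obtain ⟨q, hq⟩ := ((Nat.bijective_iff_injective_and_card f).2
    ⟨hinj, le_antisymm (Nat.card_le_card_of_injective f hinj) hcard⟩).2 ⟨y, hy⟩
  induction q using Quotient.inductionOn with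
  | h g => exact ⟨g, congrArg Subtype.val hq⟩

theorem Setting.pow_eq_one (h : Setting p G n x) {y : G} (hy : y ∈ L G 1) : (y * x) ^ p = 1 := by
  obtain ⟨g, rfl⟩ := h.exists_conj hy
  rw [show ⁅g, x⁆ * x = g * x * g⁻¹ by rw [commutatorElement_def, inv_mul_cancel_right], conj_pow, h.pow,
    mul_one, mul_inv_cancel]

theorem Setting.not_mem_one (h : Setting p G n x) : x ∉ L G 1 := by
  intro hx
  obtain ⟨g, hg⟩ := h.exists_conj (inv_mem hx)
  rw [commutatorElement_def, mul_eq_right, conj_eq_one_iff] at hg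
  have h2 := h.cent
  rw [hg, show Subgroup.centralizer ({1} : Set G) = ⊤ from
    eq_top_iff.2 fun u _ => Subgroup.mem_centralizer_singleton_iff.2 (by simp), Subgroup.card_top, h.card] at h2
  have := Nat.pow_right_injective hp.out.two_le h2
  have := h.three_le
  omega

/-- commutation with `x` is injective on each factor -/
theorem Setting.comm_not_mem (h : Setting p G n x) {j : ℕ} (hj : 1 ≤ j) (hjn : j + 2 ≤ n - 1) {y : G}
    (hy : y ∈ L G j) (hy' : y ∉ L G (j + 1)) : ⁅y, x⁆ ∉ L G (j + 2) := by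
  classical
  intro hyx
  set M := L G (j + 2) with hM
  have : M.Normal := inferInstance
  set q := QuotientGroup.mk' M
  set K := (Subgroup.centralizer ({q x} : Set (G ⧸ M))).comap q with hK
  have hmemK : ∀ g, ⁅g, x⁆ ∈ M → g ∈ K := fun g hg => by
    show q g ∈ Subgroup.centralizer ({q x} : Set (G ⧸ M))
    rw [Subgroup.mem_centralizer_singleton_iff, ← commutatorElement_eq_one_iff_mul_comm, ← map_commutatorElement]
    exact (QuotientGroup.eq_one_iff _).2 hg
  have hKM : ∀ g ∈ K, ⁅g, x⁆ ∈ M := fun g hg => by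
    have h1 := Subgroup.mem_centralizer_singleton_iff.1 (show q g ∈ Subgroup.centralizer ({q x} : Set (G ⧸ M)) from hg)
    rw [← commutatorElement_eq_one_iff_mul_comm, ← map_commutatorElement] at h1
    exact (QuotientGroup.eq_one_iff _).1 h1
  -- `L_j` and `x` commute modulo `M`
  have hjK : L G j ≤ K := by
    have hlt : L G (j + 1) < L G j := h.step (by omega)
    have h1 : L G (j + 1) ⊔ Subgroup.zpowers y = L G j := by
      refine Subgroup.eq_of_le_of_card_ge (sup_le hlt.le (Subgroup.zpowers_le.2 hy)) ?_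
      obtain ⟨i, hi, hi'⟩ := (Nat.dvd_prime_pow hp.out).1 (h.card ▸
        Subgroup.card_subgroup_dvd_card (L G (j + 1) ⊔ Subgroup.zpowers y))
      rw [hi', h.card_L j hj]
      refine Nat.pow_le_pow_right hp.out.pos ?_
      by_contra hc
      refine hy' ?_
      have e : L G (j + 1) = L G (j + 1) ⊔ Subgroup.zpowers y := by
        refine Subgroup.eq_of_le_of_card_ge le_sup_left ?_
        rw [hi', h.card_L (j + 1) (by omega)]
        exact Nat.pow_le_pow_right hp.out.pos (by omega)
      rw [e]; exact Subgroup.mem_sup_right (Subgroup.mem_zpowers y)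
    rw [← h1]
    refine sup_le (fun g hg => hmemK g ?_) (Subgroup.zpowers_le.2 (hmemK y hyx))
    rw [hM, L, Subgroup.lowerCentralSeries_succ]
    exact Subgroup.commutator_mem_commutator hg trivial
  have hxK : x ∈ K := hmemK x (by rw [commutatorElement_self]; exact one_mem _)
  -- count
  set A := L G j ⊔ Subgroup.zpowers x with hA
  have hAK : A ≤ K := sup_le hjK (Subgroup.zpowers_le.2 hxK)
  have hAcard : p * Nat.card (L G j) ≤ Nat.card A := by
    obtain ⟨i, hi, hi'⟩ := (Nat.dvd_prime_pow hp.out).1 (h.card ▸ Subgroup.card_subgroup_dvd_card A)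
    rw [hi', h.card_L j hj, ← pow_succ']
    refine Nat.pow_le_pow_right hp.out.pos ?_
    by_contra hc
    refine h.not_mem_one (anti hj ?_)
    have e : L G j = A := Subgroup.eq_of_le_of_card_ge le_sup_left (by
      rw [hi', h.card_L j hj]; exact Nat.pow_le_pow_right hp.out.pos (by omega))
    rw [e]; exact Subgroup.mem_sup_right (Subgroup.mem_zpowers x)
  have hKcard : Nat.card K ≤ Nat.card M * p ^ 2 := by
    set C := Subgroup.centralizer ({x} : Set G)
    choose sec hsec using fun m : L G 1 => h.exists_conj m.2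
    have hM1 : M ≤ L G 1 := anti (by omega)
    let f : K → M × C := fun g => (⟨⁅(g : G), x⁆, hKM g g.2⟩,
      ⟨(sec ⟨⁅(g : G), x⁆, hM1 (hKM g g.2)⟩)⁻¹ * g, by
        set s := sec ⟨⁅(g : G), x⁆, hM1 (hKM g g.2)⟩
        have e : s * x * s⁻¹ * x⁻¹ = (g : G) * x * (g : G)⁻¹ * x⁻¹ := hsec _
        rw [Subgroup.mem_centralizer_singleton_iff]
        calc s⁻¹ * g * x = s⁻¹ * ((g : G) * x * (g : G)⁻¹ * x⁻¹) * x * g := by group
          _ = s⁻¹ * (s * x * s⁻¹ * x⁻¹) * x * g := by rw [e]
          _ = _ := by group⟩)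
    have hinj : Function.Injective f := fun a b hab => by
      simp only [f, Prod.mk.injEq, Subtype.mk.injEq] at hab
      obtain ⟨h1, h2⟩ := hab
      refine Subtype.ext ?_
      simp only [h1] at h2
      exact mul_left_cancel h2
    have := Nat.card_le_card_of_injective f hinj
    rwa [Nat.card_prod, show Nat.card C = p ^ 2 from h.cent] at this
  have := hAcard.trans ((Subgroup.card_le_of_le hAK).trans hKcard)
  rw [h.card_L j hj, h.card_L (j + 2) (by omega), ← pow_succ', ← pow_add,
    Nat.pow_le_pow_iff_right hp.out.one_lt] at this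
  omega

/-- iterated commutators with `x` -/
def cseq (x y : G) : ℕ → G
  | 0 => y
  | k + 1 => ⁅(cseq x y k)⁻¹, x⁻¹⁆

theorem cseq_mem {x y : G} {j : ℕ} (hy : y ∈ L G j) : ∀ k, cseq x y k ∈ L G (j + k)
  | 0 => hy
  | k + 1 => by
    show ⁅(cseq x y k)⁻¹, x⁻¹⁆ ∈ L G (j + (k + 1))
    rw [← add_assoc, L, Subgroup.lowerCentralSeries_succ]
    exact Subgroup.commutator_mem_commutator (inv_mem (cseq_mem hy k)) trivial

theorem Setting.cseq_not_mem (h : Setting p G n x) {y : G} {j : ℕ} (hj : 1 ≤ j) (hy : y ∈ L G j)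
    (hy' : y ∉ L G (j + 1)) : ∀ k, j + k + 1 ≤ n - 1 → cseq x y k ∉ L G (j + k + 1)
  | 0, _ => hy'
  | k + 1, hk => by
    have h1 := h.cseq_not_mem hj hy hy' k (by omega)
    have := h.inv.comm_not_mem (j := j + k) (by omega) (by omega) (inv_mem (cseq_mem hy k))
      (fun e => h1 (by simpa using inv_mem e))
    show ⁅(cseq x y k)⁻¹, x⁻¹⁆ ∉ L G (j + (k + 1) + 1)
    rw [show j + (k + 1) + 1 = j + k + 2 by omega]
    exact this

/-- The power map climbs `p - 1` steps. -/
theorem Setting.pow_mul_cseq (h : Setting p G n x) : ∀ (r j : ℕ), n - 1 - j ≤ r → 1 ≤ j → ∀ y ∈ L G j,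
    y ^ p * cseq x y (p - 1) ∈ L G (j + p) ∧ y ^ p ∈ L G (j + (p - 1)) := by
  intro r
  induction r with
  | zero =>
    intro j hr hj y hy
    rw [h.eq_bot (by omega), Subgroup.mem_bot] at hy
    subst hy
    have hc : ∀ k, cseq x (1 : G) k = 1 := by
      intro k; induction k with
      | zero => rfl
      | succ k ih => show ⁅(cseq x 1 k)⁻¹, x⁻¹⁆ = 1; rw [ih, inv_one, commutatorElement_one_left]
    rw [hc, one_pow, one_mul]
    exact ⟨one_mem _, one_mem _⟩
  | succ r ih =>
    intro j hr hj y hy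
    have hp2 := hp.out.two_le
    let R : ℕ → Subgroup G := fun a => L G (j + (a - 1))
    have hR : PolySeq.Filt R := by
      refine ⟨fun a => inferInstance, fun a b hab => anti (by omega), fun a b => ?_⟩
      exact (comm_le _ _).trans (anti (by omega))
    set c := x⁻¹
    let F : ℕ → G := fun k => (y * c) ^ k * x ^ k
    have hdF : PolySeq.dd F = fun k => (x ^ k)⁻¹ * cseq x y 0 * x ^ k := by
      funext k
      show ((y * c) ^ k * x ^ k)⁻¹ * ((y * c) ^ (k + 1) * x ^ (k + 1)) = (x ^ k)⁻¹ * y * x ^ k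
      rw [pow_succ, pow_succ' x k]
      simp only [c]
      group
    have hddc : ∀ i, PolySeq.dk (i + 1) F = fun k => (x ^ k)⁻¹ * cseq x y i * x ^ k := by
      intro i
      induction i with
      | zero => exact hdF
      | succ i ih' =>
        rw [PolySeq.dk_succ', ih']
        funext k
        show ((x ^ k)⁻¹ * cseq x y i * x ^ k)⁻¹ * ((x ^ (k + 1))⁻¹ * cseq x y i * x ^ (k + 1)) =
          (x ^ k)⁻¹ * ⁅(cseq x y i)⁻¹, x⁻¹⁆ * x ^ k
        rw [pow_succ' x k, commutatorElement_def]
        group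
    have hFm : ∀ k, F k ∈ L G j := by
      intro k
      induction k with
      | zero => simp [F]
      | succ k ihk =>
        have e : F (k + 1) = F k * PolySeq.dd F k := by simp [PolySeq.dd]
        rw [e]
        refine mul_mem ihk ?_
        rw [hdF]
        exact Subgroup.Normal.conj_mem' inferInstance y hy (x ^ k)
    have hFP : PolySeq.Poly R p 0 F := by
      rintro (_ | i) _ k
      · exact hFm k
      · rw [hddc]
        show _ ∈ L G (j + (0 + (i + 1) - 1))
        rw [show j + (0 + (i + 1) - 1) = j + i by omega]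
        exact Subgroup.Normal.conj_mem' inferInstance _ (cseq_mem hy i) (x ^ k)
    have key := PolySeq.pow_mul_dk_mem hR hp.out hFP (by simp [F])
      (show F p = 1 by show (y * c) ^ p * x ^ p = 1; rw [h.inv.pow_eq_one (anti hj hy), h.pow, mul_one])
      (fun k hk2 hkp a ha => anti (show j + (p + 1 - 1) ≤ j + (k - 1) + (p - 1) by omega)
        (ih (j + (k - 1)) (by omega) (by omega) a ha).2)
    have e1 : F 1 = y := by simp [F, c]
    have e2 : PolySeq.dk p F 0 = cseq x y (p - 1) := by
      obtain ⟨q, hq⟩ : ∃ q, p = q + 1 := ⟨p - 1, by omega⟩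
      rw [hq, hddc]; simp
    rw [e1, e2] at key
    have key' : y ^ p * cseq x y (p - 1) ∈ L G (j + p) := anti (show j + p ≤ j + (p + 1 - 1) by omega) key
    refine ⟨key', ?_⟩
    have := mul_mem (anti (show j + (p - 1) ≤ j + p by omega) key') (inv_mem (cseq_mem (x := x) hy (p - 1)))
    rwa [mul_inv_cancel_right] at this

theorem Setting.pow_not_mem (h : Setting p G n x) {j : ℕ} (hj : 1 ≤ j) (hjn : j + (p - 1) + 1 ≤ n - 1) {y : G}
    (hy : y ∈ L G j) (hy' : y ∉ L G (j + 1)) :
    y ^ p ∈ L G (j + (p - 1)) ∧ y ^ p ∉ L G (j + (p - 1) + 1) := by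
  obtain ⟨h1, h2⟩ := h.pow_mul_cseq _ j le_rfl hj y hy
  refine ⟨h2, fun e => h.cseq_not_mem hj hy hy' (p - 1) hjn ?_⟩
  have hp2 := hp.out.two_le
  rw [show j + (p - 1) + 1 = j + p by omega] at e ⊢
  have := mul_mem (inv_mem e) h1
  rwa [inv_mul_cancel_left] at this

theorem Setting.exists_two_of_top (h : Setting p G n x) {H : Subgroup G} (htop : H ⊔ L G 1 = ⊤) :
    ∃ T : Finset G, T.card ≤ 2 ∧ Subgroup.closure (T : Set G) = H := by
  classical
  have := h.isPGroup.isNilpotent
  have hp2 := hp.out.two_le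
  have hHtop : H = ⊤ := by
    refine frattini_nongenerating (eq_top_iff.2 (htop ▸ sup_le le_sup_left ?_))
    rw [L, Subgroup.top_lowerCentralSeries_one]
    exact Cores.commutator_le_frattini.trans le_sup_right
  obtain ⟨a, ha⟩ : ∃ a : G, a ∉ L G 1 ⊔ Subgroup.zpowers x := by
    by_contra hcon
    push Not at hcon
    have hidx : Subgroup.zpowers x = ⊤ := frattini_nongenerating (eq_top_iff.2 fun g _ => by
      have hle : L G 1 ≤ Subgroup.zpowers x ⊔ frattini G := by
        rw [L, Subgroup.top_lowerCentralSeries_one]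
        exact Cores.commutator_le_frattini.trans le_sup_right
      exact (sup_le hle le_sup_left : L G 1 ⊔ Subgroup.zpowers x ≤ _) (hcon g))
    have hle : Nat.card (Subgroup.zpowers x) ≤ p := by
      rw [Nat.card_zpowers]
      exact Nat.le_of_dvd hp.out.pos (orderOf_dvd_of_pow_eq_one h.pow)
    rw [hidx, Subgroup.card_top, h.card] at hle
    have : p ^ 2 ≤ p ^ n := Nat.pow_le_pow_right hp.out.pos (by have := h.three_le; omega)
    nlinarith
  refine ⟨{x, a}, Finset.card_le_two, ?_⟩
  rw [hHtop]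
  refine frattini_nongenerating ?_
  set A := Subgroup.closure (({x, a} : Finset G) : Set G) ⊔ frattini G with hA
  have hL : L G 1 ≤ A := by
    rw [L, Subgroup.top_lowerCentralSeries_one]; exact Cores.commutator_le_frattini.trans le_sup_right
  have hx' : x ∈ A := Subgroup.mem_sup_left (Subgroup.subset_closure (by simp))
  have ha' : a ∈ A := Subgroup.mem_sup_left (Subgroup.subset_closure (by simp))
  refine Subgroup.eq_top_of_card_eq _ ?_
  obtain ⟨i, hi, hi'⟩ := (Nat.dvd_prime_pow hp.out).1 (h.card ▸ Subgroup.card_subgroup_dvd_card A)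
  have hB : L G 1 < L G 1 ⊔ Subgroup.zpowers x := lt_of_le_of_ne le_sup_left fun e =>
    h.not_mem_one (e ▸ Subgroup.mem_sup_right (Subgroup.mem_zpowers x))
  have hBA : L G 1 ⊔ Subgroup.zpowers x < A := lt_of_le_of_ne (sup_le hL (Subgroup.zpowers_le.2 hx'))
    fun e => ha (e ▸ ha')
  obtain ⟨b, hb, hb'⟩ := (Nat.dvd_prime_pow hp.out).1 (h.card ▸
    Subgroup.card_subgroup_dvd_card (L G 1 ⊔ Subgroup.zpowers x))
  have h1 : n - 2 < b := by
    by_contra hc
    refine hB.ne (Subgroup.eq_of_le_of_card_ge hB.le ?_)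
    rw [hb', h.card_L 1 le_rfl]; exact Nat.pow_le_pow_right hp.out.pos (by omega)
  have h2 : b < i := by
    by_contra hc
    refine hBA.ne (Subgroup.eq_of_le_of_card_ge hBA.le ?_)
    rw [hb', hi']; exact Nat.pow_le_pow_right hp.out.pos (by omega)
  rw [hi', h.card, show i = n by omega]

theorem Setting.exists_generators (h : Setting p G n x) (H : Subgroup G) :
    ∃ T : Finset G, T.card ≤ p ∧ Subgroup.closure (T : Set G) = H := by
  classical
  have := h.isPGroup.isNilpotent
  have hp2 := hp.out.two_le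
  by_cases htop : H ⊔ L G 1 = ⊤
  · obtain ⟨T, hT, hT'⟩ := h.exists_two_of_top htop
    exact ⟨T, hT.trans hp2, hT'⟩
  -- `H` has a cyclic image modulo `L₁`
  obtain ⟨h₀, hh₀, hgen⟩ : ∃ h₀ ∈ H, ∀ g ∈ H, ∃ i : ℤ, (h₀ ^ i)⁻¹ * g ∈ L G 1 := by
    by_cases hle : H ≤ L G 1
    · exact ⟨1, one_mem H, fun g hg => ⟨0, by simpa using hle hg⟩⟩
    obtain ⟨h₀, hh₀, hh₀'⟩ := SetLike.not_le_iff_exists.1 hle
    refine ⟨h₀, hh₀, fun g hg => ?_⟩
    set B := L G 1 ⊔ Subgroup.zpowers h₀ with hBdef
    have hBH : B ≤ H ⊔ L G 1 := sup_le le_sup_right ((Subgroup.zpowers_le.2 hh₀).trans le_sup_left)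
    obtain ⟨b, hb, hb'⟩ := (Nat.dvd_prime_pow hp.out).1 (h.card ▸ Subgroup.card_subgroup_dvd_card B)
    obtain ⟨i, hi, hi'⟩ := (Nat.dvd_prime_pow hp.out).1 (h.card ▸ Subgroup.card_subgroup_dvd_card (H ⊔ L G 1))
    have h1 : n - 2 < b := by
      by_contra hc
      refine hh₀' ?_
      have e : L G 1 = B := Subgroup.eq_of_le_of_card_ge le_sup_left (by
        rw [hb', h.card_L 1 le_rfl]; exact Nat.pow_le_pow_right hp.out.pos (by omega))
      rw [e]; exact Subgroup.mem_sup_right (Subgroup.mem_zpowers h₀)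
    have h2 : i < n := lt_of_le_of_ne hi fun e => htop (Subgroup.eq_top_of_card_eq _ (by rw [hi', e, h.card]))
    have e : B = H ⊔ L G 1 := Subgroup.eq_of_le_of_card_ge hBH (by
      rw [hb', hi']; exact Nat.pow_le_pow_right hp.out.pos (by omega))
    have hgB : g ∈ B := e ▸ Subgroup.mem_sup_left hg
    obtain ⟨u, hu, v, hv, rfl⟩ := Subgroup.mem_sup_of_normal_left.1 hgB
    obtain ⟨i, rfl⟩ := Subgroup.mem_zpowers_iff.1 hv
    refine ⟨i, ?_⟩
    have := Subgroup.Normal.conj_mem' (inferInstance : (L G 1).Normal) u hu (h₀ ^ i)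
    simpa [mul_assoc] using this
  -- minimal depths
  let D : Set ℕ := {j | 1 ≤ j ∧ ∃ g ∈ H, g ∈ L G j ∧ g ∉ L G (j + 1)}
  have hup : ∀ j ∈ D, j + 2 ≤ n := by
    rintro j ⟨hj, g, -, hg, hg'⟩
    by_contra hc
    rw [h.eq_bot (by omega), Subgroup.mem_bot] at hg
    exact hg' (hg ▸ one_mem _)
  let Dm := (Finset.range n).filter fun j => j ∈ D ∧ ¬ ∃ i ∈ D, i + (p - 1) = j
  have hDm : ∀ j ∈ Dm, j ∈ D := fun j hj => ((Finset.mem_filter.1 hj).2).1
  choose! w hwH hwL hwL' using fun j (hj : j ∈ D) => hj.2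
  have hclosed : ∀ j ∈ D, j + (p - 1) + 1 ≤ n - 1 → j + (p - 1) ∈ D := by
    intro j hj hjn
    obtain ⟨h1, h2⟩ := h.pow_not_mem hj.1 hjn (hwL j hj) (hwL' j hj)
    exact ⟨by omega, _, pow_mem (hwH j hj) p, h1, h2⟩
  refine ⟨insert h₀ (Dm.image w), ?_, ?_⟩
  · refine (Finset.card_insert_le _ _).trans ?_
    have : (Dm.image w).card ≤ p - 1 := by
      refine Finset.card_image_le.trans ?_
      refine le_trans (Finset.card_le_card_of_injOn (t := Finset.range (p - 1)) (fun j => j % (p - 1))
        (fun j _ => Finset.mem_range.2 (Nat.mod_lt _ (by omega))) ?_) (Finset.card_range _).le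
      have main : ∀ a b, a ∈ Dm → b ∈ Dm → a < b → a % (p - 1) = b % (p - 1) → False := by
        intro a b ha hb hlt hab
        obtain ⟨t, ht⟩ : (p - 1) ∣ b - a := (Nat.modEq_iff_dvd' hlt.le).1 hab
        have hmem : ∀ s, a + (p - 1) * s ≤ b → a + (p - 1) * s ∈ D := by
          intro s
          induction s with
          | zero => intro _; simpa using hDm a ha
          | succ s ih =>
            intro hs
            have e : a + (p - 1) * (s + 1) = a + (p - 1) * s + (p - 1) := by ring
            rw [e] at hs ⊢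
            have := hup b (hDm b hb)
            exact hclosed _ (ih (by omega)) (by omega)
        have ht0 : t ≠ 0 := fun e => by rw [e, mul_zero] at ht; omega
        obtain ⟨s, rfl⟩ := Nat.exists_eq_succ_of_ne_zero ht0
        refine (Finset.mem_filter.1 hb).2.2 ⟨a + (p - 1) * s, hmem s ?_, ?_⟩
        · rw [Nat.mul_succ] at ht; omega
        · rw [Nat.mul_succ] at ht; omega
      intro a ha b hb hab
      rcases lt_trichotomy a b with h' | h' | h'
      · exact (main a b ha hb h' hab).elim
      · exact h'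
      · exact (main b a hb ha h' hab.symm).elim
    omega
  set T := Subgroup.closure (((insert h₀ (Dm.image w)) : Finset G) : Set G) with hT
  refine le_antisymm ((Subgroup.closure_le _).2 ?_) ?_
  · intro g hg
    simp only [Finset.coe_insert, Finset.coe_image, Set.mem_insert_iff, Set.mem_image, Finset.mem_coe] at hg
    rcases hg with rfl | ⟨j, hj, rfl⟩
    · exact hh₀
    · exact hwH j (hDm j hj)
  have hwT : ∀ j ∈ D, ∃ t ∈ T, t ∈ H ∧ t ∈ L G j ∧ t ∉ L G (j + 1) := by
    intro j
    induction j using Nat.strongRecOn with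
    | ind j ih =>
      intro hj
      by_cases hm : j ∈ Dm
      · exact ⟨w j, Subgroup.subset_closure (Finset.mem_coe.2 (Finset.mem_insert_of_mem (Finset.mem_image_of_mem w hm))), hwH j hj, hwL j hj, hwL' j hj⟩
      obtain ⟨i, hi, rfl⟩ : ∃ i ∈ D, i + (p - 1) = j := by
        by_contra hc
        exact hm (Finset.mem_filter.2 ⟨Finset.mem_range.2 (by have := hup j hj; omega), hj, hc⟩)
      obtain ⟨t, htT, htH, ht1, ht2⟩ := ih i (by omega) hi
      obtain ⟨h1, h2⟩ := h.pow_not_mem hi.1 (by have := hup _ hj; omega) ht1 ht2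
      exact ⟨t ^ p, pow_mem htT p, pow_mem htH p, h1, h2⟩
  have hlev : ∀ r j, n - 1 - j ≤ r → 1 ≤ j → ∀ g ∈ H, g ∈ L G j → g ∈ T := by
    intro r
    induction r with
    | zero =>
      intro j hr hj g _ hg
      rw [h.eq_bot (by omega), Subgroup.mem_bot] at hg
      exact hg ▸ one_mem T
    | succ r ih =>
      intro j hr hj g hgH hg
      by_cases hg' : g ∈ L G (j + 1)
      · exact ih (j + 1) (by omega) (by omega) g hgH hg'
      obtain ⟨t, htT, htH, ht1, ht2⟩ := hwT j ⟨hj, g, hgH, hg, hg'⟩
      have hjn := hup j ⟨hj, g, hgH, hg, hg'⟩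
      have e : L G (j + 1) ⊔ Subgroup.zpowers t = L G j := by
        have hle : L G (j + 1) ⊔ Subgroup.zpowers t ≤ L G j :=
          sup_le (anti (Nat.le_succ j)) (Subgroup.zpowers_le.2 ht1)
        refine Subgroup.eq_of_le_of_card_ge hle ?_
        obtain ⟨i, hi, hi'⟩ := (Nat.dvd_prime_pow hp.out).1 (h.card ▸
          Subgroup.card_subgroup_dvd_card (L G (j + 1) ⊔ Subgroup.zpowers t))
        rw [hi', h.card_L j hj]
        refine Nat.pow_le_pow_right hp.out.pos ?_
        by_contra hc
        refine ht2 ?_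
        have e : L G (j + 1) = L G (j + 1) ⊔ Subgroup.zpowers t := by
          refine Subgroup.eq_of_le_of_card_ge le_sup_left ?_
          rw [hi', h.card_L (j + 1) (by omega)]
          exact Nat.pow_le_pow_right hp.out.pos (by omega)
        rw [e]; exact Subgroup.mem_sup_right (Subgroup.mem_zpowers t)
      obtain ⟨u, hu, v, hv, rfl⟩ := Subgroup.mem_sup_of_normal_left.1 (e.symm ▸ hg : g ∈ L G (j + 1) ⊔ Subgroup.zpowers t)
      obtain ⟨i, rfl⟩ := Subgroup.mem_zpowers_iff.1 hv
      have huH : u ∈ H := by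
        have := mul_mem hgH (inv_mem (zpow_mem htH i))
        rwa [mul_inv_cancel_right] at this
      exact mul_mem (ih (j + 1) (by omega) (by omega) u huH hu) (zpow_mem htT i)
  intro g hg
  obtain ⟨i, hi⟩ := hgen g hg
  have h0T : h₀ ∈ T := Subgroup.subset_closure (by simp)
  have := mul_mem (zpow_mem h0T i) (hlev _ 1 le_rfl le_rfl _ (mul_mem (inv_mem (zpow_mem hh₀ i)) hg) hi)
  rwa [mul_inv_cancel_left] at this

end Cfsg.Agent.Lib.PLocal.SmallCentralizer
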