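import Cfsg.Agent.Lib.Fusion.NormalCriteria
import Cfsg.Agent.Lib.PLocal.GenExtraClosed
import Cfsg.Agent.Lib.PLocal.SmallCentralizer

/-!
Pearls at an odd prime give an element of order `p` with centralizer of order `p ^ 2`.
-/

set_option autoImplicit false
set_option linter.unusedSectionVars false
set_option linter.style.haveILetI false

namespace Cfsg.Agent.Lib.PLocal.Pearl

open Cfsg Cfsg.FusionSystem Cfsg.Agent.Lib.Fusion
open scoped commutatorElement

variable {p : ℕ} [hp : Fact p.Prime] {Ω : Type*} [Group Ω] {S : Subgroup Ω} [Finite S] {F : FusionSystem S}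

theorem centerIn_ne_one (hS : IsPGroup p S) (hS1 : S ≠ ⊥) :
    ∃ z ∈ S, z ≠ 1 ∧ z ^ p = 1 ∧ ∀ s ∈ S, Commute z s := by
  haveI : Nontrivial S := (Subgroup.nontrivial_iff_ne_bot _).2 hS1
  haveI := hS.center_nontrivial
  obtain ⟨k, hk⟩ := IsPGroup.iff_card.1 (hS.to_subgroup (Subgroup.center S))
  have hk0 : k ≠ 0 := fun e => by
    have := Finite.one_lt_card (α := Subgroup.center S)
    rw [hk, e, pow_zero] at this
    omega
  obtain ⟨c, hc⟩ := exists_prime_orderOf_dvd_card' (G := Subgroup.center S) p (hk ▸ dvd_pow_self p hk0)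
  refine ⟨((c : S) : Ω), (c : S).2, fun e => hp.out.ne_one ?_, ?_, fun s hs =>
    congrArg Subtype.val (Subgroup.mem_center_iff.1 c.2 ⟨s, hs⟩).symm⟩
  · rw [← hc, ← Subgroup.orderOf_coe, ← Subgroup.orderOf_coe, e, orderOf_one]
  · have h1 : c ^ p = 1 := hc ▸ pow_orderOf_eq_one c
    exact congrArg (fun u : Subgroup.center S => ((u : S) : Ω)) h1

theorem E_lt (hS : IsPGroup p S) (hF : F.IsSaturated p) {E : Subgroup Ω} (hE : F.IsEssential p E) : E < S :=
  lt_of_le_of_ne hE.1.1 (IsEssential.ne_top hF hS hE)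

theorem exists_normalizer_elt (hS : IsPGroup p S) (hF : F.IsSaturated p) {E : Subgroup Ω}
    (hE : F.IsEssential p E) : ∃ m ∈ normalizerIn S E, m ∉ E := by
  have hlt := E_lt hS hF hE
  by_contra hcon
  push Not at hcon
  exact hlt.not_ge (le_of_normalizer_le hS hE.1.1 le_rfl (hE.1.1.trans Subgroup.le_normalizer)
    fun m hm => hcon m hm)

/-- An element stabilizing an invariant series lies in `E`. -/
theorem mem_of_stab (hS : IsPGroup p S) (hF : F.IsSaturated p) {E : Subgroup Ω} (hE : F.IsEssential p E)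
    {m : Ω} (hm : m ∈ normalizerIn S E) (A B : Subgroup E)
    (hA : ∀ α ∈ F.autGroup E, ∀ x ∈ A, α x ∈ A) (hB : ∀ α ∈ F.autGroup E, ∀ x ∈ B, α x ∈ B)
    (h1 : ∀ x ∈ A, conjAut hm.2 x = x) (h2 : ∀ x ∈ B, x⁻¹ * conjAut hm.2 x ∈ A)
    (h3 : ∀ x, x⁻¹ * conjAut hm.2 x ∈ B) : m ∈ E := by
  refine mem_of_conjAut_inn hE.1 hm ?_
  rw [← (IsEssential.radical hS hF hE).2]
  have := finite_of_le hE.1.1
  let W : ℕ → Subgroup E := fun k => if k = 0 then ⊥ else if k = 1 then A else if k = 2 then B else ⊤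
  refine stab_mem_pCore (hS.to_le hE.1.1) (F.autGroup E) W 3 (if_pos rfl) rfl ?_
    (conjAut_mem_autGroup F hE.1.1 hm.1 hm.2) ?_
  · intro α hα k x hx
    simp only [W] at hx ⊢
    split_ifs at hx ⊢
    · rw [Subgroup.mem_bot] at hx ⊢; rw [hx, map_one]
    · exact hA α hα x hx
    · exact hB α hα x hx
    · trivial
  · intro k hk x hx
    rcases (show k = 0 ∨ k = 1 ∨ k = 2 by omega) with rfl | rfl | rfl
    · show x⁻¹ * conjAut hm.2 x ∈ (⊥ : Subgroup E)
      rw [h1 x hx, inv_mul_cancel]; exact one_mem _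
    · exact h2 x hx
    · exact h3 x

/-- The abelian case. -/
theorem exists_small_of_abelian (hS : IsPGroup p S) (hF : F.IsSaturated p) {E : Subgroup Ω}
    (hE : F.IsEssential p E) (hc : Nat.card E = p ^ 2) (hab : ∀ a ∈ E, ∀ b ∈ E, Commute a b)
    (hexp : ∀ a ∈ E, a ^ p = 1) : ∃ x ∈ S, x ^ p = 1 ∧ Nat.card (centralizerIn S (Subgroup.zpowers x)) = p ^ 2 := by
  have hES : E ≤ S := hE.1.1
  have := finite_of_le hES
  have hS1 : S ≠ ⊥ := fun e => (E_lt hS hF hE).ne_bot e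
  obtain ⟨z, hzS, hz1, hzp, hzc⟩ := centerIn_ne_one hS hS1
  have hzE : z ∈ E := hE.1.2 E (isConj_refl F hES)
    (mem_centralizerIn.2 ⟨hzS, fun x hx => (hzc x (hES hx)).eq.symm⟩)
  have hlt : Subgroup.zpowers z < E := by
    refine lt_of_le_of_ne (Subgroup.zpowers_le.2 hzE) fun e => ?_
    have h1 : Nat.card E = p := by rw [← e, Nat.card_zpowers, orderOf_eq_prime hzp hz1]
    rw [hc] at h1
    nlinarith [hp.out.one_lt]
  obtain ⟨x, hxE, hxz⟩ := SetLike.exists_of_lt hlt
  refine ⟨x, hES hxE, hexp x hxE, ?_⟩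
  have hgen : Subgroup.zpowers z ⊔ Subgroup.zpowers x = E := by
    refine Subgroup.eq_of_le_of_card_ge (sup_le hlt.le (Subgroup.zpowers_le.2 hxE)) ?_
    obtain ⟨i, hi, hi'⟩ := (Nat.dvd_prime_pow hp.out).1 (hc ▸ Subgroup.card_dvd_of_le
      (sup_le hlt.le (Subgroup.zpowers_le.2 hxE)))
    rw [hi', hc]
    refine Nat.pow_le_pow_right hp.out.pos ?_
    by_contra hi2
    refine hxz ?_
    have := finite_of_le ((sup_le hlt.le (Subgroup.zpowers_le.2 hxE)).trans hES)
    have e : Subgroup.zpowers z = Subgroup.zpowers z ⊔ Subgroup.zpowers x := by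
      refine Subgroup.eq_of_le_of_card_ge le_sup_left ?_
      rw [hi', Nat.card_zpowers, orderOf_eq_prime hzp hz1]
      exact (Nat.pow_le_pow_right hp.out.pos (show i ≤ 1 by omega)).trans_eq (pow_one p)
    rw [e]; exact Subgroup.mem_sup_right (Subgroup.mem_zpowers x)
  have heq : centralizerIn S (Subgroup.zpowers x) = centralizerIn S E := by
    refine le_antisymm (fun g hg => ?_) fun g hg => ?_
    · refine mem_centralizerIn.2 ⟨hg.1, fun u hu => ?_⟩
      rw [← hgen] at hu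
      have hle : Subgroup.zpowers z ⊔ Subgroup.zpowers x ≤ Subgroup.centralizer ({g} : Set Ω) :=
        sup_le (Subgroup.zpowers_le.2 (Subgroup.mem_centralizer_singleton_iff.2 (hzc g hg.1).eq))
          (Subgroup.zpowers_le.2 (Subgroup.mem_centralizer_singleton_iff.2
            ((mem_centralizerIn.1 hg).2 x (Subgroup.mem_zpowers x))))
      exact Subgroup.mem_centralizer_singleton_iff.1 (hle hu)
    · exact mem_centralizerIn.2 ⟨hg.1, fun u hu =>
        (mem_centralizerIn.1 hg).2 u ((Subgroup.zpowers_le.2 hxE) hu)⟩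
  rw [heq, show centralizerIn S E = E from le_antisymm (hE.1.2 E (isConj_refl F hES))
    (fun g hg => mem_centralizerIn.2 ⟨hES hg, fun u hu => hab u hu g hg⟩), hc]

/-- The extraspecial case. -/
theorem exists_small_of_nonabelian (hS : IsPGroup p S) (hF : F.IsSaturated p) (hp2 : p ≠ 2) {E : Subgroup Ω}
    (hE : F.IsEssential p E) (hc : Nat.card E = p ^ 3) (hnab : ¬ IsMulCommutative ↥E) :
    ∃ x ∈ S, x ^ p = 1 ∧ Nat.card (centralizerIn S (Subgroup.zpowers x)) = p ^ 2 := by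
  classical
  have hES : E ≤ S := hE.1.1
  have := finite_of_le hES
  have hEp := hS.to_le hES
  -- the centre
  set Z := Subgroup.center E with hZ
  have hZc : Nat.card Z = p := by
    haveI : Nontrivial E := Finite.one_lt_card_iff_nontrivial.mp (by
      rw [hc]; exact Nat.one_lt_pow (by norm_num) hp.out.one_lt)
    haveI := hEp.center_nontrivial
    obtain ⟨i, hi, hi'⟩ := (Nat.dvd_prime_pow hp.out).1 (hc ▸ Subgroup.card_subgroup_dvd_card Z)
    have h1 : 1 < Nat.card Z := Finite.one_lt_card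
    have hi1 : i ≤ 1 := by
      by_contra hgt
      refine hnab ⟨⟨?_⟩⟩
      have hq : Nat.card (E ⧸ Z) = p ^ (3 - i) := by
        have := Subgroup.card_mul_index Z
        rw [hc, hi', Subgroup.index_eq_card, show (3 : ℕ) = i + (3 - i) by omega, pow_add] at this
        exact Nat.eq_of_mul_eq_mul_left (pow_pos hp.out.pos i) this
      have hcyc : IsCyclic (E ⧸ Z) := by
        rcases (show 3 - i = 0 ∨ 3 - i = 1 by omega) with h | h <;> rw [h] at hq
        · have : Subsingleton (E ⧸ Z) := (Nat.card_eq_one_iff_unique.mp (hq.trans (pow_zero p))).1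
          exact isCyclic_of_subsingleton
        · exact isCyclic_of_prime_card (p := p) (hq.trans (pow_one p))
      obtain ⟨q, hq'⟩ := hcyc.exists_generator
      obtain ⟨a, rfl⟩ := QuotientGroup.mk_surjective q
      intro u v
      obtain ⟨j, hj⟩ := Subgroup.mem_zpowers_iff.1 (hq' (u : E ⧸ Z))
      obtain ⟨l, hl⟩ := Subgroup.mem_zpowers_iff.1 (hq' (v : E ⧸ Z))
      have hu : (a ^ j)⁻¹ * u ∈ Z := QuotientGroup.eq.1 hj
      have hv : (a ^ l)⁻¹ * v ∈ Z := QuotientGroup.eq.1 hl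
      rw [show u = a ^ j * ((a ^ j)⁻¹ * u) by group, show v = a ^ l * ((a ^ l)⁻¹ * v) by group]
      have h1 : Commute (a ^ j) (a ^ l) := (Commute.refl a).zpow_zpow j l
      have h2 : ∀ w : E, Commute ((a ^ j)⁻¹ * u) w := fun w => (Subgroup.mem_center_iff.1 hu w).symm
      have h3 : ∀ w : E, Commute ((a ^ l)⁻¹ * v) w := fun w => (Subgroup.mem_center_iff.1 hv w).symm
      exact ((h1.mul_left (h2 _)).mul_right (((h3 _).symm).mul_left (h3 _).symm)).eq
    have hi0 : i ≠ 0 := fun e => by rw [hi', e, pow_zero] at h1; omega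
    rw [hi', show i = 1 by omega, pow_one]
  obtain ⟨z₀, hz₀⟩ := (isCyclic_of_prime_card hZc).exists_generator
  set zE : E := (z₀ : E) with hzE
  have hzo : orderOf zE = p := by
    rw [hzE, Subgroup.orderOf_coe, orderOf_eq_card_of_forall_mem_zpowers hz₀, hZc]
  have hZz : ∀ u ∈ Z, u ∈ Subgroup.zpowers zE := fun u hu => by
    obtain ⟨i, hi⟩ := Subgroup.mem_zpowers_iff.1 (hz₀ ⟨u, hu⟩)
    exact ⟨i, congrArg Subtype.val hi⟩
  have hzc : ∀ u : E, Commute zE u := fun u => (Subgroup.mem_center_iff.1 z₀.2 u).symm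
  -- the quotient is elementary abelian
  have hqc : Nat.card (E ⧸ Z) = p ^ 2 := by
    have := Subgroup.card_mul_index Z
    rw [hc, hZc, Subgroup.index_eq_card, show (3 : ℕ) = 1 + 2 from rfl, pow_add, pow_one] at this
    exact Nat.eq_of_mul_eq_mul_left hp.out.pos this
  have hqexp : ∀ u : E, u ^ p ∈ Z := fun u => by
    by_contra hu
    refine hnab ⟨⟨?_⟩⟩
    obtain ⟨i, hi, hi'⟩ := (Nat.dvd_prime_pow hp.out).1 (hqc ▸ orderOf_dvd_natCard (u : E ⧸ Z))
    have hcyc : IsCyclic (E ⧸ Z) := by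
      refine isCyclic_of_orderOf_eq_card (u : E ⧸ Z) ?_
      rw [hqc, hi', show i = 2 from ?_]
      by_contra hne
      refine hu ((QuotientGroup.eq_one_iff _).1 ?_)
      rw [QuotientGroup.mk_pow]
      refine orderOf_dvd_iff_pow_eq_one.1 (hi' ▸ ?_)
      exact (pow_dvd_pow p (show i ≤ 1 by omega)).trans (by rw [pow_one])
    intro a b
    exact commutative_of_cyclic_center_quotient (QuotientGroup.mk' Z)
      (by rw [QuotientGroup.ker_mk']) a b
  have hqcomm : ∀ a b : E, ⁅a, b⁆ ∈ Z := fun a b => by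
    rw [← QuotientGroup.eq_one_iff, ← QuotientGroup.mk'_apply, map_commutatorElement,
      commutatorElement_eq_one_iff_mul_comm]
    exact IsPGroup.commutative_of_card_eq_prime_sq hqc _ _
  have hsm : GenExtra.Small p E zE :=
    ⟨hzo, fun a b => hZz _ (hqcomm a b), fun a => hZz _ (hqexp a), hzc⟩
  have hZinv : ∀ α : MulAut E, ∀ u ∈ Z, α u ∈ Z := fun α u hu => by
    rw [Subgroup.mem_center_iff] at hu ⊢
    intro w
    obtain ⟨w, rfl⟩ := α.surjective w
    rw [← map_mul, ← map_mul, hu]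
  obtain ⟨z, hzS, hz1, hzp, hzcS⟩ := centerIn_ne_one hS fun e => (E_lt hS hF hE).ne_bot e
  have hzmem : z ∈ E := hE.1.2 E (isConj_refl F hES)
    (mem_centralizerIn.2 ⟨hzS, fun x hx => (hzcS x (hES hx)).eq.symm⟩)
  have hzZ : (⟨z, hzmem⟩ : E) ∈ Z :=
    Subgroup.mem_center_iff.2 fun u => Subtype.ext (hzcS u (hES u.2)).eq.symm
  have hZS : ∀ u ∈ Z, ∀ s ∈ S, Commute (u : Ω) s := by
    intro u hu s hs
    have he : Subgroup.zpowers (⟨z, hzmem⟩ : E) = Z := by
      refine Subgroup.eq_of_le_of_card_ge (Subgroup.zpowers_le.2 hzZ) ?_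
      rw [hZc, Nat.card_zpowers, ← Subgroup.orderOf_coe, orderOf_eq_prime hzp hz1]
    rw [← he] at hu
    obtain ⟨i, rfl⟩ := Subgroup.mem_zpowers_iff.1 hu
    exact (hzcS s hs).zpow_left i
  have hσZ' : ∀ g (hg : g ∈ normalizerIn S E), ∀ u ∈ Z, conjAut hg.2 u = u := fun g hg u hu =>
    Subtype.ext (by rw [conjAut_coe, ← (hZS u hu g hg.1).eq, mul_inv_cancel_right])
  -- a common fixed line modulo the centre
  have hmapZ : ∀ σ : MulAut E, Z.map σ.toMonoidHom = Z := fun σ => by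
    refine le_antisymm (Subgroup.map_le_iff_le_comap.2 fun u hu => hZinv σ u hu) fun u hu => ?_
    exact ⟨σ⁻¹ u, hZinv σ⁻¹ u hu, σ.apply_symm_apply u⟩
  let Φ : ↥(normalizerIn S E) →* MulAut (E ⧸ Z) := MonoidHom.mk'
    (fun g => QuotientGroup.congr Z Z (conjAut g.2.2) (hmapZ _)) fun a b => MulEquiv.ext fun q => by
      obtain ⟨u, rfl⟩ := QuotientGroup.mk_surjective q
      refine congrArg (QuotientGroup.mk (s := Z)) (Subtype.ext ?_)
      simp [mul_assoc]
  have hΦp : IsPGroup p Φ.range :=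
    (hS.to_le (fun g hg => hg.1 : normalizerIn S E ≤ S)).of_surjective Φ.rangeRestrict
      Φ.rangeRestrict_surjective
  obtain ⟨q, hq, hq1⟩ := hΦp.exists_fixed_point_of_prime_dvd_card_of_fixed_point (E ⧸ Z)
    (hqc ▸ dvd_pow_self p two_ne_zero) (a := 1) (fun a => map_one (a : MulAut (E ⧸ Z)))
  obtain ⟨w, rfl⟩ := QuotientGroup.mk_surjective q
  have hw' : ∀ g (hg : g ∈ normalizerIn S E), w⁻¹ * conjAut hg.2 w ∈ Z := fun g hg => by
    rw [← QuotientGroup.eq]
    exact (hq ⟨Φ ⟨g, hg⟩, ⟨g, hg⟩, rfl⟩).symm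
  have hwZ : w ∉ Z := fun e => hq1 ((QuotientGroup.eq_one_iff w).2 e).symm
  -- moved elements
  let Fix : MulAut E → Subgroup E := fun σ =>
    { carrier := {u | u⁻¹ * σ u ∈ Z}
      one_mem' := by simp
      mul_mem' := fun {a b} ha hb => by
        show (a * b)⁻¹ * σ (a * b) ∈ Z
        have hc' : b⁻¹ * (a⁻¹ * σ a) * b = a⁻¹ * σ a := by
          rw [mul_assoc, ← Subgroup.mem_center_iff.1 ha b, inv_mul_cancel_left]
        rw [map_mul, show (a * b)⁻¹ * (σ a * σ b) = b⁻¹ * (a⁻¹ * σ a) * b * (b⁻¹ * σ b) by group, hc']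
        exact mul_mem ha hb
      inv_mem' := fun {a} ha => by
        show a⁻¹⁻¹ * σ a⁻¹ ∈ Z
        have h1 : a * (σ a)⁻¹ = a * (a⁻¹ * σ a)⁻¹ * a⁻¹ := by group
        rw [inv_inv, map_inv, h1, Subgroup.mem_center_iff.1 (inv_mem ha) a, mul_inv_cancel_right]
        exact inv_mem ha }
  have hFix : ∀ g (hg : g ∈ normalizerIn S E), Fix (conjAut hg.2) = ⊤ → g ∈ E := fun g hg htop => by
    refine mem_of_stab hS hF hE hg Z Z (fun α _ => hZinv α) (fun α _ => hZinv α) (hσZ' g hg)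
      (fun u hu => ?_) fun u => (htop ▸ Subgroup.mem_top u : u ∈ Fix (conjAut hg.2))
    rw [hσZ' g hg u hu, inv_mul_cancel]; exact one_mem _
  have hZFix : ∀ g (hg : g ∈ normalizerIn S E), Z ≤ Fix (conjAut hg.2) := fun g hg u hu => by
    show u⁻¹ * conjAut hg.2 u ∈ Z
    rw [hσZ' g hg u hu, inv_mul_cancel]; exact one_mem _
  obtain ⟨m, hm, hmE⟩ := exists_normalizer_elt hS hF hE
  set σ := conjAut hm.2 with hσ
  obtain ⟨k, hk⟩ := hS ⟨m, hm.1⟩
  have hσp : σ ^ p ^ k = 1 := by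
    show E.normalizerMonoidHom ⟨m, hm.2⟩ ^ p ^ k = 1
    rw [← map_pow, show (⟨m, hm.2⟩ : Subgroup.normalizer (E : Set Ω)) ^ p ^ k = 1 from
      Subtype.ext (congrArg Subtype.val hk :), map_one]
  have hσZ : ∀ u ∈ Z, σ u = u := hσZ' m hm
  set Fx := Fix σ with hFx
  have hFtop : Fx ≠ ⊤ := fun h => hmE (hFix m hm h)
  have hZF : Z ≤ Fx := hZFix m hm
  have hw : w ∈ Fx := hw' m hm
  have hFc : Nat.card Fx = p ^ 2 := by
    obtain ⟨i, hi, hi'⟩ := (Nat.dvd_prime_pow hp.out).1 (hc ▸ Subgroup.card_subgroup_dvd_card Fx)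
    have h1 : 1 < i := by
      by_contra hle
      refine hwZ ?_
      have e : Z = Fx := Subgroup.eq_of_le_of_card_ge hZF (by
        rw [hi', hZc]; exact (Nat.pow_le_pow_right hp.out.pos (show i ≤ 1 by omega)).trans_eq (pow_one p))
      rw [e]; exact hw
    have h2 : i ≠ 3 := fun e => hFtop (Subgroup.eq_top_of_card_eq _ (by rw [hi', e, hc]))
    rw [hi', show i = 2 by omega]
  -- an element of order `p` outside
  obtain ⟨x₀, hx₀p, hx₀F⟩ : ∃ x₀ : E, x₀ ^ p = 1 ∧ x₀ ∉ Fx := by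
    by_contra hcon
    push Not at hcon
    let K : Subgroup E :=
      { carrier := {u | u ^ p = 1}
        one_mem' := one_pow p
        mul_mem' := fun {a b} ha hb => by
          show (a * b) ^ p = 1
          rw [hsm.mul_pow hp2, ha, hb, mul_one]
        inv_mem' := fun {a} ha => by
          show a⁻¹ ^ p = 1
          rw [inv_pow, ha, inv_one] }
    have hKF : K ≤ Fx := fun u hu => hcon u hu
    let f : E →* E := MonoidHom.mk' (fun u => u ^ p) (hsm.mul_pow hp2)
    have hKc : p ^ 2 ≤ Nat.card K := by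
      have h1 := Subgroup.card_mul_index f.ker
      rw [hc, Subgroup.index_ker] at h1
      have h2 : Nat.card f.range ≤ p := by
        rw [← hzo, ← Nat.card_zpowers]
        exact Subgroup.card_le_of_le (by rintro _ ⟨u, rfl⟩; exact hsm.pow u)
      have h3 : f.ker = K := Subgroup.ext fun u => Iff.rfl
      rw [h3] at h1
      have h4 : p ^ 2 * p ≤ Nat.card K * p := by
        rw [← pow_succ, ← h1]; exact Nat.mul_le_mul_left _ h2
      exact Nat.le_of_mul_le_mul_right h4 hp.out.pos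
    have hKe : K = Fx := Subgroup.eq_of_le_of_card_ge hKF (hFc ▸ hKc)
    have hKinv : ∀ α : MulAut E, ∀ u ∈ K, α u ∈ K := fun α u hu => by
      show (α u) ^ p = 1
      rw [← map_pow, show u ^ p = 1 from hu, map_one]
    refine hmE (mem_of_stab hS hF hE hm Z K (fun α _ => hZinv α) (fun α _ => hKinv α) hσZ
      (fun u hu => (hKe ▸ hu : u ∈ Fx)) fun u => ?_)
    -- the induced action on the quotient of order `p` is trivial
    haveI : K.Normal := ⟨fun a ha g => by
      show (g * a * g⁻¹) ^ p = 1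
      rw [conj_pow, show a ^ p = 1 from ha, mul_one, mul_inv_cancel]⟩
    have hQc : Nat.card (E ⧸ K) ≤ p := by
      have h1 := Subgroup.card_eq_card_quotient_mul_card_subgroup K
      rw [hc, hKe, hFc] at h1
      rw [hKe]
      exact Nat.le_of_mul_le_mul_right (by rw [← h1, ← pow_succ']) (pow_pos hp.out.pos 2)
    have hmapK : K.map σ.toMonoidHom = K := by
      refine le_antisymm (Subgroup.map_le_iff_le_comap.2 fun u hu => hKinv σ u hu) fun u hu => ?_
      exact ⟨σ⁻¹ u, hKinv σ⁻¹ u hu, σ.apply_symm_apply u⟩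
    let ρ : MulAut (E ⧸ K) := QuotientGroup.congr K K σ hmapK
    have hρ : ∀ u : E, ρ (u : E ⧸ K) = ((σ u : E) : E ⧸ K) := fun u => rfl
    have hj : ∀ r : ℕ, ∀ u : E, (ρ ^ r) (u : E ⧸ K) = (((σ ^ r) u : E) : E ⧸ K) := by
      intro r
      induction r with
      | zero => intro u; rfl
      | succ r ih => intro u; rw [pow_succ, pow_succ, MulAut.mul_apply, MulAut.mul_apply, hρ, ih]
    have hρp : ρ ^ p ^ k = 1 := MulEquiv.ext fun q => by
      obtain ⟨v, rfl⟩ := QuotientGroup.mk_surjective q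
      rw [hj, hσp]; rfl
    exact QuotientGroup.eq.1 ((MetacyclicClosed.eq_one_of_card_le hQc hρp (u : E ⧸ K)).symm.trans (hρ u))
  refine ⟨x₀, hES x₀.2, congrArg Subtype.val hx₀p, ?_⟩
  -- its centralizer
  set A : Subgroup E := Subgroup.centralizer ({x₀} : Set E) with hA
  have hx₀Z : x₀ ∉ Z := fun e => hx₀F (hZF e)
  have hAc : Nat.card A = p ^ 2 := by
    obtain ⟨i, hi, hi'⟩ := (Nat.dvd_prime_pow hp.out).1 (hc ▸ Subgroup.card_subgroup_dvd_card A)
    have hZA : Z < A := lt_of_le_of_ne (fun u hu =>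
      Subgroup.mem_centralizer_singleton_iff.2 (Subgroup.mem_center_iff.1 hu x₀).symm) fun e => hx₀Z (by
        rw [e]; exact Subgroup.mem_centralizer_singleton_iff.2 rfl)
    have h1 : 1 < i := by
      by_contra hle
      exact hZA.ne (Subgroup.eq_of_le_of_card_ge hZA.le (by
        rw [hi', hZc]; exact (Nat.pow_le_pow_right hp.out.pos (show i ≤ 1 by omega)).trans_eq (pow_one p)))
    have h2 : i ≠ 3 := fun e => hx₀Z (Subgroup.mem_center_iff.2 fun u => by
      have : A = ⊤ := Subgroup.eq_top_of_card_eq _ (by rw [hi', e, hc])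
      exact Subgroup.mem_centralizer_singleton_iff.1 (show u ∈ A by rw [this]; trivial))
    rw [hi', show i = 2 by omega]
  set B := A.map E.subtype with hB
  set C := centralizerIn S (Subgroup.zpowers (x₀ : Ω)) with hC
  have hBE : B ≤ E := Subgroup.map_subtype_le _
  have hBC : B ≤ C := by
    rintro _ ⟨u, hu, rfl⟩
    refine mem_centralizerIn.2 ⟨hES u.2, fun v hv => ?_⟩
    obtain ⟨i, rfl⟩ := Subgroup.mem_zpowers_iff.1 hv
    exact ((show Commute (x₀ : Ω) (u : Ω) from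
      congrArg Subtype.val (Subgroup.mem_centralizer_singleton_iff.1 hu).symm).zpow_left i).eq
  suffices hCB : C = B by rw [hCB, hB, Subgroup.card_map_of_injective E.subtype_injective, hAc]
  by_contra hne
  -- elements of `E` centralizing `x₀`
  have hCE : ∀ g ∈ C, g ∈ E → g ∈ B := fun g hg hgE => ⟨⟨g, hgE⟩,
    Subgroup.mem_centralizer_singleton_iff.2 (Subtype.ext
      ((mem_centralizerIn.1 hg).2 _ (Subgroup.mem_zpowers _)).symm), rfl⟩
  -- nothing outside `E` normalizing it centralizes `x₀`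
  have hout : ∀ g, g ∈ normalizerIn S E → g ∈ C → g ∈ E := by
    intro g hg hgC
    have hxg : x₀ ∈ Fix (conjAut hg.2) := by
      show x₀⁻¹ * conjAut hg.2 x₀ ∈ Z
      rw [show conjAut hg.2 x₀ = x₀ from Subtype.ext (by
        rw [conjAut_coe, ← (mem_centralizerIn.1 hgC).2 _ (Subgroup.mem_zpowers _), mul_inv_cancel_right]),
        inv_mul_cancel]
      exact one_mem _
    refine hFix g hg ?_
    set M := Fix (conjAut hg.2) ⊓ Fx with hM
    obtain ⟨i, -, hi'⟩ := (Nat.dvd_prime_pow hp.out).1 (hc ▸ Subgroup.card_subgroup_dvd_card M)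
    have hMF : M = Fx := by
      refine Subgroup.eq_of_le_of_card_ge inf_le_right ?_
      rw [hFc, hi']
      refine Nat.pow_le_pow_right hp.out.pos ?_
      by_contra hle
      refine hwZ ?_
      have e : Z = M := Subgroup.eq_of_le_of_card_ge (le_inf (hZFix g hg) hZF) (by
        rw [hi', hZc]; exact (Nat.pow_le_pow_right hp.out.pos (show i ≤ 1 by omega)).trans_eq (pow_one p))
      rw [e]; exact ⟨hw' g hg, hw⟩
    have hlt : Fx < Fix (conjAut hg.2) :=
      lt_of_le_of_ne (hMF.ge.trans inf_le_left) fun e => hx₀F (e ▸ hxg)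
    obtain ⟨j, hj, hj'⟩ := (Nat.dvd_prime_pow hp.out).1
      (hc ▸ Subgroup.card_subgroup_dvd_card (Fix (conjAut hg.2)))
    refine Subgroup.eq_top_of_card_eq _ ?_
    rw [hj', hc, show j = 3 from ?_]
    by_contra hj3
    refine hlt.ne (Subgroup.eq_of_le_of_card_ge hlt.le ?_)
    rw [hj', hFc]
    exact Nat.pow_le_pow_right hp.out.pos (by omega)
  -- hence the centralizer lies in `E`
  have hZel : ∀ u : Ω, u ∈ E → ∀ c ∈ C, Commute (u * (x₀ : Ω) * u⁻¹) c := by
    intro u hu c hc'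
    have hx : (x₀ : Ω) * c = c * x₀ := (mem_centralizerIn.1 hc').2 _ (Subgroup.mem_zpowers _)
    have h1 : u * (x₀ : Ω) * u⁻¹ = ((⁅(⟨u, hu⟩ : E), x₀⁆ : E) : Ω) * x₀ := by
      rw [commutatorElement_def]; simp [mul_assoc]
    rw [h1]
    exact (hZS _ (hqcomm _ _) c hc'.1).mul_left hx
  have hEC : E ≤ Subgroup.normalizer (C : Set Ω) := by
    have key : ∀ e ∈ E, ∀ c ∈ C, e * c * e⁻¹ ∈ C := fun e he c hc' => by
      refine mem_centralizerIn.2 ⟨mul_mem (mul_mem (hES he) hc'.1) (inv_mem (hES he)), fun v hv => ?_⟩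
      obtain ⟨i, rfl⟩ := Subgroup.mem_zpowers_iff.1 hv
      have h1 := ((hZel e⁻¹ (inv_mem he) c hc').map (MulAut.conj e).toMonoidHom)
      simp [mul_assoc] at h1
      exact (show Commute (x₀ : Ω) (e * c * e⁻¹) by simpa [mul_assoc] using h1).zpow_left i |>.eq
    intro e he
    rw [Subgroup.mem_normalizer_iff]
    intro c
    refine ⟨key e he c, fun h => ?_⟩
    have := key e⁻¹ (inv_mem he) _ h
    simpa [mul_assoc] using this
  have hCE' : C ≤ E := le_of_normalizer_le hS hES (fun c hc' => hc'.1) hEC fun g hg =>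
    hout g ⟨hg.1.1, hg.2⟩ hg.1
  exact hne (le_antisymm (fun g hg => hCE g hg (hCE' hg)) hBC)

/-- A pearl puts `S` in the small centralizer setting. -/
theorem exists_setting (hS : IsPGroup p S) (hF : F.IsSaturated p) (hp2 : p ≠ 2) {E : Subgroup Ω}
    (hE : F.IsEssential p E)
    (hpearl : (Nat.card E = p ^ 2 ∧ ∀ x ∈ E, x ^ p = 1 ∧ IsMulCommutative ↥E) ∨
      (Nat.card E = p ^ 3 ∧ ¬ IsMulCommutative ↥E)) :
    ∃ n, ∃ x : S, SmallCentralizer.Setting p S n x := by
  classical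
  have hlt := E_lt hS hF hE
  have hlt' : Nat.card E < Nat.card S := by
    by_contra hle
    exact hlt.ne (Subgroup.eq_of_le_of_card_ge hlt.le (not_lt.1 hle))
  obtain ⟨x, hxS, hxp, hxc, hS3⟩ : ∃ x ∈ S, x ^ p = 1 ∧
      Nat.card (centralizerIn S (Subgroup.zpowers x)) = p ^ 2 ∧ p ^ 2 < Nat.card S := by
    rcases hpearl with ⟨hc, h⟩ | ⟨hc, hnab⟩
    · obtain ⟨x, hxS, hxp, hxc⟩ := exists_small_of_abelian hS hF hE hc
        (fun a ha b hb => congrArg Subtype.val ((h a ha).2.is_comm.comm ⟨a, ha⟩ ⟨b, hb⟩))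
        (fun a ha => (h a ha).1)
      exact ⟨x, hxS, hxp, hxc, hc ▸ hlt'⟩
    · obtain ⟨x, hxS, hxp, hxc⟩ := exists_small_of_nonabelian hS hF hp2 hE hc hnab
      exact ⟨x, hxS, hxp, hxc, lt_trans (Nat.pow_lt_pow_right hp.out.one_lt (by norm_num)) (hc ▸ hlt')⟩
  obtain ⟨N, hN⟩ := IsPGroup.iff_card.1 hS
  refine ⟨N, ⟨x, hxS⟩, hN, ?_, Subtype.ext hxp, ?_⟩
  · rw [hN] at hS3
    exact (Nat.pow_lt_pow_iff_right hp.out.one_lt).1 hS3
  rw [← hxc, ← Subgroup.card_map_of_injective S.subtype_injective]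
  congr 3
  ext g
  constructor
  · rintro ⟨u, hu, rfl⟩
    refine ⟨u.2, Subgroup.mem_centralizer_iff.2 fun v hv => ?_⟩
    obtain ⟨i, rfl⟩ := Subgroup.mem_zpowers_iff.1 hv
    exact ((show Commute x (u : Ω) from
      congrArg Subtype.val (Subgroup.mem_centralizer_singleton_iff.1 hu).symm).zpow_left i).eq
  · rintro ⟨hgS, hg⟩
    exact ⟨⟨g, hgS⟩, Subgroup.mem_centralizer_singleton_iff.2 (Subtype.ext
      (Subgroup.mem_centralizer_iff.1 hg x (Subgroup.mem_zpowers x)).symm), rfl⟩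

end Cfsg.Agent.Lib.PLocal.Pearl
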