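import Cfsg.Agent.Lib.PLocal.SmallCentralizer
import Cfsg.Agent.Lib.Solvable.Nilpotent

/-!
`3`-groups with an element of order `3` whose centralizer has order `9`: all subgroups are generated by two
elements, or the group has order `81` and embeds in the symmetric group of degree `9`.
-/

set_option autoImplicit false
set_option linter.unusedSectionVars false
set_option linter.style.haveILetI false

namespace Cfsg.Agent.Lib.PLocal.PearlThree

open SmallCentralizer
open scoped commutatorElement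

universe u

variable {G : Type u} [Group G] [Finite G] {n : ℕ} {x : G}

theorem comm_mem (v : G) {j : ℕ} {t : G} (ht : t ∈ L G j) : ⁅v, t⁆ ∈ L G (j + 1) := by
  rw [L, Subgroup.lowerCentralSeries_succ, Subgroup.commutator_comm]
  exact Subgroup.commutator_mem_commutator trivial ht

theorem comm_mem_one (a b : G) : ⁅a, b⁆ ∈ L G 1 := comm_mem a (show b ∈ L G 0 from trivial)

theorem level (h : Setting 3 G n x) {j : ℕ} (hj : j + 1 ≤ n - 1) : ∃ y ∈ L G j, y ∉ L G (j + 1) :=
  SetLike.exists_of_lt (h.step (by omega))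

theorem step_gen (h : Setting 3 G n x) {j : ℕ} (hj : 1 ≤ j) {t : G} (ht : t ∈ L G j) (ht' : t ∉ L G (j + 1)) :
    L G (j + 1) ⊔ Subgroup.zpowers t = L G j := by
  have hle : L G (j + 1) ⊔ Subgroup.zpowers t ≤ L G j :=
    sup_le (anti (Nat.le_succ j)) (Subgroup.zpowers_le.2 ht)
  refine Subgroup.eq_of_le_of_card_ge hle ?_
  obtain ⟨i, hi, hi'⟩ := (Nat.dvd_prime_pow Nat.prime_three).1 (h.card ▸
    Subgroup.card_subgroup_dvd_card (L G (j + 1) ⊔ Subgroup.zpowers t))
  rw [hi', h.card_L j hj]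
  refine Nat.pow_le_pow_right (by norm_num) ?_
  by_contra hc
  refine ht' ?_
  have e : L G (j + 1) = L G (j + 1) ⊔ Subgroup.zpowers t := by
    refine Subgroup.eq_of_le_of_card_ge le_sup_left ?_
    rw [hi', h.card_L (j + 1) (by omega)]
    exact Nat.pow_le_pow_right (by norm_num) (by omega)
  rw [e]; exact Subgroup.mem_sup_right (Subgroup.mem_zpowers t)

theorem decomp (h : Setting 3 G n x) {j : ℕ} (hj : 1 ≤ j) {t : G} (ht : t ∈ L G j) (ht' : t ∉ L G (j + 1))
    {g : G} (hg : g ∈ L G j) : ∃ u ∈ L G (j + 1), ∃ i : ℤ, g = u * t ^ i := by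
  rw [← step_gen h hj ht ht'] at hg
  obtain ⟨u, hu, v, hv, rfl⟩ := Subgroup.mem_sup_of_normal_left.1 hg
  obtain ⟨i, rfl⟩ := Subgroup.mem_zpowers_iff.1 hv
  exact ⟨u, hu, i, rfl⟩

/-- a subgroup meeting every occupied level contains everything -/
theorem mem_of_witness (h : Setting 3 G n x) {H T : Subgroup G} (hTH : T ≤ H)
    (hw : ∀ j, 1 ≤ j → ∀ g ∈ H, g ∈ L G j → g ∉ L G (j + 1) → ∃ t ∈ T, t ∈ L G j ∧ t ∉ L G (j + 1)) :
    ∀ g ∈ H, g ∈ L G 1 → g ∈ T := by
  suffices ∀ r j, n - 1 - j ≤ r → 1 ≤ j → ∀ g ∈ H, g ∈ L G j → g ∈ T from this n 1 (by omega) le_rfl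
  intro r
  induction r with
  | zero =>
    intro j hr hj g _ hg
    rw [h.eq_bot (by omega), Subgroup.mem_bot] at hg
    exact hg ▸ one_mem T
  | succ r ih =>
    intro j hr hj g hgH hg
    by_cases hg' : g ∈ L G (j + 1)
    · exact ih (j + 1) (by omega) (by omega) g hgH hg'
    obtain ⟨t, htT, ht, ht'⟩ := hw j hj g hgH hg hg'
    obtain ⟨u, hu, i, rfl⟩ := decomp h hj ht ht' hg
    refine mul_mem (ih (j + 1) (by omega) (by omega) u ?_ hu) (zpow_mem htT i)
    simpa using mul_mem hgH (inv_mem (zpow_mem (hTH htT) i))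

theorem cube_eq (a : G) : (a * x) ^ 3 = a * (x * a * x⁻¹) * (x ^ 2 * a * (x ^ 2)⁻¹) * x ^ 3 := by
  simp only [pow_succ, pow_zero, one_mul, mul_assoc, inv_mul_cancel_left, mul_inv_rev]

theorem trace (h : Setting 3 G n x) {y : G} (hy : y ∈ L G 1) :
    y * (x * y * x⁻¹) * (x ^ 2 * y * (x ^ 2)⁻¹) = 1 := by
  have h1 := h.pow_eq_one hy
  rwa [cube_eq, h.pow, mul_one] at h1

theorem commute_conj (h : Setting 3 G n x) {y : G} (hy : y ∈ L G 1) : Commute y (x * y * x⁻¹) := by
  have h1 := trace h hy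
  have h2 := trace h (inv_mem hy)
  rw [show x * y⁻¹ * x⁻¹ = (x * y * x⁻¹)⁻¹ by group,
    show x ^ 2 * y⁻¹ * (x ^ 2)⁻¹ = (x ^ 2 * y * (x ^ 2)⁻¹)⁻¹ by group] at h2
  set a := x * y * x⁻¹
  set b := x ^ 2 * y * (x ^ 2)⁻¹
  have hb1 : b = (y * a)⁻¹ := eq_inv_of_mul_eq_one_right h1
  have hb2 : b⁻¹ = (y⁻¹ * a⁻¹)⁻¹ := eq_inv_of_mul_eq_one_right h2
  rw [hb1, inv_inv, mul_inv_rev, inv_inv, inv_inv] at hb2
  exact hb2

theorem comm_one (h : Setting 3 G n x) {a b : G} (ha : a ∈ L G 1) (hb : b ∈ L G 1) : Commute a b := by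
  obtain ⟨y, hy, hy'⟩ := level h (j := 1) (by have := h.three_le; omega)
  have hc := commute_conj h hy
  set A := Subgroup.closure ({y, x * y * x⁻¹} : Set G) with hA
  have hAc : A ≤ Subgroup.centralizer (A : Set G) := by
    rw [hA, Subgroup.centralizer_closure, Subgroup.closure_le]
    intro g hg
    rw [SetLike.mem_coe, Subgroup.mem_centralizer_iff]
    intro g' hg'
    rcases hg with rfl | rfl <;> rcases hg' with rfl | rfl
    · rfl
    · exact hc.eq.symm
    · exact hc.eq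
    · rfl
  suffices hL : ∀ g ∈ L G 1, g ∈ A from (Subgroup.mem_centralizer_iff.1 (hAc (hL b hb)) a (hL a ha))
  intro g hg
  have hyA : y ∈ A := Subgroup.subset_closure (by simp)
  have hy'A : x * y * x⁻¹ ∈ A := Subgroup.subset_closure (by simp)
  have hA1 : A ≤ L G 1 := by
    rw [hA, Subgroup.closure_le]
    rintro g (rfl | rfl)
    · exact hy
    · exact Subgroup.Normal.conj_mem inferInstance y hy x
  refine mem_of_witness h (H := L G 1) hA1 (fun j hj g' hgH hg hg' => ?_) g hg hg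
  have hjn : j + 1 ≤ n - 1 := by
    by_contra hc
    exact hg' (by rw [h.eq_bot (by omega)] at hg; rw [Subgroup.mem_bot.1 hg]; exact one_mem _)
  clear hg' hgH hg g'
  induction j using Nat.strongRecOn with
  | ind j ih =>
    rcases (show j = 1 ∨ j = 2 ∨ 3 ≤ j by omega) with rfl | rfl | hj3
    · exact ⟨y, hyA, hy, hy'⟩
    · refine ⟨cseq x y 1, ?_, cseq_mem hy 1, h.cseq_not_mem le_rfl hy hy' 1 hjn⟩
      show ⁅y⁻¹, x⁻¹⁆ ∈ A
      have hx2 : x⁻¹ = x ^ 2 := inv_eq_of_mul_eq_one_right (by rw [← pow_succ', h.pow])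
      have e : x⁻¹ * y * x = x ^ 2 * y * (x ^ 2)⁻¹ := by
        calc x⁻¹ * y * x = x⁻¹ * y * (x⁻¹)⁻¹ := by rw [inv_inv]
          _ = _ := by rw [hx2]
      rw [commutatorElement_def, inv_inv, inv_inv, show y⁻¹ * x⁻¹ * y * x = y⁻¹ * (x⁻¹ * y * x) by group, e,
        show x ^ 2 * y * (x ^ 2)⁻¹ = (y * (x * y * x⁻¹))⁻¹ from eq_inv_of_mul_eq_one_right (trace h hy)]
      exact mul_mem (inv_mem hyA) (inv_mem (mul_mem hyA hy'A))
    · obtain ⟨t, htA, ht, ht'⟩ := ih (j - 2) (by omega) (by omega) (by omega)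
      obtain ⟨h1, h2⟩ := h.pow_not_mem (j := j - 2) (by omega) (by omega) ht ht'
      rw [show j - 2 + (3 - 1) = j by omega] at h1 h2
      exact ⟨t ^ 3, pow_mem htA 3, h1, h2⟩

theorem comm_mul_right' (h : Setting 3 G n x) (v : G) {a b : G} (ha : a ∈ L G 1) :
    ⁅v, a * b⁆ = ⁅v, a⁆ * ⁅v, b⁆ := by
  have hc : Commute a ⁅v, b⁆ := comm_one h ha (comm_mem_one v b)
  have e : ⁅v, a * b⁆ = ⁅v, a⁆ * (a * ⁅v, b⁆ * a⁻¹) := by simp only [commutatorElement_def]; group
  rw [e, hc.eq, mul_inv_cancel_right]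

theorem comm_zpow (h : Setting 3 G n x) (v : G) {a : G} (ha : a ∈ L G 1) (i : ℤ) :
    ⁅v, a ^ i⁆ = ⁅v, a⁆ ^ i := by
  have hc : Commute ⁅v, a⁆ a := comm_one h (comm_mem_one v a) ha
  rw [commutatorElement_def v (a ^ i), ← conj_zpow, show v * a * v⁻¹ = ⁅v, a⁆ * a by
    rw [commutatorElement_def, inv_mul_cancel_right], hc.mul_zpow, mul_inv_cancel_right]

theorem comm_cseq (h : Setting 3 G n x) (v : G) {y : G} (hy : y ∈ L G 1) :
    ∀ k, ⁅v, cseq x y k⁆ = cseq x ⁅v, y⁆ k
  | 0 => rfl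
  | k + 1 => by
    set u := cseq x y k with hu
    have huL : u ∈ L G 1 := anti (by omega) (cseq_mem (x := x) hy k)
    show ⁅v, ⁅u⁻¹, x⁻¹⁆⁆ = ⁅(cseq x ⁅v, y⁆ k)⁻¹, x⁻¹⁆
    rw [← comm_cseq h v hy k, ← hu]
    have e1 : ∀ w : G, ⁅w⁻¹, x⁻¹⁆ = w⁻¹ * (x⁻¹ * w * x) := fun w => by
      simp only [commutatorElement_def]; group
    have hcx : x⁻¹ * u * x ∈ L G 1 := Subgroup.Normal.conj_mem' inferInstance u huL x
    have e2 : ⁅v, x⁻¹ * u * x⁆ = x⁻¹ * ⁅v, u⁆ * x := by
      have hc1 : Commute ⁅x, v⁆ (v * u * v⁻¹) :=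
        comm_one h (comm_mem_one x v) (Subgroup.Normal.conj_mem inferInstance u huL v)
      have e3 : ⁅v, x⁻¹ * u * x⁆ =
          x⁻¹ * (⁅x, v⁆ * (v * u * v⁻¹) * ⁅x, v⁆⁻¹ * u⁻¹) * x := by
        simp only [commutatorElement_def]; group
      rw [e3, hc1.eq, mul_inv_cancel_right, commutatorElement_def v u]
    have e4 : ⁅v, u⁻¹⁆ = ⁅v, u⁆⁻¹ := by
      have := comm_zpow h v huL (-1); simpa using this
    rw [e1, e1, comm_mul_right' h v (inv_mem huL), e2, e4]

theorem shift_two (h : Setting 3 G n x) (v : G) {y : G} (hy : y ∈ L G 1) (hy' : y ∉ L G 2)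
    (hv : ⁅v, y⁆ ∈ L G 3) : ∀ r j, n - 1 - j ≤ r → 1 ≤ j → ∀ t ∈ L G j, ⁅v, t⁆ ∈ L G (j + 2) := by
  intro r
  induction r with
  | zero =>
    intro j hr hj t ht
    rw [h.eq_bot (by omega), Subgroup.mem_bot] at ht
    rw [ht, commutatorElement_one_right]; exact one_mem _
  | succ r ih =>
    intro j hr hj t ht
    rcases le_or_gt (n - 1) j with hjn | hjn
    · rw [h.eq_bot hjn, Subgroup.mem_bot] at ht
      rw [ht, commutatorElement_one_right]; exact one_mem _
    have hw := cseq_mem (x := x) hy (j - 1)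
    have hw' := h.cseq_not_mem le_rfl hy hy' (j - 1) (by omega)
    rw [show 1 + (j - 1) = j by omega] at hw hw'
    obtain ⟨u, hu, i, rfl⟩ := decomp h hj hw hw' ht
    rw [comm_mul_right' h v (anti (by omega) hu), comm_zpow h v (anti hj hw), comm_cseq h v hy]
    refine mul_mem (anti (by omega) (ih (j + 1) (by omega) (by omega) u hu)) (zpow_mem ?_ i)
    exact anti (by omega) (cseq_mem (x := x) hv (j - 1))

theorem shift_one (h : Setting 3 G n x) (v : G) {y : G} (hy : y ∈ L G 1)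
    (hv : ⁅v, y⁆ ∉ L G 3) {j : ℕ} (hj : 1 ≤ j) (hjn : j + 2 ≤ n - 1) {t : G} (ht : t ∈ L G j)
    (ht' : t ∉ L G (j + 1)) : ⁅v, t⁆ ∉ L G (j + 2) := by
  intro hc
  have hw := cseq_mem (x := x) hy (j - 1)
  rw [show 1 + (j - 1) = j by omega] at hw
  obtain ⟨u, hu, i, hui⟩ := decomp h hj ht ht' hw
  have h1 : ⁅v, cseq x y (j - 1)⁆ ∈ L G (j + 2) := by
    rw [hui, comm_mul_right' h v (anti (by omega) hu), comm_zpow h v (anti hj ht)]
    exact mul_mem (comm_mem v hu) (zpow_mem hc i)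
  rw [comm_cseq h v hy] at h1
  refine h.cseq_not_mem (j := 2) (by omega) (comm_mem v hy) hv (j - 1) (by omega) ?_
  rwa [show 2 + (j - 1) + 1 = j + 2 by omega]

theorem cube_one (h : Setting 3 G n x) (g : G) : g ^ 3 ∈ L G 1 := by
  have := h.isPGroup.isNilpotent
  rw [← QuotientGroup.eq_one_iff, QuotientGroup.mk_pow]
  have hq : Nat.card (G ⧸ L G 1) = 3 ^ 2 := by
    have h1 := Subgroup.card_eq_card_quotient_mul_card_subgroup (L G 1)
    rw [h.card, h.card_L 1 le_rfl, show n = 2 + (n - 1 - 1) by have := h.three_le; omega, pow_add,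
      show 2 + (n - 1 - 1) - 1 - 1 = n - 1 - 1 by omega] at h1
    exact (Nat.eq_of_mul_eq_mul_right (pow_pos (by norm_num) _) h1).symm
  by_contra hne
  obtain ⟨i, hi, hi'⟩ := (Nat.dvd_prime_pow Nat.prime_three).1 (hq ▸ orderOf_dvd_natCard (g : G ⧸ L G 1))
  have hi2 : i = 2 := by
    by_contra hne2
    refine hne (orderOf_dvd_iff_pow_eq_one.1 ?_)
    rw [hi']
    exact (pow_dvd_pow 3 (show i ≤ 1 by omega)).trans (by rw [pow_one])
  have hz : Subgroup.zpowers (g : G ⧸ L G 1) = ⊤ :=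
    Subgroup.eq_top_of_card_eq _ (by rw [Nat.card_zpowers, hi', hi2, hq])
  have htop : Subgroup.zpowers g = ⊤ := by
    refine frattini_nongenerating (eq_top_iff.2 fun u _ => ?_)
    obtain ⟨k, hk⟩ := Subgroup.mem_zpowers_iff.1 (hz ▸ Subgroup.mem_top (u : G ⧸ L G 1))
    rw [← QuotientGroup.mk_zpow] at hk
    rw [show u = g ^ k * ((g ^ k)⁻¹ * u) by group]
    refine mul_mem (Subgroup.mem_sup_left (zpow_mem (Subgroup.mem_zpowers g) k)) (Subgroup.mem_sup_right ?_)
    have hf : L G 1 ≤ frattini G := by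
      rw [L, Subgroup.top_lowerCentralSeries_one]; exact Cores.commutator_le_frattini
    exact hf (QuotientGroup.eq.1 hk)
  have h2 := h.cent
  rw [show Subgroup.centralizer ({x} : Set G) = ⊤ from eq_top_iff.2 fun u _ => ?_, Subgroup.card_top, h.card] at h2
  · have := Nat.pow_right_injective (le_refl 2 |>.trans (by norm_num : 2 ≤ 3)) h2
    have := h.three_le
    omega
  · obtain ⟨a, rfl⟩ := Subgroup.mem_zpowers_iff.1 (htop ▸ Subgroup.mem_top u : u ∈ Subgroup.zpowers g)
    obtain ⟨b, hb⟩ := Subgroup.mem_zpowers_iff.1 (htop ▸ Subgroup.mem_top x : x ∈ Subgroup.zpowers g)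
    rw [Subgroup.mem_centralizer_singleton_iff, ← hb, ← zpow_add, ← zpow_add, add_comm]

/-- In order at least `243`, the cube of an element acting two steps down lies exactly in the second term. -/
theorem cube_level (h : Setting 3 G n x) (hn : 5 ≤ n) {g y : G} (hg : g ∉ L G 1) (hy : y ∈ L G 1)
    (hy' : y ∉ L G 2) (hv : ⁅g, y⁆ ∈ L G 3) : g ^ 3 ∈ L G 2 ∧ g ^ 3 ∉ L G 3 := by
  have hxy : ⁅x, y⁆ ∉ L G 3 := fun hc => h.comm_not_mem le_rfl (by omega) hy hy'
    (by simpa using inv_mem hc : ⁅y, x⁆ ∈ L G 3)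
  -- `g` is not in `L₁⟨x⟩`
  have hgK : g ∉ L G 1 ⊔ Subgroup.zpowers x := by
    intro hmem
    obtain ⟨u, hu, v, hv', rfl⟩ := Subgroup.mem_sup_of_normal_left.1 hmem
    obtain ⟨i, rfl⟩ := Subgroup.mem_zpowers_iff.1 hv'
    obtain ⟨k, hk, hk'⟩ : ∃ k : ℕ, k < 3 ∧ x ^ i = x ^ k := by
      refine ⟨(i % 3).toNat, by omega, ?_⟩
      rw [← zpow_natCast x, Int.toNat_of_nonneg (by omega), ← Int.emod_add_mul_ediv i 3, zpow_add, zpow_mul]
      simp [show x ^ (3 : ℤ) = 1 by exact_mod_cast h.pow]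
    rw [hk'] at hv hg hmem
    have e : ⁅u * x ^ k, y⁆ = u * ⁅x ^ k, y⁆ * u⁻¹ * ⁅u, y⁆ := by simp only [commutatorElement_def]; group
    rw [e, commutatorElement_eq_one_iff_mul_comm.2 (comm_one h hu hy).eq, mul_one,
      (inferInstance : (L G 3).Normal).mem_comm_iff, inv_mul_cancel_left] at hv
    rcases (show k = 0 ∨ k = 1 ∨ k = 2 by omega) with rfl | rfl | rfl
    · exact hg (by simpa using hu)
    · exact hxy (by simpa using hv)
    · rw [show x ^ 2 = x⁻¹ from (inv_eq_of_mul_eq_one_right (by rw [← pow_succ', h.pow])).symm,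
        show ⁅x⁻¹, y⁆ = x⁻¹ * ⁅x, y⁆⁻¹ * x by simp only [commutatorElement_def]; group] at hv
      refine hxy ?_
      have := Subgroup.Normal.conj_mem inferInstance _ hv x
      simpa [mul_assoc] using inv_mem this
  set d := ⁅g⁻¹, x⁆ with hd
  have hd1 : d ∈ L G 1 := comm_mem_one _ _
  -- `g` and `x` do not commute modulo `L₂`
  have hd2 : d ∉ L G 2 := by
    intro hd2
    set q := QuotientGroup.mk' (L G 2)
    set K := (Subgroup.centralizer ({q x} : Set (G ⧸ L G 2))).comap q with hK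
    have hmem : ∀ u, ⁅u, x⁆ ∈ L G 2 → u ∈ K := fun u hu => by
      show q u ∈ Subgroup.centralizer ({q x} : Set (G ⧸ L G 2))
      rw [Subgroup.mem_centralizer_singleton_iff, ← commutatorElement_eq_one_iff_mul_comm, ← map_commutatorElement]
      exact (QuotientGroup.eq_one_iff _).2 hu
    have hB : L G 1 ⊔ Subgroup.zpowers x ≤ K := sup_le (fun u hu => hmem u (by
      simpa using inv_mem (comm_mem x hu))) (Subgroup.zpowers_le.2 (hmem x (by rw [commutatorElement_self]; exact one_mem _)))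
    have hgK' : g ∈ K := by simpa using inv_mem (hmem g⁻¹ hd2)
    have htop : K = ⊤ := by
      refine Subgroup.eq_top_of_card_eq _ ?_
      obtain ⟨i, hi, hi'⟩ := (Nat.dvd_prime_pow Nat.prime_three).1 (h.card ▸ Subgroup.card_subgroup_dvd_card K)
      obtain ⟨b, hb, hb'⟩ := (Nat.dvd_prime_pow Nat.prime_three).1 (h.card ▸
        Subgroup.card_subgroup_dvd_card (L G 1 ⊔ Subgroup.zpowers x))
      have h1 : n - 2 < b := by
        by_contra hc
        refine h.not_mem_one ?_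
        have e : L G 1 = L G 1 ⊔ Subgroup.zpowers x := Subgroup.eq_of_le_of_card_ge le_sup_left (by
          rw [hb', h.card_L 1 le_rfl]; exact Nat.pow_le_pow_right (by norm_num) (by omega))
        rw [e]; exact Subgroup.mem_sup_right (Subgroup.mem_zpowers x)
      have h2 : b < i := by
        by_contra hc
        refine hgK ?_
        rw [Subgroup.eq_of_le_of_card_ge hB (by
          rw [hb', hi']; exact Nat.pow_le_pow_right (by norm_num) (by omega))]
        exact hgK'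
      rw [hi', h.card, show i = n by omega]
    obtain ⟨u, hu⟩ := h.exists_conj hy
    refine hy' ?_
    have h1 : q u ∈ Subgroup.centralizer ({q x} : Set (G ⧸ L G 2)) := (htop ▸ Subgroup.mem_top u : u ∈ K)
    rw [Subgroup.mem_centralizer_singleton_iff, ← commutatorElement_eq_one_iff_mul_comm, ← map_commutatorElement,
      hu] at h1
    exact (QuotientGroup.eq_one_iff _).1 h1
  -- the cube of `g x` lies deep
  set c := (g * x) ^ 3 with hc
  have hc1 : c ∈ L G 1 := cube_one h _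
  have hgx : ⁅g * x, y⁆ ∉ L G 3 := by
    intro hc'
    refine hxy ?_
    rw [show ⁅g * x, y⁆ = g * ⁅x, y⁆ * g⁻¹ * ⁅g, y⁆ by simp only [commutatorElement_def]; group,
      Subgroup.mul_mem_cancel_right _ hv, (inferInstance : (L G 3).Normal).mem_comm_iff, inv_mul_cancel_left] at hc'
    exact hc'
  have hdeep : ∀ j, 1 ≤ j → j + 2 ≤ n → c ∈ L G j := by
    intro j hj
    induction j, hj using Nat.le_induction with
    | base => exact fun _ => hc1
    | succ j hj ih =>
      intro hjn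
      by_contra hcn
      refine shift_one h (g * x) hy hgx hj (by omega) (ih (by omega)) hcn ?_
      rw [hc, commutatorElement_eq_one_iff_mul_comm.2 (Commute.self_pow (g * x) 3).eq]
      exact one_mem _
  have hc3 : c ∈ L G 3 := hdeep 3 (by omega) (by omega)
  -- compute modulo `L₃`
  set q := QuotientGroup.mk' (L G 3)
  have hq : ∀ u, u ∈ L G 3 ↔ q u = 1 := fun u => (QuotientGroup.eq_one_iff u).symm
  have e : c = g * (g * d) * (g * d * (x * d * x⁻¹)) := by
    rw [hc, cube_eq, h.pow, mul_one, hd]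
    simp only [commutatorElement_def, pow_two]; group
  have hgd : Commute (q g) (q d) := by
    rw [← commutatorElement_eq_one_iff_commute, ← map_commutatorElement, ← hq]
    exact shift_two h g hy hy' hv (n) 1 (by omega) le_rfl d hd1
  have hd3 : q d ^ 3 = 1 := by
    rw [← map_pow, ← hq]; exact (h.pow_mul_cseq _ 1 le_rfl le_rfl d hd1).2
  set w := d⁻¹ * (x * d * x⁻¹) with hw
  have e2 : q c = q (g ^ 3) * q w := by
    rw [e, show x * d * x⁻¹ = d * w by rw [hw, mul_inv_cancel_left]]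
    simp only [map_mul, map_pow]
    have e3 : q g * (q g * q d) * (q g * q d * (q d * q w)) = q g ^ 3 * q d ^ 3 * q w := by
      simp only [pow_succ, pow_zero, one_mul, mul_assoc]
      rw [← mul_assoc (q d) (q g), ← hgd.eq]
      simp only [mul_assoc]
    rw [e3, hd3, mul_one]
  rw [(hq c).1 hc3] at e2
  have hw2 : w ∈ L G 2 := by
    rw [hw, show d⁻¹ * (x * d * x⁻¹) = ⁅d⁻¹, x⁆ by simp only [commutatorElement_def]; group]
    simpa using inv_mem (comm_mem x (inv_mem hd1))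
  have hw3 : w ∉ L G 3 := by
    rw [hw, show d⁻¹ * (x * d * x⁻¹) = ⁅d⁻¹, x⁆ by simp only [commutatorElement_def]; group]
    exact h.comm_not_mem le_rfl (by omega) (inv_mem hd1) (fun hh => hd2 (by simpa using inv_mem hh))
  have hgw : g ^ 3 * w ∈ L G 3 := by rw [hq, map_mul]; exact e2.symm
  refine ⟨?_, fun hh => hw3 ?_⟩
  · simpa using mul_mem (anti (show 2 ≤ 3 by omega) hgw) (inv_mem hw2)
  · simpa using mul_mem (inv_mem hh) hgw

theorem coset (h : Setting 3 G n x) {H : Subgroup G} (htop : H ⊔ L G 1 ≠ ⊤) {h₀ : G} (hh₀ : h₀ ∈ H)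
    (hh₀' : h₀ ∉ L G 1) {g : G} (hg : g ∈ H) : ∃ i : ℤ, (h₀ ^ i)⁻¹ * g ∈ L G 1 := by
  set B := L G 1 ⊔ Subgroup.zpowers h₀ with hBdef
  have hBH : B ≤ H ⊔ L G 1 := sup_le le_sup_right ((Subgroup.zpowers_le.2 hh₀).trans le_sup_left)
  obtain ⟨b, hb, hb'⟩ := (Nat.dvd_prime_pow Nat.prime_three).1 (h.card ▸ Subgroup.card_subgroup_dvd_card B)
  obtain ⟨i, hi, hi'⟩ := (Nat.dvd_prime_pow Nat.prime_three).1 (h.card ▸
    Subgroup.card_subgroup_dvd_card (H ⊔ L G 1))
  have h1 : n - 2 < b := by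
    by_contra hc
    refine hh₀' ?_
    have e : L G 1 = B := Subgroup.eq_of_le_of_card_ge le_sup_left (by
      rw [hb', h.card_L 1 le_rfl]; exact Nat.pow_le_pow_right (by norm_num) (by omega))
    rw [e]; exact Subgroup.mem_sup_right (Subgroup.mem_zpowers h₀)
  have h2 : i < n := lt_of_le_of_ne hi fun e => htop (Subgroup.eq_top_of_card_eq _ (by rw [hi', e, h.card]))
  have e : B = H ⊔ L G 1 := Subgroup.eq_of_le_of_card_ge hBH (by
    rw [hb', hi']; exact Nat.pow_le_pow_right (by norm_num) (by omega))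
  have hgB : g ∈ B := e ▸ Subgroup.mem_sup_left hg
  obtain ⟨u, hu, v, hv, rfl⟩ := Subgroup.mem_sup_of_normal_left.1 hgB
  obtain ⟨i, rfl⟩ := Subgroup.mem_zpowers_iff.1 hv
  refine ⟨i, ?_⟩
  have := Subgroup.Normal.conj_mem' (inferInstance : (L G 1).Normal) u hu (h₀ ^ i)
  simpa [mul_assoc] using this

/-- order at least `243`: every subgroup has two generators -/
theorem exists_two_of_five (h : Setting 3 G n x) (hn : 5 ≤ n) (H : Subgroup G) :
    ∃ T : Finset G, T.card ≤ 2 ∧ Subgroup.closure (T : Set G) = H := by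
  classical
  by_cases htop : H ⊔ L G 1 = ⊤
  · exact h.exists_two_of_top htop
  have hocc : ∀ {j : ℕ} {g : G}, g ∈ L G j → g ∉ L G (j + 1) → j + 1 ≤ n - 1 := fun {j g} hg hg' => by
    by_contra hc
    rw [h.eq_bot (show n - 1 ≤ j by omega), Subgroup.mem_bot] at hg
    exact hg' (hg ▸ one_mem _)
  have hup : ∀ {T : Subgroup G} {j : ℕ} {t : G}, t ∈ T → 1 ≤ j → t ∈ L G j → t ∉ L G (j + 1) →
      ∀ k, j + 2 * k + 1 ≤ n - 1 → ∃ t' ∈ T, t' ∈ L G (j + 2 * k) ∧ t' ∉ L G (j + 2 * k + 1) := by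
    intro T j t htT hj ht ht' k
    induction k with
    | zero => exact fun _ => ⟨t, htT, ht, ht'⟩
    | succ k ih =>
      intro hk
      obtain ⟨s, hsT, hs, hs'⟩ := ih (by omega)
      obtain ⟨h1, h2⟩ := h.pow_not_mem (j := j + 2 * k) (by omega) (by omega) hs hs'
      rw [show j + 2 * k + (3 - 1) = j + 2 * (k + 1) by omega] at h1 h2
      exact ⟨s ^ 3, pow_mem hsT 3, h1, h2⟩
  -- the least level of `H` satisfying a condition
  have hmin : ∀ P : ℕ → Prop, ∃ w ∈ H, ∀ j, P j → 1 ≤ j → ∀ g ∈ H, g ∈ L G j → g ∉ L G (j + 1) →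
      ∃ m, P m ∧ 1 ≤ m ∧ m ≤ j ∧ w ∈ L G m ∧ w ∉ L G (m + 1) := by
    intro P
    by_cases he : ∃ m, P m ∧ 1 ≤ m ∧ ∃ g ∈ H, g ∈ L G m ∧ g ∉ L G (m + 1)
    · obtain ⟨hP, hm, w, hwH, hw, hw'⟩ := Nat.find_spec he
      exact ⟨w, hwH, fun j hPj hj g hgH hg hg' =>
        ⟨_, hP, hm, Nat.find_le ⟨hPj, hj, g, hgH, hg, hg'⟩, hw, hw'⟩⟩
    · exact ⟨1, one_mem H, fun j hPj hj g hgH hg hg' => (he ⟨j, hPj, hj, g, hgH, hg, hg'⟩).elim⟩
  by_cases hle : H ≤ L G 1
  · obtain ⟨a, haH, ha⟩ := hmin (fun j => j % 2 = 0)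
    obtain ⟨b, hbH, hb⟩ := hmin (fun j => j % 2 = 1)
    refine ⟨{a, b}, Finset.card_le_two, ?_⟩
    set T := Subgroup.closure ((({a, b} : Finset G)) : Set G) with hT
    have haT : a ∈ T := Subgroup.subset_closure (by simp)
    have hbT : b ∈ T := Subgroup.subset_closure (by simp)
    have hTH : T ≤ H := (Subgroup.closure_le _).2 (by
      intro g hg
      simp only [Finset.coe_insert, Finset.coe_singleton, Set.mem_insert_iff, Set.mem_singleton_iff] at hg
      rcases hg with rfl | rfl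
      · exact haH
      · exact hbH)
    refine le_antisymm hTH fun g hg => mem_of_witness h hTH (fun j hj g' hg'H h1 h2 => ?_) g hg (hle hg)
    rcases Nat.mod_two_eq_zero_or_one j with hpar | hpar
    · obtain ⟨m, hm2, hm, hmj, hw, hw'⟩ := ha j hpar hj g' hg'H h1 h2
      obtain ⟨k, rfl⟩ : ∃ k, j = m + 2 * k := ⟨(j - m) / 2, by omega⟩
      exact hup haT hm hw hw' k (hocc h1 h2)
    · obtain ⟨m, hm2, hm, hmj, hw, hw'⟩ := hb j hpar hj g' hg'H h1 h2
      obtain ⟨k, rfl⟩ : ∃ k, j = m + 2 * k := ⟨(j - m) / 2, by omega⟩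
      exact hup hbT hm hw hw' k (hocc h1 h2)
  obtain ⟨h₀, hh₀, hh₀'⟩ := SetLike.not_le_iff_exists.1 hle
  obtain ⟨y, hy, hy'⟩ := level h (j := 1) (by omega)
  have hfin : ∀ b ∈ H, (∀ j, 1 ≤ j → ∀ g ∈ H, g ∈ L G j → g ∉ L G (j + 1) →
      ∃ t ∈ Subgroup.closure ((({h₀, b} : Finset G)) : Set G), t ∈ L G j ∧ t ∉ L G (j + 1)) →
      ∃ T : Finset G, T.card ≤ 2 ∧ Subgroup.closure (T : Set G) = H := by
    intro b hbH hw
    refine ⟨{h₀, b}, Finset.card_le_two, ?_⟩
    set T := Subgroup.closure ((({h₀, b} : Finset G)) : Set G) with hT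
    have h0T : h₀ ∈ T := Subgroup.subset_closure (by simp)
    have hTH : T ≤ H := (Subgroup.closure_le _).2 (by
      intro g hg
      simp only [Finset.coe_insert, Finset.coe_singleton, Set.mem_insert_iff, Set.mem_singleton_iff] at hg
      rcases hg with rfl | rfl
      · exact hh₀
      · exact hbH)
    refine le_antisymm hTH fun g hg => ?_
    obtain ⟨i, hi⟩ := coset h htop hh₀ hh₀' hg
    rw [show g = h₀ ^ i * ((h₀ ^ i)⁻¹ * g) by group]
    exact mul_mem (zpow_mem h0T i)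
      (mem_of_witness h hTH hw _ (mul_mem (inv_mem (zpow_mem hh₀ i)) hg) hi)
  by_cases hv : ⁅h₀, y⁆ ∈ L G 3
  · obtain ⟨hc2, hc3⟩ := cube_level h hn hh₀' hy hy' hv
    obtain ⟨b, hbH, hb⟩ := hmin (fun j => j % 2 = 1)
    refine hfin b hbH fun j hj g hgH h1 h2 => ?_
    rcases Nat.mod_two_eq_zero_or_one j with hpar | hpar
    · obtain ⟨k, rfl⟩ : ∃ k, j = 2 + 2 * k := ⟨(j - 2) / 2, by omega⟩
      exact hup (pow_mem (Subgroup.subset_closure (by simp)) 3) (by omega) hc2 hc3 k (hocc h1 h2)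
    · obtain ⟨m, hm2, hm, hmj, hw, hw'⟩ := hb j hpar hj g hgH h1 h2
      obtain ⟨k, rfl⟩ : ∃ k, j = m + 2 * k := ⟨(j - m) / 2, by omega⟩
      exact hup (Subgroup.subset_closure (by simp)) hm hw hw' k (hocc h1 h2)
  · obtain ⟨b, hbH, hb⟩ := hmin (fun _ => True)
    refine hfin b hbH fun j hj g hgH h1 h2 => ?_
    obtain ⟨m, -, hm, hmj, hw, hw'⟩ := hb j trivial hj g hgH h1 h2
    set T := Subgroup.closure ((({h₀, b} : Finset G)) : Set G) with hT
    have main : ∀ k, m + k + 1 ≤ n - 1 → ∃ t ∈ T, t ∈ L G (m + k) ∧ t ∉ L G (m + k + 1) := by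
      intro k
      induction k with
      | zero => exact fun _ => ⟨b, Subgroup.subset_closure (by simp), hw, hw'⟩
      | succ k ih =>
        intro hk
        obtain ⟨t, htT, ht, ht'⟩ := ih (by omega)
        refine ⟨⁅h₀, t⁆, ?_, comm_mem h₀ ht, shift_one h h₀ hy hv (j := m + k) (by omega) (by omega) ht ht'⟩
        have h0T : h₀ ∈ T := Subgroup.subset_closure (by simp)
        rw [commutatorElement_def]
        exact mul_mem (mul_mem (mul_mem h0T htT) (inv_mem h0T)) (inv_mem htT)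
    obtain ⟨k, rfl⟩ : ∃ k, j = m + k := ⟨j - m, by omega⟩
    exact main k (hocc h1 h2)

/-- A group of order `p ^ 2`, or a proper subgroup of one, has two generators. -/
theorem two_of_card_le {H : Subgroup G} {k : ℕ} (hk : Nat.card H = 3 ^ k) (hk2 : k ≤ 2) :
    ∃ T : Finset G, T.card ≤ 2 ∧ Subgroup.closure (T : Set G) = H := by
  classical
  by_cases hb : H = ⊥
  · exact ⟨∅, by simp, by simp [hb]⟩
  obtain ⟨a, haH, ha⟩ := (Subgroup.ne_bot_iff_exists_ne_one.1 hb) |> fun ⟨⟨a, ha⟩, ha'⟩ =>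
    (⟨a, ha, fun e => ha' (Subtype.ext e)⟩ : ∃ a ∈ H, a ≠ 1)
  by_cases he : Subgroup.zpowers a = H
  · exact ⟨{a}, by simp, by simp [← he, Subgroup.zpowers_eq_closure]⟩
  have hlt : Subgroup.zpowers a < H := lt_of_le_of_ne (Subgroup.zpowers_le.2 haH) he
  obtain ⟨b, hbH, hb'⟩ := SetLike.exists_of_lt hlt
  refine ⟨{a, b}, Finset.card_le_two, ?_⟩
  set T := Subgroup.closure ((({a, b} : Finset G)) : Set G) with hT
  have haT : Subgroup.zpowers a ≤ T := Subgroup.zpowers_le.2 (Subgroup.subset_closure (by simp))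
  have hlt' : Subgroup.zpowers a < T :=
    lt_of_le_of_ne haT fun e => hb' (e ▸ (Subgroup.subset_closure (by simp) : b ∈ T))
  have hTH : T ≤ H := (Subgroup.closure_le _).2 (by
    intro g hg
    simp only [Finset.coe_insert, Finset.coe_singleton, Set.mem_insert_iff, Set.mem_singleton_iff] at hg
    rcases hg with rfl | rfl
    · exact haH
    · exact hbH)
  obtain ⟨i, hi, hi'⟩ := (Nat.dvd_prime_pow Nat.prime_three).1 (hk ▸ Subgroup.card_dvd_of_le hTH)
  obtain ⟨r, hr, hr'⟩ := (Nat.dvd_prime_pow Nat.prime_three).1 (hk ▸ Subgroup.card_dvd_of_le hlt.le)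
  have h1 : 1 ≤ r := by
    by_contra hc
    rw [show r = 0 by omega, pow_zero, Subgroup.card_eq_one] at hr'
    exact ha (Subgroup.mem_bot.1 (hr' ▸ Subgroup.mem_zpowers a))
  have h2 : r < i := by
    by_contra hc
    exact hlt'.ne (Subgroup.eq_of_le_of_card_ge haT (by
      rw [hi', hr']; exact Nat.pow_le_pow_right (by norm_num) (by omega)))
  exact Subgroup.eq_of_le_of_card_ge hTH (by
    rw [hi', hk]; exact Nat.pow_le_pow_right (by norm_num) (by omega))

theorem center_le (h : Setting 3 G n x) : Subgroup.center G ≤ L G (n - 2) := by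
  have hn := h.three_le
  set M := L G (n - 2) with hM
  set C := Subgroup.centralizer ({x} : Set G) with hC
  have hMc : M ≤ Subgroup.center G := fun u hu => Subgroup.mem_center_iff.2 fun g => by
    have h1 := comm_mem g hu
    rw [h.eq_bot (j := n - 2 + 1) (by omega), Subgroup.mem_bot, commutatorElement_eq_one_iff_mul_comm] at h1
    exact h1
  have hlt : M < C := lt_of_le_of_ne (fun u hu => Subgroup.mem_centralizer_singleton_iff.2
    (Subgroup.mem_center_iff.1 (hMc hu) x).symm) fun e => h.not_mem_one (anti (show 1 ≤ n - 2 by omega)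
      (show x ∈ M from e ▸ Subgroup.mem_centralizer_singleton_iff.2 rfl))
  intro u hu
  by_contra huM
  refine h.not_mem_one (anti (show 1 ≤ n - 2 by omega) ?_)
  -- otherwise the centralizer of `x` would be central
  have hMu : M ⊔ Subgroup.zpowers u ≤ C := sup_le hlt.le (Subgroup.zpowers_le.2
    (Subgroup.mem_centralizer_singleton_iff.2 (Subgroup.mem_center_iff.1 hu x).symm))
  obtain ⟨i, hi, hi'⟩ := (Nat.dvd_prime_pow Nat.prime_three).1 (h.cent ▸ Subgroup.card_dvd_of_le hMu)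
  have h2 : 2 ≤ i := by
    by_contra hc
    refine huM ?_
    have e : M = M ⊔ Subgroup.zpowers u := Subgroup.eq_of_le_of_card_ge le_sup_left (by
      rw [hi', hM, h.card_L _ (by omega), show n - 1 - (n - 2) = 1 by omega]
      exact Nat.pow_le_pow_right (by norm_num) (by omega))
    rw [hM] at e ⊢; rw [e]; exact Subgroup.mem_sup_right (Subgroup.mem_zpowers u)
  have e : M ⊔ Subgroup.zpowers u = C := Subgroup.eq_of_le_of_card_ge hMu (by
    rw [hi', show Nat.card C = 3 ^ 2 from h.cent]; exact Nat.pow_le_pow_right (by norm_num) h2)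
  have hxc : x ∈ Subgroup.center G := (sup_le hMc (Subgroup.zpowers_le.2 hu) : M ⊔ Subgroup.zpowers u ≤ _)
    (by rw [e]; exact Subgroup.mem_centralizer_singleton_iff.2 rfl)
  have htop : C = ⊤ := eq_top_iff.2 fun g _ =>
    Subgroup.mem_centralizer_singleton_iff.2 (Subgroup.mem_center_iff.1 hxc g)
  have h2' := h.cent
  rw [show Subgroup.centralizer ({x} : Set G) = ⊤ from htop, Subgroup.card_top, h.card] at h2'
  have := Nat.pow_right_injective (by norm_num : 2 ≤ 3) h2'
  omega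

/-- order `81`: two generators everywhere, or an embedding into the symmetric group of degree `9` -/
theorem four (h : Setting 3 G n x) (hn : n = 4) :
    (∀ H : Subgroup G, ∃ T : Finset G, T.card ≤ 2 ∧ Subgroup.closure (T : Set G) = H) ∨
      ∃ W : Sylow 3 (Equiv.Perm (Fin 9)), Nonempty (G ≃* (W : Subgroup (Equiv.Perm (Fin 9)))) := by
  classical
  subst hn
  by_cases hA : ∃ A : Subgroup G, Nat.card A = 3 ^ 2 ∧ A ⊓ L G 2 = ⊥
  · right
    obtain ⟨A, hAc, hAZ⟩ := hA
    have hcore : A.normalCore = ⊥ := by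
      by_contra hne
      have := h.isPGroup.isNilpotent
      have hdis : A.normalCore ⊓ Subgroup.center G ≠ ⊥ := Solvable.inf_center_ne_bot hne
      refine hdis (le_bot_iff.1 ?_)
      rw [← hAZ]
      exact inf_le_inf A.normalCore_le ((center_le h).trans (le_of_eq rfl))
    haveI : Fintype (G ⧸ A) := Fintype.ofFinite _
    have hq : Fintype.card (G ⧸ A) = 9 := by
      have h1 := Subgroup.card_eq_card_quotient_mul_card_subgroup A
      rw [h.card, hAc, Nat.card_eq_fintype_card (α := G ⧸ A)] at h1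
      omega
    let e := (Fintype.equivFinOfCardEq hq).permCongrHom
    let f : G →* Equiv.Perm (Fin 9) := e.toMonoidHom.comp (MulAction.toPermHom G (G ⧸ A))
    have hf : Function.Injective f := by
      refine e.injective.comp ((MonoidHom.ker_eq_bot_iff _).1 ?_)
      rw [← Subgroup.normalCore_eq_ker, hcore]
    have hfp : IsPGroup 3 f.range := h.isPGroup.of_surjective f.rangeRestrict f.rangeRestrict_surjective
    obtain ⟨W, hW⟩ := hfp.exists_le_sylow
    refine ⟨W, ⟨(MonoidHom.ofInjective hf).trans (MulEquiv.subgroupCongr ?_)⟩⟩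
    refine Subgroup.eq_of_le_of_card_ge hW ?_
    rw [show Nat.card f.range = 3 ^ 4 from
      (Nat.card_congr (MonoidHom.ofInjective hf).toEquiv.symm).trans h.card]
    obtain ⟨k, hk⟩ := IsPGroup.iff_card.1 W.2
    rw [hk]
    refine Nat.pow_le_pow_right (by norm_num) ?_
    by_contra hk4
    have h1 := Subgroup.card_subgroup_dvd_card (W : Subgroup (Equiv.Perm (Fin 9)))
    rw [hk, Nat.card_eq_fintype_card, Fintype.card_perm, Fintype.card_fin] at h1
    have h2 := (pow_dvd_pow 3 (show 5 ≤ k by omega)).trans h1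
    norm_num [Nat.factorial] at h2
  left
  intro H
  by_cases htop : H ⊔ L G 1 = ⊤
  · exact h.exists_two_of_top htop
  obtain ⟨k, hk, hk'⟩ := (Nat.dvd_prime_pow Nat.prime_three).1 (h.card ▸ Subgroup.card_subgroup_dvd_card H)
  rcases (show k ≤ 2 ∨ k = 3 ∨ k = 4 by omega) with hk2 | rfl | rfl
  · exact two_of_card_le hk' hk2
  swap
  · exact (htop (eq_top_iff.2 ((Subgroup.eq_top_of_card_eq H (by rw [hk', h.card])).symm.le.trans le_sup_left))).elim
  -- order `27`
  have hLH : L G 1 ≤ H := by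
    obtain ⟨i, hi, hi'⟩ := (Nat.dvd_prime_pow Nat.prime_three).1 (h.card ▸
      Subgroup.card_subgroup_dvd_card (H ⊔ L G 1))
    have h3 : i < 4 := lt_of_le_of_ne hi fun e => htop (Subgroup.eq_top_of_card_eq _ (by rw [hi', e, h.card]))
    rw [Subgroup.eq_of_le_of_card_ge (le_sup_left : H ≤ H ⊔ L G 1) (by
      rw [hi', hk']; exact Nat.pow_le_pow_right (by norm_num) (by omega))]
    exact le_sup_right
  set Z := L G 2 with hZ
  have hZH : Z ≤ H := (anti (show 1 ≤ 2 by omega)).trans hLH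
  have hZc : Nat.card Z = 3 ^ 1 := h.card_L 2 (by omega)
  obtain ⟨a, haH, haZ⟩ := SetLike.exists_of_lt (lt_of_le_of_ne hZH fun e => by
    rw [e, hk'] at hZc; norm_num at hZc)
  have hsup : ∀ {B : Subgroup G} {g : G}, B ≤ H → g ∈ H → g ∉ B → B < B ⊔ Subgroup.zpowers g :=
    fun {B g} _ _ hg => lt_of_le_of_ne le_sup_left fun e => hg (e ▸ Subgroup.mem_sup_right (Subgroup.mem_zpowers g))
  have hcard : ∀ {A B : Subgroup G}, A < B → B ≤ H → ∀ {i}, Nat.card A = 3 ^ i → ∃ r, i < r ∧ r ≤ 3 ∧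
      Nat.card B = 3 ^ r := fun {A B} hAB hB {i} hi => by
    obtain ⟨r, hr, hr'⟩ := (Nat.dvd_prime_pow Nat.prime_three).1 (hk' ▸ Subgroup.card_dvd_of_le hB)
    refine ⟨r, ?_, hr, hr'⟩
    by_contra hc
    exact hAB.ne (Subgroup.eq_of_le_of_card_ge hAB.le (by
      rw [hi, hr']; exact Nat.pow_le_pow_right (by norm_num) (by omega)))
  have hZa := hsup hZH haH haZ
  have hZaH : Z ⊔ Subgroup.zpowers a ≤ H := sup_le hZH (Subgroup.zpowers_le.2 haH)
  by_cases hae : Z ⊔ Subgroup.zpowers a = H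
  · obtain ⟨z, hz⟩ := (isCyclic_of_prime_card (hZc.trans (pow_one 3))).exists_generator
    refine ⟨{(z : G), a}, Finset.card_le_two, ?_⟩
    refine le_antisymm ((Subgroup.closure_le _).2 (by
      intro g hg
      simp only [Finset.coe_insert, Finset.coe_singleton, Set.mem_insert_iff, Set.mem_singleton_iff] at hg
      rcases hg with rfl | rfl
      · exact hZH z.2
      · exact haH)) ?_
    rw [← hae]
    refine sup_le (fun u hu => ?_) (Subgroup.zpowers_le.2 (Subgroup.subset_closure (by simp)))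
    obtain ⟨i, hi⟩ := Subgroup.mem_zpowers_iff.1 (hz ⟨u, hu⟩)
    have : u = (z : G) ^ i := by rw [← Subgroup.coe_zpow, hi]
    rw [this]; exact zpow_mem (Subgroup.subset_closure (by simp)) i
  obtain ⟨b, hbH, hb⟩ := SetLike.exists_of_lt (lt_of_le_of_ne hZaH hae)
  refine ⟨{a, b}, Finset.card_le_two, ?_⟩
  set A := Subgroup.closure ((({a, b} : Finset G)) : Set G) with hAdef
  have haA : a ∈ A := Subgroup.subset_closure (by simp)
  have hbA : b ∈ A := Subgroup.subset_closure (by simp)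
  have hAH : A ≤ H := (Subgroup.closure_le _).2 (by
    intro g hg
    simp only [Finset.coe_insert, Finset.coe_singleton, Set.mem_insert_iff, Set.mem_singleton_iff] at hg
    rcases hg with rfl | rfl
    · exact haH
    · exact hbH)
  by_contra hne
  have ha1 : (⊥ : Subgroup G) < Subgroup.zpowers a := bot_lt_iff_ne_bot.2 fun e =>
    haZ ((Subgroup.mem_bot.1 (e ▸ Subgroup.mem_zpowers a)) ▸ one_mem Z)
  obtain ⟨r, hr, hr3, hr'⟩ := hcard (show Subgroup.zpowers a < A from lt_of_le_of_ne (Subgroup.zpowers_le.2 haA)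
    fun e => hb (Subgroup.mem_sup_right (e ▸ hbA))) hAH (i := 1) (by
      obtain ⟨i, hi1, -, hi'⟩ := hcard ha1 (Subgroup.zpowers_le.2 haH) (i := 0) (by simp)
      rw [hi', show i = 1 from ?_]
      by_contra hi2
      refine hb ?_
      have e : Subgroup.zpowers a = A := by
        refine Subgroup.eq_of_le_of_card_ge (Subgroup.zpowers_le.2 haA) ?_
        by_contra hc
        obtain ⟨r, hr, hr3, hr'⟩ := hcard (lt_of_le_of_ne (Subgroup.zpowers_le.2 haA) fun e => hc (e ▸ le_rfl))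
          hAH hi'
        exact hne (Subgroup.eq_of_le_of_card_ge hAH (by
          rw [hr', hk']; exact Nat.pow_le_pow_right (by norm_num) (by omega)))
      exact Subgroup.mem_sup_right (e ▸ hbA))
  have hr2 : r = 2 := by
    by_contra hc
    exact hne (Subgroup.eq_of_le_of_card_ge hAH (by
      rw [hr', hk']; exact Nat.pow_le_pow_right (by norm_num) (by omega)))
  refine hA ⟨A, by rw [hr', hr2], ?_⟩
  by_contra hI
  obtain ⟨i, hi, hi'⟩ := (Nat.dvd_prime_pow Nat.prime_three).1 (hZc ▸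
    Subgroup.card_dvd_of_le (inf_le_right : A ⊓ Z ≤ Z))
  have hi1 : i = 1 := by
    by_contra hc
    exact hI (Subgroup.eq_bot_of_card_eq _ (by rw [hi', show i = 0 by omega, pow_zero]))
  have hZA : Z ≤ A := by
    rw [← Subgroup.eq_of_le_of_card_ge (inf_le_right : A ⊓ Z ≤ Z) (by rw [hi', hZc, hi1])]
    exact inf_le_left
  obtain ⟨u, hu, -, hu'⟩ := hcard hZa hZaH hZc
  obtain ⟨v, hv, hv3, hv'⟩ := hcard (lt_of_le_of_ne (sup_le hZA (Subgroup.zpowers_le.2 haA)) fun e =>
    hb (by rw [e]; exact hbA)) hAH hu'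
  rw [hr', hr2] at hv'
  have := Nat.pow_right_injective (by norm_num : 2 ≤ 3) hv'
  omega

end Cfsg.Agent.Lib.PLocal.PearlThree
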