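import Cfsg.Agent.Lib.PLocal.QdFree
import Cfsg.Agent.Lib.PLocal.Dickson

/-!
A plane whose upper transvection lies in an abelian subgroup `W` normalized by the plane's preimage: `W`
contains an element of order `p` with all its automorphisms induced by conjugation.
-/

set_option autoImplicit false
set_option linter.unusedSectionVars false
set_option linter.style.haveILetI false

open scoped Matrix

namespace Cfsg.Agent.Lib.PLocal

open Cfsg.Agent.Lib.OddLocal (le_centralizer_of_coprime_stab)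
open scoped commutatorElement

variable {p : ℕ} [hp : Fact p.Prime]

local notation "SL₂" => Matrix.SpecialLinearGroup (Fin 2) (ZMod p)
local notation "V₂" => Fin 2 → ZMod p

lemma mem_of_orderOf_coprime_map {X Y : Type*} [Group X] [Group Y] [Finite X] {q : ℕ} [Fact q.Prime]
    (ρ : X →* Y) {t : X} {A : Y} (ht : ρ t = A) (hA : (orderOf A).Coprime q) :
    ∃ t₁ ∈ Subgroup.zpowers t, (orderOf t₁).Coprime q ∧ ρ t₁ = A := by
  obtain ⟨t₁, t₂, h₁, h₂, hc, ⟨j, hj⟩, he⟩ := Transfer.exists_pPart_decomp (p := q) t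
  refine ⟨t₁, h₁, hc, ?_⟩
  have h3 : ρ t₂ = 1 := by
    obtain ⟨i, hi⟩ := Subgroup.mem_zpowers_iff.mp h₂
    rw [← orderOf_eq_one_iff]
    refine Nat.eq_one_of_dvd_coprimes (hA.pow_right j) ?_ (hj ▸ orderOf_map_dvd ρ t₂)
    refine orderOf_dvd_of_pow_eq_one ?_
    rw [← hi, map_zpow, ht, ← zpow_natCast, ← zpow_mul, mul_comm, zpow_mul, zpow_natCast, pow_orderOf_eq_one,
      one_zpow]
  rw [← ht]
  conv_rhs => rw [he, map_mul, h3, mul_one]

/-- The group generated by the two elements acting as unit transvections maps onto `SL₂(p)`, and every matrix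
has a preimage commuting with a fixed preimage of `-1` up to the centralizer of the plane. -/
theorem exists_full_automiser (hp2 : p ≠ 2) {G : Type*} [Group G] [Finite G] (K : Subgroup G)
    (hKp : IsPGroup p K) (φ : K →* Multiplicative V₂) (hφ : Function.Surjective φ) (a c : G)
    (ha : a ∈ Subgroup.normalizer (K : Set G)) (hc : c ∈ Subgroup.normalizer (K : Set G))
    (haφ : ∀ (k : K) (h : a * (k : G) * a⁻¹ ∈ K), (φ ⟨_, h⟩).toAdd = (upT p).1 *ᵥ (φ k).toAdd)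
    (hcφ : ∀ (k : K) (h : c * (k : G) * c⁻¹ ∈ K), (φ ⟨_, h⟩).toAdd = (loT p).1 *ᵥ (φ k).toAdd)
    (hcent : ∀ t ∈ Subgroup.closure ({a, c} : Set G), (orderOf t).Coprime p →
      ∀ k : K, φ k = 1 → t * (k : G) = k * t)
    (W : Subgroup G) (hW : ∀ x ∈ W, ∀ y ∈ W, Commute x y) (hKW : K ≤ Subgroup.normalizer (W : Set G))
    (haW : a ∈ W) :
    ∃ w ∈ W, w ∈ K ∧ w ≠ 1 ∧ w ^ p = 1 ∧
      ∀ ζ : (ZMod p)ˣ, ∃ d : G, d ∈ Subgroup.closure ({a, c} : Set G) ∧
        d * w * d⁻¹ = w ^ (ζ : ZMod p).val := by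
  classical
  have hodd : Odd p := hp.out.odd_of_ne_two hp2
  have h2ne : (2 : ZMod p) ≠ 0 := by
    intro h
    have h3 : ((2 : ℕ) : ZMod p) = 0 := by exact_mod_cast h
    rw [ZMod.natCast_eq_zero_iff] at h3
    exact hp2 ((Nat.prime_dvd_prime_iff_eq hp.out Nat.prime_two).mp h3)
  let Acts : G → SL₂ → Prop := fun g A =>
    g ∈ Subgroup.normalizer (K : Set G) ∧
      ∀ (k : K) (h : g * (k : G) * g⁻¹ ∈ K), (φ ⟨_, h⟩).toAdd = A.1 *ᵥ (φ k).toAdd
  have hmem : ∀ g ∈ Subgroup.normalizer (K : Set G), ∀ k : K, g * (k : G) * g⁻¹ ∈ K := fun g hg k =>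
    (Subgroup.mem_normalizer_iff.mp hg _).mp k.2
  have hone : Acts 1 1 := ⟨one_mem _, fun k h => by simp⟩
  have hmul : ∀ g g' A A', Acts g A → Acts g' A' → Acts (g * g') (A * A') := by
    intro g g' A A' hg hg'
    refine ⟨mul_mem hg.1 hg'.1, fun k h => ?_⟩
    have h1 : g' * (k : G) * g'⁻¹ ∈ K := hmem _ hg'.1 k
    have h2 : g * (g' * (k : G) * g'⁻¹) * g⁻¹ ∈ K := hmem _ hg.1 ⟨_, h1⟩
    rw [show (⟨_, h⟩ : K) = ⟨_, h2⟩ from Subtype.ext (by group), hg.2 ⟨_, h1⟩ h2, hg'.2 k h1,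
      Matrix.mulVec_mulVec, ← Matrix.SpecialLinearGroup.coe_mul]
  have hinv : ∀ g A, Acts g A → Acts g⁻¹ A⁻¹ := by
    intro g A hg
    refine ⟨inv_mem hg.1, fun k h => ?_⟩
    have h1 : g * (g⁻¹ * (k : G) * g⁻¹⁻¹) * g⁻¹ ∈ K := by simp [mul_assoc]
    have h2 := hg.2 ⟨_, h⟩ h1
    rw [show (⟨_, h1⟩ : K) = k from Subtype.ext (by group)] at h2
    rw [h2, Matrix.mulVec_mulVec, ← Matrix.SpecialLinearGroup.coe_mul, inv_mul_cancel,
      Matrix.SpecialLinearGroup.coe_one, Matrix.one_mulVec]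
  have huniq : ∀ g A A', Acts g A → Acts g A' → A = A' := by
    intro g A A' hg hg'
    refine mulVec_ext fun v => ?_
    obtain ⟨k, hk⟩ := hφ (Multiplicative.ofAdd v)
    have e := (hg.2 k (hmem _ hg.1 k)).symm.trans (hg'.2 k (hmem _ hg.1 k))
    simpa [hk] using e
  set T := Subgroup.closure ({a, c} : Set G) with hT
  have hTN : T ≤ Subgroup.normalizer (K : Set G) :=
    (Subgroup.closure_le _).mpr (by rintro x (rfl | rfl) <;> assumption)
  have hA : ∀ x ∈ T, ∃ A, Acts x A := by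
    intro x hx
    induction hx using Subgroup.closure_induction with
    | mem y hy =>
      rcases hy with rfl | rfl
      · exact ⟨_, ha, haφ⟩
      · exact ⟨_, hc, hcφ⟩
    | one => exact ⟨_, hone⟩
    | mul y z _ _ hy hz =>
      obtain ⟨A, hA⟩ := hy
      obtain ⟨B, hB⟩ := hz
      exact ⟨_, hmul _ _ _ _ hA hB⟩
    | inv y _ hy =>
      obtain ⟨A, hA⟩ := hy
      exact ⟨_, hinv _ _ hA⟩
  choose R hR using fun x : T => hA x x.2
  let ρ : T →* SL₂ := MonoidHom.mk' R fun x y =>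
    huniq _ _ _ (hR (x * y)) (hmul _ _ _ _ (hR x) (hR y))
  have haT : a ∈ T := Subgroup.subset_closure (Or.inl rfl)
  have hρa : ρ ⟨a, haT⟩ = upT p := huniq _ _ _ (hR _) ⟨ha, haφ⟩
  have hρ : Function.Surjective ρ := by
    rw [← MonoidHom.range_eq_top, eq_top_iff, ← closure_upT_loT, Subgroup.closure_le]
    rintro A (rfl | rfl)
    · exact ⟨⟨a, haT⟩, hρa⟩
    · have hcT : c ∈ T := Subgroup.subset_closure (Or.inr rfl)
      exact ⟨⟨c, hcT⟩, huniq _ _ _ (hR _) ⟨hc, hcφ⟩⟩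
  -- conjugation on `K`
  let cjK : T → K → K := fun g k => ⟨(g : G) * k * (g : G)⁻¹, hmem _ (hTN g.2) k⟩
  have cjK_φ : ∀ g k, (φ (cjK g k)).toAdd = (ρ g).1 *ᵥ (φ k).toAdd := fun g k => (hR g).2 k _
  have cjK_mul : ∀ g k l, cjK g (k * l) = cjK g k * cjK g l := fun g k l =>
    Subtype.ext (by simp [cjK, mul_assoc])
  have cjK_inv : ∀ g k, cjK g k⁻¹ = (cjK g k)⁻¹ := fun g k => Subtype.ext (by simp [cjK, mul_assoc])
  have cjK_pow : ∀ g k (n : ℕ), cjK g (k ^ n) = cjK g k ^ n := by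
    intro g k n
    refine Subtype.ext ?_
    simp only [cjK, SubgroupClass.coe_pow, conj_pow]
  have cjK_comp : ∀ g g' k, cjK (g * g') k = cjK g (cjK g' k) := fun g g' k =>
    Subtype.ext (by simp [cjK, mul_assoc])
  have hcj_one : ∀ g, cjK g 1 = 1 := fun g => Subtype.ext (by simp [cjK])
  have hcj_id : ∀ k, cjK 1 k = k := fun k => Subtype.ext (by simp [cjK])
  let M₀ : Subgroup G := φ.ker.map K.subtype
  let Cm : Subgroup T :=
    { carrier := {t | ∀ k : K, φ k = 1 → cjK t k = k}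
      one_mem' := fun k _ => Subtype.ext (by simp [cjK])
      mul_mem' := fun {x y} hx hy k hk => by rw [cjK_comp, hy k hk, hx k hk]
      inv_mem' := fun {x} hx k hk => by
        conv_lhs => rw [← hx k hk]
        rw [← cjK_comp, inv_mul_cancel]
        exact Subtype.ext (by simp [cjK]) }
  have hker : ∀ (g : T) (k : K), φ k = 1 → φ (cjK g k) = 1 := by
    intro g k hk
    apply Multiplicative.toAdd.injective
    rw [cjK_φ, hk]; simp
  have hCn : Cm.Normal := ⟨fun x hx g k hk => by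
    rw [cjK_comp, cjK_comp, hx _ (hker g⁻¹ k hk), ← cjK_comp, mul_inv_cancel]
    exact Subtype.ext (by simp [cjK])⟩
  have hCp : ∀ t : T, (orderOf t).Coprime p → t ∈ Cm := fun t ht k hk =>
    Subtype.ext (mul_inv_eq_iff_eq_mul.mpr (hcent t t.2 (by rwa [Subgroup.orderOf_coe]) k hk))
  have hρC : ∀ A : SL₂, (orderOf A).Coprime p → ∃ t ∈ Cm, ρ t = A := by
    intro A hA
    obtain ⟨t, ht⟩ := hρ A
    obtain ⟨t₁, -, hc₁, he⟩ := mem_of_orderOf_coprime_map ρ ht hA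
    exact ⟨t₁, hCp t₁ hc₁, he⟩
  -- elements of `Cm ⊓ ker ρ` of order prime to `p` act trivially
  have htriv : ∀ t ∈ Cm, ρ t = 1 → (orderOf t).Coprime p → ∀ k : K, cjK t k = k := by
    intro t htC htρ htp k
    have h : (t : G) ∈ Subgroup.centralizer (K : Set G) := by
      refine le_centralizer_of_coprime_stab (K := M₀) (A := Subgroup.zpowers (t : G)) ?_ ?_ ?_
        (Subgroup.mem_zpowers _)
      · rw [Subgroup.commutator_le]
        intro k' hk' s hs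
        obtain ⟨i, rfl⟩ := Subgroup.mem_zpowers_iff.mp hs
        refine ⟨⟨k', hk'⟩ * (cjK (t ^ i) ⟨k', hk'⟩)⁻¹, ?_, ?_⟩
        · rw [SetLike.mem_coe, MonoidHom.mem_ker, map_mul, map_inv, mul_inv_eq_one]
          apply Multiplicative.toAdd.injective
          rw [cjK_φ, map_zpow, htρ, one_zpow, Matrix.SpecialLinearGroup.coe_one, Matrix.one_mulVec]
        · show k' * (((t ^ i : T) : G) * k' * ((t ^ i : T) : G)⁻¹)⁻¹ = ⁅k', (t : G) ^ i⁆
          rw [commutatorElement_def, Subgroup.coe_zpow]; group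
      · rw [Subgroup.zpowers_le, Subgroup.mem_centralizer_iff]
        rintro _ ⟨k', hk', rfl⟩
        exact (mul_inv_eq_iff_eq_mul.mp (congrArg Subtype.val (htC k' hk'))).symm
      · rw [Nat.card_zpowers, Subgroup.orderOf_coe]
        obtain ⟨n, hn⟩ := (hKp.to_le (Subgroup.map_subtype_le _ : M₀ ≤ K)).exists_card_eq
        rw [hn]
        exact htp.pow_right n
    exact Subtype.ext (mul_inv_eq_iff_eq_mul.mpr (Subgroup.mem_centralizer_iff.mp h k k.2).symm)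
  -- the central involution
  set m : SL₂ := -1 with hm
  have hmc : ∀ A : SL₂, A * m * A⁻¹ = m := fun A => by
    rw [hm, mul_neg, mul_one, neg_mul, mul_inv_cancel]
  have hm2 : m * m = 1 := by rw [hm, neg_mul_neg, mul_one]
  have hcop2 : Nat.Coprime 2 p := (Nat.coprime_primes Nat.prime_two hp.out).mpr (Ne.symm hp2)
  haveI : Fact (Nat.Prime 2) := ⟨Nat.prime_two⟩
  obtain ⟨z, hzC, hρz, e, he⟩ : ∃ z ∈ Cm, ρ z = m ∧ ∃ e, orderOf z = 2 ^ e := by
    obtain ⟨z₀, hz₀C, hz₀⟩ := hρC m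
      (hcop2.coprime_dvd_left (orderOf_dvd_of_pow_eq_one (by rw [sq, hm2])))
    obtain ⟨z₁, z, -, hzz, hz₁, ⟨e, he⟩, hz⟩ := Transfer.exists_pPart_decomp (p := 2) z₀
    refine ⟨z, Subgroup.zpowers_le.mpr hz₀C hzz, ?_, e, he⟩
    have h2 : ρ z₁ * ρ z = m := by rw [← map_mul, ← hz, hz₀]
    obtain ⟨i, hi⟩ := Subgroup.mem_zpowers_iff.mp hzz
    have h3 : (ρ z₁) ^ 2 = 1 := by
      have : ρ z₁ = m * (ρ z)⁻¹ := by rw [← h2, mul_inv_cancel_right]
      rw [this, ← hi, map_zpow, hz₀, ← zpow_natCast, ← zpow_neg, ← zpow_one_add, ← zpow_mul, mul_comm, zpow_mul]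
      norm_num [sq, hm2]
    have h4 : ρ z₁ = 1 := by
      rw [← orderOf_eq_one_iff]
      exact Nat.eq_one_of_dvd_coprimes hz₁ (orderOf_map_dvd ρ z₁) (orderOf_dvd_of_pow_eq_one h3)
    rwa [h4, one_mul] at h2
  have hzp : (orderOf z).Coprime p := he ▸ hcop2.pow_left e
  -- lifts commuting with `z` on `K`
  have hlift : ∀ t : T, ∃ t' : T, t'⁻¹ * t ∈ Cm ∧ ρ t' = ρ t ∧
      ∀ k : K, cjK z (cjK t' k) = cjK t' (cjK z k) := by
    set H := (Subgroup.zpowers m).comap ρ ⊓ Cm with hH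
    have hmn : (Subgroup.zpowers m).Normal := ⟨fun y hy g => by
      obtain ⟨i, rfl⟩ := Subgroup.mem_zpowers_iff.mp hy
      rw [← conj_zpow, hmc]; exact zpow_mem (Subgroup.mem_zpowers m) i⟩
    haveI : H.Normal := by
      haveI := hmn.comap ρ
      rw [hH]; infer_instance
    have hzH : z ∈ H := ⟨by
      show ρ z ∈ Subgroup.zpowers m
      rw [hρz]; exact Subgroup.mem_zpowers m, hzC⟩
    obtain ⟨P, hP⟩ := (IsPGroup.of_card (p := 2) (n := e)
      (show Nat.card (Subgroup.zpowers (⟨z, hzH⟩ : H)) = 2 ^ e by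
        rw [Nat.card_zpowers, Subgroup.orderOf_mk, he])).exists_le_sylow
    set Z := (P : Subgroup H).map H.subtype with hZ
    have hzZ : z ∈ Z := ⟨⟨z, hzH⟩, hP (Subgroup.mem_zpowers _), rfl⟩
    have hLH : Subgroup.normalizer (Z : Set T) ⊔ H = ⊤ := Sylow.normalizer_sup_eq_top P
    intro t
    obtain ⟨l, hl, h, hh, hlh⟩ :=
      Subgroup.mem_sup_of_normal_right.mp (hLH ▸ Subgroup.mem_top t : t ∈ Subgroup.normalizer (Z : Set T) ⊔ H)
    obtain ⟨i, hi⟩ := Subgroup.mem_zpowers_iff.mp (show ρ h ∈ Subgroup.zpowers m from hh.1)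
    refine ⟨l * z ^ i, ?_, ?_, fun k => ?_⟩
    · rw [← hlh, show (l * z ^ i)⁻¹ * (l * h) = (z ^ i)⁻¹ * h by group]
      exact mul_mem (inv_mem (zpow_mem hzC i)) hh.2
    · rw [map_mul, map_zpow, hρz, hi, ← map_mul, hlh]
    set q : T := (l * z ^ i)⁻¹ * z⁻¹ * (l * z ^ i) * z with hq
    have hn : l * z ^ i ∈ Subgroup.normalizer (Z : Set T) :=
      mul_mem hl (zpow_mem (Subgroup.le_normalizer hzZ) i)
    have hqZ : q ∈ Z := by
      have := (Subgroup.mem_normalizer_iff.mp (inv_mem hn) z⁻¹).mp (inv_mem hzZ)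
      rw [inv_inv] at this
      exact mul_mem this hzZ
    have hqC : q ∈ Cm := (Subgroup.map_subtype_le _ hqZ : q ∈ H).2
    have hqρ : ρ q = 1 := by
      simp only [hq, map_mul, map_inv, map_zpow, hρz]
      generalize ρ l * m ^ i = A
      calc A⁻¹ * m⁻¹ * A * m = A⁻¹ * m⁻¹ * (A * m * A⁻¹) * A := by group
        _ = _ := by rw [hmc]; group
    obtain ⟨j, hj⟩ := (P.2.map H.subtype) ⟨q, hqZ⟩
    have hqp : (orderOf q).Coprime p :=
      (hcop2.pow_left j).coprime_dvd_left (orderOf_dvd_of_pow_eq_one (congrArg Subtype.val hj))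
    have h1 := htriv q hqC hqρ hqp k
    conv_lhs => rw [← h1, ← cjK_comp, ← cjK_comp]
    rw [← cjK_comp]
    congr 1
    rw [hq]; group
  -- inverted elements
  have hzφ : ∀ k : K, φ (cjK z k) = (φ k)⁻¹ := fun k => by
    apply Multiplicative.toAdd.injective
    rw [cjK_φ, hρz, toAdd_inv]; simp [hm, Matrix.neg_mulVec]
  have hz2 : ∀ k : K, cjK z (cjK z k) = k := fun k => by
    rw [← cjK_comp]
    refine htriv _ (mul_mem hzC hzC) (by rw [map_mul, hρz, hm2]) ?_ k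
    exact hzp.coprime_dvd_left (by
      rw [← sq]; exact orderOf_pow_dvd 2)
  have hKsq : ∀ q : K, q = q⁻¹ → q = 1 := fun q h => by
    obtain ⟨n, hn⟩ := hKp q
    have h2 : q ^ 2 = 1 := by
      rw [sq]; conv_lhs => arg 1; rw [h]
      exact inv_mul_cancel q
    rw [← orderOf_eq_one_iff]
    exact Nat.eq_one_of_dvd_coprimes (hcop2.pow_right n)
      (orderOf_dvd_of_pow_eq_one h2) (orderOf_dvd_of_pow_eq_one hn)
  have hinvert : ∀ i q : K, cjK z i = i⁻¹ → φ q = 1 → Commute i q := by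
    intro i q hi hq
    have h1 : φ (i * q * i⁻¹) = 1 := by rw [map_mul, map_mul, hq, map_inv, mul_one, mul_inv_cancel]
    have h2 := hzC _ h1
    rw [cjK_mul, cjK_mul, cjK_inv, hi, hzC q hq, inv_inv] at h2
    -- `i ^ 2` centralizes `q`
    have h3 : Commute (i ^ 2) q := by
      show i ^ 2 * q = q * i ^ 2
      rw [sq]
      calc i * i * q = i * (i * q * i⁻¹) * i := by group
        _ = i * (i⁻¹ * q * i) * i := by rw [h2]
        _ = _ := by group
    obtain ⟨n, hn⟩ := hKp i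
    obtain ⟨r, hr⟩ := exists_pow_eq_self_of_coprime (n := 2)
      (Nat.Coprime.coprime_dvd_right (orderOf_dvd_of_pow_eq_one hn) (hcop2.pow_right n))
    exact hr ▸ h3.pow_left r
  have hunique : ∀ i j : K, cjK z i = i⁻¹ → cjK z j = j⁻¹ → φ i = φ j → i = j := by
    intro i j hi hj hij
    have hq : φ (i⁻¹ * j) = 1 := by rw [map_mul, map_inv, hij, inv_mul_cancel]
    have h1 := hzC _ hq
    rw [cjK_mul, cjK_inv, hi, hj, inv_inv] at h1
    have hc1 := hinvert i _ hi hq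
    have h2 : i⁻¹ * j = (i⁻¹ * j)⁻¹ := by
      have e1 : i * (i⁻¹ * j) * i⁻¹ = i⁻¹ * j := by rw [hc1.eq, mul_inv_cancel_right]
      calc i⁻¹ * j = i * (i⁻¹ * j) * i⁻¹ := e1.symm
        _ = (i * j⁻¹)⁻¹ := by group
        _ = _ := by rw [h1]
    exact inv_mul_eq_one.mp (hKsq _ h2)
  have hinvex : ∀ v : V₂, ∃ i : K, cjK z i = i⁻¹ ∧ φ i = Multiplicative.ofAdd v := by
    intro v
    obtain ⟨k, hk⟩ := hφ (Multiplicative.ofAdd ((2 : ZMod p)⁻¹ • v))
    refine ⟨k * (cjK z k)⁻¹, ?_, ?_⟩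
    · rw [cjK_mul, cjK_inv, hz2, mul_inv_rev, inv_inv]
    · rw [map_mul, map_inv, hzφ, inv_inv, hk, ← ofAdd_add, ← add_smul]
      congr 1
      rw [← two_mul, mul_inv_cancel₀ h2ne, one_smul]
  have hinvcj : ∀ (t : T) (i : K), (∀ k : K, cjK z (cjK t k) = cjK t (cjK z k)) → cjK z i = i⁻¹ →
      cjK z (cjK t i) = (cjK t i)⁻¹ := fun t i ht hi => by rw [ht, hi, cjK_inv]
  have hinvpow : ∀ (i : K) (n : ℕ), cjK z i = i⁻¹ → cjK z (i ^ n) = (i ^ n)⁻¹ := fun i n hi => by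
    rw [cjK_pow, hi, inv_pow]
  -- the elements
  obtain ⟨x', hx'C, hx'ρ, hx'z⟩ := hlift ⟨a, haT⟩
  rw [hρa] at hx'ρ
  set ε : T := ⟨a, haT⟩ * x'⁻¹ with hε
  have hεC : ε ∈ Cm := by
    have := hCn.conj_mem _ hx'C x'
    rwa [show x' * (x'⁻¹ * ⟨a, haT⟩) * x'⁻¹ = ε by rw [hε]; group] at this
  have hερ : ρ ε = 1 := by rw [hε, map_mul, map_inv, hρa, hx'ρ, mul_inv_cancel]
  obtain ⟨k, hkz, hkφ⟩ := hinvex ![0, 1]
  set j := cjK x' k with hj
  have hjz : cjK z j = j⁻¹ := hinvcj x' k hx'z hkz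
  have hjφ : (φ j).toAdd = ![1, 1] := by
    rw [hj, cjK_φ, hx'ρ, hkφ, toAdd_ofAdd]
    funext r; fin_cases r <;> simp [upT, Matrix.mulVec, dotProduct, Fin.sum_univ_two]
  set f : K := j⁻¹ * cjK ε j with hf
  have hfφ : φ f = 1 := by
    apply Multiplicative.toAdd.injective
    have h : (φ (cjK ε j)).toAdd = (φ j).toAdd := by rw [cjK_φ, hερ]; simp
    rw [hf, map_mul, map_inv, toAdd_mul, toAdd_inv, h, toAdd_one, neg_add_cancel]
  have hεj : cjK ε j = j * f := by rw [hf, mul_inv_cancel_left]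
  have haj : cjK ⟨a, haT⟩ k = j * f := by
    rw [← hεj, hj, ← cjK_comp, hε, inv_mul_cancel_right]
  set i : K := k * (j⁻¹ * j⁻¹) * k with hi
  have hiz : cjK z i = i⁻¹ := by
    rw [hi, cjK_mul, cjK_mul, cjK_mul, cjK_inv, hkz, hjz]; simp [mul_assoc]
  have hiφ : (φ i).toAdd = ![-2, 0] := by
    simp only [hi, map_mul, map_inv, toAdd_mul, toAdd_inv, hjφ, hkφ, toAdd_ofAdd]
    funext r; fin_cases r <;> simp <;> ring
  set w : K := i * (f⁻¹ * f⁻¹) with hw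
  have hcjf := hinvert j f hjz hfφ
  have hckf := hinvert k f hkz hfφ
  have hwW : (w : G) ∈ W := by
    have hcom : ∀ u : K, (u : G) * a * (u : G)⁻¹ * a⁻¹ ∈ W := fun u =>
      mul_mem ((Subgroup.mem_normalizer_iff.mp (hKW u.2) a).mp haW) (inv_mem haW)
    have h0 := mul_mem (hcom k) (inv_mem (hcom k⁻¹))
    have e1 : (w : G) = (k * (cjK ⟨a, haT⟩ k)⁻¹ * ((k⁻¹ : K) * (cjK ⟨a, haT⟩ k⁻¹)⁻¹)⁻¹ : K) := by
      congr 1
      rw [cjK_inv, haj, hw, hi]
      have e2 : (j * f)⁻¹ * (j * f)⁻¹ = j⁻¹ * j⁻¹ * (f⁻¹ * f⁻¹) := by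
        rw [mul_inv_rev]
        calc f⁻¹ * j⁻¹ * (f⁻¹ * j⁻¹) = (j⁻¹ * f⁻¹) * (j⁻¹ * f⁻¹) := by rw [(hcjf.inv_inv).eq]
          _ = j⁻¹ * (f⁻¹ * j⁻¹) * f⁻¹ := by group
          _ = _ := by rw [← (hcjf.inv_inv).eq]; group
      calc k * (j⁻¹ * j⁻¹) * k * (f⁻¹ * f⁻¹) = k * (j⁻¹ * j⁻¹) * (k * (f⁻¹ * f⁻¹)) := by group
        _ = k * (j⁻¹ * j⁻¹) * ((f⁻¹ * f⁻¹) * k) := by rw [(hckf.inv_right.mul_right hckf.inv_right).eq]
        _ = k * (j⁻¹ * j⁻¹ * (f⁻¹ * f⁻¹)) * k := by group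
        _ = k * ((j * f)⁻¹ * (j * f)⁻¹) * k := by rw [e2]
        _ = _ := by group
    rw [e1]
    convert h0 using 1
    simp only [cjK]
    push_cast
    group
  -- `w` is a conjugate of `i`
  let A₀ : SL₂ := ⟨!![-1, 2; -1, 1], by simp [Matrix.det_fin_two]; norm_num⟩
  have hA₀ : A₀ ^ 4 = 1 := by
    refine Subtype.ext ?_
    rw [show 4 = 2 + 2 from rfl, pow_add, sq]
    simp only [Matrix.SpecialLinearGroup.coe_mul, Matrix.SpecialLinearGroup.coe_one]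
    ext r s; fin_cases r <;> fin_cases s <;> simp [A₀, Matrix.mul_apply, Fin.sum_univ_two] <;> ring
  obtain ⟨l₀, hl₀C, hl₀ρ⟩ := hρC A₀ ((hcop2.pow_left 2).coprime_dvd_left (orderOf_dvd_of_pow_eq_one hA₀))
  obtain ⟨l, hlC, hlρ, hlz⟩ := hlift l₀
  rw [hl₀ρ] at hlρ
  have hlC' : l ∈ Cm := by
    have := mul_mem hl₀C (inv_mem hlC)
    rwa [mul_inv_rev, inv_inv, ← mul_assoc, mul_inv_cancel, one_mul] at this
  set j' : K := j⁻¹ * j⁻¹ with hj'
  have hj'z : cjK z j' = j'⁻¹ := by rw [hj', cjK_mul, cjK_inv, hjz]; simp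
  have hlj : cjK l j' = i := by
    refine hunique _ _ (hinvcj l j' hlz hj'z) hiz (Multiplicative.toAdd.injective ?_)
    rw [cjK_φ, hlρ, hiφ, hj', map_mul, map_inv, toAdd_mul, toAdd_inv, hjφ]
    funext r; fin_cases r <;> simp [A₀, Matrix.mulVec, dotProduct, Fin.sum_univ_two] <;> ring
  set σ : T := l * ε * l⁻¹ with hσ
  have hσi : cjK σ i = w := by
    rw [← hlj, ← cjK_comp, hσ, inv_mul_cancel_right, cjK_comp, hw, ← hlj]
    have e1 : cjK ε j' = j' * (f⁻¹ * f⁻¹) := by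
      rw [hj', cjK_mul, cjK_inv, hεj, mul_inv_rev]
      calc f⁻¹ * j⁻¹ * (f⁻¹ * j⁻¹) = (j⁻¹ * f⁻¹) * (j⁻¹ * f⁻¹) := by rw [(hcjf.inv_inv).eq]
        _ = j⁻¹ * (f⁻¹ * j⁻¹) * f⁻¹ := by group
        _ = _ := by rw [← (hcjf.inv_inv).eq]; group
    rw [e1, cjK_mul]
    congr 1
    exact hlC' _ (by rw [map_mul, map_inv, hfφ, inv_one, one_mul])
  have hi1 : i ≠ 1 := fun h => by
    rw [h, map_one, toAdd_one] at hiφ
    have := congrFun hiφ 0
    simp [h2ne] at this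
  have hip : i ^ p = 1 := by
    refine hunique _ _ (hinvpow i p hiz) (by rw [inv_one, hcj_one]) ?_
    apply Multiplicative.toAdd.injective
    rw [map_pow, toAdd_pow, map_one, toAdd_one]
    exact funext fun r => by simp
  refine ⟨w, hwW, w.2, fun h => hi1 ?_, ?_, fun ζ => ?_⟩
  · have h1 : w = 1 := Subtype.ext h
    rw [← hσi] at h1
    have h2 := congrArg (cjK σ⁻¹) h1
    rw [← cjK_comp, inv_mul_cancel, hcj_one σ⁻¹, hcj_id] at h2
    rw [h2]
  · have : w ^ p = 1 := by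
      rw [← hσi, ← cjK_pow, hip, hcj_one]
    exact congrArg Subtype.val this
  let D : SL₂ := ⟨!![(ζ : ZMod p), 0; 0, ((ζ⁻¹ : (ZMod p)ˣ) : ZMod p)], by
    rw [Matrix.det_fin_two_of, mul_zero, sub_zero, ← Units.val_mul, mul_inv_cancel, Units.val_one]⟩
  obtain ⟨d₀, hd₀⟩ := hρ D
  obtain ⟨d, -, hdρ, hdz⟩ := hlift d₀
  rw [hd₀] at hdρ
  have hdi : cjK d i = i ^ (ζ : ZMod p).val := by
    refine hunique _ _ (hinvcj d i hdz hiz) (hinvpow i _ hiz) (Multiplicative.toAdd.injective ?_)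
    rw [cjK_φ, hdρ, map_pow, toAdd_pow, hiφ]
    funext r
    rw [Pi.smul_apply, nsmul_eq_mul, ZMod.natCast_zmod_val]
    fin_cases r <;> simp only [D, Matrix.mulVec, dotProduct, Fin.sum_univ_two, Matrix.of_apply, Matrix.cons_val',
      Matrix.cons_val_zero, Matrix.cons_val_one, Matrix.empty_val', Matrix.cons_val_fin_one, Fin.isValue,
      Fin.zero_eta, Fin.mk_one, mul_zero, zero_mul, add_zero]
  refine ⟨(σ * d * σ⁻¹ : T), SetLike.coe_mem _, ?_⟩
  have : cjK (σ * d * σ⁻¹) w = w ^ (ζ : ZMod p).val := by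
    rw [← hσi, ← cjK_comp, inv_mul_cancel_right, cjK_comp, hdi, cjK_pow]
  exact congrArg Subtype.val this

end Cfsg.Agent.Lib.PLocal
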