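import Cfsg.Agent.Lib.PLocal.Thompson
import Mathlib.GroupTheory.Commutator.Basic

/-!
Quadratic action on an abelian subgroup, elementwise.
-/

set_option autoImplicit false

namespace Cfsg.Agent.Lib.PLocal

open scoped commutatorElement

variable {G : Type*} [Group G]

lemma commutatorElement_mem_left {V A : Subgroup G} (hA : A ≤ Subgroup.normalizer (V : Set G))
    {v a : G} (hv : v ∈ V) (ha : a ∈ A) : ⁅a, v⁆ ∈ V := by
  rw [commutatorElement_def]
  exact mul_mem ((Subgroup.mem_normalizer_iff.mp (hA ha) v).mp hv) (inv_mem hv)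

lemma commutator_le_of_le_normalizer' {V A : Subgroup G} (hA : A ≤ Subgroup.normalizer (V : Set G)) :
    ⁅V, A⁆ ≤ V := by
  rw [Subgroup.commutator_comm, Subgroup.commutator_le]
  exact fun a ha v hv => commutatorElement_mem_left hA hv ha

lemma commutatorElement_mem_commutator_symm {V A : Subgroup G} {v a : G} (hv : v ∈ V) (ha : a ∈ A) :
    ⁅a, v⁆ ∈ ⁅V, A⁆ := by
  rw [Subgroup.commutator_comm]; exact Subgroup.commutator_mem_commutator ha hv

/-- The elementwise form of `[V, ⟨a⟩, ⟨a⟩] = 1`. -/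
def QuadOn (V : Subgroup G) (a : G) : Prop := ∀ v ∈ V, a * ⁅a, v⁆ = ⁅a, v⁆ * a

lemma conj_pow_of_quad {V : Subgroup G} {a v : G} (h : QuadOn V a) (hv : v ∈ V) (n : ℕ) :
    ⁅a ^ n, v⁆ = ⁅a, v⁆ ^ n := by
  induction n with
  | zero => simp
  | succ n ih =>
    have e : ⁅a * a ^ n, v⁆ = a * ⁅a ^ n, v⁆ * a⁻¹ * ⁅a, v⁆ := by
      simp only [commutatorElement_def]; group
    rw [pow_succ', e, ih, ((show Commute a ⁅a, v⁆ from h v hv).pow_right n).eq,
      mul_inv_cancel_right, pow_succ]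

lemma commutator_zpowers_eq_bot_iff [Finite G] {V : Subgroup G} {a : G} :
    ⁅⁅V, Subgroup.zpowers a⁆, Subgroup.zpowers a⁆ = ⊥ ↔ QuadOn V a := by
  constructor
  · intro h v hv
    rw [Subgroup.commutator_eq_bot_iff_le_centralizer] at h
    exact h (commutatorElement_mem_commutator_symm hv (Subgroup.mem_zpowers a)) a
      (Subgroup.mem_zpowers a)
  · intro h
    rw [Subgroup.commutator_eq_bot_iff_le_centralizer, Subgroup.zpowers_eq_closure a,
      Subgroup.centralizer_closure, ← Subgroup.zpowers_eq_closure a, Subgroup.commutator_le]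
    intro v hv b hb
    obtain ⟨n, rfl⟩ : ∃ n : ℕ, a ^ n = b := (mem_powers_iff_mem_zpowers (x := a) (y := b)).mpr hb
    rw [Subgroup.mem_centralizer_singleton_iff, ← commutatorElement_inv, conj_pow_of_quad h hv]
    exact ((show Commute a ⁅a, v⁆ from h v hv).pow_right n).inv_right.eq.symm

lemma quadOn_of_le {V W : Subgroup G} {a : G} (h : QuadOn V a) (hle : W ≤ V) : QuadOn W a :=
  fun v hv => h v (hle hv)

lemma quadOn_conj {V : Subgroup G} [V.Normal] {a : G} (h : QuadOn V a) (g : G) :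
    QuadOn V (g * a * g⁻¹) := by
  intro v hv
  have hv' : g⁻¹ * v * g ∈ V := by simpa using ‹V.Normal›.conj_mem v hv g⁻¹
  have e : ⁅g * a * g⁻¹, v⁆ = g * ⁅a, g⁻¹ * v * g⁆ * g⁻¹ := by
    simp only [commutatorElement_def]; group
  rw [e]
  calc g * a * g⁻¹ * (g * ⁅a, g⁻¹ * v * g⁆ * g⁻¹) = g * (a * ⁅a, g⁻¹ * v * g⁆) * g⁻¹ := by group
    _ = g * (⁅a, g⁻¹ * v * g⁆ * a) * g⁻¹ := by rw [h _ hv']
    _ = g * ⁅a, g⁻¹ * v * g⁆ * g⁻¹ * (g * a * g⁻¹) := by group

/-- Multiplying by an element centralising `V` does not change quadratic action. -/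
lemma quadOn_mul_centralizer {V : Subgroup G} {a c : G} (ha : a ∈ Subgroup.normalizer (V : Set G))
    (h : QuadOn V a) (hc : c ∈ Subgroup.centralizer (V : Set G)) : QuadOn V (c * a) := by
  intro v hv
  have hw : ⁅a, v⁆ ∈ V := commutatorElement_mem_left (A := Subgroup.normalizer (V : Set G)) le_rfl hv ha
  have hav : a * v * a⁻¹ ∈ V := (Subgroup.mem_normalizer_iff.mp ha v).mp hv
  have e : ⁅c * a, v⁆ = ⁅a, v⁆ := by
    simp only [commutatorElement_def]
    calc c * a * v * (c * a)⁻¹ * v⁻¹ = c * (a * v * a⁻¹) * c⁻¹ * v⁻¹ := by group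
      _ = _ := by rw [(hc _ hav).symm, mul_inv_cancel_right]
  rw [e]
  calc c * a * ⁅a, v⁆ = c * ⁅a, v⁆ * a := by rw [mul_assoc, h v hv, mul_assoc]
    _ = ⁅a, v⁆ * c * a := by rw [(hc _ hw).symm]
    _ = _ := by rw [mul_assoc]

lemma quadOn_one (V : Subgroup G) : QuadOn V (1 : G) := fun v _ => by simp

/-- Quadratic action: the image of the acting group is elementary abelian. -/
lemma commute_of_quadratic {V H : Subgroup G} (hab : ∀ a ∈ V, ∀ b ∈ V, a * b = b * a)
    (hHV : H ≤ Subgroup.normalizer (V : Set G)) (hq : ⁅⁅V, H⁆, H⁆ = ⊥) {a b v : G}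
    (ha : a ∈ H) (hb : b ∈ H) (hv : v ∈ V) :
    a * b * v * (a * b)⁻¹ = ⁅a, v⁆ * ⁅b, v⁆ * v := by
  rw [Subgroup.commutator_eq_bot_iff_le_centralizer] at hq
  have h1 : a * ⁅b, v⁆ = ⁅b, v⁆ * a := hq (commutatorElement_mem_commutator_symm hv hb) a ha
  calc a * b * v * (a * b)⁻¹ = a * ⁅b, v⁆ * (v * a⁻¹) := by
        simp only [commutatorElement_def]; group
    _ = ⁅b, v⁆ * (⁅a, v⁆ * v) := by
        rw [h1]; simp only [commutatorElement_def]; group
    _ = ⁅a, v⁆ * ⁅b, v⁆ * v := by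
        rw [← mul_assoc, hab _ (commutatorElement_mem_left hHV hv hb) _
          (commutatorElement_mem_left hHV hv ha)]

lemma commutator_le_centralizer_of_quadratic {V H : Subgroup G}
    (hab : ∀ a ∈ V, ∀ b ∈ V, a * b = b * a)
    (hHV : H ≤ Subgroup.normalizer (V : Set G)) (hq : ⁅⁅V, H⁆, H⁆ = ⊥) :
    ⁅H, H⁆ ≤ Subgroup.centralizer (V : Set G) := by
  rw [Subgroup.commutator_le]
  intro a ha b hb v hv
  set w := (b * a)⁻¹ * v * (b * a) with hw
  have hwV : w ∈ V := (Subgroup.mem_normalizer_iff''.mp (mul_mem (hHV hb) (hHV ha)) v).mp hv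
  have h : a * b * w * (a * b)⁻¹ = v := by
    rw [commute_of_quadratic hab hHV hq ha hb hwV,
      hab _ (commutatorElement_mem_left hHV hwV ha) _ (commutatorElement_mem_left hHV hwV hb),
      ← commute_of_quadratic hab hHV hq hb ha hwV, hw]
    group
  have h' : ⁅a, b⁆ * v * ⁅a, b⁆⁻¹ = v := by
    calc ⁅a, b⁆ * v * ⁅a, b⁆⁻¹ = a * b * w * (a * b)⁻¹ := by
          rw [hw]; simp only [commutatorElement_def]; group
      _ = v := h
  exact (mul_inv_eq_iff_eq_mul.mp h').symm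

lemma pow_mem_centralizer_of_quadratic [Finite G] {p : ℕ} {V H : Subgroup G}
    (hV : Cfsg.IsElementaryAbelian p V) (hHV : H ≤ Subgroup.normalizer (V : Set G))
    (hq : ⁅⁅V, H⁆, H⁆ = ⊥) {a : G} (ha : a ∈ H) :
    a ^ p ∈ Subgroup.centralizer (V : Set G) := by
  have hqa : QuadOn V a := by
    rw [← commutator_zpowers_eq_bot_iff, eq_bot_iff, ← hq]
    exact Subgroup.commutator_mono (Subgroup.commutator_mono le_rfl (Subgroup.zpowers_le.mpr ha))
      (Subgroup.zpowers_le.mpr ha)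
  intro v hv
  have h1 := conj_pow_of_quad hqa hv p
  rw [hV.2 _ (commutatorElement_mem_left hHV hv ha)] at h1
  exact (commutatorElement_eq_one_iff_mul_comm.mp h1).symm

end Cfsg.Agent.Lib.PLocal
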