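import Cfsg.Agent.Lib.PLocal.Dickson
import Cfsg.Agent.Lib.PLocal.Quadratic
import Mathlib.FieldTheory.Finite.Basic

/-!
Quadratic pairs have sections isomorphic to `SL₂(p)`, and these have nonabelian Sylow `2`-subgroups.
-/

set_option autoImplicit false
set_option linter.unusedSectionVars false
set_option linter.style.haveILetI false

open Matrix
open scoped commutatorElement

namespace Cfsg.Agent.Lib.PLocal

universe u

variable {p : ℕ} [hp : Fact p.Prime]

local notation "SL₂" => Matrix.SpecialLinearGroup (Fin 2) (ZMod p)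

/-- two elements acting on an image of `K₀` as the standard transvections generate a group mapping onto
`SL₂(p)` -/
theorem exists_surjective_slTwo {G : Type u} [Group G] [Finite G] {P T : Subgroup G} {a : G}
    (h : HasPlane p P T a) :
    ∃ (K : Subgroup G) (f : K →* SL₂), K ≤ T ∧ Function.Surjective f := by
  obtain ⟨K₀, φ, g₁, g₂, -, hφ, hg₁, hg₂, hn₁, hn₂, h1, h2, -, -⟩ := h
  let Rel : Set (G × SL₂) := {x | x.1 ∈ T ∧ x.1 ∈ Subgroup.normalizer (K₀ : Set G) ∧
    ∀ (k : K₀) (hk : x.1 * (k : G) * x.1⁻¹ ∈ K₀), (φ ⟨_, hk⟩).toAdd = x.2.1 *ᵥ (φ k).toAdd}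
  let Γ : Subgroup (G × SL₂) :=
    { carrier := Rel
      one_mem' := ⟨one_mem _, one_mem _, fun k hk => by
        rw [Prod.snd_one, Matrix.SpecialLinearGroup.coe_one, Matrix.one_mulVec]
        exact congrArg (fun y => (φ y).toAdd) (Subtype.ext (by simp))⟩
      mul_mem' := fun {x y} hx hy => ⟨mul_mem hx.1 hy.1, mul_mem hx.2.1 hy.2.1, fun k hk => by
        have hk' : y.1 * (k : G) * y.1⁻¹ ∈ K₀ := (Subgroup.mem_normalizer_iff.1 hy.2.1 _).1 k.2
        have hk'' : x.1 * (y.1 * (k : G) * y.1⁻¹) * x.1⁻¹ ∈ K₀ :=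
          (Subgroup.mem_normalizer_iff.1 hx.2.1 _).1 hk'
        rw [Prod.snd_mul, Matrix.SpecialLinearGroup.coe_mul, ← Matrix.mulVec_mulVec, ← hy.2.2 k hk',
          ← hx.2.2 ⟨_, hk'⟩ hk'']
        exact congrArg (fun z => (φ z).toAdd) (Subtype.ext (by
          show (x * y).1 * (k : G) * ((x * y).1)⁻¹ = x.1 * (y.1 * (k : G) * y.1⁻¹) * x.1⁻¹
          rw [Prod.fst_mul]; group))⟩
      inv_mem' := fun {x} hx => ⟨inv_mem hx.1, inv_mem hx.2.1, fun k hk => by
        have hk' : x.1 * (x⁻¹.1 * (k : G) * x⁻¹.1⁻¹) * x.1⁻¹ ∈ K₀ :=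
          (Subgroup.mem_normalizer_iff.1 hx.2.1 _).1 hk
        have h3 := hx.2.2 ⟨_, hk⟩ hk'
        have e : (⟨_, hk'⟩ : K₀) = k := Subtype.ext (by
          show x.1 * (x⁻¹.1 * (k : G) * x⁻¹.1⁻¹) * x.1⁻¹ = k
          rw [Prod.fst_inv]; group)
        rw [e] at h3
        rw [h3, Prod.snd_inv, Matrix.mulVec_mulVec, ← Matrix.SpecialLinearGroup.coe_mul, inv_mul_cancel,
          Matrix.SpecialLinearGroup.coe_one, Matrix.one_mulVec]⟩ }
  have hm₁ : (g₁, upT p) ∈ Γ := ⟨hg₁, hn₁, fun k hk => h1 k hk⟩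
  have hm₂ : (g₂, loT p) ∈ Γ := ⟨hg₂, hn₂, fun k hk => h2 k hk⟩
  let π₁ : Γ →* G := (MonoidHom.fst G SL₂).comp Γ.subtype
  have hinj : Function.Injective π₁ := by
    rw [injective_iff_map_eq_one]
    rintro ⟨⟨g, A⟩, hx⟩ hg
    replace hg : g = 1 := hg
    subst hg
    have hA : A = 1 := mulVec_ext (p := p) fun v => by
      obtain ⟨k, hk⟩ := hφ (Multiplicative.ofAdd v)
      have hk1 : (1 : G) * (k : G) * (1 : G)⁻¹ ∈ K₀ := by simpa using k.2
      have h3 := hx.2.2 k hk1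
      rw [show (⟨_, hk1⟩ : K₀) = k from Subtype.ext (by simp), hk, toAdd_ofAdd] at h3
      rw [Matrix.SpecialLinearGroup.coe_one, Matrix.one_mulVec]
      exact h3.symm
    exact Subtype.ext (Prod.ext rfl hA)
  let e := MonoidHom.ofInjective hinj
  refine ⟨π₁.range, ((MonoidHom.snd G SL₂).comp Γ.subtype).comp e.symm.toMonoidHom, ?_, ?_⟩
  · rintro _ ⟨⟨x, hx⟩, rfl⟩
    exact hx.1
  · have hsur : Function.Surjective ((MonoidHom.snd G SL₂).comp Γ.subtype) := by
      rw [← MonoidHom.range_eq_top, eq_top_iff, ← closure_upT_loT (p := p), Subgroup.closure_le]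
      rintro _ (rfl | rfl)
      · exact ⟨⟨_, hm₁⟩, rfl⟩
      · exact ⟨⟨_, hm₂⟩, rfl⟩
    intro A
    obtain ⟨z, hz⟩ := hsur A
    exact ⟨e z, (congrArg _ (e.symm_apply_apply z)).trans hz⟩

/-- from a surjection to a section -/
theorem exists_section_slTwo {G : Type u} [Group G] [Finite G] {H K : Subgroup G} (hKH : K ≤ H)
    (f : K →* SL₂) (hf : Function.Surjective f) :
    ∃ (K L : Subgroup G) (hL : (L.subgroupOf K).Normal), K ≤ H ∧
      Nonempty ((K ⧸ L.subgroupOf K) ≃* SL₂) := by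
  have hker : (f.ker.map K.subtype).subgroupOf K = f.ker :=
    Subgroup.comap_map_eq_self_of_injective K.subtype_injective _
  have hn : ((f.ker.map K.subtype).subgroupOf K).Normal := by rw [hker]; infer_instance
  exact ⟨K, f.ker.map K.subtype, hn, hKH, ⟨(QuotientGroup.quotientMulEquivOfEq hker).trans
    (QuotientGroup.quotientKerEquivOfSurjective f hf)⟩⟩

/-- `SL₂(p)` has a nonabelian `2`-subgroup -/
theorem exists_two_subgroup_slTwo (hp2 : p ≠ 2) :
    ∃ (Q : Subgroup SL₂) (x y : SL₂), IsPGroup 2 Q ∧ x ∈ Q ∧ y ∈ Q ∧ x * y ≠ y * x := by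
  obtain ⟨a, b, hab⟩ := ZMod.sq_add_sq p (-1)
  let x : SL₂ := ⟨!![0, 1; -1, 0], by simp [Matrix.det_fin_two]⟩
  let y : SL₂ := ⟨!![a, b; b, -a], by
    rw [Matrix.det_fin_two_of]; linear_combination -hab⟩
  have h2 : (2 : ZMod p) ≠ 0 := by
    intro h
    have h' : ((2 : ℕ) : ZMod p) = 0 := by exact_mod_cast h
    rw [CharP.cast_eq_zero_iff (ZMod p) p] at h'
    exact hp2 ((Nat.prime_dvd_prime_iff_eq hp.out Nat.prime_two).1 h')
  have hx2 : x.1 * x.1 = -1 := by
    ext i k; fin_cases i <;> fin_cases k <;> simp [x, Matrix.mul_apply, Fin.sum_univ_two]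
  have hy2 : y.1 * y.1 = -1 := by
    ext i k; fin_cases i <;> fin_cases k <;> simp [y, Matrix.mul_apply, Fin.sum_univ_two] <;>
      first | ring1 | linear_combination hab
  have hxy : x.1 * y.1 = -(y.1 * x.1) := by
    ext i k; fin_cases i <;> fin_cases k <;> simp [x, y, Matrix.mul_apply, Fin.sum_univ_two]
  have hpow : ∀ z : SL₂, z.1 * z.1 = -1 → z ^ 2 ^ 2 = 1 := fun z hz => by
    apply Subtype.ext
    rw [show (2 : ℕ) ^ 2 = 2 + 2 from rfl, pow_add, pow_two]
    simp [Matrix.SpecialLinearGroup.coe_mul, hz]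
  have hconj : x * y * x⁻¹ = y⁻¹ := by
    rw [mul_inv_eq_iff_eq_mul, eq_inv_mul_iff_mul_eq]
    apply Subtype.ext
    rw [Matrix.SpecialLinearGroup.coe_mul, Matrix.SpecialLinearGroup.coe_mul, hxy, mul_neg, ← mul_assoc,
      hy2, neg_one_mul, neg_neg]
  have hp' : ∀ z : SL₂, z.1 * z.1 = -1 → IsPGroup 2 (Subgroup.zpowers z) := fun z hz => by
    obtain ⟨j, -, hj⟩ := (Nat.dvd_prime_pow Nat.prime_two).1 (orderOf_dvd_of_pow_eq_one (hpow z hz))
    exact IsPGroup.of_card (n := j) (by rw [Nat.card_zpowers, hj])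
  have hN : Subgroup.zpowers x ≤ Subgroup.normalizer (Subgroup.zpowers y : Set SL₂) := by
    rw [Subgroup.zpowers_le, Subgroup.mem_normalizer_iff_map_conj_eq, MonoidHom.map_zpowers]
    show Subgroup.zpowers (x * y * x⁻¹) = _
    rw [hconj, Subgroup.zpowers_inv]
  refine ⟨Subgroup.zpowers x ⊔ Subgroup.zpowers y, x, y, (hp' x hx2).to_sup_of_normal_right' (hp' y hy2) hN,
    Subgroup.mem_sup_left (Subgroup.mem_zpowers x), Subgroup.mem_sup_right (Subgroup.mem_zpowers y), ?_⟩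
  intro h
  have h' := congrArg Subtype.val h
  rw [Matrix.SpecialLinearGroup.coe_mul, Matrix.SpecialLinearGroup.coe_mul, hxy] at h'
  have h00 := congrFun (congrFun h' 0) 0
  have h01 := congrFun (congrFun h' 0) 1
  simp [x, y, Matrix.mul_apply, Fin.sum_univ_two] at h00 h01
  have hb : b = 0 := by
    have : (2 : ZMod p) * b = 0 := by linear_combination h00
    exact (mul_eq_zero.1 this).resolve_left h2
  have ha : a = 0 := by
    have : (2 : ZMod p) * a = 0 := by first | linear_combination h01 | linear_combination (-1 : ZMod p) * h01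
    exact (mul_eq_zero.1 this).resolve_left h2
  rw [ha, hb] at hab
  norm_num at hab

/-- no subgroup of a group with abelian Sylow `2`-subgroups maps onto `SL₂(p)` -/
theorem false_of_abelian_sylow (hp2 : p ≠ 2) {G : Type u} [Group G] [Finite G] {H : Subgroup G} (T : Sylow 2 H)
    (hT : IsMulCommutative T) {K : Subgroup G} (hKH : K ≤ H) (f : K →* SL₂) (hf : Function.Surjective f) :
    False := by
  have : Fact (Nat.Prime 2) := ⟨Nat.prime_two⟩
  obtain ⟨Q, x, y, hQ, hx, hy, hxy⟩ := exists_two_subgroup_slTwo (p := p) hp2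
  obtain ⟨U⟩ : Nonempty (Sylow 2 K) := inferInstance
  obtain ⟨W, hW⟩ := hQ.exists_le_sylow
  obtain ⟨g, hg⟩ := MulAction.exists_smul_eq SL₂ W (U.mapSurjective hf)
  have hUab : ∀ s ∈ (U : Subgroup K), ∀ t ∈ (U : Subgroup K), s * t = t * s := by
    intro s hs t ht
    obtain ⟨T', hT'⟩ := (U.2.map (Subgroup.inclusion hKH)).exists_le_sylow
    have h1 : Subgroup.inclusion hKH s ∈ (T' : Subgroup H) := hT' ⟨s, hs, rfl⟩
    have h2 : Subgroup.inclusion hKH t ∈ (T' : Subgroup H) := hT' ⟨t, ht, rfl⟩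
    refine Subgroup.inclusion_injective hKH ?_
    rw [map_mul, map_mul]
    obtain ⟨e⟩ : Nonempty ((T' : Subgroup H) ≃* (T : Subgroup H)) := ⟨T'.equiv T⟩
    have h3 : e ⟨_, h1⟩ * e ⟨_, h2⟩ = e ⟨_, h2⟩ * e ⟨_, h1⟩ := hT.is_comm.comm _ _
    rw [← map_mul, ← map_mul] at h3
    exact congrArg Subtype.val (e.injective h3)
  have key : ∀ z ∈ Q, g * z * g⁻¹ ∈ (U : Subgroup K).map f := by
    intro z hz
    rw [← Sylow.coe_mapSurjective hf U, ← hg]
    exact ⟨z, hW hz, rfl⟩
  obtain ⟨s, hs, hse⟩ := key x hx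
  obtain ⟨t, ht, hte⟩ := key y hy
  apply hxy
  have h3 := congrArg f (hUab s hs t ht)
  rw [map_mul, map_mul, hse, hte] at h3
  have h4 : g * (x * y) * g⁻¹ = g * (y * x) * g⁻¹ := by
    calc g * (x * y) * g⁻¹ = g * x * g⁻¹ * (g * y * g⁻¹) := by group
      _ = g * y * g⁻¹ * (g * x * g⁻¹) := h3
      _ = _ := by group
  exact mul_left_cancel (mul_right_cancel h4)

/-- a faithful quadratic pair not generating a `p`-group has a section `SL₂(p)` -/
theorem exists_surjective_of_pair {G : Type u} [Group G] [Finite G] (hp2 : p ≠ 2) {V : Subgroup G}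
    (hV : IsPGroup p V) {a b : G} (ha : a ∈ Subgroup.normalizer (V : Set G))
    (hb : b ∈ Subgroup.normalizer (V : Set G))
    (hf : Subgroup.closure ({a, b} : Set G) ⊓ Subgroup.centralizer (V : Set G) = ⊥)
    (hqa : ⁅⁅V, Subgroup.zpowers a⁆, Subgroup.zpowers a⁆ = ⊥)
    (hqb : ⁅⁅V, Subgroup.zpowers b⁆, Subgroup.zpowers b⁆ = ⊥)
    (hnp : ¬ IsPGroup p ↥(Subgroup.closure ({a, b} : Set G))) :
    ∃ (K : Subgroup G) (f : K →* SL₂), K ≤ Subgroup.closure ({a, b} : Set G) ∧ Function.Surjective f := by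
  have conv : ∀ g : G, ⁅⁅V, Subgroup.zpowers g⁆, Subgroup.zpowers g⁆ = ⊥ → ∀ x ∈ V, Commute g ⁅x, g⁆ := by
    intro g hq x hx
    have h1 := Subgroup.commutator_mem_commutator
      (Subgroup.commutator_mem_commutator hx (Subgroup.mem_zpowers g)) (Subgroup.mem_zpowers g)
    rw [hq, Subgroup.mem_bot, commutatorElement_eq_one_iff_mul_comm] at h1
    exact h1.symm
  rcases centralizes_or_hasPlane dicksonTwo hp2 hV ha hb (conv a hqa) (conv b hqb) with h | h
  · exfalso
    refine hnp fun t => ?_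
    obtain ⟨k, hk⟩ := OddLocal.exists_orderOf_pow_coprime p (t : G)
    refine ⟨k, Subtype.ext ?_⟩
    have h1 : (t : G) ^ p ^ k ∈ Subgroup.closure ({a, b} : Set G) ⊓ Subgroup.centralizer (V : Set G) :=
      ⟨pow_mem t.2 _, h _ (pow_mem t.2 _) hk⟩
    rw [hf, Subgroup.mem_bot] at h1
    simpa using h1
  · exact exists_surjective_slTwo h

/-- a quadratic element outside the core of a faithful group gives a section `SL₂(p)` -/
theorem exists_surjective_of_quad {G : Type u} [Group G] [Finite G] (hp2 : p ≠ 2) {V H : Subgroup G}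
    (hV : IsPGroup p V) (hHV : H ≤ Subgroup.normalizer (V : Set G))
    (hf : H ⊓ Subgroup.centralizer (V : Set G) = ⊥) {a : G} (haH : a ∈ H) (hap : ∃ k : ℕ, orderOf a = p ^ k)
    (hq : ⁅⁅V, Subgroup.zpowers a⁆, Subgroup.zpowers a⁆ = ⊥) (hna : a ∉ (Cfsg.pCore p H).map H.subtype) :
    ∃ (K : Subgroup G) (f : K →* SL₂), K ≤ H ∧ Function.Surjective f := by
  obtain ⟨k, hk⟩ := hap
  set x : H := ⟨a, haH⟩ with hx
  have hX : IsPGroup p (Subgroup.zpowers x) :=
    IsPGroup.of_card (n := k) (by rw [Nat.card_zpowers, ← hk, ← Subgroup.orderOf_coe])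
  by_contra hcon
  obtain ⟨N, hNn, hNp, hxN⟩ := Involutions.baer_suzuki (Subgroup.zpowers x) hX (by
    intro h
    by_contra hnot
    apply hcon
    set b := (h : G) * a * (h : G)⁻¹ with hb
    have hbH : b ∈ H := mul_mem (mul_mem h.2 haH) (inv_mem h.2)
    have hle : Subgroup.closure ({a, b} : Set G) ≤ H :=
      (Subgroup.closure_le _).2 (by rintro _ (rfl | rfl) <;> assumption)
    have hqb : ⁅⁅V, Subgroup.zpowers b⁆, Subgroup.zpowers b⁆ = ⊥ := by
      rw [commutator_zpowers_eq_bot_iff] at hq ⊢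
      intro v hv
      have hv' : (h : G)⁻¹ * v * h ∈ V := (Subgroup.mem_normalizer_iff''.1 (hHV h.2) v).1 hv
      have e : ⁅b, v⁆ = (h : G) * ⁅a, (h : G)⁻¹ * v * h⁆ * (h : G)⁻¹ := by
        simp only [hb, commutatorElement_def]; group
      rw [e, hb]
      calc (h : G) * a * (h : G)⁻¹ * ((h : G) * ⁅a, (h : G)⁻¹ * v * h⁆ * (h : G)⁻¹)
          = (h : G) * (a * ⁅a, (h : G)⁻¹ * v * h⁆) * (h : G)⁻¹ := by group
        _ = (h : G) * (⁅a, (h : G)⁻¹ * v * h⁆ * a) * (h : G)⁻¹ := by rw [hq _ hv']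
        _ = _ := by group
    have hp' : ¬ IsPGroup p ↥(Subgroup.closure ({a, b} : Set G)) := by
      intro hp'
      refine hnot (IsPGroup.of_injective hp' (((H.subtype).comp (Subgroup.subtype _)).codRestrict _ fun z => ?_)
        fun z z' e => Subtype.ext (Subtype.ext (congrArg Subtype.val e :)))
      have : (Subgroup.zpowers x ⊔ (Subgroup.zpowers x).map (MulAut.conj h).toMonoidHom).map H.subtype ≤
          Subgroup.closure ({a, b} : Set G) := by
        rw [Subgroup.map_sup, Subgroup.map_map, MonoidHom.map_zpowers, MonoidHom.map_zpowers]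
        exact sup_le (Subgroup.zpowers_le.2 (Subgroup.subset_closure (Or.inl rfl)))
          (Subgroup.zpowers_le.2 (Subgroup.subset_closure (Or.inr rfl)))
      exact this ⟨z, z.2, rfl⟩
    obtain ⟨K, f, hK, hfs⟩ := exists_surjective_of_pair hp2 hV (hHV haH) (hHV hbH)
      (le_bot_iff.1 ((inf_le_inf_right _ hle).trans hf.le)) hq hqb hp'
    exact ⟨K, f, hK.trans hle, hfs⟩)
  exact hna ⟨x, Cores.le_pCore hNn hNp (hxN (Subgroup.mem_zpowers x)), rfl⟩

/-- in a faithful group on an elementary abelian group quadratic elements have order dividing `p` -/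
theorem exists_orderOf_eq_of_quad {G : Type u} [Group G] [Finite G] {V H : Subgroup G}
    (hV : Cfsg.IsElementaryAbelian p V) (hHV : H ≤ Subgroup.normalizer (V : Set G))
    (hf : H ⊓ Subgroup.centralizer (V : Set G) = ⊥) {a : G} (haH : a ∈ H)
    (hq : ⁅⁅V, Subgroup.zpowers a⁆, Subgroup.zpowers a⁆ = ⊥) : ∃ k : ℕ, orderOf a = p ^ k := by
  have h1 : a ^ p ∈ H ⊓ Subgroup.centralizer (V : Set G) := ⟨pow_mem haH p,
    pow_mem_centralizer_of_quadratic hV ((Subgroup.zpowers_le.2 haH).trans hHV) hq (Subgroup.mem_zpowers a)⟩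
  rw [hf, Subgroup.mem_bot] at h1
  obtain ⟨k, -, hk⟩ := (Nat.dvd_prime_pow hp.out).1 (show orderOf a ∣ p ^ 1 from by
    rw [pow_one]; exact orderOf_dvd_of_pow_eq_one h1)
  exact ⟨k, hk⟩

theorem isPGroup_of_elementary {G : Type u} [Group G] {V : Subgroup G}
    (hV : Cfsg.IsElementaryAbelian p V) : IsPGroup p V :=
  fun v => ⟨1, Subtype.ext (by rw [pow_one]; exact hV.2 v v.2)⟩

end Cfsg.Agent.Lib.PLocal
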