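import Mathlib

/-!
Polynomial sequences in a filtered group: the product of the conjugates of an element under an element
of order `p` of a small centralizer.
-/

set_option autoImplicit false
set_option linter.unusedSectionVars false

namespace Cfsg.Agent.Lib.PLocal.PolySeq

open scoped commutatorElement

universe u

variable {G : Type u} [Group G]

/-- the difference of a sequence -/
def dd (f : ℕ → G) : ℕ → G := fun n => (f n)⁻¹ * f (n + 1)

/-- iterated differences -/
def dk (i : ℕ) (f : ℕ → G) : ℕ → G := dd^[i] f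

@[simp] theorem dk_zero (f : ℕ → G) : dk 0 f = f := rfl

theorem dk_succ (i : ℕ) (f : ℕ → G) : dk (i + 1) f = dk i (dd f) := rfl

theorem dk_succ' (i : ℕ) (f : ℕ → G) : dk (i + 1) f = dd (dk i f) := Function.iterate_succ_apply' dd i f

theorem dk_step (i : ℕ) (f : ℕ → G) (n : ℕ) : dk i f (n + 1) = dk i f n * dk (i + 1) f n := by
  rw [dk_succ', dd, mul_inv_cancel_left]

/-- A filtration compatible with commutators. -/
structure Filt (R : ℕ → Subgroup G) : Prop where
  normal : ∀ a, (R a).Normal
  anti : Antitone R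
  comm : ∀ a b, ⁅R a, R b⁆ ≤ R (a + b + 1)

/-- polynomial sequences, up to the `k`-th difference -/
def Poly (R : ℕ → Subgroup G) (k d : ℕ) (f : ℕ → G) : Prop := ∀ i ≤ k, ∀ n, dk i f n ∈ R (d + i)

variable {R : ℕ → Subgroup G} {k d : ℕ} {f g : ℕ → G}

theorem Poly.of_succ (h : Poly R (k + 1) d f) : Poly R k d f := fun i hi => h i (by omega)

theorem Poly.diff (h : Poly R (k + 1) d f) : Poly R k (d + 1) (dd f) := fun i hi n => by
  have := h (i + 1) (by omega) n
  rwa [dk_succ, show d + (i + 1) = d + 1 + i by omega] at this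

theorem Poly.mk_succ (h0 : ∀ n, f n ∈ R d) (h : Poly R k (d + 1) (dd f)) : Poly R (k + 1) d f := by
  rintro (_ | i) hi n
  · exact h0 n
  · rw [dk_succ, show d + (i + 1) = d + 1 + i by omega]; exact h i (by omega) n

theorem Poly.mono (hR : Filt R) {d' : ℕ} (hd : d ≤ d') (h : Poly R k d' f) : Poly R k d f :=
  fun i hi n => hR.anti (by omega) (h i hi n)

theorem closure_aux (hR : Filt R) : ∀ k : ℕ,
    (∀ d f g, Poly R k d f → Poly R k d g → Poly R k d (fun n => f n * g n)) ∧
    (∀ d f, Poly R k d f → Poly R k d (fun n => (f n)⁻¹)) ∧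
    (∀ a b f g, Poly R k a f → Poly R k b g → Poly R k (a + b + 1) (fun n => ⁅f n, g n⁆)) := by
  intro k
  induction k with
  | zero =>
    refine ⟨fun d f g hf hg i hi n => ?_, fun d f hf i hi n => ?_, fun a b f g hf hg i hi n => ?_⟩ <;>
      obtain rfl : i = 0 := by omega
    · exact mul_mem (hf 0 le_rfl n) (hg 0 le_rfl n)
    · exact inv_mem (hf 0 le_rfl n)
    · exact hR.comm a b (Subgroup.commutator_mem_commutator (hf 0 le_rfl n) (hg 0 le_rfl n))
  | succ k ih =>
    obtain ⟨hmul, hinv, hcom⟩ := ih
    have hconj : ∀ e d f X, Poly R k e f → Poly R k d X → Poly R k d (fun n => f n * X n * (f n)⁻¹) := by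
      intro e d f X hf hX
      have h := hmul d _ X ((hcom e d f X hf hX).mono hR (by omega)) hX
      have e1 : (fun n => f n * X n * (f n)⁻¹) = fun n => ⁅f n, X n⁆ * X n := by
        funext n; rw [commutatorElement_def, inv_mul_cancel_right]
      rw [e1]; exact h
    refine ⟨fun d f g hf hg => ?_, fun d f hf => ?_, fun a b f g hf hg => ?_⟩
    · refine Poly.mk_succ (fun n => mul_mem (hf 0 (by omega) n) (hg 0 (by omega) n)) ?_
      have e : dd (fun n => f n * g n) = fun n => dd f n * (⁅(dd f n)⁻¹, (g n)⁻¹⁆ * dd g n) := by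
        funext n; simp only [dd, commutatorElement_def]; group
      rw [e]
      refine hmul _ _ _ hf.diff (hmul _ _ _ ?_ hg.diff)
      exact (hcom (d + 1) d _ _ (hinv _ _ hf.diff) (hinv _ _ hg.of_succ)).mono hR (by omega)
    · refine Poly.mk_succ (fun n => inv_mem (hf 0 (by omega) n)) ?_
      have e : dd (fun n => (f n)⁻¹) = fun n => (dd f n)⁻¹ * ⁅dd f n, f n⁆ := by
        funext n; simp only [dd, commutatorElement_def]; group
      rw [e]
      exact hmul _ _ _ (hinv _ _ hf.diff) ((hcom (d + 1) d _ _ hf.diff hf.of_succ).mono hR (by omega))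
    · refine Poly.mk_succ (fun n => hR.comm a b
        (Subgroup.commutator_mem_commutator (hf 0 (by omega) n) (hg 0 (by omega) n))) ?_
      set u := dd f with hu
      set v := dd g with hv
      have hh : Poly R k b (fun n => g n * v n) := hmul _ _ _ hg.of_succ (hg.diff.mono hR (by omega))
      have hX : Poly R k (a + b + 2) (fun n => f n * ⁅u n, g n * v n⁆ * (f n)⁻¹) :=
        hconj a _ f _ hf.of_succ ((hcom (a + 1) b u _ hf.diff hh).mono hR (by omega))
      have hY : Poly R k (a + b + 2) (fun n => g n * ⁅f n, v n⁆ * (g n)⁻¹) :=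
        hconj b _ g _ hg.of_succ ((hcom a (b + 1) f v hf.of_succ hg.diff).mono hR (by omega))
      have hc : Poly R k (a + b + 1) (fun n => (⁅f n, g n⁆)⁻¹) := hinv _ _ (hcom a b f g hf.of_succ hg.of_succ)
      have e : dd (fun n => ⁅f n, g n⁆) = fun n => ((⁅f n, g n⁆)⁻¹ * (f n * ⁅u n, g n * v n⁆ * (f n)⁻¹) *
          ((⁅f n, g n⁆)⁻¹)⁻¹) * (g n * ⁅f n, v n⁆ * (g n)⁻¹) := by
        funext n; simp only [hu, hv, dd, commutatorElement_def]; group
      rw [e, show a + b + 1 + 1 = a + b + 2 from rfl]
      exact hmul _ _ _ (hconj _ _ _ _ hc hX) hY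

theorem Poly.mul (hR : Filt R) (hf : Poly R k d f) (hg : Poly R k d g) : Poly R k d (fun n => f n * g n) :=
  (closure_aux hR k).1 d f g hf hg

/-- the differences are multiplicative modulo the next step -/
theorem dk_mul (hR : Filt R) : ∀ (i d : ℕ) (f g : ℕ → G) (n : ℕ), Poly R i d f → Poly R i d g →
    (dk i f n * dk i g n)⁻¹ * dk i (fun m => f m * g m) n ∈ R (d + i + 1) := by
  intro i
  induction i with
  | zero => intro d f g n _ _; simp
  | succ i ih =>
    intro d f g n hf hg
    have hn := hR.normal (d + (i + 1) + 1)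
    set w : ℕ → G := fun m => ⁅(dd f m)⁻¹, (g m)⁻¹⁆ with hw
    have hwP : Poly R i (d + 2) w := ((closure_aux hR i).2.2 (d + 1) d _ _
      ((closure_aux hR i).2.1 _ _ hf.diff) ((closure_aux hR i).2.1 _ _ hg.of_succ)).mono hR (by omega)
    have hw1 : Poly R i (d + 1) w := hwP.mono hR (by omega)
    have e : dd (fun m => f m * g m) = fun m => dd f m * (w m * dd g m) := by
      funext m; simp only [hw, dd, commutatorElement_def]; group
    have h1 := ih (d + 1) (dd f) (fun m => w m * dd g m) n hf.diff (hw1.mul hR hg.diff)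
    have h2 := ih (d + 1) w (dd g) n hw1 hg.diff
    have h3 := hwP i le_rfl n
    rw [dk_succ, dk_succ, dk_succ, e]
    rw [show d + 1 + i + 1 = d + (i + 1) + 1 by omega] at h1 h2
    rw [show d + 2 + i = d + (i + 1) + 1 by omega] at h3
    rw [← QuotientGroup.eq] at h1 h2
    rw [← QuotientGroup.eq_one_iff] at h3
    rw [← QuotientGroup.eq]
    simp only [QuotientGroup.mk_mul, h3, one_mul] at h1 h2 ⊢
    rw [← h1, ← h2]

/-- binomial powers of a fixed element -/
def binom (a : G) (k : ℕ) : ℕ → G := fun n => a ^ n.choose k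

theorem dd_binom_succ (a : G) (k : ℕ) : dd (binom a (k + 1)) = binom a k := by
  funext n
  simp only [dd, binom, Nat.choose_succ_succ']
  rw [add_comm (n.choose k), pow_add, inv_mul_cancel_left]

theorem dd_binom_zero (a : G) : dd (binom a 0) = fun _ => 1 := by
  funext n; simp [dd, binom]

theorem dk_one (i : ℕ) : dk i (fun _ => (1 : G)) = fun _ => 1 := by
  induction i with
  | zero => rfl
  | succ i ih => rw [dk_succ, show dd (fun _ : ℕ => (1 : G)) = fun _ => 1 from funext fun n => by simp [dd], ih]

theorem dk_binom_le (a : G) : ∀ (i k : ℕ), i ≤ k → dk i (binom a k) = binom a (k - i) := by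
  intro i
  induction i with
  | zero => intro k _; rfl
  | succ i ih =>
    rintro (_ | k) hk
    · omega
    · rw [dk_succ, dd_binom_succ, ih k (by omega)]; congr 1; omega

theorem dk_binom_gt (a : G) (i k : ℕ) (h : k < i) : dk i (binom a k) = fun _ => 1 := by
  obtain ⟨r, rfl⟩ : ∃ r, i = r + 1 + k := ⟨i - k - 1, by omega⟩
  have : dk (r + 1 + k) (binom a k) = dk (r + 1) (dk k (binom a k)) := Function.iterate_add_apply dd (r + 1) k _
  rw [this, dk_binom_le a k k le_rfl, Nat.sub_self, dk_succ, dd_binom_zero, dk_one]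

theorem poly_binom (hR : Filt R) {a : G} {k : ℕ} (ha : a ∈ R k) (j : ℕ) : Poly R j 0 (binom a k) := by
  intro i _ n
  rcases le_or_gt i k with h | h
  · rw [dk_binom_le a i k h, zero_add]
    exact hR.anti h (pow_mem ha _)
  · rw [dk_binom_gt a i k h]; exact one_mem _

/-- Newton's formula modulo a subgroup -/
theorem dk_mem_of_values {M : Subgroup G} {m : ℕ} (h : ∀ n ≤ m, g n ∈ M) :
    ∀ i n, n + i ≤ m → dk i g n ∈ M := by
  intro i
  induction i with
  | zero => intro n hn; exact h n (by omega)
  | succ i ih =>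
    intro n hn
    rw [dk_succ']
    exact mul_mem (inv_mem (ih n (by omega))) (ih (n + 1) (by omega))

/-- The product formula for a polynomial sequence modulo the last step. -/
theorem pow_mul_dk_mem (hR : Filt R) {p : ℕ} (hp : p.Prime) {F : ℕ → G} (hF : Poly R p 0 F) (h0 : F 0 = 1)
    (hFp : F p = 1) (hexp : ∀ k, 2 ≤ k → k < p → ∀ a ∈ R k, a ^ p ∈ R (p + 1)) :
    (F 1) ^ p * dk p F 0 ∈ R (p + 1) := by
  set M := R (p + 1) with hM
  have hMn : M.Normal := hR.normal _
  let q := QuotientGroup.mk' M
  have hq : ∀ x, x ∈ M ↔ q x = 1 := fun x => (QuotientGroup.eq_one_iff x).symm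
  have main : ∀ k, 1 ≤ k → k < p → ∃ g, Poly R p 0 g ∧ (∀ n ≤ k, g n ∈ M) ∧
      q (g p) = q ((F 1)⁻¹ ^ p) ∧ q (dk p g 0) = q (dk p F 0) := by
    intro k hk
    induction k, hk using Nat.le_induction with
    | base =>
      intro h1p
      have ha : (F 1)⁻¹ ∈ R 1 := inv_mem (by
        have := hF 1 hp.one_le 0
        rwa [show dk 1 F 0 = F 1 by simp [dk, dd, h0]] at this)
      have hφ := poly_binom hR ha p
      refine ⟨fun n => binom (F 1)⁻¹ 1 n * F n, hφ.mul hR hF, fun n hn => ?_, ?_, ?_⟩
      · rcases (show n = 0 ∨ n = 1 by omega) with rfl | rfl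
        · simp [binom, h0]
        · simp [binom]
      · simp [binom, hFp]
      · have h1 := dk_mul hR p 0 _ F 0 hφ hF
        rw [zero_add, ← hM, ← QuotientGroup.eq] at h1
        rw [show q (dk p (fun n => binom (F 1)⁻¹ 1 n * F n) 0) = q (dk p (binom (F 1)⁻¹ 1) 0 * dk p F 0) from h1.symm,
          dk_binom_gt _ p 1 h1p, one_mul]
    | succ k hk ih =>
      intro hkp
      obtain ⟨g, hg, hgv, hgp, hgd⟩ := ih (by omega)
      set a := (dk (k + 1) g 0)⁻¹ with ha
      have haR : a ∈ R (k + 1) := inv_mem (by simpa using hg (k + 1) (by omega) 0)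
      have hφ := poly_binom hR haR p
      refine ⟨fun n => binom a (k + 1) n * g n, hφ.mul hR hg, fun n hn => ?_, ?_, ?_⟩
      · rcases (show n ≤ k ∨ n = k + 1 by omega) with h | rfl
        · exact mul_mem (by simp [binom, Nat.choose_eq_zero_of_lt (show n < k + 1 by omega)]) (hgv n h)
        · have key : ∀ i n, n + i = k + 1 → q (dk i g n) = q (dk (k + 1) g 0) := by
            intro i n
            induction n generalizing i with
            | zero => intro h; rw [show i = k + 1 by omega]
            | succ n ihn =>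
              intro h
              rw [dk_step, map_mul, (hq _).1 (dk_mem_of_values hgv i n (by omega)), one_mul]
              exact ihn (i + 1) (by omega)
          rw [hq, map_mul, ← dk_zero g, key 0 (k + 1) rfl, ← map_mul]
          simp [binom, ha]
      · rw [map_mul, hgp, (hq _).1 (show binom a (k + 1) p ∈ M from ?_), one_mul]
        obtain ⟨r, hr⟩ := hp.dvd_choose_self (Nat.succ_ne_zero k) hkp
        show a ^ p.choose (k + 1) ∈ M
        rw [hr, pow_mul]
        exact pow_mem (hexp (k + 1) (by omega) hkp a haR) r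
      · have h1 := dk_mul hR p 0 _ g 0 hφ hg
        rw [zero_add, ← hM, ← QuotientGroup.eq] at h1
        rw [← hgd, show q (dk p (fun n => binom a (k + 1) n * g n) 0) =
          q (dk p (binom a (k + 1)) 0 * dk p g 0) from h1.symm, dk_binom_gt _ p (k + 1) hkp, one_mul]
  obtain ⟨g, -, hgv, hgp, hgd⟩ := main (p - 1) (by have := hp.two_le; omega) (by have := hp.two_le; omega)
  have key : ∀ i n, n + i = p → q (dk i g n) = q (dk p g 0) := by
    intro i n
    induction n generalizing i with
    | zero => intro h; rw [show i = p by omega]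
    | succ n ihn =>
      intro h
      rw [dk_step, map_mul, (hq _).1 (dk_mem_of_values hgv i n (by omega)), one_mul]
      exact ihn (i + 1) (by omega)
  rw [hq, map_mul, ← hgd, ← key 0 p (by omega), dk_zero, hgp, ← map_mul, inv_pow, mul_inv_cancel, map_one]

end Cfsg.Agent.Lib.PLocal.PolySeq
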