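import Cfsg.Agent.Lib.PLocal.QdNotStable
import Cfsg.Agent.Lib.PLocal.ZJFunctor

/-! `Z(J)` is not normal in `Qd(p)`, and does not control fusion there. -/

set_option autoImplicit false
set_option linter.unusedSectionVars false
set_option linter.style.haveILetI false

open Matrix

namespace Cfsg.Agent.Lib.PLocal

universe u

variable {p : ℕ} [hp : Fact p.Prime]

local notation "V₂" => Fin 2 → ZMod p

lemma isNormalizerPStable_congr {X Y : Type*} [Group X] [Group Y] [Finite X] (e : X ≃* Y)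
    (h : Cfsg.IsNormalizerPStable p Y) : Cfsg.IsNormalizerPStable p X := by
  intro P hP g hg hq
  haveI : Finite Y := Finite.of_equiv X e.toEquiv
  have hn : (Subgroup.normalizer (P : Set X)).map e.toMonoidHom =
      Subgroup.normalizer ((P.map e.toMonoidHom : Subgroup Y) : Set Y) :=
    Subgroup.map_equiv_normalizer_eq P e
  have hg' : e g ∈ Subgroup.normalizer ((P.map e.toMonoidHom : Subgroup Y) : Set Y) := hn ▸ ⟨g, hg, rfl⟩
  have h1 := h (P.map e.toMonoidHom) (hP.map _) (e g) hg' (by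
    rw [show e g = e.toMonoidHom g from rfl, ← MonoidHom.map_zpowers, ← Subgroup.map_commutator,
      ← Subgroup.map_commutator, hq, Subgroup.map_bot])
  set N := Subgroup.normalizer (P : Set X)
  set N' := Subgroup.normalizer ((P.map e.toMonoidHom : Subgroup Y) : Set Y)
  let eN : N ≃* N' := (e.subgroupMap N).trans (MulEquiv.subgroupCongr hn)
  have hC : ((Subgroup.centralizer (P : Set X)).subgroupOf N).map eN.toMonoidHom =
      (Subgroup.centralizer ((P.map e.toMonoidHom : Subgroup Y) : Set Y)).subgroupOf N' := by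
    ext x
    constructor
    · rintro ⟨y, hy, rfl⟩
      rw [Subgroup.mem_subgroupOf, Subgroup.mem_centralizer_iff]
      rintro _ ⟨z, hz, rfl⟩
      show e z * e y = e y * e z
      rw [← map_mul, ← map_mul]
      exact congrArg e (Subgroup.mem_centralizer_iff.mp hy z hz)
    · intro hx
      obtain ⟨y, rfl⟩ := eN.surjective x
      refine ⟨y, ?_, rfl⟩
      rw [SetLike.mem_coe, Subgroup.mem_subgroupOf, Subgroup.mem_centralizer_iff]
      intro z hz
      refine e.injective ?_
      rw [map_mul, map_mul]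
      exact Subgroup.mem_centralizer_iff.mp hx _ ⟨z, hz, rfl⟩
  let eq' := QuotientGroup.congr _ _ eN hC
  have h2 : eq' (QuotientGroup.mk ⟨g, hg⟩) ∈ Cfsg.pCore p _ := h1
  rw [← Cores.map_pCore_equiv eq'] at h2
  obtain ⟨y, hy, hye⟩ := h2
  rwa [← eq'.injective hye]

lemma mem_trans_of_normal {Z : Subgroup ↥(Cfsg.qdOver (ZMod p))} [Z.Normal]
    (hZ : Z ≤ qdTrans p) (hne : Z ≠ ⊥) : Z = qdTrans p := by
  refine le_antisymm hZ ?_
  let S : AddSubgroup V₂ :=
    { carrier := {v | LocalEven.Qd.el 1 v ∈ Z}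
      zero_mem' := show LocalEven.Qd.el 1 0 ∈ Z by rw [LocalEven.Qd.el_one]; exact one_mem Z
      add_mem' := fun {a b} ha hb => by
        show LocalEven.Qd.el 1 (a + b) ∈ Z
        rw [← LocalEven.Qd.trans_mul]; exact mul_mem ha hb
      neg_mem' := fun {a} ha => by
        show LocalEven.Qd.el 1 (-a) ∈ Z
        have := inv_mem (show LocalEven.Qd.el 1 a ∈ Z from ha)
        rwa [LocalEven.Qd.el_inv, inv_one, Matrix.SpecialLinearGroup.coe_one, Matrix.one_mulVec] at this }
  have hinv : ∀ (A : Matrix.SpecialLinearGroup (Fin 2) (ZMod p)) v, v ∈ S → A.1 *ᵥ v ∈ S := fun A v hv => by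
    show LocalEven.Qd.el 1 _ ∈ Z
    rw [← LocalEven.Qd.conj_trans A v 0]
    exact Subgroup.Normal.conj_mem inferInstance _ hv _
  have hsmul : ∀ (c : ZMod p) v, v ∈ S → c • v ∈ S := fun c v hv => by
    rw [← ZMod.natCast_zmod_val c, Nat.cast_smul_eq_nsmul]; exact S.nsmul_mem hv _
  obtain ⟨v, hv, hv0⟩ : ∃ v ∈ S, v ≠ 0 := by
    by_contra hc
    push Not at hc
    refine hne ((Subgroup.eq_bot_iff_forall _).mpr fun x hx => ?_)
    obtain ⟨v, rfl⟩ := LocalEven.Qd.mem_ker_proj_iff.mp (hZ hx)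
    rw [hc v hx, LocalEven.Qd.el_one]
  have h10 : (![1, 0] : V₂) ∈ S := by
    by_cases h : v 1 = 0
    · have h0 : v 0 ≠ 0 := fun h0 => hv0 (funext fun i => by fin_cases i <;> simp [h, h0])
      have := hsmul (v 0)⁻¹ v hv
      convert this using 1
      funext i; fin_cases i <;> simp [h, h0]
    · have := hsmul (v 1)⁻¹ _ (S.sub_mem (hinv (upT p) v hv) hv)
      convert this using 1
      funext i; fin_cases i <;> simp [upT, h, Matrix.vecHead, Matrix.vecTail]
  have h01 : (![0, 1] : V₂) ∈ S := by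
    have := S.sub_mem (hinv (loT p) _ h10) h10
    convert this using 1
    funext i; fin_cases i <;> simp [loT, Matrix.vecHead, Matrix.vecTail]
  intro x hx
  obtain ⟨w, rfl⟩ := LocalEven.Qd.mem_ker_proj_iff.mp hx
  show w ∈ S
  have := S.add_mem (hsmul (w 0) _ h10) (hsmul (w 1) _ h01)
  convert this using 1
  funext i; fin_cases i <;> simp

/-- `Z(J(T))` is not normal in `Qd(p)`. -/
theorem exists_not_normal_qd :
    ∃ T : Sylow p ↥(Cfsg.qdOver (ZMod p)), ¬ (Cfsg.centerThompsonAOf (T : Subgroup ↥(Cfsg.qdOver (ZMod p)))).Normal := by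
  let ψ : Multiplicative V₂ →* ↥(Cfsg.qdOver (ZMod p)) :=
    MonoidHom.mk' (fun v => LocalEven.Qd.el ⟨!![1, v.toAdd 1; 0, 1], by simp [Matrix.det_fin_two]⟩ ![v.toAdd 0, 0])
      fun v w => by
        refine ((LocalEven.Qd.el_mul _ _ _ _).trans ?_).symm
        congr 1
        · refine Subtype.ext ((Matrix.SpecialLinearGroup.coe_mul _ _).trans (Matrix.ext fun i j => ?_))
          fin_cases i <;> fin_cases j <;> simp [Matrix.mul_apply, Fin.sum_univ_two, add_comm]
        · funext i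
          fin_cases i <;> simp [Matrix.mulVec, dotProduct, Fin.sum_univ_two, add_comm]
  have hψ : Function.Injective ψ := by
    intro v w h
    obtain ⟨h1, h2⟩ := LocalEven.Qd.aff_injective (congrArg Subtype.val h)
    apply Multiplicative.toAdd.injective
    funext i
    fin_cases i
    · simpa using congrFun h2 0
    · simpa using congrFun (congrFun (congrArg Subtype.val h1) 0) 1
  have hBp : IsPGroup p ψ.range := by
    rintro ⟨_, v, rfl⟩
    refine ⟨1, Subtype.ext ?_⟩
    rw [SubgroupClass.coe_pow, ← map_pow, show v ^ p ^ 1 = 1 from Multiplicative.toAdd.injective (by simp), map_one]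
    rfl
  obtain ⟨T, hT⟩ := hBp.exists_le_sylow
  refine ⟨T, fun hn => ?_⟩
  rw [← zIn_zero_eq] at hn
  haveI := hn
  have hV := LocalEven.Qd.pCore_eq_ker (F := ZMod p) (p := p)
  have hB2 : Nat.card ψ.range = p ^ 2 := by
    rw [show Nat.card ψ.range = Nat.card (Multiplicative V₂) from
      (Nat.card_congr (MonoidHom.ofInjective hψ).toEquiv).symm]
    simp [Nat.card_fun]
  have hnt : Nontrivial (T : Subgroup ↥(Cfsg.qdOver (ZMod p))) := by
    rw [Subgroup.nontrivial_iff_ne_bot]
    intro h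
    rw [h, le_bot_iff] at hT
    rw [hT, Subgroup.card_bot] at hB2
    exact (Nat.one_lt_pow two_ne_zero hp.out.one_lt).ne hB2
  have hne : zIn 0 (T : Subgroup ↥(Cfsg.qdOver (ZMod p))) ≠ ⊥ := by
    intro h
    have h1 := (FusionControl.isConjugacyFunctor_inducedFunctor (p := p) isCharPFunctor_zjA
      (T : Subgroup ↥(Cfsg.qdOver (ZMod p))) T.2).2.1 ((Subgroup.nontrivial_iff_ne_bot _).mp hnt)
    rw [inducedFunctor_zjA, ← zIn_zero_eq] at h1
    exact h1 h
  have hle : zIn 0 (T : Subgroup ↥(Cfsg.qdOver (ZMod p))) ≤ qdTrans p := by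
    rw [qdTrans, ← hV]
    exact Cores.le_pCore hn (T.2.to_le (zIn_le_self 0 _))
  have hZ := mem_trans_of_normal hle hne
  obtain ⟨A, hA⟩ := exists_maxIn 0 (T : Subgroup ↥(Cfsg.qdOver (ZMod p)))
  have hAV : A ≤ qdTrans p := by
    refine le_trans ?_ centralizer_qdTrans_le
    intro a ha
    rw [Subgroup.mem_centralizer_iff]
    intro z hz
    exact commute_of_elemAb hA.2.1 (zIn_le hA (hZ.ge hz)) ha
  have hcard : Nat.card ↥(qdTrans p) = p ^ 2 := by
    rw [LocalEven.Qd.card_ker]; simp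
  have hB : MaxIn 0 (T : Subgroup ↥(Cfsg.qdOver (ZMod p))) ψ.range := by
    refine ⟨hT, elemAb_zero ⟨⟨?_⟩⟩, fun X hX hXe => ?_⟩
    · rintro ⟨_, v, rfl⟩ ⟨_, w, rfl⟩
      exact Subtype.ext (by rw [Subgroup.coe_mul, Subgroup.coe_mul, ← map_mul, mul_comm, map_mul])
    · rw [hB2, ← hcard]
      exact (hA.2.2 X hX hXe).trans (Subgroup.card_le_of_le hAV)
  have hVB : qdTrans p ≤ ψ.range := hZ.ge.trans (zIn_le hB)
  have heq := Subgroup.eq_of_le_of_card_ge hVB (by rw [hB2, hcard])
  have h1 : ψ (Multiplicative.ofAdd ![0, 1]) ∈ qdTrans p := heq ▸ ⟨_, rfl⟩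
  rw [MonoidHom.mem_ker] at h1
  have h3 := (LocalEven.Qd.proj_el _ _).symm.trans h1
  have h2 := congrFun (congrFun (congrArg Subtype.val h3) 0) 1
  simp at h2

/-- In a copy of `Qd(p)` the centre of the Thompson subgroup does not control fusion. -/
theorem exists_not_controls_qd {Y : Type u} [Group Y] [Finite Y] (e : Y ≃* ↥(Cfsg.qd p)) :
    ∃ T : Sylow p Y, ¬ Cfsg.ControlsStrongFusion p (Cfsg.centerThompsonAOf (T : Subgroup Y)) := by
  let e' : ↥(Cfsg.qdOver (ZMod p)) ≃* Y := e.symm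
  obtain ⟨T₀, hT₀⟩ := exists_not_normal_qd (p := p)
  let T : Sylow p Y := T₀.mapSurjective (f := e'.toMonoidHom) e'.surjective
  have hcoe : (T : Subgroup Y) = (T₀ : Subgroup ↥(Cfsg.qdOver (ZMod p))).map e'.toMonoidHom :=
    Sylow.coe_mapSurjective _ _
  refine ⟨T, fun h => hT₀ ?_⟩
  have hC : FusionControl.CharPType p Y := by
    intro y hy
    rw [← Cores.map_pCore_equiv e', LocalEven.Qd.pCore_eq_ker] at hy ⊢
    refine ⟨e'.symm y, centralizer_qdTrans_le (Subgroup.mem_centralizer_iff.mpr fun v hv => e'.injective ?_),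
      e'.apply_symm_apply y⟩
    rw [map_mul, map_mul, e'.apply_symm_apply]
    exact Subgroup.mem_centralizer_iff.mp hy _ ⟨v, hv, rfl⟩
  rw [← inducedFunctor_zjA] at h
  have h1 := FusionControl.normalizer_eq_top_of_controls isCharPFunctor_zjA hC T h
  rw [inducedFunctor_zjA, ← zIn_zero_eq, hcoe, ← map_zIn_of_injective e'.toMonoidHom e'.injective,
    ← Subgroup.map_equiv_normalizer_eq] at h1
  rw [← zIn_zero_eq, ← Subgroup.normalizer_eq_top_iff, eq_top_iff]
  intro x _
  obtain ⟨y, hy, hye⟩ := h1.ge (Subgroup.mem_top (e' x))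
  rwa [← e'.injective hye]

end Cfsg.Agent.Lib.PLocal
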