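import Cfsg.Agent.Lib.PLocal.Quadratic
import Cfsg.Agent.Lib.Coprime.PxQ
import Cfsg.Agent.Lib.Transfer.Basic
import Cfsg.Agent.Lib.Cores.PCore
import Mathlib

/-!
An element acting quadratically (odd `p`) commutes, modulo kernels, with an abelian `p'`-group of
operators it normalizes: the `p`-stability of groups with `K/Q` abelian.
-/

set_option autoImplicit false
set_option linter.style.haveILetI false

namespace Cfsg.Agent.Lib.PLocal

open scoped IsMulCommutative

open scoped commutatorElement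

/-- If `N * N = 0` and `R` commutes with its conjugates by `1 + N` and `1 + 2N`, and `R ^ n = 1`,
then `R` commutes with `N`, when `2` and `n` are invertible. -/
lemma ring_commute_of_quad {A : Type*} [Ring A] (N R : A) (n : ℕ) (_hN : N * N = 0)
    (h1 : (1 + N) * R * (1 - N) * R = R * ((1 + N) * R * (1 - N)))
    (h2 : (1 + 2 * N) * R * (1 - 2 * N) * R = R * ((1 + 2 * N) * R * (1 - 2 * N)))
    (htwo : ∀ x : A, (2 : ℕ) • x = 0 → x = 0) (hn : ∀ x : A, n • x = 0 → x = 0) (hR : R ^ n = 1) :
    N * R = R * N := by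
  set δ := N * R - R * N with hδ
  set ε := N * R * N with hε
  set D := δ * R - R * δ with hD
  set E := ε * R - R * ε with hE
  have e1 : (1 + N) * R * (1 - N) * R - R * ((1 + N) * R * (1 - N)) = D - E := by
    simp only [hD, hE, hδ, hε]; noncomm_ring
  have e2 : (1 + 2 * N) * R * (1 - 2 * N) * R - R * ((1 + 2 * N) * R * (1 - 2 * N)) =
      (2 : ℕ) • D - (4 : ℕ) • E := by
    simp only [hD, hE, hδ, hε]; noncomm_ring
  have hDE : D = E := sub_eq_zero.mp (by rw [← e1, h1, sub_self])
  have h24 : (2 : ℕ) • D = (4 : ℕ) • E := sub_eq_zero.mp (by rw [← e2, h2, sub_self])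
  have hD0 : D = 0 := by
    refine htwo D ?_
    rw [← hDE, show (4 : ℕ) = 2 + 2 from rfl, add_smul] at h24
    exact left_eq_add.mp h24
  have hcomm : δ * R = R * δ := sub_eq_zero.mp hD0
  have hpow : ∀ k : ℕ, N * R ^ (k + 1) - R ^ (k + 1) * N = (k + 1) • (R ^ k * δ) := by
    intro k
    induction k with
    | zero => simp [hδ]
    | succ k ih =>
      have hc' : R ^ (k + 1) * δ = δ * R ^ (k + 1) :=
        ((show Commute R δ from hcomm.symm).pow_left (k + 1)).eq
      calc N * R ^ (k + 1 + 1) - R ^ (k + 1 + 1) * N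
          = R * (N * R ^ (k + 1) - R ^ (k + 1) * N) + δ * R ^ (k + 1) := by
            simp only [hδ, pow_succ' R (k + 1)]; noncomm_ring
        _ = (k + 1) • (R ^ (k + 1) * δ) + R ^ (k + 1) * δ := by
            rw [ih, mul_smul_comm, ← mul_assoc, ← pow_succ', hc']
        _ = (k + 1 + 1) • (R ^ (k + 1) * δ) := (succ_nsmul _ (k + 1)).symm
  rcases n with _ | n
  · exact sub_eq_zero.mp (hn _ (zero_nsmul _))
  have h := hpow n
  rw [hR, mul_one, one_mul, sub_self] at h
  have h0 := hn _ h.symm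
  have hδ0 : δ = 0 := by
    calc δ = R ^ (n + 1) * δ := by rw [hR, one_mul]
      _ = R * (R ^ n * δ) := by rw [pow_succ', mul_assoc]
      _ = 0 := by rw [h0, mul_zero]
  exact sub_eq_zero.mp hδ0

variable {G : Type*} [Group G]

/-- The action of `G` on an abelian normal subgroup as endomorphisms. -/
def conjEnd (V : Subgroup G) [V.Normal] [IsMulCommutative V] : G →* AddMonoid.End (Additive V) where
  toFun g := MonoidHom.toAdditive (MulAut.conjNormal g : MulAut V).toMonoidHom
  map_one' := by rw [map_one]; rfl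
  map_mul' g h := by rw [map_mul]; rfl

lemma conjEnd_apply (V : Subgroup G) [V.Normal] [IsMulCommutative V] (g : G) (v : V) :
    ((Additive.toMul (conjEnd V g (Additive.ofMul v)) : V) : G) = g * v * g⁻¹ :=
  MulAut.conjNormal_apply g v

lemma conjEnd_eq_one_iff {V : Subgroup G} [V.Normal] [IsMulCommutative V] {g : G} :
    conjEnd V g = 1 ↔ g ∈ Subgroup.centralizer (V : Set G) := by
  constructor
  · intro h v hv
    have h1 := congrArg (fun f : AddMonoid.End (Additive V) =>
      ((Additive.toMul (f (Additive.ofMul ⟨v, hv⟩)) : V) : G)) h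
    simp only [conjEnd_apply] at h1
    exact (mul_inv_eq_iff_eq_mul.mp h1).symm
  · intro h
    ext v
    show ((Additive.toMul (conjEnd V g (Additive.ofMul (Additive.toMul v)))  : V) : G) =
      ((Additive.toMul v : V) : G)
    rw [conjEnd_apply, ← h _ (Additive.toMul v).2, mul_inv_cancel_right]

lemma conjEnd_smul_eq_zero {p m : ℕ} {V : Subgroup G} [V.Normal] [IsMulCommutative V]
    (hV : IsPGroup p V) (hm : Nat.Coprime m p) {x : AddMonoid.End (Additive V)} (h : m • x = 0) :
    x = 0 := by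
  refine AddMonoidHom.ext fun v => ?_
  have h1 : m • (x v) = 0 := by
    have := DFunLike.congr_fun h v
    simpa using this
  obtain ⟨k, hk⟩ := hV (Additive.toMul (x v))
  have h2 : addOrderOf (x v) ∣ p ^ k := addOrderOf_dvd_of_nsmul_eq_zero (by
    simpa using congrArg Additive.ofMul hk)
  have h3 : addOrderOf (x v) = 1 :=
    Nat.eq_one_of_dvd_coprimes (hm.pow_right k) (addOrderOf_dvd_of_nsmul_eq_zero h1) h2
  exact AddMonoid.addOrderOf_eq_one_iff.mp h3

/-- The key computation. -/
theorem commutator_mem_centralizer_of_quad {p : ℕ} [hp : Fact p.Prime] (hp2 : p ≠ 2)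
    {V : Subgroup G} [V.Normal] (hVab : IsMulCommutative V) (hV : IsPGroup p V) {a r : G} {n : ℕ}
    (hn : Nat.Coprime n p) (hr : r ^ n ∈ Subgroup.centralizer (V : Set G)) (hq : QuadOn V a)
    (h1 : ⁅r, a * r * a⁻¹⁆ ∈ Subgroup.centralizer (V : Set G))
    (h2 : ⁅r, a * (a * r * a⁻¹) * a⁻¹⁆ ∈ Subgroup.centralizer (V : Set G)) :
    ⁅a, r⁆ ∈ Subgroup.centralizer (V : Set G) := by
  haveI := hVab
  set ρ := conjEnd V with hρ
  set A := ρ a with hA
  set N := A - 1 with hN
  set R := ρ r with hR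
  have hA1 : A = 1 + N := by rw [hN]; abel
  have hNN : N * N = 0 := by
    refine AddMonoidHom.ext fun v => ?_
    set w := Additive.toMul v with hw
    have hu : ⁅a, (w : G)⁆ ∈ V := by
      rw [commutatorElement_def]
      exact mul_mem (Subgroup.Normal.conj_mem inferInstance _ w.2 a) (inv_mem w.2)
    have h0 : N v = Additive.ofMul (⟨⁅a, (w : G)⁆, hu⟩ : V) := by
      apply Additive.toMul.injective
      apply Subtype.ext
      show ((Additive.toMul (A v - v) : V) : G) = ⁅a, (w : G)⁆
      rw [toMul_sub, Subgroup.coe_div, hA, hρ, div_eq_mul_inv, commutatorElement_def]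
      rw [show v = Additive.ofMul w from rfl, conjEnd_apply]
      rfl
    show N (N v) = 0
    rw [h0]
    apply Additive.toMul.injective
    apply Subtype.ext
    show ((Additive.toMul (A (Additive.ofMul (⟨⁅a, (w : G)⁆, hu⟩ : V)) -
      Additive.ofMul (⟨⁅a, (w : G)⁆, hu⟩ : V)) : V) : G) = 1
    rw [toMul_sub, Subgroup.coe_div, hA, hρ, conjEnd_apply]
    show a * ⁅a, (w : G)⁆ * a⁻¹ / ⁅a, (w : G)⁆ = 1
    rw [hq w w.2, mul_inv_cancel_right, div_self']
  have hAi : ρ a⁻¹ = 1 - N := by
    have h3 : ρ a⁻¹ * A = 1 := by rw [hA, ← map_mul, inv_mul_cancel, map_one]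
    calc ρ a⁻¹ = ρ a⁻¹ * ((1 + N) * (1 - N)) := by
          rw [show (1 + N) * (1 - N) = 1 - N * N by rw [mul_sub, mul_one, add_mul, one_mul]; abel, hNN,
            sub_zero, mul_one]
      _ = 1 - N := by rw [← mul_assoc, ← hA1, h3, one_mul]
  have key : ∀ x : G, ⁅r, x⁆ ∈ Subgroup.centralizer (V : Set G) → ρ x * R = R * ρ x := by
    intro x hx
    have h3 := conjEnd_eq_one_iff.mpr hx
    rw [hR, hρ, ← map_mul, ← map_mul, show r * x = ⁅r, x⁆ * (x * r) by
      rw [commutatorElement_def]; group, map_mul _ ⁅r, x⁆, h3, one_mul]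
  have k1 := key _ h1
  have k2 := key _ h2
  rw [map_mul, map_mul, ← hA, ← hR, hAi, hA1] at k1
  rw [map_mul, map_mul, map_mul, map_mul, ← hA, ← hR, hAi, hA1] at k2
  have e2 : (1 + N) * ((1 + N) * R * (1 - N)) * (1 - N) = (1 + 2 * N) * R * (1 - 2 * N) := by
    have ea : (1 + N) * (1 + N) = 1 + 2 * N := by
      rw [show (1 + N) * (1 + N) = 1 + 2 * N + N * N by noncomm_ring, hNN, add_zero]
    have eb : (1 - N) * (1 - N) = 1 - 2 * N := by
      rw [show (1 - N) * (1 - N) = 1 - 2 * N + N * N by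
        rw [sub_mul, one_mul, mul_sub, mul_one, two_mul]; abel, hNN, add_zero]
    rw [← ea, ← eb]; noncomm_ring
  rw [e2] at k2
  have hRn : R ^ n = 1 := by rw [hR, ← map_pow]; exact conjEnd_eq_one_iff.mpr hr
  have hc := ring_commute_of_quad N R n hNN k1 k2
    (fun x => conjEnd_smul_eq_zero hV ((Nat.coprime_primes Nat.prime_two hp.out).mpr (Ne.symm hp2)))
    (fun x => conjEnd_smul_eq_zero hV hn) hRn
  have hAR : A * R = R * A := by rw [hA1, add_mul, mul_add, one_mul, mul_one, hc]
  refine conjEnd_eq_one_iff.mp ?_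
  calc ρ ⁅a, r⁆ = A * R * ρ a⁻¹ * ρ r⁻¹ := by simp only [commutatorElement_def, map_mul, hA, hR]
    _ = R * (A * ρ a⁻¹) * ρ r⁻¹ := by rw [hAR]; noncomm_ring
    _ = 1 := by rw [hA, ← map_mul, mul_inv_cancel, map_one, mul_one, hR, ← map_mul, mul_inv_cancel,
        map_one]

variable [Finite G] {p : ℕ} [hp : Fact p.Prime]

/-- For a normal `p`-subgroup `M` and `a` quadratic on it: the commutators `[a, r]` (`r ∈ K`) lie in a
normal subgroup whose `p'`-elements centralize `M`, if `K/Q` is abelian of order prime to `p`. -/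
theorem exists_kernel_of_quad (hp2 : p ≠ 2) (Q K : Subgroup G) [Q.Normal] [K.Normal]
    (hQ : IsPGroup p Q) (_hQK : Q ≤ K) (hab : ⁅K, K⁆ ≤ Q) (hidx : ¬ p ∣ Q.relIndex K) (a : G) :
    ∀ (M : Subgroup G) [M.Normal], IsPGroup p M → QuadOn M a →
      ∃ U : Subgroup G, U.Normal ∧ (∀ r ∈ K, ⁅a, r⁆ ∈ U) ∧
        ∀ u ∈ U, Nat.Coprime (orderOf u) p → u ∈ Subgroup.centralizer (M : Set G) := by
  intro M
  induction hn : Nat.card M using Nat.strong_induction_on generalizing M with
  | _ n ih =>
    intro _ hM hq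
    subst hn
    by_cases hM0 : M = ⊥
    · refine ⟨⊤, inferInstance, fun _ _ => trivial, fun u _ _ v hv => ?_⟩
      rw [hM0, SetLike.mem_coe, Subgroup.mem_bot] at hv
      simp [hv]
    haveI hQMn : (Q ⊔ M).Normal := inferInstance
    set M₁ := ⁅M, Q ⊔ M⁆ with hM₁
    haveI hM₁n : M₁.Normal := Subgroup.commutator_normal M (Q ⊔ M)
    have hlt : M₁ < M := Coprime.commutator_lt_of_isPGroup hM (hQ.to_sup_of_normal_right hM)
      Subgroup.le_normalizer_of_normal hM0
    obtain ⟨U₁, hU₁n, hU₁, hU₁c⟩ := ih _ ((Subgroup.card_le_of_le hlt.le).lt_of_ne fun h =>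
      hlt.ne (Subgroup.eq_of_le_of_card_ge hlt.le h.ge)) M₁ rfl (hM.to_le hlt.le) (quadOn_of_le hq hlt.le)
    set π := QuotientGroup.mk' M₁ with hπ
    haveI : (M.map π).Normal := Subgroup.Normal.map inferInstance _ (QuotientGroup.mk'_surjective M₁)
    set S₁ := (Subgroup.centralizer (M.map π : Set (G ⧸ M₁))).comap π with hS₁
    haveI : (Subgroup.centralizer (M.map π : Set (G ⧸ M₁))).Normal := inferInstance
    haveI hS₁n : S₁.Normal := inferInstance
    haveI := hU₁n
    refine ⟨U₁ ⊓ S₁, inferInstance, fun r hr => Subgroup.mem_inf.mpr ⟨hU₁ r hr, ?_⟩, ?_⟩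
    · -- the section `M / [M, Q M]`
      have hVab : IsMulCommutative (M.map π) := by
        refine ⟨⟨?_⟩⟩
        rintro ⟨_, u, hu, rfl⟩ ⟨_, v, hv, rfl⟩
        refine Subtype.ext (commutatorElement_eq_one_iff_mul_comm.mp ?_)
        rw [← map_commutatorElement]
        exact (QuotientGroup.eq_one_iff _).mpr
          (Subgroup.commutator_mem_commutator hu (Subgroup.mem_sup_right hv))
      have hVp : IsPGroup p (M.map π) := hM.map π
      have hq' : QuadOn (M.map π) (π a) := by
        rintro _ ⟨v, hv, rfl⟩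
        rw [← map_commutatorElement, ← map_mul, ← map_mul, hq v hv]
      have hQc : ∀ x ∈ Q, π x ∈ Subgroup.centralizer (M.map π : Set (G ⧸ M₁)) := by
        rintro x hx _ ⟨v, hv, rfl⟩
        refine commutatorElement_eq_one_iff_mul_comm.mp ?_
        rw [← map_commutatorElement]
        exact (QuotientGroup.eq_one_iff _).mpr
          (Subgroup.commutator_mem_commutator hv (Subgroup.mem_sup_left hx))
      have hS : ∀ x : G, π x ∈ Subgroup.centralizer (M.map π : Set (G ⧸ M₁)) → x ∈ S₁ := fun x hx => hx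
      have hconj : ∀ g : G, ∀ x ∈ K, g * x * g⁻¹ ∈ K := fun g x hx =>
        Subgroup.Normal.conj_mem inferInstance x hx g
      have hrn : r ^ Q.relIndex K ∈ Q := by
        have h := Subgroup.pow_index_mem (Q.subgroupOf K) ⟨r, hr⟩
        exact h
      refine hS _ ?_
      rw [map_commutatorElement]
      refine commutator_mem_centralizer_of_quad hp2 hVab hVp
        ((hp.out.coprime_iff_not_dvd.mpr hidx).symm) ?_ hq' ?_ ?_
      · rw [← map_pow]; exact hQc _ hrn
      · rw [← map_inv, ← map_mul, ← map_mul, ← map_commutatorElement]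
        exact hQc _ (hab (Subgroup.commutator_mem_commutator hr (hconj a r hr)))
      · rw [← map_inv, ← map_mul, ← map_mul, ← map_mul, ← map_mul, ← map_commutatorElement]
        exact hQc _ (hab (Subgroup.commutator_mem_commutator hr (hconj a _ (hconj a r hr))))
    · intro u hu hup
      obtain ⟨hu₁, hu₂⟩ := Subgroup.mem_inf.mp hu
      have hup' : ∀ c ∈ Subgroup.zpowers u, Nat.Coprime (orderOf c) p := fun c hc =>
        hup.coprime_dvd_left (orderOf_dvd_of_mem_zpowers hc)
      refine Subgroup.zpowers_le.mp (Coprime.le_centralizer_of_stabilizes (A := Subgroup.zpowers u)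
        (K := M) (N := M₁) Subgroup.le_normalizer_of_normal Subgroup.le_normalizer_of_normal ?_ ?_ ?_)
      · rw [Nat.card_zpowers]
        obtain ⟨j, hj⟩ := IsPGroup.iff_card.mp (hM.to_le hlt.le)
        rw [hj]; exact hup.pow_right j
      · intro c hc k hk
        refine (QuotientGroup.eq_one_iff _).mp ?_
        show π (c * k * c⁻¹ * k⁻¹) = 1
        have hcS : π c ∈ Subgroup.centralizer (M.map π : Set (G ⧸ M₁)) :=
          (Subgroup.zpowers_le.mpr hu₂) hc
        rw [map_mul, map_mul, map_mul, map_inv, map_inv, ← hcS _ ⟨k, hk, rfl⟩, mul_inv_cancel_right,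
          mul_inv_cancel]
      · exact fun c hc => hU₁c c ((Subgroup.zpowers_le.mpr hu₁) hc) (hup' c hc)

end Cfsg.Agent.Lib.PLocal
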