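import Cfsg.Agent.Lib.PLocal.SimsChain

/-!
# The bound on the length of a chain in a point stabiliser with a suborbit of length three
-/

set_option autoImplicit false
open scoped commutatorElement

namespace Cfsg.Agent.Lib.PLocal.SimsChain

open Subgroup

variable {G : Type*} [Group G]

/-- The chain attached to a point stabiliser with a suborbit of length three. -/
structure Sims (k : ℕ) (e : ℤ → G) (H : Subgroup G) : Prop where
  chain : Chain k e
  pos : 1 ≤ k
  hH : H = E e 0 k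
  cardH : Nat.card H = 3 * 2 ^ k
  central : ∀ z ∈ H, z ≠ 1 → (∀ x ∈ H, Commute z x) → ∀ g, Commute g z → g ∈ H
  succ : e (k + 1) ∉ H
  notNormal : ¬ H ≤ normalizer (E e 1 k : Set G)

variable {k : ℕ} {e : ℤ → G} {H : Subgroup G}

theorem Sims.mem (s : Sims k e H) {i : ℤ} (h0 : 0 ≤ i) (hk : i ≤ k) : e i ∈ H :=
  s.hH ▸ mem_E h0 hk

theorem Sims.le (s : Sims k e H) {a b : ℤ} (h0 : 0 ≤ a) (hk : b ≤ k) : E e a b ≤ H :=
  s.hH ▸ E_mono h0 hk

/-- Nothing is centralised by two adjacent stabilisers. -/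
theorem Sims.eq_one (s : Sims k e H) {z : G} (hz : z ∈ H)
    (hc : ∀ j : ℤ, 0 ≤ j → j ≤ k + 1 → Commute z (e j)) : z = 1 := by
  by_contra hne
  refine s.succ (s.central z hz hne (fun x hx => ?_) _ (hc _ (by omega) le_rfl).symm)
  exact commute_of_mem_E (fun j h1 h2 => hc j h1 (by omega)) (s.hH ▸ hx)

theorem commute_iff {x y : G} : Commute x y ↔ ⁅x, y⁆ = 1 :=
  (commutatorElement_eq_one_iff_commute).symm

/-- The first distance at which the generators fail to commute. -/
theorem Sims.exists_lam [Finite G] (s : Sims k e H) (hk : 3 ≤ k) :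
    ∃ lam : ℕ, 2 ≤ lam ∧ lam < k ∧ ⁅e 0, e lam⁆ ≠ 1 ∧
      (∀ i j : ℤ, i ≤ j → j - i < lam → Commute (e i) (e j)) ∧
      (∀ i j : ℤ, i - j < lam → j - i < lam → Commute (e i) (e j)) := by
  classical
  have hex : ∃ d : ℕ, d < k ∧ ⁅e 0, e d⁆ ≠ 1 := by
    by_contra hno
    simp only [not_exists, not_and, not_not] at hno
    have hall : ∀ i j : ℤ, i ≤ j → j - i < k → Commute (e i) (e j) := fun i j h1 h2 => by
      obtain ⟨d, rfl⟩ : ∃ d : ℕ, j = d + i := ⟨(j - i).toNat, by omega⟩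
      have := s.chain.comm_shift (i := 0) (j := d) (hno d (by omega)) i
      rwa [zero_add, ← commute_iff] at this
    refine s.chain.ne_one s.pos 2 (s.eq_one (s.mem (by omega) (by omega)) fun j h1 h2 => ?_)
    rcases le_total 2 j with h | h
    · exact hall 2 j h (by omega)
    · exact (hall j 2 h (by omega)).symm
  obtain ⟨h1, h2⟩ := Nat.find_spec hex
  set lam := Nat.find hex with hlam
  have hcomm : ∀ i j : ℤ, i ≤ j → j - i < lam → Commute (e i) (e j) := fun i j h3 h4 => by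
    obtain ⟨d, rfl⟩ : ∃ d : ℕ, j = d + i := ⟨(j - i).toNat, by omega⟩
    have h5 : ⁅e 0, e d⁆ = 1 := by
      by_contra hd
      exact Nat.find_min hex (show d < Nat.find hex by omega) ⟨by omega, hd⟩
    have := s.chain.comm_shift (i := 0) (j := d) h5 i
    rwa [zero_add, ← commute_iff] at this
  refine ⟨lam, ?_, h1, h2, hcomm, fun i j h3 h4 => ?_⟩
  · by_contra hlt
    interval_cases lam
    · exact h2 (by simp)
    · have h3 := s.chain.comm_mem 0 1 (by omega) (by omega)
      rw [E_empty (by omega), mem_bot] at h3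
      exact h2 (by exact_mod_cast h3)
  · rcases le_total i j with h | h
    · exact hcomm i j h h4
    · exact (hcomm j i h h3).symm

theorem Sims.le_two_lam [Finite G] (s : Sims k e H) {lam : ℕ} (hlk : lam < k)
    (hlam : ⁅e 0, e lam⁆ ≠ 1)
    (hcomm : ∀ i j : ℤ, i ≤ j → j - i < lam → Commute (e i) (e j)) : k + 1 ≤ 2 * lam := by
  by_contra hlt
  have hcard : Nat.card (E e 1 k) = 2 ^ k := s.chain.card' 1 k k (by omega) le_rfl
  haveI := Fact.mk Nat.prime_two
  haveI : Nontrivial ↥(E e 1 k) := Finite.one_lt_card_iff_nontrivial.mp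
    (hcard ▸ Nat.one_lt_two_pow (by omega))
  haveI : Nontrivial ↥(center ↥(E e 1 k)) := (IsPGroup.of_card hcard).center_nontrivial
  obtain ⟨⟨z, hz⟩, hzne⟩ := exists_ne (1 : ↥(center ↥(E e 1 k)))
  have hmem := s.chain.center (a := 1) hcomm hlam hlk (z := (z : G))
    (E_mono (le_refl (1:ℤ)) (by omega) z.2)
    fun j h1 h2 => congrArg Subtype.val
      ((Subgroup.mem_center_iff.mp hz ⟨e j, mem_E h1 (by omega)⟩).symm)
  rw [E_empty (by omega), mem_bot] at hmem
  exact hzne (Subtype.ext (Subtype.ext hmem))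

theorem Sims.two_lam_le (s : Sims k e H) {lam : ℕ} (hlk : lam < k)
    (hsym : ∀ i j : ℤ, i - j < lam → j - i < lam → Commute (e i) (e j)) : 2 * lam ≤ k + 2 := by
  by_contra hlt
  refine s.chain.ne_one s.pos ((lam : ℤ) - 1) (s.eq_one (s.mem (by omega) (by omega)) fun j h1 h2 => ?_)
  exact hsym _ _ (by omega) (by omega)

/-- The first nontrivial commutator lies in the middle. -/
theorem Sims.comm_mid [Finite G] (s : Sims k e H) {lam : ℕ} (h2l : 2 ≤ lam) (hlk : lam < k)
    (hlam : ⁅e 0, e lam⁆ ≠ 1) (hge : k + 1 ≤ 2 * lam)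
    (hcomm : ∀ i j : ℤ, i ≤ j → j - i < lam → Commute (e i) (e j))
    (hsym : ∀ i j : ℤ, i - j < lam → j - i < lam → Commute (e i) (e j)) :
    ⁅e 0, e lam⁆ ∈ E e (k - lam) (lam - 1) ∧ ⁅e 0, e lam⁆ ∈ E e 1 (2 * lam - k) := by
  -- the argument, for any chain with these properties
  have key : ∀ f : ℤ → G, Chain k f → (∀ i j : ℤ, i ≤ j → j - i < lam → Commute (f i) (f j)) →
      (∀ i j : ℤ, i - j < lam → j - i < lam → Commute (f i) (f j)) → ⁅f 0, f lam⁆ ≠ 1 →
      ⁅f 0, f lam⁆ ∈ E f (k - lam) (lam - 1) := by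
    intro f hf hc hs hne
    have hcm := hf.comm_mem 0 lam (by omega) (by omega)
    have hcen : ∀ j : ℤ, 0 ≤ j → j ≤ 0 + k - 1 → Commute ⁅f 0, f lam⁆ (f j) := by
      intro j hj hj'
      by_cases hjl : j ≤ lam
      · exact (commute_of_mem_E (fun i h1 h2 => hs j i (by omega) (by omega)) hcm).symm
      · have hd := hf.comm_mem 0 j (by omega) (by omega)
        set d := ⁅f 0, f j⁆ with hdd
        have hdl : Commute (f lam) d :=
          commute_of_mem_E (fun i h1 h2 => hs lam i (by omega) (by omega)) hd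
        have hjl' : Commute (f j) (f lam) := hs j lam (by omega) (by omega)
        have h0 : f j * f 0 * f j = f 0 * d := by
          rw [hdd, commutatorElement_def, hf.inv, hf.inv]
          simp only [← mul_assoc]
          rw [hf.sq, one_mul]
        have h3 : f j * ⁅f 0, f lam⁆ * (f j)⁻¹ = ⁅f 0 * d, f lam⁆ := by
          have hconj := map_commutatorElement (MulAut.conj (f j)).toMonoidHom (f 0) (f lam)
          simp only [MulEquiv.coe_toMonoidHom, MulAut.conj_apply] at hconj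
          rw [hconj]
          congr 1
          · rw [hf.inv, h0]
          · rw [hjl'.eq, mul_inv_cancel_right]
        have h4 : ⁅f 0 * d, f lam⁆ = ⁅f 0, f lam⁆ := by
          rw [commutatorElement_def, commutatorElement_def, mul_inv_rev]
          calc f 0 * d * f lam * (d⁻¹ * (f 0)⁻¹) * (f lam)⁻¹
              = f 0 * (d * f lam) * d⁻¹ * (f 0)⁻¹ * (f lam)⁻¹ := by group
            _ = _ := by rw [← hdl.eq]; group
        rw [h4, mul_inv_eq_iff_eq_mul] at h3
        exact h3.symm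
    have := hf.center (a := 0) hc hne hlk (E_mono (by omega) (by omega) hcm) hcen
    rwa [zero_add, zero_add] at this
  refine ⟨key e s.chain hcomm hsym hlam, ?_⟩
  have hrev := key _ (s.chain.reverse lam) (fun i j h1 h2 => hsym _ _ (by omega) (by omega))
    (fun i j h1 h2 => hsym _ _ (by omega) (by omega)) (by
      simp only [sub_zero, sub_self]
      rw [← commutatorElement_inv]
      exact inv_ne_one.mpr hlam)
  have hE : E (fun i => e (lam - i)) (k - lam) (lam - 1) = E e 1 (2 * lam - k) := by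
    unfold E
    congr 1
    ext x
    constructor
    · rintro ⟨i, ⟨h1, h2⟩, rfl⟩; exact ⟨lam - i, ⟨by omega, by omega⟩, rfl⟩
    · rintro ⟨i, ⟨h1, h2⟩, rfl⟩; exact ⟨lam - i, ⟨by omega, by omega⟩, by simp⟩
  rw [hE] at hrev
  simp only [sub_zero, sub_self] at hrev
  rw [← commutatorElement_inv, inv_mem_iff] at hrev
  exact hrev

theorem mem_E_single (h : Chain k e) (hk : 1 ≤ k) {a : ℤ} {x : G} (hx : x ∈ E e a a) :
    x = 1 ∨ x = e a := by
  rcases h.split_one (by omega) hx with h1 | h1 <;> rw [E_empty (by omega), mem_bot] at h1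
  · exact Or.inl h1
  · exact Or.inr (by rw [← inv_eq_of_mul_eq_one_right h1, h.inv])

theorem sq_of_comm (h : Chain k e) {a b : ℤ}
    (hc : ∀ i j : ℤ, a ≤ i → i ≤ b → a ≤ j → j ≤ b → Commute (e i) (e j)) {x : G}
    (hx : x ∈ E e a b) : x * x = 1 := by
  induction hx using Subgroup.closure_induction with
  | mem y hy => obtain ⟨i, -, rfl⟩ := hy; exact h.sq i
  | one => simp
  | mul y z hy hz hy2 hz2 =>
    have hyz : Commute y z := (commute_of_mem_E (fun i h1 h2 => (commute_of_mem_E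
      (fun j h3 h4 => hc i j h1 h2 h3 h4) hz).symm) hy).symm
    calc y * z * (y * z) = y * (z * y) * z := by group
      _ = (y * y) * (z * z) := by rw [← hyz.eq]; group
      _ = 1 := by rw [hy2, hz2, one_mul]
  | inv y hy hy2 => rw [← mul_inv_rev, hy2, inv_one]

theorem Chain.conj_eq (h : Chain k e) (i j : ℤ) : e i * e j * e i = ⁅e i, e j⁆ * e j := by
  rw [commutatorElement_def, h.inv, h.inv, mul_assoc _ (e j) (e j), h.sq, mul_one]

theorem Sims.k_ne_six [Finite G] (s : Sims k e H) (hk : k = 6)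
    (hsym : ∀ i j : ℤ, i - j < 4 → j - i < 4 → Commute (e i) (e j))
    (hc : ⁅e 0, e 4⁆ = e 2) : False := by
  subst hk
  have h := s.chain
  have hc4 : ∀ a : ℤ, ⁅e a, e (a + 4)⁆ = e (a + 2) := fun a => by
    obtain ⟨g, hg⟩ := h.shiftZ a
    have := map_commutatorElement (MulAut.conj g).toMonoidHom (e 0) (e 4)
    simp only [MulEquiv.coe_toMonoidHom, MulAut.conj_apply, hc, hg, zero_add] at this
    rw [add_comm a 4, add_comm a 2, ← this]
  -- `[e₀, e₅]` lies in the middle
  have key : ∀ f : ℤ → G, Chain 6 f → (∀ i j : ℤ, i - j < 4 → j - i < 4 → Commute (f i) (f j)) →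
      ⁅f 1, f 5⁆ = f 3 → ⁅f 0, f 5⁆ ∈ E f 2 4 := by
    intro f hf hs hf15
    have hd := hf.comm_mem 0 5 (by omega) (by omega)
    rw [show ((0 : ℤ) + 1) = 1 by rfl, show ((5 : ℤ) - 1) = 4 by rfl] at hd
    set d := ⁅f 0, f 5⁆ with hdd
    rcases hf.split_one (by omega) hd with h1 | h1
    · exact h1
    exfalso
    rw [show ((1 : ℤ) + 1) = 2 by rfl] at h1
    set u := f 1 * d with hu
    have hdu : d = f 1 * u := by rw [hu, ← mul_assoc, hf.sq, one_mul]
    have hu5 : Commute (f 5) u := commute_of_mem_E (fun i _ _ => hs 5 i (by omega) (by omega)) h1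
    have hu1 : Commute (f 1) u := commute_of_mem_E (fun i _ _ => hs 1 i (by omega) (by omega)) h1
    have h31 : Commute (f 3) (f 1) := hs 3 1 (by omega) (by omega)
    have hu3 : Commute (f 3) u := commute_of_mem_E (fun i _ _ => hs 3 i (by omega) (by omega)) h1
    have huu : u * u = 1 :=
      sq_of_comm hf (fun i j hi hi' hj hj' => hs i j (by omega) (by omega)) h1
    have e1 : f 5 * f 1 * f 5 = f 3 * f 1 := by
      rw [hf.conj_eq, ← commutatorElement_inv, hf15, hf.inv]
    have e0 : f 5 * f 0 * f 5 = f 0 * d := by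
      rw [hdd, commutatorElement_def, hf.inv, hf.inv]
      simp only [← mul_assoc]
      rw [hf.sq, one_mul]
    have e00 : d * (f 5 * d * f 5) = 1 := by
      have : f 0 * d * (f 5 * d * f 5) = f 0 := by
        rw [← e0]
        calc f 5 * f 0 * f 5 * (f 5 * d * f 5) = f 5 * f 0 * (f 5 * f 5) * d * f 5 := by group
          _ = f 5 * (f 0 * d) * f 5 := by rw [hf.sq, mul_one]; group
          _ = (f 5 * f 5) * f 0 * (f 5 * f 5) := by rw [← e0]; group
          _ = f 0 := by rw [hf.sq, one_mul, mul_one]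
      rwa [mul_assoc, mul_eq_left] at this
    have e5d : f 5 * d * f 5 = f 3 * f 1 * u := by
      calc f 5 * d * f 5 = f 5 * f 1 * (u * f 5) := by rw [hdu]; group
        _ = (f 5 * f 1 * f 5) * u := by rw [← hu5.eq]; group
        _ = _ := by rw [e1]
    rw [e5d, hdu] at e00
    refine hf.ne_one (by omega) 3 ?_
    calc f 3 = f 3 * (f 1 * f 1) * (u * u) := by rw [hf.sq, huu, mul_one, mul_one]
      _ = (f 3 * f 1) * (f 1 * u) * u := by group
      _ = (f 1 * f 3) * (u * f 1) * u := by rw [h31.eq, hu1.eq]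
      _ = f 1 * (f 3 * u) * f 1 * u := by group
      _ = f 1 * u * (f 3 * f 1 * u) := by rw [hu3.eq]; group
      _ = 1 := e00
  have hd1 : ⁅e 0, e 5⁆ ∈ E e 2 4 := key e h hsym (hc4 1)
  have hd2 : ⁅e 0, e 5⁆ ∈ E e 1 3 := by
    have hr := key _ (h.reverse 5) (fun i j h1 h2 => hsym _ _ (by omega) (by omega)) (by
      show ⁅e (5 - 1), e (5 - 5)⁆ = e (5 - 3)
      rw [← commutatorElement_inv]
      show (⁅e 0, e 4⁆)⁻¹ = e 2
      rw [hc, h.inv])
    have hE : E (fun i => e (5 - i)) 2 4 = E e 1 3 := by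
      unfold E
      congr 1
      ext x
      constructor
      · rintro ⟨i, ⟨h1, h2⟩, rfl⟩; exact ⟨5 - i, ⟨by omega, by omega⟩, rfl⟩
      · rintro ⟨i, ⟨h1, h2⟩, rfl⟩; exact ⟨5 - i, ⟨by omega, by omega⟩, by simp⟩
    rw [hE] at hr
    change ⁅e 5, e 0⁆ ∈ E e 1 3 at hr
    rwa [← commutatorElement_inv, inv_mem_iff] at hr
  have hd : ⁅e 0, e 5⁆ ∈ E e 2 3 := h.mem_inter (p := 1) (q := 3) (r := 2) (s := 4) (by omega)
    (by omega) (by omega) hd2 hd1
  set W := E e 2 4 with hW
  have hW16 : ⁅e 1, e 6⁆ ∈ W := by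
    obtain ⟨g, hg⟩ := h.shiftZ 1
    have := map_commutatorElement (MulAut.conj g).toMonoidHom (e 0) (e 5)
    simp only [MulEquiv.coe_toMonoidHom, MulAut.conj_apply, hg] at this
    change g * ⁅e 0, e 5⁆ * g⁻¹ = ⁅e 1, e 6⁆ at this
    rw [← this]
    have hle : E e 2 3 ≤ W.comap (MulAut.conj g).toMonoidHom := by
      conv_lhs => rw [E]
      rw [closure_le]
      rintro _ ⟨i, ⟨h1, h2⟩, rfl⟩
      show g * e i * g⁻¹ ∈ W
      rw [hg]; exact mem_E (by omega) (by omega)
    exact hle hd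
  -- `H` normalises `W` and fixes `e₁` modulo `W`
  have hstep : ∀ j : ℤ, 0 ≤ j → j ≤ 6 → (∀ w ∈ W, e j * w * (e j)⁻¹ ∈ W) ∧
      e j * e 1 * (e j)⁻¹ * (e 1)⁻¹ ∈ W := by
    intro j h1 h2
    have hn : ∀ w ∈ W, e j * w * (e j)⁻¹ ∈ W := by
      intro w hw
      have hle : W ≤ W.comap (MulAut.conj (e j)).toMonoidHom := by
        conv_lhs => rw [hW, E]
        rw [closure_le]
        rintro _ ⟨i, ⟨h3, h4⟩, rfl⟩
        show e j * e i * (e j)⁻¹ ∈ W
        rw [h.inv, h.conj_eq]
        refine mul_mem ?_ (mem_E h3 h4)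
        by_cases hd' : i - j < 4 ∧ j - i < 4
        · rw [commute_iff.mp (hsym j i (by omega) (by omega))]; exact one_mem _
        · rcases (show (j = 0 ∧ i = 4) ∨ (j = 6 ∧ i = 2) by omega) with ⟨rfl, rfl⟩ | ⟨rfl, rfl⟩
          · rw [hc]; exact mem_E le_rfl (by omega)
          · rw [← commutatorElement_inv]
            refine inv_mem ?_
            have := hc4 2
            norm_num at this
            rw [this]; exact mem_E (by omega) le_rfl
      exact hle hw
    have h5 : e j * e 1 * (e j)⁻¹ * (e 1)⁻¹ ∈ W := by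
      rw [← commutatorElement_def]
      by_cases hj : j < 5
      · rw [commute_iff.mp (hsym j 1 (by omega) (by omega))]; exact one_mem _
      · rw [← commutatorElement_inv]
        refine inv_mem ?_
        rcases (show j = 5 ∨ j = 6 by omega) with rfl | rfl
        · have := hc4 1
          norm_num at this
          rw [this]; exact mem_E (by omega) (by omega)
        · exact hW16
    exact ⟨hn, h5⟩
  have hS : ∀ x ∈ H, (∀ w ∈ W, x * w * x⁻¹ ∈ W) ∧ x * e 1 * x⁻¹ * (e 1)⁻¹ ∈ W := by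
    intro x hx
    rw [s.hH] at hx
    induction hx using Subgroup.closure_induction_left with
    | one => simp
    | mul_left y hy v hv ih =>
      obtain ⟨j, ⟨h1, h2⟩, rfl⟩ := hy
      obtain ⟨hn, h5⟩ := hstep j h1 (by omega)
      refine ⟨fun w hw => ?_, ?_⟩
      · rw [show e j * v * w * (e j * v)⁻¹ = e j * (v * w * v⁻¹) * (e j)⁻¹ by group]
        exact hn _ (ih.1 w hw)
      · rw [show e j * v * e 1 * (e j * v)⁻¹ * (e 1)⁻¹ =
          (e j * (v * e 1 * v⁻¹ * (e 1)⁻¹) * (e j)⁻¹) * (e j * e 1 * (e j)⁻¹ * (e 1)⁻¹) by group]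
        exact mul_mem (hn _ ih.2) h5
    | inv_mul_cancel y hy v hv ih =>
      obtain ⟨j, ⟨h1, h2⟩, rfl⟩ := hy
      obtain ⟨hn, h5⟩ := hstep j h1 (by omega)
      rw [h.inv]
      refine ⟨fun w hw => ?_, ?_⟩
      · rw [show e j * v * w * (e j * v)⁻¹ = e j * (v * w * v⁻¹) * (e j)⁻¹ by group]
        exact hn _ (ih.1 w hw)
      · rw [show e j * v * e 1 * (e j * v)⁻¹ * (e 1)⁻¹ =
          (e j * (v * e 1 * v⁻¹ * (e 1)⁻¹) * (e j)⁻¹) * (e j * e 1 * (e j)⁻¹ * (e 1)⁻¹) by group]
        exact mul_mem (hn _ ih.2) h5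
  obtain ⟨t, ht⟩ := h.shift
  have hy4 : e 6 * e 0 * e 4 * (e 6 * e 0)⁻¹ = e 2 := by
    rw [mul_inv_rev, h.inv, h.inv]
    calc e 6 * e 0 * e 4 * (e 0 * e 6) = e 6 * (e 0 * e 4 * e 0) * e 6 := by group
      _ = e 6 * (e 2 * e 4) * e 6 := by rw [h.conj_eq, hc]
      _ = (e 6 * e 2 * e 6) * ((e 6)⁻¹ * e 4 * e 6) := by group
      _ = e 2 := by
        have h26 := hc4 2
        norm_num at h26
        rw [h.conj_eq, ← commutatorElement_inv, h26, h.inv, h.inv,
          (hsym 6 4 (by omega) (by omega)).eq, mul_assoc (e 4) (e 6), h.sq, mul_one,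
          (hsym 4 2 (by omega) (by omega)).eq, mul_assoc, h.sq, mul_one]
  have hy2 : e 6 * e 0 * e 2 * (e 6 * e 0)⁻¹ = e 2 * e 4 := by
    rw [mul_inv_rev, h.inv, h.inv]
    calc e 6 * e 0 * e 2 * (e 0 * e 6) = e 6 * (e 0 * e 2 * e 0) * e 6 := by group
      _ = e 6 * e 2 * e 6 := by
        rw [h.conj_eq, commute_iff.mp (hsym 0 2 (by omega) (by omega)), one_mul]
      _ = _ := by
        have h26 := hc4 2
        norm_num at h26
        rw [h.conj_eq, ← commutatorElement_inv, h26, h.inv, (hsym 4 2 (by omega) (by omega)).eq]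
  have hshift2 : ∀ i, t * t * e i * (t * t)⁻¹ = e (i + 2) := fun i => by
    rw [show t * t * e i * (t * t)⁻¹ = t * (t * e i * t⁻¹) * t⁻¹ by group, ht, ht]
    congr 1; ring
  set g := t * (e 6 * e 0 * (t * t)) * t⁻¹ with hg
  have hg3 : Commute g (e 3) := by
    have h1 : g * e 3 * g⁻¹ = e 3 := by
      rw [hg, show e 3 = t * e 2 * t⁻¹ by rw [ht]; norm_num]
      calc _ = t * (e 6 * e 0 * (t * t * e 2 * (t * t)⁻¹) * (e 6 * e 0)⁻¹) * t⁻¹ := by group
        _ = _ := by
          rw [hshift2]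
          norm_num
          rw [mul_inv_rev] at hy4
          rw [hy4]
    exact mul_inv_eq_iff_eq_mul.mp h1
  have hgH : g ∈ H := s.central (e 3) (s.mem (by omega) (by omega)) (h.ne_one (by omega) 3)
    (fun x hx => commute_of_mem_E (fun i h1 h2 => hsym 3 i (by omega) (by omega)) (s.hH ▸ hx)) g hg3
  have h1 := (hS g hgH).2
  have h2 : g * e 1 * g⁻¹ = e 3 * e 5 := by
    rw [hg, show e 1 = t * e 0 * t⁻¹ by rw [ht]; norm_num]
    calc _ = t * (e 6 * e 0 * (t * t * e 0 * (t * t)⁻¹) * (e 6 * e 0)⁻¹) * t⁻¹ := by group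
      _ = t * (e 2 * e 4) * t⁻¹ := by rw [hshift2]; norm_num; rw [mul_inv_rev] at hy2; rw [hy2]
      _ = (t * e 2 * t⁻¹) * (t * e 4 * t⁻¹) := by group
      _ = _ := by rw [ht, ht]; norm_num
  rw [h2, h.inv] at h1
  have h3 : e 5 ∈ E e 1 4 := by
    have h4 : e 3 * (e 3 * e 5 * e 1) * e 1 ∈ E e 1 4 :=
      mul_mem (mul_mem (mem_E (by omega) (by omega)) (E_mono (by omega) le_rfl h1))
        (mem_E le_rfl (by omega))
    rwa [show e 3 * (e 3 * e 5 * e 1) * e 1 = (e 3 * e 3) * e 5 * (e 1 * e 1) by group, h.sq, h.sq,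
      one_mul, mul_one] at h4
  exact h.ne_one (by omega) 5 (h.disjoint (a := 1) (b := 5) (c := 4) (by omega) (by omega)
    (by omega) h3 (mem_E le_rfl le_rfl))

theorem Sims.le_four [Finite G] (s : Sims k e H) : k ≤ 4 := by
  by_contra hk
  obtain ⟨lam, h2l, hlk, hlam, hcomm, hsym⟩ := s.exists_lam (by omega)
  have hge := s.le_two_lam hlk hlam hcomm
  have hle := s.two_lam_le hlk hsym
  obtain ⟨hc1, hc2⟩ := s.comm_mid h2l hlk hlam hge hcomm hsym
  by_cases hd : 2 * (lam : ℤ) - k < k - lam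
  · exact hlam (s.chain.disjoint (a := 1) (b := (lam : ℤ) - 1) (c := 2 * lam - k) (by omega)
      (by omega) (by omega) hc2 (E_mono (by omega) le_rfl hc1))
  obtain ⟨rfl, rfl⟩ : k = 6 ∧ lam = 4 := by omega
  refine s.k_ne_six rfl (fun i j h1 h2 => hsym i j h1 h2) ?_
  have h2 : ⁅e 0, e 4⁆ ∈ E e 2 2 := by
    have := s.chain.mem_inter (p := 1) (q := 2) (r := 2) (s := 3) (by omega) (by omega) (by omega)
      (x := ⁅e 0, e 4⁆) (by simpa using hc2) (by simpa using hc1)
    exact this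
  rcases mem_E_single s.chain s.pos h2 with h3 | h3
  · exact absurd (by simpa using h3) hlam
  · exact h3

end Cfsg.Agent.Lib.PLocal.SimsChain
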