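import Mathlib

/-!
# Shift-invariant chains of involutions
-/

set_option autoImplicit false
open scoped commutatorElement

namespace Cfsg.Agent.Lib.PLocal.SimsChain

open Subgroup

variable {G : Type*} [Group G]

/-- The subgroup generated by `e a, …, e b`. -/
def E (e : ℤ → G) (a b : ℤ) : Subgroup G := closure (e '' Set.Icc a b)

theorem mem_E {e : ℤ → G} {a b i : ℤ} (h1 : a ≤ i) (h2 : i ≤ b) : e i ∈ E e a b :=
  subset_closure ⟨i, ⟨h1, h2⟩, rfl⟩

theorem E_mono {e : ℤ → G} {a b a' b' : ℤ} (h1 : a' ≤ a) (h2 : b ≤ b') : E e a b ≤ E e a' b' :=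
  closure_mono (Set.image_mono (Set.Icc_subset_Icc h1 h2))

theorem E_empty {e : ℤ → G} {a b : ℤ} (h : b < a) : E e a b = ⊥ := by
  rw [E, Set.Icc_eq_empty (by omega), Set.image_empty, Subgroup.closure_empty]

theorem commute_of_mem_E {e : ℤ → G} {a b : ℤ} {g : G}
    (h : ∀ i, a ≤ i → i ≤ b → Commute g (e i)) {x : G} (hx : x ∈ E e a b) : Commute g x := by
  have : E e a b ≤ centralizer ({g} : Set G) := by
    rw [E, closure_le]
    rintro _ ⟨i, ⟨h1, h2⟩, rfl⟩
    exact mem_centralizer_singleton_iff.mpr (h i h1 h2).eq.symm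
  exact (mem_centralizer_singleton_iff.mp (this hx)).symm

/-- A shift-invariant chain of involutions, of length `k`. -/
structure Chain (k : ℕ) (e : ℤ → G) : Prop where
  shift : ∃ t : G, ∀ i, t * e i * t⁻¹ = e (i + 1)
  sq : ∀ i, e i * e i = 1
  card : ∀ (a : ℤ) (n : ℕ), n ≤ k → Nat.card (E e a (a + n - 1)) = 2 ^ n
  comm_mem : ∀ i j : ℤ, i < j → j - i < k → ⁅e i, e j⁆ ∈ E e (i + 1) (j - 1)

variable {k : ℕ} {e : ℤ → G}

theorem Chain.inv (h : Chain k e) (i : ℤ) : (e i)⁻¹ = e i := inv_eq_of_mul_eq_one_right (h.sq i)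

theorem Chain.shiftZ (h : Chain k e) (m : ℤ) : ∃ g : G, ∀ i, g * e i * g⁻¹ = e (i + m) := by
  obtain ⟨t, ht⟩ := h.shift
  induction m using Int.induction_on with
  | zero => exact ⟨1, fun i => by simp⟩
  | succ m ih =>
    obtain ⟨g, hg⟩ := ih
    refine ⟨t * g, fun i => ?_⟩
    rw [show t * g * e i * (t * g)⁻¹ = t * (g * e i * g⁻¹) * t⁻¹ by group, hg, ht]
    congr 1; ring
  | pred m ih =>
    obtain ⟨g, hg⟩ := ih
    refine ⟨t⁻¹ * g, fun i => ?_⟩
    have h2 := ht (i + (-(m : ℤ) - 1))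
    rw [show i + (-(m : ℤ) - 1) + 1 = i + -(m : ℤ) by ring, ← hg i] at h2
    rw [show t⁻¹ * g * e i * (t⁻¹ * g)⁻¹ = t⁻¹ * (g * e i * g⁻¹) * t by group, ← h2]
    group

theorem Chain.comm_shift (h : Chain k e) {i j : ℤ} (hij : ⁅e i, e j⁆ = 1) (m : ℤ) :
    ⁅e (i + m), e (j + m)⁆ = 1 := by
  obtain ⟨g, hg⟩ := h.shiftZ m
  rw [← hg i, ← hg j, commutatorElement_def]
  rw [commutatorElement_def] at hij
  calc _ = g * (e i * e j * (e i)⁻¹ * (e j)⁻¹) * g⁻¹ := by group
    _ = 1 := by rw [hij]; group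

theorem Chain.reverse (h : Chain k e) (c : ℤ) : Chain k (fun i => e (c - i)) := by
  have hE : ∀ a b, E (fun i => e (c - i)) a b = E e (c - b) (c - a) := by
    intro a b
    unfold E
    congr 1
    ext x
    constructor
    · rintro ⟨i, ⟨h1, h2⟩, rfl⟩; exact ⟨c - i, ⟨by omega, by omega⟩, rfl⟩
    · rintro ⟨i, ⟨h1, h2⟩, rfl⟩; exact ⟨c - i, ⟨by omega, by omega⟩, by simp⟩
  obtain ⟨t, ht⟩ := h.shift
  refine ⟨⟨t⁻¹, fun i => ?_⟩, fun i => h.sq _, fun a n hn => ?_, fun i j hij hk => ?_⟩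
  · have := ht (c - (i + 1))
    rw [show c - (i + 1) + 1 = c - i by ring] at this
    show t⁻¹ * e (c - i) * t⁻¹⁻¹ = e (c - (i + 1))
    rw [← this]; group
  · rw [hE, show c - a = (c - (a + n - 1)) + n - 1 by ring]
    exact h.card _ n hn
  · rw [hE, ← commutatorElement_inv]
    refine inv_mem ?_
    have := h.comm_mem (c - j) (c - i) (by omega) (by omega)
    rwa [show c - (j - 1) = c - j + 1 by ring, show c - (i + 1) = c - i - 1 by ring]

theorem Chain.conj_mem (h : Chain k e) {a b i : ℤ} (hi : i = a - 1 ∨ (a ≤ i + 1 ∧ i ≤ b + 1))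
    (hk : b - min i a < k) (hk' : max i b - a < k) {x : G} (hx : x ∈ E e a b) :
    e i * x * e i ∈ E e a b := by
  have hle : E e a b ≤ (E e a b).comap (MulAut.conj (e i)).toMonoidHom := by
    conv_lhs => rw [E]
    rw [closure_le]
    rintro _ ⟨j, ⟨h1, h2⟩, rfl⟩
    show e i * e j * (e i)⁻¹ ∈ E e a b
    rcases lt_trichotomy i j with hij | rfl | hij
    · have hc := h.comm_mem i j hij (by omega)
      have : e i * e j * (e i)⁻¹ = ⁅e i, e j⁆ * e j := by rw [commutatorElement_def]; group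
      rw [this]
      refine mul_mem (E_mono ?_ ?_ hc) (mem_E h1 h2) <;> omega
    · rw [h.inv, h.sq, one_mul]; exact mem_E h1 h2
    · have hc := h.comm_mem j i hij (by omega)
      have : e i * e j * (e i)⁻¹ = ⁅e j, e i⁆⁻¹ * e j := by rw [commutatorElement_def]; group
      rw [this]
      refine mul_mem (inv_mem (E_mono ?_ ?_ hc)) (mem_E h1 h2) <;> omega
  have := hle hx
  change e i * x * (e i)⁻¹ ∈ E e a b at this
  rwa [h.inv] at this

/-- The first generator splits off. -/
theorem Chain.split_one (h : Chain k e) {a b : ℤ} (hk : b - a < k) {x : G} (hx : x ∈ E e a b) :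
    x ∈ E e (a + 1) b ∨ e a * x ∈ E e (a + 1) b := by
  induction hx using Subgroup.closure_induction_left with
  | one => exact Or.inl (one_mem _)
  | mul_left u hu v hv ih =>
    obtain ⟨j, ⟨h1, h2⟩, rfl⟩ := hu
    rcases eq_or_lt_of_le h1 with rfl | hlt
    · rcases ih with ih | ih
      · exact Or.inr (by rwa [← mul_assoc, h.sq, one_mul])
      · exact Or.inl ih
    · have hj : e j ∈ E e (a + 1) b := mem_E (by omega) h2
      rcases ih with ih | ih
      · exact Or.inl (mul_mem hj ih)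
      · refine Or.inr ?_
        have h3 := h.conj_mem (a := a + 1) (b := b) (i := a) (Or.inl (by omega)) (by omega) (by omega) hj
        have h4 := mul_mem h3 ih
        have h5 : e a * e j * e a * (e a * v) = e a * (e j * v) := by
          rw [← mul_assoc, mul_assoc (e a * e j) (e a) (e a), h.sq, mul_one, mul_assoc]
        rwa [h5] at h4
  | inv_mul_cancel u hu v hv ih =>
    obtain ⟨j, ⟨h1, h2⟩, rfl⟩ := hu
    rw [h.inv]
    rcases eq_or_lt_of_le h1 with rfl | hlt
    · rcases ih with ih | ih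
      · exact Or.inr (by rwa [← mul_assoc, h.sq, one_mul])
      · exact Or.inl ih
    · have hj : e j ∈ E e (a + 1) b := mem_E (by omega) h2
      rcases ih with ih | ih
      · exact Or.inl (mul_mem hj ih)
      · refine Or.inr ?_
        have h3 := h.conj_mem (a := a + 1) (b := b) (i := a) (Or.inl (by omega)) (by omega) (by omega) hj
        have h4 := mul_mem h3 ih
        have h5 : e a * e j * e a * (e a * v) = e a * (e j * v) := by
          rw [← mul_assoc, mul_assoc (e a * e j) (e a) (e a), h.sq, mul_one, mul_assoc]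
        rwa [h5] at h4

theorem Chain.split (h : Chain k e) {a b c : ℤ} (hk : b - a < k) (h1 : a ≤ c + 1) (h2 : c ≤ b)
    {x : G} (hx : x ∈ E e a b) : ∃ u ∈ E e a c, ∃ v ∈ E e (c + 1) b, x = u * v := by
  obtain ⟨n, hn⟩ : ∃ n : ℕ, c = a - 1 + n := ⟨(c + 1 - a).toNat, by omega⟩
  induction n generalizing c with
  | zero =>
    refine ⟨1, one_mem _, x, ?_, (one_mul x).symm⟩
    rwa [show c + 1 = a by omega]
  | succ n ih =>
    obtain ⟨u, hu, v, hv, rfl⟩ := ih (c := c - 1) (by omega) (by omega) (by omega)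
    rw [sub_add_cancel] at hv
    rcases h.split_one (by omega) hv with h3 | h3
    · exact ⟨u, E_mono le_rfl (by omega) hu, v, h3, rfl⟩
    · refine ⟨u * e c, mul_mem (E_mono le_rfl (by omega) hu) (mem_E (by omega) le_rfl), e c * v, h3, ?_⟩
      rw [mul_assoc, ← mul_assoc (e c), h.sq, one_mul]

theorem Chain.disjoint [Finite G] (h : Chain k e) {a b c : ℤ} (hk : b - a < k) (h1 : a ≤ c + 1)
    (h2 : c ≤ b) {x : G} (hu : x ∈ E e a c) (hv : x ∈ E e (c + 1) b) : x = 1 := by
  let f : ↥(E e a c) × ↥(E e (c + 1) b) → ↥(E e a b) := fun p =>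
    ⟨p.1 * p.2, mul_mem (E_mono le_rfl h2 p.1.2) (E_mono h1 le_rfl p.2.2)⟩
  have hs : Function.Surjective f := fun y => by
    obtain ⟨u, hu, v, hv, he⟩ := h.split hk h1 h2 y.2
    exact ⟨(⟨u, hu⟩, ⟨v, hv⟩), Subtype.ext he.symm⟩
  obtain ⟨n, hn⟩ : ∃ n : ℕ, c = a + n - 1 := ⟨(c + 1 - a).toNat, by omega⟩
  obtain ⟨m, hm⟩ : ∃ m : ℕ, b = c + 1 + m - 1 := ⟨(b - c).toNat, by omega⟩
  have hc1 := h.card a n (by omega)
  have hc2 := h.card (c + 1) m (by omega)
  have hc3 := h.card a (n + m) (by omega)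
  rw [← hn] at hc1
  rw [← hm] at hc2
  rw [show a + ((n + m : ℕ) : ℤ) - 1 = b by push_cast; omega] at hc3
  have hb := hs.bijective_of_nat_card_le (by rw [Nat.card_prod, hc1, hc2, hc3, pow_add])
  have := hb.1 (a₁ := (⟨x, hu⟩, 1)) (a₂ := (1, ⟨x, hv⟩)) (Subtype.ext (by simp [f]))
  simpa using congrArg (fun p => (p.1 : G)) this

/-- Intersections of intervals. -/
theorem Chain.mem_inter [Finite G] (h : Chain k e) {p q r s : ℤ} (hpr : p ≤ r) (hqs : q ≤ s)
    (hk : s - p < k) {x : G} (h1 : x ∈ E e p q) (h2 : x ∈ E e r s) : x ∈ E e r q := by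
  by_cases hq : q < p
  · rw [E_empty hq, mem_bot] at h1; rw [h1]; exact one_mem _
  by_cases hs : s < r
  · rw [E_empty hs, mem_bot] at h2; rw [h2]; exact one_mem _
  by_cases hrq : r ≤ q + 1
  · obtain ⟨u, hu, v, hv, rfl⟩ := h.split (c := r - 1) (by omega) (by omega) (by omega) h1
    rw [sub_add_cancel] at hv
    have hu' : u ∈ E e r s := by
      have := mul_mem h2 (inv_mem (E_mono le_rfl hqs hv))
      rwa [mul_inv_cancel_right] at this
    have := h.disjoint (c := r - 1) hk (by omega) (by omega) hu (by rwa [sub_add_cancel])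
    rw [this, one_mul]; exact hv
  · have := h.disjoint (c := r - 1) hk (by omega) (by omega) (E_mono le_rfl (by omega) h1)
      (by rwa [sub_add_cancel])
    rw [this]; exact one_mem _

variable {lam : ℕ}

/-- A central element of an interval has no low part. -/
theorem Chain.low [Finite G] (h : Chain k e)
    (hcomm : ∀ i j : ℤ, i ≤ j → j - i < lam → Commute (e i) (e j))
    (hlam : ⁅e 0, e lam⁆ ≠ 1) (hlk : lam < k) {a b : ℤ} (hk : b - a < k) {z : G}
    (hz : z ∈ E e a b) (hc : ∀ j, a ≤ j → j ≤ b → Commute z (e j)) (hab : a ≤ b - lam + 1) :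
    z ∈ E e (b - lam + 1) b := by
  obtain ⟨n, hn⟩ : ∃ n : ℕ, b - lam + 1 = a + n := ⟨(b - lam + 1 - a).toNat, by omega⟩
  induction n generalizing a with
  | zero => rwa [show b - (lam : ℤ) + 1 = a by omega]
  | succ n ih =>
    rcases h.split_one hk hz with h1 | h1
    · exact ih (a := a + 1) (by omega) h1 (fun j hj hj' => hc j (by omega) hj') (by omega) (by omega)
    exfalso
    obtain ⟨y1, hy1, y2, hy2, hy⟩ := h.split (c := a + lam) (by omega) (by omega) (by omega) h1
    have hy2' := h.conj_mem (a := a + lam + 1) (b := b) (i := a + lam) (Or.inl (by omega))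
      (by omega) (by omega) hy2
    set f := e (a + lam) with hf
    have hz' : z = e a * (y1 * y2) := by rw [← hy, ← mul_assoc, h.sq, one_mul]
    have hfz : f * z * f = z := by
      rw [← (hc (a + lam) (by omega) (by omega)).eq, mul_assoc, h.sq, mul_one]
    have hy1f : Commute f y1 := commute_of_mem_E (fun j hj hj' =>
      (hcomm j (a + lam) hj' (by omega)).symm) hy1
    set d := ⁅e a, f⁆ with hd
    have hdm : d ∈ E e (a + 1) (a + lam - 1) := h.comm_mem a (a + lam) (by
      rcases Nat.eq_zero_or_pos lam with h0 | h0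
      · exact absurd (by rw [h0, Nat.cast_zero]; exact commutatorElement_self _) hlam
      · omega) (by omega)
    have hdy1 : Commute d y1 := commute_of_mem_E (fun j hj hj' =>
      (commute_of_mem_E (fun i hi hi' => by
        rcases le_total i j with hij | hij
        · exact (hcomm i j hij (by omega)).symm
        · exact hcomm j i hij (by omega)) hdm).symm) hy1
    have h2 : e a * f * e a * f = d := by rw [hd, commutatorElement_def, h.inv, h.inv]
    have h4 : e a * d * (y1 * (f * y2 * f)) = e a * (y1 * y2) := by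
      rw [← hz', ← hfz, hz']
      calc e a * d * (y1 * (f * y2 * f)) = e a * (e a * f * e a * f) * (y1 * (f * y2 * f)) := by
            rw [h2]
        _ = (e a * e a) * f * e a * (f * y1) * f * y2 * f := by group
        _ = f * e a * (y1 * f) * f * y2 * f := by rw [h.sq, hy1f.eq, one_mul]
        _ = f * e a * y1 * (f * f) * y2 * f := by group
        _ = _ := by rw [hf, h.sq]; group
    rw [mul_assoc] at h4
    have h5 := mul_left_cancel h4
    rw [← mul_assoc, hdy1.eq, mul_assoc] at h5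
    have h6 := mul_left_cancel h5
    have h7 : d ∈ E e (a + lam + 1) b := by
      rw [eq_mul_inv_of_mul_eq h6]
      exact mul_mem hy2 (inv_mem hy2')
    have hd1 : d = 1 := h.disjoint (a := a + 1) (b := b) (c := a + lam) (by omega) (by omega)
      (by omega) (E_mono le_rfl (by omega) hdm) h7
    refine hlam ?_
    have := h.comm_shift hd1 (-a)
    rwa [add_neg_cancel, show a + (lam : ℤ) + -a = lam by ring] at this

/-- A central element of an interval lies in the middle. -/
theorem Chain.center [Finite G] (h : Chain k e)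
    (hcomm : ∀ i j : ℤ, i ≤ j → j - i < lam → Commute (e i) (e j))
    (hlam : ⁅e 0, e lam⁆ ≠ 1) (hlk : lam < k) {a : ℤ} {z : G}
    (hz : z ∈ E e a (a + k - 1)) (hc : ∀ j, a ≤ j → j ≤ a + k - 1 → Commute z (e j)) :
    z ∈ E e (a + k - lam) (a + lam - 1) := by
  have h1 := h.low hcomm hlam hlk (by omega) hz hc (by omega)
  have hE : ∀ p q : ℤ, E (fun i => e (2 * a + k - 1 - i)) p q =
      E e (2 * a + k - 1 - q) (2 * a + k - 1 - p) := by
    intro p q
    unfold E
    congr 1
    ext x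
    constructor
    · rintro ⟨i, ⟨h1, h2⟩, rfl⟩; exact ⟨2 * a + k - 1 - i, ⟨by omega, by omega⟩, rfl⟩
    · rintro ⟨i, ⟨h1, h2⟩, rfl⟩; exact ⟨2 * a + k - 1 - i, ⟨by omega, by omega⟩, by simp⟩
  have h2 := (h.reverse (2 * a + k - 1)).low (lam := lam)
    (fun i j hij hd => (hcomm _ _ (by omega) (by omega)).symm) (fun he => hlam (by
      have he' : ⁅e (2 * a + k - 1 - lam), e (2 * a + k - 1)⁆ = 1 := by
        rw [← commutatorElement_inv]
        simp only [sub_zero] at he
        rw [he, inv_one]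
      have := h.comm_shift he' (-(2 * a + k - 1 - lam))
      rwa [show (2 * a + (k : ℤ) - 1 - lam + -(2 * a + k - 1 - lam)) = 0 by ring,
        show (2 * a + (k : ℤ) - 1 + -(2 * a + k - 1 - lam)) = lam by ring] at this)) hlk
    (a := a) (b := a + k - 1) (by omega)
    (by rw [hE, show 2 * a + (k : ℤ) - 1 - (a + k - 1) = a by ring,
          show 2 * a + (k : ℤ) - 1 - a = a + k - 1 by ring]; exact hz)
    (fun j hj hj' => hc _ (by omega) (by omega)) (by omega)
  rw [hE, show 2 * a + (k : ℤ) - 1 - (a + k - 1) = a by ring,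
    show 2 * a + (k : ℤ) - 1 - (a + k - 1 - lam + 1) = a + lam - 1 by ring] at h2
  have h3 := h.mem_inter (p := a) (q := a + lam - 1) (r := a + k - lam) (s := a + k - 1) (by omega)
    (by omega) (by omega) h2 (by rwa [show a + (k : ℤ) - 1 - lam + 1 = a + k - lam by ring] at h1)
  exact h3

theorem Chain.ne_one (h : Chain k e) (hk : 1 ≤ k) (i : ℤ) : e i ≠ 1 := by
  intro h1
  have h2 := h.card i 1 hk
  rw [show i + ((1 : ℕ) : ℤ) - 1 = i by simp, E, Set.Icc_self, Set.image_singleton, h1,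
    Subgroup.closure_singleton_one, Subgroup.card_bot] at h2
  omega

theorem Chain.card' (h : Chain k e) (a b : ℤ) (n : ℕ) (hab : b = a + n - 1) (hn : n ≤ k) :
    Nat.card (E e a b) = 2 ^ n := hab ▸ h.card a n hn

theorem le_normalizer_of_card {U T : Subgroup G} [Finite G] (hle : U ≤ T)
    (hc : Nat.card T = 2 * Nat.card U) : T ≤ normalizer (U : Set G) := by
  have h1 := Subgroup.relIndex_mul_relIndex ⊥ U T bot_le hle
  rw [Subgroup.relIndex_bot_left, Subgroup.relIndex_bot_left, hc] at h1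
  have h2 : U.relIndex T = 2 := Nat.eq_of_mul_eq_mul_left Nat.card_pos (h1.trans (mul_comm _ _))
  exact (Subgroup.normal_subgroupOf_iff_le_normalizer hle).mp (Subgroup.normal_of_index_eq_two h2)

/-- The commutator condition follows from the orders. -/
theorem Chain.of_card [Finite G] (t : G) (ht : ∀ i, t * e i * t⁻¹ = e (i + 1))
    (hsq : ∀ i, e i * e i = 1)
    (hcard : ∀ (a : ℤ) (n : ℕ), n ≤ k → Nat.card (E e a (a + n - 1)) = 2 ^ n) : Chain k e := by
  refine ⟨⟨t, ht⟩, hsq, hcard, fun i j hij hk => ?_⟩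
  obtain ⟨n, rfl⟩ : ∃ n : ℕ, j = i + (n + 1 : ℕ) := ⟨(j - i - 1).toNat, by omega⟩
  set U := E e (i + 1) (i + (n + 1 : ℕ)) with hU
  set V := E e i (i + (n + 1 : ℕ) - 1) with hV
  set T := E e i (i + (n + 1 : ℕ)) with hT
  have cU : Nat.card U = 2 ^ (n + 1) := by
    have := hcard (i + 1) (n + 1) (by omega)
    rwa [show i + 1 + ((n + 1 : ℕ) : ℤ) - 1 = i + (n + 1 : ℕ) by ring] at this
  have cV : Nat.card V = 2 ^ (n + 1) := hcard i (n + 1) (by omega)
  have cT : Nat.card T = 2 ^ (n + 2) := by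
    have := hcard i (n + 2) (by omega)
    rwa [show i + ((n + 2 : ℕ) : ℤ) - 1 = i + (n + 1 : ℕ) by push_cast; ring] at this
  have hUT : U ≤ T := E_mono (by omega) le_rfl
  have hVT : V ≤ T := E_mono le_rfl (by omega)
  have nU := le_normalizer_of_card hUT (by rw [cT, cU, pow_succ' 2 (n + 1)])
  have nV := le_normalizer_of_card hVT (by rw [cT, cV, pow_succ' 2 (n + 1)])
  have hi : e i ∈ T := mem_E le_rfl (by omega)
  have hj : e (i + (n + 1 : ℕ)) ∈ T := mem_E (by omega) le_rfl
  have hiV : e i ∈ V := mem_E le_rfl (by omega)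
  have hjU : e (i + (n + 1 : ℕ)) ∈ U := mem_E (by omega) le_rfl
  have h1 : ⁅e i, e (i + (n + 1 : ℕ))⁆ ∈ U ⊓ V := by
    rw [commutatorElement_def]
    refine Subgroup.mem_inf.mpr ⟨mul_mem ((Subgroup.mem_normalizer_iff.mp (nU hi) _).mp hjU) (inv_mem hjU), ?_⟩
    rw [mul_assoc (e i) _ _, mul_assoc (e i)]
    exact mul_mem hiV ((Subgroup.mem_normalizer_iff.mp (nV hj) _).mp (inv_mem hiV))
  suffices E e (i + 1) (i + (n + 1 : ℕ) - 1) = U ⊓ V by rw [this]; exact h1
  refine Subgroup.eq_of_le_of_card_ge (le_inf (E_mono le_rfl (by omega)) (E_mono (by omega) le_rfl)) ?_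
  have cW : Nat.card (E e (i + 1) (i + (n + 1 : ℕ) - 1)) = 2 ^ n := by
    have := hcard (i + 1) n (by omega)
    rwa [show i + 1 + (n : ℤ) - 1 = i + (n + 1 : ℕ) - 1 by push_cast; ring] at this
  rw [cW]
  obtain ⟨m, hm, hm'⟩ := (Nat.dvd_prime_pow Nat.prime_two).mp
    (cU ▸ Subgroup.card_dvd_of_le (inf_le_left : U ⊓ V ≤ U))
  rw [hm']
  refine Nat.pow_le_pow_right (by norm_num) (Nat.lt_succ_iff.mp (lt_of_le_of_ne hm fun he => ?_))
  have hUV : U ≤ V := inf_eq_left.mp
    (Subgroup.eq_of_le_of_card_ge inf_le_left (by rw [cU, hm', he]))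
  have hTV : T ≤ V := by
    rw [hT, E, closure_le]
    rintro _ ⟨l, ⟨h3, h4⟩, rfl⟩
    by_cases hl : l ≤ i + (n + 1 : ℕ) - 1
    · exact mem_E h3 hl
    · rw [show l = i + (n + 1 : ℕ) by omega]; exact hUV hjU
  have := Subgroup.card_le_of_le hTV
  rw [cT, cV, pow_succ 2 (n + 1)] at this
  have := Nat.two_pow_pos (n + 1)
  omega

end Cfsg.Agent.Lib.PLocal.SimsChain
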