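import Cfsg.Agent.Lib.PLocal.SimsIso

/-!
# The five stabilisers
-/

set_option autoImplicit false
open scoped commutatorElement

namespace Cfsg.Agent.Lib.PLocal.SimsChain

open Subgroup

variable {G : Type*} [Group G] {k : ℕ} {e : ℤ → G} {H : Subgroup G}

theorem Sims.mem_normalizer_M [Finite G] (s : Sims k e H) :
    H ≤ normalizer (E e 1 (k - 1) : Set G) := by
  have hc : Nat.card (E e 1 (k - 1)) = 2 ^ (k - 1) :=
    s.chain.card' _ _ (k - 1) (by have := s.pos; omega) (by omega)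
  have h2 : 2 * 2 ^ (k - 1) = 2 ^ k := by
    rw [← pow_succ']; congr 1; have := s.pos; omega
  have hA : E e 1 k ≤ normalizer (E e 1 (k - 1) : Set G) :=
    le_normalizer_of_card (E_mono le_rfl (by omega))
      (by rw [hc, h2]; exact s.chain.card' _ _ k (by omega) le_rfl)
  have hB : E e 0 (k - 1) ≤ normalizer (E e 1 (k - 1) : Set G) :=
    le_normalizer_of_card (E_mono (by omega) le_rfl)
      (by rw [hc, h2]; exact s.chain.card' _ _ k (by omega) le_rfl)
  conv_lhs => rw [s.hH, E]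
  rw [closure_le]
  rintro _ ⟨i, ⟨h1, h2⟩, rfl⟩
  by_cases hi : i = k
  · exact hA (mem_E (by have := s.pos; omega) (by omega))
  · exact hB (mem_E h1 (by omega))

/-- The action on the suborbit. -/
theorem Sims.quot [Finite G] (s : Sims k e H) :
    ∃ π : ↥H →* Equiv.Perm (Fin 3), ∀ x : ↥H, π x = 1 ↔ (x : G) ∈ E e 1 (k - 1) := by
  classical
  have hk := s.pos
  have hAH : E e 1 k ≤ H := s.le (by omega) le_rfl
  have cA : Nat.card (E e 1 k) = 2 ^ k := s.chain.card' _ _ k (by omega) le_rfl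
  have cM : Nat.card (E e 1 (k - 1)) = 2 ^ (k - 1) := s.chain.card' _ _ (k - 1) (by omega) (by omega)
  set A' := (E e 1 k).subgroupOf H with hA'
  have hidx : Nat.card (↥H ⧸ A') = 3 := by
    have h := Subgroup.card_eq_card_quotient_mul_card_subgroup A'
    rw [s.cardH, Nat.card_congr (subgroupOfEquivOfLe hAH).toEquiv, cA] at h
    exact (Nat.eq_of_mul_eq_mul_right (Nat.two_pow_pos k) h).symm
  haveI := Fintype.ofFinite (↥H ⧸ A')
  let π := (Finite.equivFinOfCardEq hidx).permCongrHom.toMonoidHom.comp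
    (MulAction.toPermHom ↥H (↥H ⧸ A'))
  have hker : ∀ x, π x = 1 ↔ x ∈ A'.normalCore := fun x => by
    rw [Subgroup.normalCore_eq_ker, MonoidHom.mem_ker]
    exact MulEquiv.map_eq_one_iff (Finite.equivFinOfCardEq hidx).permCongrHom
  refine ⟨π, fun x => ?_⟩
  rw [hker]
  haveI : ((E e 1 (k - 1)).subgroupOf H).Normal :=
    Subgroup.normal_subgroupOf_of_le_normalizer s.mem_normalizer_M
  have hMN : (E e 1 (k - 1)).subgroupOf H ≤ A'.normalCore :=
    Subgroup.normal_le_normalCore.mpr (Subgroup.comap_mono (E_mono le_rfl (by omega)))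
  suffices h : (E e 1 (k - 1)).subgroupOf H = A'.normalCore by rw [← h]; exact Iff.rfl
  refine Subgroup.eq_of_le_of_card_ge hMN ?_
  rw [Nat.card_congr (subgroupOfEquivOfLe (s.le (a := 1) (b := (k : ℤ) - 1) (by omega) (by omega))).toEquiv, cM]
  obtain ⟨m, hm, hm'⟩ := (Nat.dvd_prime_pow Nat.prime_two).mp (cA ▸
    (Nat.card_congr (subgroupOfEquivOfLe hAH).toEquiv ▸ Subgroup.card_dvd_of_le (Subgroup.normalCore_le A')))
  rw [hm']
  refine Nat.pow_le_pow_right (by norm_num) (Nat.le_sub_one_of_lt (lt_of_le_of_ne hm fun he => s.notNormal ?_))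
  have heq : A'.normalCore = A' := Subgroup.eq_of_le_of_card_ge (Subgroup.normalCore_le A')
    (by rw [hA', Nat.card_congr (subgroupOfEquivOfLe hAH).toEquiv, cA, hm', he])
  have hN := Subgroup.normalCore_normal A'
  rw [heq] at hN
  exact (Subgroup.normal_subgroupOf_iff_le_normalizer hAH).mp hN

theorem perm_fin_three_cube :
    ∀ x y : Equiv.Perm (Fin 3), x * x = 1 → y * y = 1 → x ≠ 1 → y ≠ 1 → x ≠ y → (x * y) ^ 3 = 1 := by
  decide

/-- The product of the two end generators has order three modulo the middle. -/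
theorem Sims.end_mul [Finite G] (s : Sims k e H) :
    e 0 * e k ∉ E e 1 (k - 1) ∧ (e 0 * e k) ^ 3 ∈ E e 1 (k - 1) ∧ e 0 ∉ E e 1 k := by
  have hk := s.pos
  obtain ⟨π, hπ⟩ := s.quot
  have h0A : e 0 ∉ E e 1 k := fun h => by
    have hle : H ≤ E e 1 k := by
      conv_lhs => rw [s.hH, E]
      rw [closure_le]
      rintro _ ⟨i, ⟨h1, h2⟩, rfl⟩
      rcases eq_or_lt_of_le h1 with rfl | h1
      · exact h
      · exact mem_E (by omega) h2
    have := Subgroup.card_le_of_le hle
    rw [s.cardH, s.chain.card' 1 k k (by omega) le_rfl] at this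
    have := Nat.two_pow_pos k
    omega
  have hkM : e k ∉ E e 1 (k - 1) := fun h =>
    s.chain.ne_one hk k (s.chain.disjoint (a := 1) (b := k) (c := (k : ℤ) - 1) (by omega) (by omega)
      (by omega) h (mem_E (by omega) le_rfl))
  have h0M : e 0 ∉ E e 1 (k - 1) := fun h => h0A (E_mono le_rfl (by omega) h)
  have hne : e 0 * e k ∉ E e 1 (k - 1) := fun h => h0A (by
    have := mul_mem (E_mono le_rfl (show (k : ℤ) - 1 ≤ k by omega) h) (mem_E (e := e) (i := k) (by omega) le_rfl)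
    rwa [mul_assoc, s.chain.sq, mul_one] at this)
  refine ⟨hne, ?_, h0A⟩
  set x : ↥H := ⟨e 0, s.mem le_rfl (by omega)⟩
  set y : ↥H := ⟨e k, s.mem (by omega) le_rfl⟩
  have hxx : π x * π x = 1 := by
    rw [← map_mul, show x * x = 1 from Subtype.ext (s.chain.sq 0), map_one]
  have hyy : π y * π y = 1 := by
    rw [← map_mul, show y * y = 1 from Subtype.ext (s.chain.sq k), map_one]
  have h := perm_fin_three_cube (π x) (π y) hxx hyy (fun h => h0M ((hπ x).mp h))
    (fun h => hkM ((hπ y).mp h)) (fun h => hne ((hπ (x * y)).mp (by rw [map_mul, h, hyy])))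
  rw [← map_mul, ← map_pow] at h
  exact (hπ _).mp h

theorem Sims.iso_one [Finite G] (s : Sims 1 e H) : Nonempty (↥H ≃* Equiv.Perm (Fin 3)) := by
  obtain ⟨π, hπ⟩ := s.quot
  have hinj : Function.Injective π := by
    rw [injective_iff_map_eq_one]
    intro x hx
    have := (hπ x).mp hx
    rw [E_empty (by omega), mem_bot] at this
    exact Subtype.ext this
  exact ⟨MulEquiv.ofBijective π (hinj.bijective_of_nat_card_le (by
    rw [Nat.card_perm, Nat.card_fin, s.cardH]; rfl))⟩

theorem Sims.iso_two [Finite G] (s : Sims 2 e H) : Nonempty (↥H ≃* DihedralGroup 6) := by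
  have h := s.chain
  obtain ⟨hzM, hz3, -⟩ := s.end_mul
  norm_num at hzM hz3
  have hc : ∀ i : ℤ, Commute (e i) (e (i + 1)) := fun i => by
    have := h.comm_mem i (i + 1) (by omega) (by omega)
    rw [E_empty (by omega), mem_bot] at this
    exact commute_iff.mpr this
  have h01 : Commute (e 0) (e 1) := by simpa using hc 0
  have h12 : Commute (e 1) (e 2) := by simpa using hc 1
  set z := e 0 * e 2 with hz
  have hz1 : Commute z (e 1) := (h01.mul_left h12.symm)
  obtain ⟨r, hr3, hrz, hr01⟩ : ∃ r : G, r ^ 3 = e 1 ∧ (r = z ∨ r = z * e 1) ∧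
      e 0 * r * e 0 = r⁻¹ := by
    have hflip : e 0 * z * e 0 = z⁻¹ := by
      rw [hz, ← mul_assoc, h.sq, one_mul, mul_inv_rev, h.inv, h.inv]
    rcases mem_E_single h s.pos hz3 with h3 | h3
    · refine ⟨z * e 1, ?_, Or.inr rfl, ?_⟩
      · rw [hz1.mul_pow, h3, one_mul, pow_succ, pow_two, h.sq, one_mul]
      · rw [mul_inv_rev, h.inv, ← hflip]
        calc e 0 * (z * e 1) * e 0 = e 0 * (z * (e 1 * e 0)) := by group
          _ = e 0 * z * e 0 * e 1 := by rw [← h01.eq]; group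
          _ = e 1 * (e 0 * z * e 0) := by
            rw [hflip]; exact hz1.inv_left.eq
    · exact ⟨z, h3, Or.inl rfl, hflip⟩
  have he1M : e 1 ∈ E e 1 1 := mem_E le_rfl le_rfl
  have hrM : r ∉ E e 1 1 := by
    rcases hrz with rfl | rfl
    · exact hzM
    · exact fun h' => hzM (by simpa [mul_assoc, h.sq] using mul_mem h' he1M)
  have hrH : r ∈ H := by
    have := mul_mem (s.mem (i := 0) le_rfl (by omega)) (s.mem (i := 2) (by omega) le_rfl)
    rcases hrz with rfl | rfl
    · exact this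
    · exact mul_mem this (s.mem (by omega) (by omega))
  have hr6 : r ^ 6 = 1 := by rw [show 6 = 3 * 2 by rfl, pow_mul, hr3, pow_two, h.sq]
  set X : ↥H := ⟨r, hrH⟩
  set S : ↥H := ⟨e 0, s.mem le_rfl (by omega)⟩
  let φ := dihedralHom X S (Subtype.ext hr6) (Subtype.ext (h.sq 0)) (Subtype.ext hr01)
  have hsur : Function.Surjective φ := by
    rw [← MonoidHom.range_eq_top, eq_top_iff]
    have hXr : X ∈ φ.range := ⟨DihedralGroup.r 1, by
      show X ^ ((1 : ZMod 6).val) = X
      rw [show (1 : ZMod 6).val = 1 from rfl, pow_one]⟩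
    have hSr : S ∈ φ.range := ⟨DihedralGroup.sr 0, by simp [φ, dihedralHom]⟩
    have hle : H ≤ φ.range.map H.subtype := by
      have g0 : e 0 ∈ φ.range.map H.subtype := ⟨S, hSr, rfl⟩
      have g1 : e 1 ∈ φ.range.map H.subtype := ⟨X ^ 3, pow_mem hXr 3, hr3⟩
      have gr : r ∈ φ.range.map H.subtype := ⟨X, hXr, rfl⟩
      have gz : z ∈ φ.range.map H.subtype := by
        rcases hrz with h' | h'
        · rw [← h']; exact gr
        · have := mul_mem gr g1
          rwa [h', mul_assoc, h.sq, mul_one] at this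
      have g2 : e 2 ∈ φ.range.map H.subtype := by
        have := mul_mem g0 gz
        rwa [hz, ← mul_assoc, h.sq, one_mul] at this
      conv_lhs => rw [s.hH, E]
      rw [closure_le]
      rintro _ ⟨i, ⟨h1, h2⟩, rfl⟩
      rcases (show i = 0 ∨ i = 1 ∨ i = 2 by norm_num at h2; omega) with rfl | rfl | rfl
      exacts [g0, g1, g2]
    intro x _
    obtain ⟨y, hy, hyx⟩ := hle x.2
    rwa [← Subtype.ext hyx]
  exact ⟨(MulEquiv.ofBijective φ (hsur.bijective_of_nat_card_le (by
    rw [DihedralGroup.nat_card, s.cardH]; rfl))).symm⟩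

theorem Sims.iso_three [Finite G] (s : Sims 3 e H) : Nonempty (↥H ≃* Equiv.Perm (Fin 4)) := by
  have h := s.chain
  obtain ⟨hzM, hz3, -⟩ := s.end_mul
  norm_num at hzM hz3
  obtain ⟨lam, h2l, hlk, hlam, hcomm, hsym⟩ := s.exists_lam le_rfl
  have hge := s.le_two_lam hlk hlam hcomm
  obtain rfl : lam = 2 := by omega
  obtain ⟨-, hc⟩ := s.comm_mid h2l hlk hlam hge hcomm hsym
  norm_num at hc
  have hc02 : ⁅e 0, e 2⁆ = e 1 := (mem_E_single h s.pos hc).resolve_left (by exact_mod_cast hlam)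
  have hc13 : ⁅e 1, e 3⁆ = e 2 := by
    obtain ⟨g, hg⟩ := h.shiftZ 1
    have := map_commutatorElement (MulAut.conj g).toMonoidHom (e 0) (e 2)
    simp only [MulEquiv.coe_toMonoidHom, MulAut.conj_apply, hc02, hg] at this
    norm_num at this
    exact this.symm
  have k12 : Commute (e 1) (e 2) := hsym 1 2 (by omega) (by omega)
  have a01 : e 0 * e 1 * e 0 = e 1 := by
    rw [h.conj_eq, commute_iff.mp (hsym 0 1 (by omega) (by omega)), one_mul]
  have a02 : e 0 * e 2 * e 0 = e 1 * e 2 := by rw [h.conj_eq, hc02]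
  set z := e 0 * e 3 with hz
  have hconj : ∀ x, z * x * z⁻¹ = e 0 * (e 3 * x * e 3) * e 0 := fun x => by
    rw [hz, mul_inv_rev, h.inv, h.inv]; group
  have z1 : z * e 1 * z⁻¹ = e 2 := by
    rw [hconj, h.conj_eq, ← commutatorElement_inv, hc13, h.inv]
    calc e 0 * (e 2 * e 1) * e 0 = (e 0 * e 2 * e 0) * (e 0 * e 1 * e 0) := by
          rw [show e 0 * e 2 * e 0 * (e 0 * e 1 * e 0) = e 0 * e 2 * (e 0 * e 0) * e 1 * e 0 by group,
            h.sq]; group
      _ = e 1 * (e 2 * e 1) := by rw [a01, a02, mul_assoc]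
      _ = e 2 := by rw [← k12.eq, ← mul_assoc, h.sq, one_mul]
  have z2 : z * e 2 * z⁻¹ = e 1 * e 2 := by
    rw [hconj, h.conj_eq, commute_iff.mp (hsym 3 2 (by omega) (by omega)), one_mul, a02]
  have e12 : e 1 ≠ e 2 := fun h' => h.ne_one (by omega) 1 (h.disjoint (a := 1) (b := 2) (c := 1)
    (by omega) (by omega) (by omega) (mem_E le_rfl le_rfl) (h' ▸ mem_E (by omega) le_rfl))
  have hz31 : z ^ 3 = 1 := by
    have hfix : z * z ^ 3 * z⁻¹ = z ^ 3 := by group
    rcases h.split_one (by omega) hz3 with h1 | h1 <;> rw [show (1 : ℤ) + 1 = 2 by rfl] at h1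
    · rcases mem_E_single h s.pos h1 with h2 | h2
      · exact h2
      · rw [h2, z2, mul_eq_right] at hfix
        exact absurd hfix (h.ne_one (by omega) 1)
    · rcases mem_E_single h s.pos h1 with h2 | h2
      · rw [show z ^ 3 = e 1 by rw [← inv_eq_of_mul_eq_one_right h2, h.inv], z1] at hfix
        exact absurd hfix e12.symm
      · have : z ^ 3 = e 1 * e 2 := by rw [← h2, ← mul_assoc, h.sq, one_mul]
        rw [this, show z * (e 1 * e 2) * z⁻¹ = (z * e 1 * z⁻¹) * (z * e 2 * z⁻¹) by group, z1, z2,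
          ← mul_assoc, ← k12.eq, mul_eq_left] at hfix
        exact absurd hfix (h.ne_one (by omega) 2)
  refine nonempty_equiv_perm_four (X := ↥H) (a := ⟨e 1, s.mem (by omega) (by omega)⟩)
    (b := ⟨e 2, s.mem (by omega) (by omega)⟩) (s := ⟨e 0, s.mem le_rfl (by omega)⟩)
    (w := ⟨z, mul_mem (s.mem le_rfl (by omega)) (s.mem (by omega) (by omega))⟩) ?_ ?_ ?_ ?_ ?_ ?_ ?_ ?_
    ?_ ?_ ?_ ?_ ?_ ?_ ?_
  · rw [s.cardH]; rfl
  · exact Subtype.ext k12.eq
  · exact Subtype.ext (h.sq 1)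
  · exact Subtype.ext (h.sq 2)
  · exact fun h' => h.ne_one (by omega) 1 (congrArg Subtype.val h')
  · exact fun h' => h.ne_one (by omega) 2 (congrArg Subtype.val h')
  · exact fun h' => e12 (congrArg Subtype.val h')
  · exact Subtype.ext hz31
  · exact Subtype.ext (h.sq 0)
  · exact fun h' => h.ne_one (by omega) 0 (congrArg Subtype.val h')
  · refine Subtype.ext ?_
    show e 0 * z * e 0 = z⁻¹
    rw [hz, ← mul_assoc, h.sq, one_mul, mul_inv_rev, h.inv, h.inv]
  · exact Subtype.ext z1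
  · exact Subtype.ext z2
  · exact Subtype.ext a01
  · exact Subtype.ext a02

theorem Sims.iso_four [Finite G] (s : Sims 4 e H) :
    Nonempty (↥H ≃* Equiv.Perm (Fin 4) × Multiplicative (ZMod 2)) := by
  have h := s.chain
  obtain ⟨hzM, hz3, -⟩ := s.end_mul
  norm_num at hzM hz3
  obtain ⟨lam, h2l, hlk, hlam, hcomm, hsym⟩ := s.exists_lam (by omega)
  have hge := s.le_two_lam hlk hlam hcomm
  obtain rfl : lam = 3 := by omega
  obtain ⟨hc, -⟩ := s.comm_mid h2l hlk hlam hge hcomm hsym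
  norm_num at hc
  have hM : ∀ i j : ℤ, i - j < 3 → j - i < 3 → e i * e j = e j * e i := fun i j h1 h2 =>
    (hsym i j h1 h2).eq
  have fix' : ∀ i j : ℤ, i - j < 3 → j - i < 3 → e i * e j * e i = e j := fun i j h1 h2 => by
    rw [hM i j h1 h2, mul_assoc, h.sq, mul_one]
  have hd12 : ∀ {i j : ℤ}, i < j → j - i < 4 → e i ≠ e j := fun {i j} h1 h2 he =>
    h.ne_one (by omega) i (h.disjoint (a := i) (b := j) (c := i) (by omega) (by omega) (by omega)
      (mem_E le_rfl le_rfl) (he ▸ mem_E (by omega) le_rfl))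
  obtain ⟨g, hg⟩ := h.shiftZ 1
  set c := ⁅e 0, e 3⁆ with hcdef
  set c' := ⁅e 1, e 4⁆ with hc'def
  have hsh : g * c * g⁻¹ = c' := by
    have := map_commutatorElement (MulAut.conj g).toMonoidHom (e 0) (e 3)
    simp only [MulEquiv.coe_toMonoidHom, MulAut.conj_apply, hg] at this
    norm_num at this
    exact this
  set z := e 0 * e 4 with hz
  have hconj : ∀ x, z * x * z⁻¹ = e 0 * (e 4 * x * e 4) * e 0 := fun x => by
    rw [hz, mul_inv_rev, h.inv, h.inv]; group
  have z2 : z * e 2 * z⁻¹ = e 2 := by rw [hconj, fix' 4 2 (by omega) (by omega), fix' 0 2 (by omega) (by omega)]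
  have z3 : z * e 3 * z⁻¹ = c * e 3 := by
    rw [hconj, fix' 4 3 (by omega) (by omega), h.conj_eq]
  have hcom : ∀ x ∈ E e 1 3, ∀ y ∈ E e 1 3, Commute x y := fun x hx y hy =>
    (commute_of_mem_E (fun i h1 h2 => (commute_of_mem_E
      (fun j h3 h4 => hsym i j (by omega) (by omega)) hy).symm) hx).symm
  have m1 : e 1 ∈ E e 1 3 := mem_E le_rfl (by omega)
  have m2 : e 2 ∈ E e 1 3 := mem_E (by omega) (by omega)
  have m3 : e 3 ∈ E e 1 3 := mem_E (by omega) le_rfl
  have e3z : z ^ 3 * e 3 * (z ^ 3)⁻¹ = e 3 := by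
    rw [(hcom _ hz3 _ m3).eq, mul_inv_cancel_right]
  have hz3x : ∀ x, z ^ 3 * x * (z ^ 3)⁻¹ = z * (z * (z * x * z⁻¹) * z⁻¹) * z⁻¹ := fun x => by
    simp only [pow_succ, pow_zero, one_mul, mul_inv_rev, mul_assoc]
  have hzmul : ∀ x y, z * (x * y) * z⁻¹ = (z * x * z⁻¹) * (z * y * z⁻¹) := fun x y => by group
  have h12' : c = e 1 * e 2 := by
    rcases h.split_one (by omega) hc with h1 | h1 <;> rw [show (1 : ℤ) + 1 = 2 by rfl] at h1 <;> rcases mem_E_single h s.pos h1 with h2 | h2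
    · exact absurd h2 hlam
    · exfalso
      have q : z * (e 2 * e 3) * z⁻¹ = e 3 := by
        rw [hzmul, z2, z3, h2, ← mul_assoc, h.sq, one_mul]
      rw [hz3x, z3, h2, q, z3, h2, mul_eq_right] at e3z
      exact h.ne_one (by omega) 2 e3z
    · exfalso
      have hc1 : c = e 1 := by rw [← inv_eq_of_mul_eq_one_right h2, h.inv]
      have hc2 : c' = e 2 := by rw [← hsh, hc1, hg]; norm_num
      have z1 : z * e 1 * z⁻¹ = e 2 * e 1 := by
        rw [hconj, h.conj_eq, ← commutatorElement_inv, ← hc'def, hc2, h.inv]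
        rw [show e 0 * (e 2 * e 1) * e 0 = (e 0 * e 2) * (e 1 * e 0) by group,
          hM 1 0 (by omega) (by omega), ← mul_assoc, fix' 0 2 (by omega) (by omega)]
      have q : z * (e 1 * e 3) * z⁻¹ = e 2 * e 3 := by
        rw [hzmul, z1, z3, hc1, show e 2 * e 1 * (e 1 * e 3) = e 2 * (e 1 * e 1) * e 3 by group,
          h.sq, mul_one]
      rw [hz3x, z3, hc1, q, hzmul, z2, z3, hc1, ← mul_assoc, mul_eq_right] at e3z
      exact hd12 (i := 1) (j := 2) (by omega) (by omega)
        ((inv_eq_of_mul_eq_one_right e3z).symm.trans (h.inv 2))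
    · rw [← h2, ← mul_assoc, h.sq, one_mul]
  have hc' : c' = e 2 * e 3 := by
    rw [← hsh, h12', show g * (e 1 * e 2) * g⁻¹ = (g * e 1 * g⁻¹) * (g * e 2 * g⁻¹) by group, hg, hg]
    norm_num
  -- the action of `z` on the middle
  have z1 : z * e 1 * z⁻¹ = e 3 := by
    rw [hconj, h.conj_eq, ← commutatorElement_inv, ← hc'def, hc', mul_inv_rev, h.inv, h.inv]
    rw [show e 0 * (e 3 * e 2 * e 1) * e 0 = (e 0 * e 3 * e 0) * ((e 0)⁻¹ * (e 2 * e 1) * e 0) by group,
      h.conj_eq, ← hcdef, h12', h.inv,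
      show e 0 * (e 2 * e 1) * e 0 = (e 0 * e 2) * (e 1 * e 0) by group, hM 1 0 (by omega) (by omega),
      ← mul_assoc (e 0 * e 2), fix' 0 2 (by omega) (by omega),
      show e 1 * e 2 * e 3 * (e 2 * e 1) = e 1 * e 2 * (e 3 * e 2) * e 1 by group,
      hM 3 2 (by omega) (by omega), show e 1 * e 2 * (e 2 * e 3) * e 1 = e 1 * (e 2 * e 2) * e 3 * e 1 by group,
      h.sq, mul_one, fix' 1 3 (by omega) (by omega)]
  rw [h12'] at z3
  -- the orbit sums lie in the fixed line
  have hT : ∀ x ∈ E e 1 3, x * (z * x * z⁻¹) * (z * (z * x * z⁻¹) * z⁻¹) ∈ E e 2 2 := by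
    have hzM : ∀ x ∈ E e 1 3, z * x * z⁻¹ ∈ E e 1 3 := fun x hx => by
      have := (Subgroup.mem_normalizer_iff.mp (s.mem_normalizer_M (mul_mem
        (s.mem (i := 0) le_rfl (by omega)) (s.mem (i := 4) (by omega) le_rfl))) x).mp (by norm_num; exact hx)
      norm_num at this
      rw [hz, mul_inv_rev]
      exact this
    intro x hx
    induction hx using Subgroup.closure_induction with
    | mem y hy =>
      obtain ⟨i, ⟨h1, h2⟩, rfl⟩ := hy
      rcases (show i = 1 ∨ i = 2 ∨ i = 3 by omega) with rfl | rfl | rfl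
      · rw [z1, z3, show e 1 * e 3 * (e 1 * e 2 * e 3) = e 1 * (e 3 * (e 1 * e 2)) * e 3 by group,
          ((hcom _ m3 _ (mul_mem m1 m2))).eq,
          show e 1 * (e 1 * e 2 * e 3) * e 3 = (e 1 * e 1) * e 2 * (e 3 * e 3) by group, h.sq, h.sq,
          one_mul, mul_one]
        exact mem_E le_rfl le_rfl
      · rw [z2, z2, h.sq, one_mul]; exact mem_E le_rfl le_rfl
      · rw [z3, hzmul, hzmul, z1, z2, z3]
        rw [show e 3 * (e 1 * e 2 * e 3) * (e 3 * e 2 * (e 1 * e 2 * e 3)) =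
          e 3 * (e 1 * e 2) * (e 3 * e 3) * e 2 * (e 1 * e 2) * e 3 by group, h.sq, mul_one,
          (hcom _ m3 _ (mul_mem m1 m2)).eq,
          show e 1 * e 2 * e 3 * e 2 * (e 1 * e 2) * e 3 = e 1 * e 2 * (e 3 * (e 2 * (e 1 * e 2))) * e 3 by group,
          (hcom _ m3 _ (mul_mem m2 (mul_mem m1 m2))).eq,
          show e 1 * e 2 * (e 2 * (e 1 * e 2) * e 3) * e 3 = e 1 * (e 2 * e 2) * e 1 * e 2 * (e 3 * e 3) by group,
          h.sq, h.sq, mul_one, mul_one, h.sq, one_mul]
        exact mem_E le_rfl le_rfl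
    | one => simp
    | mul a b ha hb iha ihb =>
      have A1 := hzM a ha; have A2 := hzM _ A1
      have B1 := hzM b hb; have B2 := hzM _ B1
      rw [hzmul, hzmul]
      rw [show a * b * (z * a * z⁻¹ * (z * b * z⁻¹)) *
          (z * (z * a * z⁻¹) * z⁻¹ * (z * (z * b * z⁻¹) * z⁻¹)) =
          a * (b * (z * a * z⁻¹)) * ((z * b * z⁻¹) * (z * (z * a * z⁻¹) * z⁻¹)) *
            (z * (z * b * z⁻¹) * z⁻¹) by simp only [mul_assoc],
        (hcom _ hb _ A1).eq, (hcom _ B1 _ A2).eq,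
        show a * (z * a * z⁻¹ * b) * (z * (z * a * z⁻¹) * z⁻¹ * (z * b * z⁻¹)) *
            (z * (z * b * z⁻¹) * z⁻¹) =
          a * (z * a * z⁻¹) * (b * (z * (z * a * z⁻¹) * z⁻¹)) * ((z * b * z⁻¹) *
            (z * (z * b * z⁻¹) * z⁻¹)) by simp only [mul_assoc],
        (hcom _ hb _ A2).eq]
      convert mul_mem iha ihb using 1
      simp only [mul_assoc]
    | inv a ha iha =>
      have A1 := hzM a ha; have A2 := hzM _ A1
      have hzinv : ∀ x : G, z * x⁻¹ * z⁻¹ = (z * x * z⁻¹)⁻¹ := fun x => by group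
      rw [hzinv, hzinv, (hcom _ (inv_mem ha) _ (inv_mem A1)).eq,
        (hcom _ (mul_mem (inv_mem A1) (inv_mem ha)) _ (inv_mem A2)).eq, ← mul_inv_rev, ← mul_inv_rev]
      exact inv_mem iha
  obtain ⟨m, hm, hzm, hmm⟩ : ∃ m, (m = 1 ∨ m = e 2) ∧ z ^ 3 = m ∧ m * m = 1 := by
    refine ⟨z ^ 3, ?_, rfl, sq_of_comm h (fun i j h1 h2 h3 h4 => hsym i j (by omega) (by omega)) hz3⟩
    have h9 := hT _ hz3
    have hf : z * z ^ 3 * z⁻¹ = z ^ 3 := by group
    have hsq := sq_of_comm h (fun i j h1 h2 h3 h4 => hsym i j (by omega) (by omega)) hz3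
    rw [hf, hf, hsq, one_mul] at h9
    exact mem_E_single h s.pos h9
  have hmc : ∀ x ∈ H, Commute m x := fun x hx => by
    rcases hm with rfl | rfl
    · exact Commute.one_left x
    · exact commute_of_mem_E (fun i h1 h2 => hsym 2 i (by norm_num at h2; omega) (by norm_num at h2; omega)) (s.hH ▸ hx)
  have h2H : e 2 ∈ H := s.mem (by omega) (by omega)
  have h0H : e 0 ∈ H := s.mem le_rfl (by omega)
  have hzH : z ∈ H := mul_mem h0H (s.mem (by omega) le_rfl)
  have hmH : m ∈ H := by rw [← hzm]; exact pow_mem hzH 3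
  set a := e 1 * e 2 with ha_def
  set b := e 2 * e 3 with hb_def
  have haH : a ∈ H := mul_mem (s.mem (by omega) (by omega)) h2H
  have hbH : b ∈ H := mul_mem h2H (s.mem (by omega) (by omega))
  have hab : a * b = e 1 * e 3 := by
    rw [ha_def, hb_def, show e 1 * e 2 * (e 2 * e 3) = e 1 * (e 2 * e 2) * e 3 by group, h.sq, mul_one]
  have za : z * a * z⁻¹ = b := by
    rw [hzmul, z1, z2, hb_def, hM 3 2 (by omega) (by omega)]
  have zb : z * b * z⁻¹ = a * b := by
    rw [hzmul, z2, z3, hab, show e 2 * (a * e 3) = e 2 * (e 1 * e 2) * e 3 by rw [ha_def]; group,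
      hM 1 2 (by omega) (by omega), ← mul_assoc, h.sq, one_mul]
  have s0a : e 0 * a * e 0 = a := by
    rw [ha_def, show e 0 * (e 1 * e 2) * e 0 = (e 0 * e 1) * (e 2 * e 0) by group,
      hM 2 0 (by omega) (by omega), ← mul_assoc, fix' 0 1 (by omega) (by omega)]
  have s0b : e 0 * b * e 0 = a * b := by
    rw [hb_def, show e 0 * (e 2 * e 3) * e 0 = (e 0 * e 2) * (e 3 * e 0) by group,
      hM 0 2 (by omega) (by omega), show e 2 * e 0 * (e 3 * e 0) = e 2 * (e 0 * e 3 * e 0) by group,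
      h.conj_eq, ← hcdef, h12', ← hb_def, hab, ha_def, hM 1 2 (by omega) (by omega), ← mul_assoc,
      ← mul_assoc, h.sq, one_mul]
  -- transfer everything to the stabiliser
  let A : ↥H := ⟨a, haH⟩
  let B : ↥H := ⟨b, hbH⟩
  let S₀ : ↥H := ⟨m * e 0, mul_mem hmH h0H⟩
  let W : ↥H := ⟨m * z, mul_mem hmH hzH⟩
  let Z : ↥H := ⟨e 2, h2H⟩
  have hAA : A * A = 1 := Subtype.ext (sq_of_comm h (fun i j h1 h2 h3 h4 => hsym i j (by omega) (by omega))
    (mul_mem m1 m2))
  have hBB : B * B = 1 := Subtype.ext (sq_of_comm h (fun i j h1 h2 h3 h4 => hsym i j (by omega) (by omega))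
    (mul_mem m2 m3))
  have hAB : A * B = B * A := Subtype.ext (hcom _ (mul_mem m1 m2) _ (mul_mem m2 m3)).eq
  have hA1 : A ≠ 1 := fun h' => hd12 (i := 1) (j := 2) (by omega) (by omega) (by
    have : e 1 * e 2 = 1 := congrArg Subtype.val h'
    exact ((inv_eq_of_mul_eq_one_right this).symm.trans (h.inv 1)).symm)
  have hB1 : B ≠ 1 := fun h' => hd12 (i := 2) (j := 3) (by omega) (by omega) (by
    have : e 2 * e 3 = 1 := congrArg Subtype.val h'
    exact ((inv_eq_of_mul_eq_one_right this).symm.trans (h.inv 2)).symm)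
  have hne : A ≠ B := fun h' => hd12 (i := 1) (j := 3) (by omega) (by omega) (by
    have : e 1 * e 2 = e 2 * e 3 := congrArg Subtype.val h'
    rw [hM 1 2 (by omega) (by omega)] at this
    exact mul_left_cancel this)
  have hSS : S₀ * S₀ = 1 := Subtype.ext (by
    show m * e 0 * (m * e 0) = 1
    rw [show m * e 0 * (m * e 0) = m * (e 0 * m) * e 0 by group, ← (hmc _ h0H).eq,
      show m * (m * e 0) * e 0 = (m * m) * (e 0 * e 0) by group, hmm, h.sq, one_mul])
  have hW3 : W ^ 3 = 1 := Subtype.ext (by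
    show (m * z) ^ 3 = 1
    rw [(hmc _ hzH).mul_pow, hzm, ← pow_succ, show 3 + 1 = 2 * 2 by rfl, pow_mul, pow_two m, hmm, one_pow])
  have hmi : m⁻¹ = m := inv_eq_of_mul_eq_one_right hmm
  have hSW : S₀ * W * S₀ = W⁻¹ := Subtype.ext (by
    show m * e 0 * (m * z) * (m * e 0) = (m * z)⁻¹
    rw [hz, mul_inv_rev, mul_inv_rev, h.inv, h.inv, hmi,
      show m * e 0 * (m * (e 0 * e 4)) * (m * e 0) = m * (e 0 * m) * e 0 * (e 4 * m) * e 0 by group,
      ← (hmc _ h0H).eq, ← (hmc _ (s.mem (i := 4) (by omega) le_rfl)).eq,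
      show m * (m * e 0) * e 0 * (m * e 4) * e 0 = (m * m) * (e 0 * e 0) * (m * (e 4 * e 0)) by group,
      hmm, h.sq, one_mul, one_mul]
    exact (hmc _ (mul_mem (s.mem (by omega) le_rfl) h0H)).eq)
  have conjm : ∀ x ∈ H, ∀ y : G, (m * y) * x * (m * y)⁻¹ = m * (y * x * y⁻¹) * m⁻¹ := fun x _ y => by
    group
  have conjm' : ∀ y x v : G, y * x * y⁻¹ = v → v ∈ H → (m * y) * x * (m * y)⁻¹ = v := by
    intro y x v hv hvH
    rw [show (m * y) * x * (m * y)⁻¹ = m * (y * x * y⁻¹) * m⁻¹ by group, hv, (hmc v hvH).eq,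
      mul_inv_cancel_right]
  have hWA : W * A * W⁻¹ = B := Subtype.ext (conjm' _ _ _ za hbH)
  have hWB : W * B * W⁻¹ = A * B := Subtype.ext (conjm' _ _ _ zb (mul_mem haH hbH))
  have hS0' : (m * e 0)⁻¹ = m * e 0 := inv_eq_of_mul_eq_one_right (congrArg Subtype.val hSS)
  have hSA : S₀ * A * S₀ = A := Subtype.ext (by
    have := conjm' (e 0) a a (by rw [h.inv]; exact s0a) haH
    rwa [hS0'] at this)
  have hSB : S₀ * B * S₀ = A * B := Subtype.ext (by
    have := conjm' (e 0) b (a * b) (by rw [h.inv]; exact s0b) (mul_mem haH hbH)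
    rwa [hS0'] at this)
  -- the complement
  set V := Subgroup.closure ({A, B} : Set ↥H) with hV
  set φ := dihedralHom W S₀ hW3 hSS hSW with hφ
  have hWU : W ∈ φ.range := ⟨DihedralGroup.r 1, by simp [hφ, dihedralHom, ZMod.val_one]⟩
  have hSU : S₀ ∈ φ.range := ⟨DihedralGroup.sr 0, by simp [hφ, dihedralHom]⟩
  have hAV : A ∈ V := Subgroup.subset_closure (by simp)
  have hBV : B ∈ V := Subgroup.subset_closure (by simp)
  have hV4 : ∀ v ∈ V, v = 1 ∨ v = A ∨ v = B ∨ v = A * B := by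
    intro v hv
    induction hv using Subgroup.closure_induction with
    | mem y hy => rcases hy with rfl | rfl <;> simp
    | one => simp
    | mul x y _ _ hx hy =>
      have q1 : B * (A * B) = A := by rw [← mul_assoc, ← hAB, mul_assoc, hBB, mul_one]
      have q2 : A * B * A = B := by rw [hAB, mul_assoc, hAA, mul_one]
      rcases hx with rfl | rfl | rfl | rfl <;> rcases hy with rfl | rfl | rfl | rfl <;>
        simp [hAA, hBB, ← mul_assoc, q1, q2, hAB.symm, mul_assoc A B B]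
    | inv x _ hx =>
      rcases hx with rfl | rfl | rfl | rfl <;>
        simp [inv_eq_of_mul_eq_one_right hAA, inv_eq_of_mul_eq_one_right hBB, hAB]
  have hUV : φ.range ≤ normalizer (V : Set ↥H) := by
    have hgen : ∀ x : ↥H, x * A * x⁻¹ ∈ V → x * B * x⁻¹ ∈ V → x ∈ normalizer (V : Set ↥H) := by
      intro x hA hB
      rw [Components.mem_normalizer_iff_map_conj]
      refine Subgroup.eq_of_le_of_card_ge ?_ (Subgroup.card_map_of_injective (MulAut.conj x).injective).ge
      rw [hV, MonoidHom.map_closure, closure_le]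
      rintro _ ⟨y, hy | hy, rfl⟩ <;> rw [hy]
      exacts [hA, hB]
    rintro _ ⟨d, rfl⟩
    have hW' := hgen W (hWA ▸ hBV) (hWB ▸ mul_mem hAV hBV)
    have hS' := hgen S₀ (by rw [inv_eq_of_mul_eq_one_right hSS, hSA]; exact hAV)
      (by rw [inv_eq_of_mul_eq_one_right hSS, hSB]; exact mul_mem hAV hBV)
    rcases d with i | i
    · exact pow_mem hW' _
    · exact mul_mem hS' (pow_mem hW' _)
  have hZS : Z ∉ V ⊔ φ.range := by
    intro hZ
    rw [← SetLike.mem_coe, Subgroup.coe_mul_of_right_le_normalizer_left _ _ hUV] at hZ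
    obtain ⟨v, hv, u, hu, hvu⟩ := hZ
    change v * u = Z at hvu
    have hZc : ∀ x : ↥H, Commute Z x := fun x => Subtype.ext
      (commute_of_mem_E (a := 0) (b := 4) (g := e 2) (fun i h1 h2 => hsym 2 i (by omega) (by omega))
        (s.hH ▸ x.2)).eq
    have hvc : ∀ y, y = A ∨ y = B → Commute v y := by
      intro y hy
      rcases hV4 v hv with rfl | rfl | rfl | rfl <;> rcases hy with rfl | rfl
      all_goals first
        | exact Commute.one_left _
        | exact Commute.refl _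
        | exact hAB
        | exact hAB.symm
        | exact (Commute.refl _).mul_left hAB.symm
        | exact (show Commute A B from hAB).mul_left (Commute.refl _)
    have hu1 : u = 1 := by
      have hu' : u = v⁻¹ * Z := by rw [← hvu, inv_mul_cancel_left]
      refine fix_eq_one hAA hA1 hB1 hne hW3 hSS hSW hWA hWB hSA hSB hu ?_ ?_
      · rw [hu', (((hvc A (Or.inl rfl)).inv_left).mul_left (hZc A)).eq, mul_inv_cancel_right]
      · rw [hu', (((hvc B (Or.inr rfl)).inv_left).mul_left (hZc B)).eq, mul_inv_cancel_right]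
    rw [hu1, mul_one] at hvu
    rw [hvu] at hv
    rcases hV4 Z hv with h' | h' | h' | h'
    · exact h.ne_one (by omega) 2 (congrArg Subtype.val h')
    · have : e 2 = e 1 * e 2 := congrArg Subtype.val h'
      exact h.ne_one (by omega) 1 (mul_eq_right.mp this.symm)
    · have : e 2 = e 2 * e 3 := congrArg Subtype.val h'
      exact h.ne_one (by omega) 3 (mul_eq_left.mp this.symm)
    · have h'' : e 2 = a * b := congrArg Subtype.val h'
      rw [hab] at h''
      refine h.ne_one (by omega) 1 (h.disjoint (a := 1) (b := 3) (c := 1) (by omega) (by omega) (by omega)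
        (mem_E le_rfl le_rfl) ?_)
      rw [show e 1 = (e 1 * e 3) * e 3 by rw [mul_assoc, h.sq, mul_one], ← h'']
      exact mul_mem (mem_E (by omega) (by omega)) (mem_E (by omega) le_rfl)
  set S := V ⊔ φ.range with hSdef
  have hgenH : Subgroup.closure (H.subtype ⁻¹' (e '' Set.Icc (0 : ℤ) 4)) = ⊤ := by
    rw [eq_top_iff]
    intro x _
    have hle : H ≤ (Subgroup.closure (H.subtype ⁻¹' (e '' Set.Icc (0 : ℤ) 4))).map H.subtype := by
      rw [MonoidHom.map_closure]
      conv_lhs => rw [s.hH, E]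
      refine closure_mono ?_
      rintro _ ⟨i, hi, rfl⟩
      exact ⟨⟨e i, s.mem hi.1 hi.2⟩, ⟨i, hi, rfl⟩, rfl⟩
    obtain ⟨y, hy, hyx⟩ := hle x.2
    rwa [← Subtype.ext hyx]
  have hZc : ∀ x : ↥H, Commute Z x := fun x => Subtype.ext
    (commute_of_mem_E (a := 0) (b := 4) (g := e 2) (fun i h1 h2 => hsym 2 i (by omega) (by omega))
      (s.hH ▸ x.2)).eq
  have hcov : ∀ x ∈ H.subtype ⁻¹' (e '' Set.Icc (0 : ℤ) 4), x ∈ S ∨ Z * x ∈ S := by
    rintro x ⟨i, ⟨h1, h2⟩, hix⟩
    have hAS : A ∈ S := Subgroup.mem_sup_left hAV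
    have hBS : B ∈ S := Subgroup.mem_sup_left hBV
    have hWS : W ∈ S := Subgroup.mem_sup_right hWU
    have hS0S : S₀ ∈ S := Subgroup.mem_sup_right hSU
    have hx : (x : G) = e i := hix.symm
    rcases (show i = 0 ∨ i = 1 ∨ i = 2 ∨ i = 3 ∨ i = 4 by omega) with rfl | rfl | rfl | rfl | rfl
    · rcases hm with hm1 | hm2
      · left; rw [show x = S₀ from Subtype.ext (by show (x : G) = m * e 0; rw [hx, hm1, one_mul])]; exact hS0S
      · right; rw [show Z * x = S₀ from Subtype.ext (by show e 2 * (x : G) = m * e 0; rw [hx, hm2])]; exact hS0S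
    · right
      rw [show Z * x = A from Subtype.ext (by show e 2 * (x : G) = e 1 * e 2; rw [hx, hM 2 1 (by omega) (by omega)])]
      exact hAS
    · right
      rw [show Z * x = 1 from Subtype.ext (by show e 2 * (x : G) = 1; rw [hx, h.sq])]
      exact one_mem S
    · right
      rw [show Z * x = B from Subtype.ext (by show e 2 * (x : G) = e 2 * e 3; rw [hx])]
      exact hBS
    · left
      rw [show x = S₀ * W from Subtype.ext (by
        show (x : G) = m * e 0 * (m * z)
        rw [hx, hz, show m * e 0 * (m * (e 0 * e 4)) = m * (e 0 * m) * e 0 * e 4 by group,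
          ← (hmc _ h0H).eq, show m * (m * e 0) * e 0 * e 4 = (m * m) * (e 0 * e 0) * e 4 by group,
          hmm, h.sq, one_mul, one_mul])]
      exact mul_mem hS0S hWS
  have hZZ : Z * Z = 1 := Subtype.ext (h.sq 2)
  obtain ⟨e24⟩ := nonempty_equiv_prod_two S hZc hZZ hZS hgenH hcov (MulEquiv.refl ↥S)
  have hcard : Nat.card S = 24 := by
    have := Nat.card_congr e24.toEquiv
    rw [Nat.card_prod, s.cardH, show Nat.card (Multiplicative (ZMod 2)) = 2 from Nat.card_zmod 2] at this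
    omega
  have hne1 : S₀ ≠ 1 := fun h' => by rw [h', one_mul, mul_one] at hSB; exact hA1 (mul_eq_right.mp hSB.symm)
  obtain ⟨eS⟩ := nonempty_equiv_perm_four (X := ↥S) hcard
    (a := ⟨A, Subgroup.mem_sup_left hAV⟩) (b := ⟨B, Subgroup.mem_sup_left hBV⟩)
    (s := ⟨S₀, Subgroup.mem_sup_right hSU⟩) (w := ⟨W, Subgroup.mem_sup_right hWU⟩)
    (Subtype.ext hAB) (Subtype.ext hAA) (Subtype.ext hBB) (fun h' => hA1 (congrArg Subtype.val h'))
    (fun h' => hB1 (congrArg Subtype.val h')) (fun h' => hne (congrArg Subtype.val h'))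
    (Subtype.ext hW3) (Subtype.ext hSS) (fun h' => hne1 (congrArg Subtype.val h')) (Subtype.ext hSW)
    (Subtype.ext hWA) (Subtype.ext hWB) (Subtype.ext hSA) (Subtype.ext hSB)
  exact nonempty_equiv_prod_two S hZc hZZ hZS hgenH hcov eS

end Cfsg.Agent.Lib.PLocal.SimsChain
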