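import Cfsg.Agent.Lib.PLocal.SimsMain

/-!
# The isomorphism type of a stabiliser with a suborbit of length three
-/

set_option autoImplicit false
open scoped commutatorElement

namespace Cfsg.Agent.Lib.PLocal.SimsChain

open Subgroup

theorem pow_val_add {X : Type*} [Group X] {n : ℕ} [NeZero n] {r : X} (hr : r ^ n = 1)
    (i j : ZMod n) : r ^ (i + j).val = r ^ i.val * r ^ j.val := by
  rw [ZMod.val_add, ← pow_eq_pow_mod _ hr, pow_add]

/-- The homomorphism from a dihedral group given by a rotation and a reflection. -/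
def dihedralHom {X : Type*} [Group X] {n : ℕ} [NeZero n] (r s : X) (hr : r ^ n = 1)
    (hs : s * s = 1) (hrs : s * r * s = r⁻¹) : DihedralGroup n →* X where
  toFun
    | .r i => r ^ i.val
    | .sr i => s * r ^ i.val
  map_one' := by rw [DihedralGroup.one_def]; simp
  map_mul' := by
    have hflip : ∀ m : ℕ, r ^ m * s = s * (r ^ m)⁻¹ := by
      intro m
      have h2 : (s * r * s) ^ m = s * r ^ m * s := by
        have := conj_pow (a := s) (b := r) (i := m)
        rwa [inv_eq_of_mul_eq_one_right hs] at this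
      rw [hrs, inv_pow] at h2
      rw [h2, ← mul_assoc, ← mul_assoc, hs, one_mul]
    have hneg : ∀ i j : ZMod n, r ^ (j - i).val = (r ^ i.val)⁻¹ * r ^ j.val := by
      intro i j
      have := pow_val_add hr i (j - i)
      rw [add_sub_cancel] at this
      rw [this, inv_mul_cancel_left]
    rintro (i | i) (j | j)
    · simpa [DihedralGroup.r_mul_r] using pow_val_add hr i j
    · simp only [DihedralGroup.r_mul_sr]
      rw [hneg, ← mul_assoc, ← hflip, mul_assoc]
    · simp only [DihedralGroup.sr_mul_r]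
      rw [pow_val_add hr, mul_assoc]
    · simp only [DihedralGroup.sr_mul_sr]
      rw [hneg, mul_assoc s (r ^ i.val), ← mul_assoc (r ^ i.val) s, hflip, mul_assoc s ((r ^ i.val)⁻¹),
        ← mul_assoc s s, hs, one_mul]

/-- Six cases. -/
theorem dihedralHom_three {X : Type*} [Group X] {r s : X} (hr : r ^ 3 = 1) (hs : s * s = 1)
    (hrs : s * r * s = r⁻¹) {x : X} (hx : x ∈ (dihedralHom r s hr hs hrs).range) :
    x = 1 ∨ x = r ∨ x = r ^ 2 ∨ x = s ∨ x = s * r ∨ x = s * r ^ 2 := by
  obtain ⟨d, rfl⟩ := hx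
  rcases d with i | i
  · show r ^ i.val = 1 ∨ r ^ i.val = r ∨ r ^ i.val = r ^ 2 ∨ _
    have := ZMod.val_lt i
    rcases (show i.val = 0 ∨ i.val = 1 ∨ i.val = 2 by omega) with h | h | h <;> simp [dihedralHom, h]
  · show s * r ^ i.val = 1 ∨ s * r ^ i.val = r ∨ _
    have := ZMod.val_lt i
    rcases (show i.val = 0 ∨ i.val = 1 ∨ i.val = 2 by omega) with h | h | h <;> simp [dihedralHom, h]

/-- In a complement of order six only the identity fixes the four-group pointwise. -/
theorem fix_eq_one {X : Type*} [Group X] {a b s w : X} (haa : a * a = 1) (ha : a ≠ 1) (hb : b ≠ 1)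
    (hne : a ≠ b) (hw3 : w ^ 3 = 1) (hss : s * s = 1) (hsw : s * w * s = w⁻¹)
    (hwa : w * a * w⁻¹ = b) (hwb : w * b * w⁻¹ = a * b) (hsa : s * a * s = a) (hsb : s * b * s = a * b)
    {x : X} (hx : x ∈ (dihedralHom w s hw3 hss hsw).range) (h1 : x * a * x⁻¹ = a)
    (h2 : x * b * x⁻¹ = b) : x = 1 := by
  have hsinv : s⁻¹ = s := inv_eq_of_mul_eq_one_right hss
  have c2a : w ^ 2 * a * (w ^ 2)⁻¹ = a * b := by
    rw [pow_two, mul_inv_rev, show w * w * a * (w⁻¹ * w⁻¹) = w * (w * a * w⁻¹) * w⁻¹ by group, hwa, hwb]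
  have c4a : s * w * a * (s * w)⁻¹ = a * b := by
    rw [mul_inv_rev, show s * w * a * (w⁻¹ * s⁻¹) = s * (w * a * w⁻¹) * s⁻¹ by group, hwa, hsinv, hsb]
  have c5a : s * w ^ 2 * a * (s * w ^ 2)⁻¹ = b := by
    rw [mul_inv_rev, show s * w ^ 2 * a * ((w ^ 2)⁻¹ * s⁻¹) = s * (w ^ 2 * a * (w ^ 2)⁻¹) * s⁻¹ by group,
      c2a, hsinv, show s * (a * b) * s = (s * a * s) * (s * b * s) by
        rw [show s * a * s * (s * b * s) = s * a * (s * s) * b * s by group, hss]; group,
      hsa, hsb, ← mul_assoc, haa, one_mul]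
  rcases dihedralHom_three hw3 hss hsw hx with rfl | rfl | rfl | rfl | rfl | rfl
  · rfl
  · exact absurd (hwa.symm.trans h1) hne.symm
  · exact absurd (c2a.symm.trans h1) (fun h => hb (mul_eq_left.mp h))
  · rw [hsinv, hsb] at h2
    exact absurd (mul_eq_right.mp h2) ha
  · exact absurd (c4a.symm.trans h1) (fun h => hb (mul_eq_left.mp h))
  · exact absurd (c5a.symm.trans h1) hne.symm

/-- A group of order twenty-four with a four-group permuted by a complement of order six. -/
theorem nonempty_equiv_perm_four {X : Type*} [Group X] [Finite X] (hX : Nat.card X = 24)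
    {a b s w : X} (hab : a * b = b * a) (haa : a * a = 1) (hbb : b * b = 1) (ha : a ≠ 1) (hb : b ≠ 1)
    (hne : a ≠ b) (hw3 : w ^ 3 = 1) (hss : s * s = 1) (hs : s ≠ 1) (hsw : s * w * s = w⁻¹)
    (hwa : w * a * w⁻¹ = b) (hwb : w * b * w⁻¹ = a * b) (hsa : s * a * s = a) (hsb : s * b * s = a * b) :
    Nonempty (X ≃* Equiv.Perm (Fin 4)) := by
  classical
  set φ := dihedralHom w s hw3 hss hsw with hφ
  set U := φ.range with hU
  have hab1 : a * b ≠ 1 := fun h => hne (by rw [← mul_one a, ← hbb, ← mul_assoc, h, one_mul])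
  have hsinv : s⁻¹ = s := inv_eq_of_mul_eq_one_right hss
  have c2a : w ^ 2 * a * (w ^ 2)⁻¹ = a * b := by
    rw [pow_two, mul_inv_rev, show w * w * a * (w⁻¹ * w⁻¹) = w * (w * a * w⁻¹) * w⁻¹ by group, hwa, hwb]
  have c4a : s * w * a * (s * w)⁻¹ = a * b := by
    rw [mul_inv_rev, show s * w * a * (w⁻¹ * s⁻¹) = s * (w * a * w⁻¹) * s⁻¹ by group, hwa, hsinv, hsb]
  have c5a : s * w ^ 2 * a * (s * w ^ 2)⁻¹ = b := by
    rw [mul_inv_rev, show s * w ^ 2 * a * ((w ^ 2)⁻¹ * s⁻¹) = s * (w ^ 2 * a * (w ^ 2)⁻¹) * s⁻¹ by group,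
      c2a, hsinv, show s * (a * b) * s = (s * a * s) * (s * b * s) by
        rw [show s * a * s * (s * b * s) = s * a * (s * s) * b * s by group, hss]; group,
      hsa, hsb, ← mul_assoc, haa, one_mul]
  have hfix : ∀ x ∈ U, x * a * x⁻¹ = a → x * b * x⁻¹ = b → x = 1 := fun x hx =>
    fix_eq_one haa ha hb hne hw3 hss hsw hwa hwb hsa hsb hx
  have hcomm : ∀ v, v = a ∨ v = b ∨ v = a * b → v ∉ U := by
    intro v hv hvU
    have h1 : v * a * v⁻¹ = a := by
      rcases hv with rfl | rfl | rfl
      · group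
      · rw [← hab]; group
      · rw [mul_inv_eq_iff_eq_mul]; rw [mul_assoc, ← hab]
    have h2 : v * b * v⁻¹ = b := by
      rcases hv with rfl | rfl | rfl
      · rw [hab]; group
      · group
      · rw [mul_inv_eq_iff_eq_mul, ← mul_assoc b, ← hab]
    have := hfix v hvU h1 h2
    rcases hv with rfl | rfl | rfl
    · exact ha this
    · exact hb this
    · exact hab1 this
  -- the order of `U`
  have hUle : Nat.card U ≤ 6 := by
    have h := Nat.card_le_card_of_surjective φ.rangeRestrict φ.rangeRestrict_surjective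
    rwa [DihedralGroup.nat_card] at h
  have hwU : w ∈ U := ⟨DihedralGroup.r 1, by simp [hφ, dihedralHom, ZMod.val_one]⟩
  have hsU : s ∈ U := ⟨DihedralGroup.sr 0, by simp [hφ, dihedralHom]⟩
  have hUcard : Nat.card U = 6 := by
    have hw1 : w ≠ 1 := fun h => by rw [h, one_mul, inv_one, mul_one] at hwa; exact hne hwa
    have h3 : orderOf w = 3 := orderOf_eq_prime hw3 hw1
    have h2 : orderOf s = 2 := orderOf_eq_prime (by rw [pow_two, hss]) hs
    have d3 := Subgroup.orderOf_dvd_natCard U hwU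
    have d2 := Subgroup.orderOf_dvd_natCard U hsU
    rw [h3] at d3
    rw [h2] at d2
    have := Nat.card_pos (α := ↥U)
    have h6 : 2 * 3 ∣ Nat.card U := Nat.Coprime.mul_dvd_of_dvd_of_dvd (by decide) d2 d3
    have := Nat.le_of_dvd this h6
    omega
  have hidx : Nat.card (X ⧸ U) = 4 := by
    have := Subgroup.card_eq_card_quotient_mul_card_subgroup U
    rw [hX, hUcard] at this
    omega
  set π := MulAction.toPermHom X (X ⧸ U)
  have hker : π.ker = U.normalCore := (Subgroup.normalCore_eq_ker U).symm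
  have hinj : Function.Injective π := by
    rw [← MonoidHom.ker_eq_bot_iff, eq_bot_iff]
    intro n hn
    rw [mem_bot]
    have hnU : n ∈ U := Subgroup.normalCore_le U (hker ▸ hn)
    have hc : ∀ v : X, n * v * n⁻¹ * v⁻¹ ∈ U := fun v => by
      refine Subgroup.normalCore_le U ?_
      rw [← hker, show n * v * n⁻¹ * v⁻¹ = n * (v * n⁻¹ * v⁻¹) by group]
      exact mul_mem hn (π.normal_ker.conj_mem _ (inv_mem hn) v)
    rcases dihedralHom_three hw3 hss hsw hnU with rfl | rfl | rfl | rfl | rfl | rfl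
    · rfl
    · exfalso
      have := hc a
      rw [hwa, inv_eq_of_mul_eq_one_right haa, ← hab] at this
      exact hcomm _ (Or.inr (Or.inr rfl)) this
    · exfalso
      have := hc a
      rw [c2a, inv_eq_of_mul_eq_one_right haa, hab, mul_assoc, haa, mul_one] at this
      exact hcomm _ (Or.inr (Or.inl rfl)) this
    · exfalso
      have := hc b
      rw [hsinv, hsb, inv_eq_of_mul_eq_one_right hbb, mul_assoc, hbb, mul_one] at this
      exact hcomm _ (Or.inl rfl) this
    · exfalso
      have := hc a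
      rw [c4a, inv_eq_of_mul_eq_one_right haa, hab, mul_assoc, haa, mul_one] at this
      exact hcomm _ (Or.inr (Or.inl rfl)) this
    · exfalso
      have := hc a
      rw [c5a, inv_eq_of_mul_eq_one_right haa, ← hab] at this
      exact hcomm _ (Or.inr (Or.inr rfl)) this
  haveI := Fintype.ofFinite (X ⧸ U)
  have hb' : Function.Bijective π := hinj.bijective_of_nat_card_le (by
    rw [Nat.card_perm, hidx, hX]; rfl)
  exact ⟨(MulEquiv.ofBijective π hb').trans (Finite.equivFinOfCardEq hidx).permCongrHom⟩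

/-- An index-two complement to a central involution. -/
theorem nonempty_equiv_prod_two {X : Type*} [Group X] [Finite X] (S : Subgroup X) {z : X}
    (hz : ∀ x, Commute z x) (hzz : z * z = 1) (hzS : z ∉ S) {s : Set X}
    (hs : Subgroup.closure s = ⊤) (hS : ∀ x ∈ s, x ∈ S ∨ z * x ∈ S) {Y : Type*} [Group Y]
    (e : ↥S ≃* Y) : Nonempty (X ≃* Y × Multiplicative (ZMod 2)) := by
  let ψ : Multiplicative (ZMod 2) →* X :=
    { toFun := fun i => z ^ i.toAdd.val
      map_one' := by simp
      map_mul' := fun i j => pow_val_add (by rw [pow_two, hzz]) i.toAdd j.toAdd }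
  let f : ↥S × Multiplicative (ZMod 2) →* X :=
    MonoidHom.noncommCoprod S.subtype ψ fun x i => ((hz x).symm.pow_right _)
  have hz1 : f (1, Multiplicative.ofAdd 1) = z := by
    simp [f, ψ, MonoidHom.noncommCoprod, ZMod.val_one]
  have hinj : Function.Injective f := by
    rw [injective_iff_map_eq_one]
    rintro ⟨x, i⟩ h
    change (x : X) * z ^ i.toAdd.val = 1 at h
    have hlt := ZMod.val_lt i.toAdd
    have hi : i.toAdd.val = 0 := by
      by_contra h0
      refine hzS ?_
      rw [show i.toAdd.val = 1 by omega, pow_one] at h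
      have : z = (x : X)⁻¹ := (inv_eq_of_mul_eq_one_right h).symm
      rw [this]; exact inv_mem x.2
    rw [hi, pow_zero, mul_one] at h
    exact Prod.ext (Subtype.ext h) (Multiplicative.toAdd.injective ((ZMod.val_eq_zero _).mp hi))
  have hsur : Function.Surjective f := by
    rw [← MonoidHom.range_eq_top, eq_top_iff, ← hs, Subgroup.closure_le]
    intro x hx
    rcases hS x hx with h | h
    · exact ⟨(⟨x, h⟩, 1), by simp [f, ψ, MonoidHom.noncommCoprod]⟩
    · refine ⟨(1, Multiplicative.ofAdd 1) * (⟨z * x, h⟩, 1), ?_⟩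
      rw [map_mul, hz1]
      simp [f, ψ, MonoidHom.noncommCoprod, ← mul_assoc, hzz]
  exact ⟨(MulEquiv.ofBijective f ⟨hinj, hsur⟩).symm.trans (e.prodCongr (MulEquiv.refl _))⟩

end Cfsg.Agent.Lib.PLocal.SimsChain
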