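import Cfsg.Agent.Lib.PLocal.SimsSetup

/-!
# Stabilisers with a suborbit of length three
-/

set_option autoImplicit false

namespace Cfsg.Agent.Lib.PLocal.SimsChain

open Subgroup Cfsg.Agent.Lib.ThreeTransp.ThompsonWielandt

/-- The stabiliser has order three or carries a chain. -/
theorem card_three_or_sims {G Ω : Type*} [Group G] [Finite G] [MulAction G Ω] [FaithfulSMul G Ω]
    (hprim : MulAction.IsPreprimitive G Ω) (a b : Ω)
    (h3 : Nat.card (MulAction.orbit (MulAction.stabilizer G a) b) = 3) :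
    Nat.card (MulAction.stabilizer G a) = 3 ∨
      ∃ (k : ℕ) (e : ℤ → G), Sims k e (MulAction.stabilizer G a) := by
  classical
  have := hprim
  have : Finite Ω := Finite.of_surjective (fun g : G => g • a) (MulAction.surjective_smul G a)
  obtain ⟨c, ⟨eqv⟩, hidx⟩ := Subconstituent.exists_ctx hprim a b 3 h3 (by omega)
  obtain ⟨g, hg⟩ := MulAction.exists_smul_eq G a b
  set H := MulAction.stabilizer G a with hH
  set K := MulAction.stabilizer G b with hK
  have hgK : H.map (MulAut.conj g).toMonoidHom = K := by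
    rw [hK, ← hg, MulAction.stabilizer_smul_eq_stabilizer_map_conj]
  set A := H ⊓ K with hA
  obtain ⟨p, hp, P, hPA, hPn, hPp, hPd⟩ := c.exists_pGroup_index_dvd eqv hidx
  haveI := Fact.mk hp
  have hcard : Nat.card H = 3 * Nat.card A := by
    have h := Subgroup.relIndex_mul_relIndex ⊥ A H bot_le inf_le_left
    rw [Subgroup.relIndex_bot_left, Subgroup.relIndex_bot_left, hidx] at h
    omega
  have hPH : P.relIndex H = 3 * P.relIndex A := by
    have h := Subgroup.relIndex_mul_relIndex P A H hPA inf_le_left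
    rw [hidx] at h
    omega
  have hdiv : P.relIndex A ∣ 2 ^ 4 := by
    rw [hPH, show Nat.factorial 3 * Nat.factorial (3 - 1) ^ 3 = 3 * 2 ^ 4 by norm_num [Nat.factorial]] at hPd
    exact Nat.dvd_of_mul_dvd_mul_left (by omega) hPd
  have hcardA : Nat.card A = Nat.card P * P.relIndex A := by
    have h := Subgroup.relIndex_mul_relIndex ⊥ P A bot_le hPA
    rwa [Subgroup.relIndex_bot_left, Subgroup.relIndex_bot_left, eq_comm] at h
  have hPO : P ≤ Cfsg.pCoreOf p A :=
    le_Op_of_sn (Sn.of_le_normalizer hPA (inf_le_left.trans hPn)) hPp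
  have hOle : ∀ q : ℕ, Cfsg.pCoreOf q A ≤ A := fun q => Op_le q A
  by_cases hn : H ≤ normalizer (A : Set G)
  · have hA1 : A ≤ a1 H K := le_a1 inf_le_left inf_le_right hn
    have hO : ∀ q : ℕ, q.Prime → Cfsg.pCoreOf q A = ⊥ := fun q hq => by
      haveI := Fact.mk hq
      exact Subconstituent.Op_inf_eq_bot c hgK q ((hOle q).trans hA1)
    rw [hO p hp, le_bot_iff] at hPO
    rw [hPO, Subgroup.card_bot, one_mul] at hcardA
    obtain ⟨j, -, hj'⟩ := (Nat.dvd_prime_pow Nat.prime_two).mp hdiv
    have hj : Nat.card A = 2 ^ j := by rw [hcardA, ← hj', hPO]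
    haveI := Fact.mk Nat.prime_two
    have : A ≤ Cfsg.pCoreOf 2 A :=
      le_Op_of_sn (Sn.of_le_normalizer le_rfl Subgroup.le_normalizer) (IsPGroup.of_card hj)
    rw [hO 2 Nat.prime_two, le_bot_iff] at this
    left
    rw [hcard, this, Subgroup.card_bot]
  right
  obtain ⟨k, hk⟩ : ∃ k, Nat.card A = 2 ^ k := by
    obtain ⟨j, -, hj⟩ := (Nat.dvd_prime_pow Nat.prime_two).mp hdiv
    by_cases hp2 : p = 2
    · subst hp2
      obtain ⟨i, hi⟩ := IsPGroup.iff_card.mp hPp
      exact ⟨i + j, by rw [hcardA, hi, hj, pow_add]⟩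
    · refine ⟨j, ?_⟩
      have hle : a1 H K ≤ A := le_inf (a1_le_left H K) (a1_le_right H K)
      have hd6 := relIndex_a1_dvd hidx
      have h := Subgroup.relIndex_mul_relIndex (a1 H K) A H hle inf_le_left
      rw [hidx] at h
      rw [← h, show (3 : ℕ).factorial = 2 * 3 by decide] at hd6
      have h2 : (a1 H K).relIndex A ∣ 2 := Nat.dvd_of_mul_dvd_mul_right (by omega) hd6
      have h2' : (a1 H K).relIndex A = 2 := by
        rcases (Nat.dvd_prime Nat.prime_two).mp h2 with h1 | h1
        · refine absurd ?_ hn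
          have : A = a1 H K := le_antisymm (Subgroup.relIndex_eq_one.mp h1) hle
          rw [this]
          exact le_normalizer_hcore H (H ⊓ K)
        · exact h1
      have himg : Cfsg.pCoreOf p A ≤ a1 H K := by
        intro z hz
        haveI : ((a1 H K).subgroupOf A).Normal := Subgroup.normal_subgroupOf_of_le_normalizer
          (inf_le_left.trans (le_normalizer_hcore H (H ⊓ K)))
        set q := QuotientGroup.mk' ((a1 H K).subgroupOf A)
        obtain ⟨i, hi⟩ := (Op_isPGroup p A) ⟨z, hz⟩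
        have hz' : z ^ p ^ i = 1 := congrArg Subtype.val hi
        have ho1 : orderOf (q ⟨z, hOle p hz⟩) ∣ p ^ i :=
          orderOf_dvd_of_pow_eq_one (by
            rw [← map_pow, show (⟨z, hOle p hz⟩ : ↥A) ^ p ^ i = 1 from Subtype.ext hz', map_one])
        have ho2 : orderOf (q ⟨z, hOle p hz⟩) ∣ 2 := by
          refine (_root_.orderOf_dvd_natCard _).trans ?_
          rw [show Nat.card (↥A ⧸ (a1 H K).subgroupOf A) = 2 from h2']
        have ho : orderOf (q ⟨z, hOle p hz⟩) = 1 :=
          Nat.eq_one_of_dvd_coprimes (((Nat.coprime_primes hp Nat.prime_two).mpr hp2).pow_left i) ho1 ho2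
        exact (QuotientGroup.eq_one_iff (N := (a1 H K).subgroupOf A) (⟨z, hOle p hz⟩ : ↥A)).mp (orderOf_eq_one_iff.mp ho)
      rw [Subconstituent.Op_inf_eq_bot c hgK p himg, le_bot_iff] at hPO
      rw [hcardA, hPO, Subgroup.card_bot, one_mul, ← hj, hPO]
  obtain ⟨e, he⟩ := exists_sims c g hgK (hcard.trans (by rw [hk])) hidx hn
  exact ⟨k, e, he⟩

end Cfsg.Agent.Lib.PLocal.SimsChain
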