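import Cfsg.Agent.Lib.ThreeTransp.ThompsonWielandt
import Cfsg.Agent.Lib.Transfer.Frobenius
import Cfsg.Agent.Lib.Cores.Fitting
import Mathlib.GroupTheory.GroupAction.Primitive

/-!
# Two-point stabilisers in primitive groups
-/

set_option autoImplicit false

namespace Cfsg.Agent.Lib.PLocal.Subconstituent

open Cfsg.Agent.Lib.ThreeTransp.ThompsonWielandt

theorem exists_ctx {G Ω : Type*} [Group G] [Finite G] [MulAction G Ω] [FaithfulSMul G Ω] [Finite Ω]
    (hprim : MulAction.IsPreprimitive G Ω) (a b : Ω) (d : ℕ)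
    (hd : Nat.card (MulAction.orbit (MulAction.stabilizer G a) b) = d) (h2 : 2 ≤ d) :
    Ctx (MulAction.stabilizer G a) (MulAction.stabilizer G b) ∧
      Nonempty (MulAction.stabilizer G a ≃* MulAction.stabilizer G b) ∧
      (MulAction.stabilizer G a ⊓ MulAction.stabilizer G b).relIndex (MulAction.stabilizer G a) = d := by
  classical
  have := hprim
  obtain ⟨g, hg⟩ := MulAction.exists_smul_eq G a b
  set H := MulAction.stabilizer G a with hH
  set K := MulAction.stabilizer G b with hK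
  have horb : (H ⊓ K).relIndex H = d := by
    rw [Subgroup.inf_relIndex_left, Subgroup.relIndex,
      show K.subgroupOf H = MulAction.stabilizer ↥H b from Subgroup.ext fun x => Iff.rfl,
      MulAction.index_stabilizer, ← Nat.card_coe_set_eq, hd]
  have hne : H ≠ K := by
    intro h
    rw [← h, inf_idem, Subgroup.relIndex_self] at horb
    omega
  have : Nontrivial Ω := ⟨a, b, fun h => hne (by rw [hH, hK, h])⟩
  have hmax : ∀ x : Ω, IsCoatom (MulAction.stabilizer G x) := fun x =>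
    MulAction.IsPreprimitive.isCoatom_stabilizer_of_isPreprimitive G x
  have hcore : ∀ x : Ω, (MulAction.stabilizer G x).normalCore = ⊥ := fun x => by
    rw [eq_bot_iff]
    intro z hz
    rw [Subgroup.mem_bot]
    refine eq_of_smul_eq_smul fun y : Ω => ?_
    obtain ⟨k, rfl⟩ := MulAction.exists_smul_eq G x y
    have h := Subgroup.normalCore_le _
      ((Subgroup.normalCore_normal _).conj_mem z hz k⁻¹)
    rw [MulAction.mem_stabilizer_iff, inv_inv, mul_smul, mul_smul, inv_smul_eq_iff] at h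
    rw [h, one_smul]
  have e : ↥H ≃* ↥K :=
    (H.equivMapOfInjective _ (MulAut.conj g).injective).trans (MulEquiv.subgroupCongr (by
      rw [hK, ← hg, MulAction.stabilizer_smul_eq_stabilizer_map_conj]))
  exact ⟨⟨hmax a, hmax b, hne, hcore a, hcore b⟩, ⟨e⟩, horb⟩

/-- Either a second core is trivial, giving the order bound, or the stabiliser is strongly
constrained. -/
theorem bound_or_constrained {G : Type*} [Group G] [Finite G] {H K : Subgroup G} (c : Ctx H K)
    (e : ↥H ≃* ↥K) {d : ℕ} (hd : (H ⊓ K).relIndex H = d) :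
    Nat.card H ∣ d.factorial * (d - 1).factorial ^ d ∨
      ∃ p : ℕ, p.Prime ∧ Cfsg.generalizedFittingSubgroup ↥H = Cfsg.pCore p ↥H ∧
        Cfsg.generalizedFittingSubgroup ↥(a1 H K) = Cfsg.pCore p ↥(a1 H K) ∧ a1 H K ≠ ⊥ := by
  have hd' := relIndex_right_eq e hd
  have hA := relIndex_a2_dvd hd hd'
  have hB := relIndex_a2_dvd (H := K) (K := H) (d := d) (inf_comm H K ▸ hd') (inf_comm H K ▸ hd)
  by_cases h : a2 H K ≠ ⊥ ∧ a2 K H ≠ ⊥
  · obtain ⟨p, hp, -, h1, h2, -, -⟩ := c.main h.1 h.2 (card_pCore_eq e)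
    exact Or.inr ⟨p, hp, h1, h2, fun he => h.1 (le_bot_iff.mp (he ▸ (a2_le_D H K).trans inf_le_left))⟩
  · left
    rcases not_and_or.mp h with h | h
    · rw [not_not.mp h, Subgroup.relIndex_bot_left] at hA
      exact hA
    · rw [not_not.mp h, Subgroup.relIndex_bot_left] at hB
      rwa [Nat.card_congr e.toEquiv]

open Cfsg.Agent.Lib in
/-- The `p`-core of the two-point stabiliser is trivial if it acts trivially on the suborbit. -/
theorem Op_inf_eq_bot {G : Type*} [Group G] [Finite G] {H K : Subgroup G} (c : Ctx H K) {g : G}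
    (hg : H.map (MulAut.conj g).toMonoidHom = K) (p : ℕ) [Fact p.Prime]
    (himg : Cfsg.pCoreOf p (H ⊓ K) ≤ a1 H K) : Cfsg.pCoreOf p (H ⊓ K) = ⊥ := by
  set A := H ⊓ K with hAdef
  set Q := Cfsg.pCoreOf p A with hQdef
  have hA1 : a1 H K ≤ A := le_inf (a1_le_left H K) (a1_le_right H K)
  have hAn : A ≤ Subgroup.normalizer (a1 H K : Set G) :=
    inf_le_left.trans (le_normalizer_hcore H (H ⊓ K))
  have hQeq : Q = Cfsg.pCoreOf p (a1 H K) := le_antisymm
    (le_Op_of_sn ((Op_sn p A).restrict himg hA1) (Op_isPGroup p A))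
    (le_Op_of_sn ((Op_sn p (a1 H K)).trans (Sn.of_le_normalizer hA1 hAn)) (Op_isPGroup p _))
  have hHQ : H ≤ Subgroup.normalizer (Q : Set G) := by
    refine le_normalizer_of_conj_mem fun x hx z hz => ?_
    rw [hQeq] at hz ⊢
    obtain ⟨z', hz', rfl⟩ := hz
    have hn := le_normalizer_hcore H (H ⊓ K)
    have hm : ∀ w : G, w ∈ a1 H K ↔ x * w * x⁻¹ ∈ a1 H K :=
      Subgroup.mem_normalizer_iff.mp (hn hx)
    let f : ↥(a1 H K) ≃* ↥(a1 H K) :=
      { toFun := fun w => ⟨x * w * x⁻¹, (hm _).mp w.2⟩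
        invFun := fun w => ⟨x⁻¹ * w * x, (hm _).mpr (by simpa [mul_assoc] using w.2)⟩
        left_inv := fun w => Subtype.ext (by group)
        right_inv := fun w => Subtype.ext (by group)
        map_mul' := fun v w => Subtype.ext (by push_cast; group) }
    exact ⟨f z', (Cores.map_pCore_equiv (p := p) f).le ⟨z', hz', rfl⟩, rfl⟩
  by_contra hne
  set Q' := Q.map (MulAut.conj g).toMonoidHom with hQ'def
  have hQle : Q ≤ A := Op_le p A
  have hQ'K : Q' ≤ K := hg ▸ Subgroup.map_mono (hQle.trans inf_le_left)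
  have hKQ' : K ≤ Subgroup.normalizer (Q' : Set G) := by
    rw [← hg]
    refine le_normalizer_of_conj_mem ?_
    rintro _ ⟨x, hx, rfl⟩ _ ⟨z, hz, rfl⟩
    exact ⟨x * z * x⁻¹, conj_mem hHQ hx hz, by simp [mul_assoc]⟩
  set P := Q ⊔ Q' with hPdef
  have hPp : IsPGroup p P := (Op_isPGroup p A).to_sup_of_normal_right'
    ((Op_isPGroup p A).map _) ((hQle.trans inf_le_right).trans hKQ')
  have hPK : P ≤ K := sup_le (hQle.trans inf_le_right) hQ'K
  have hAP : A ≤ Subgroup.normalizer (P : Set G) := by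
    refine le_normalizer_of_conj_mem fun x hx z hz => ?_
    have hle : P ≤ P.comap (MulAut.conj x).toMonoidHom :=
      sup_le (fun w hw => Subgroup.mem_sup_left (conj_mem hHQ hx.1 hw))
        fun w hw => Subgroup.mem_sup_right (conj_mem hKQ' hx.2 hw)
    exact hle hz
  have hPQ : P = Q := by
    refine (le_antisymm le_sup_left ?_).symm
    by_contra hlt
    have hlt' : Q < P := lt_of_le_of_ne le_sup_left fun h => hlt h.ge
    have h1 := Cfsg.Agent.Lib.Transfer.lt_inf_normalizer hPp hlt'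
    have h2 : P ⊓ Subgroup.normalizer (Q : Set G) ≤ A ⊓ P :=
      fun z hz => ⟨⟨c.normalizer_le hne (hQle.trans inf_le_left) hHQ hz.2, hPK hz.1⟩, hz.1⟩
    have h3 : A ⊓ P ≤ Q := le_Op_of_sn (Sn.of_le_normalizer inf_le_left
      (le_normalizer_inf Subgroup.le_normalizer hAP)) (hPp.to_le inf_le_right)
    exact h1.not_ge (h2.trans h3)
  have hQQ' : Q' = Q := Subgroup.eq_of_le_of_card_ge (hPQ ▸ le_sup_right)
    (Subgroup.card_map_of_injective (MulAut.conj g).injective).ge
  exact hne (c.eq_bot_of_normalized (hQle.trans inf_le_left) hHQ (hQQ' ▸ hKQ'))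

open Cfsg.Agent.Lib in
/-- A trivial Fitting subgroup of the two-point subconstituent stabiliser. -/
theorem fitting_main {G Ω : Type*} [Group G] [Finite G] [MulAction G Ω] [FaithfulSMul G Ω] [Finite Ω]
    (hprim : MulAction.IsPreprimitive G Ω) (a b : Ω) (d : ℕ)
    (hd : Nat.card (MulAction.orbit (MulAction.stabilizer G a) b) = d) (h2 : 2 ≤ d)
    (hF : Cfsg.fittingSubgroup ↥(((MulAction.stabilizer G b).subgroupOf (MulAction.stabilizer G a)).map
      (MulAction.toPermHom (MulAction.stabilizer G a) (MulAction.orbit (MulAction.stabilizer G a) b))) = ⊥) :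
    Cfsg.fittingSubgroup ↥(MulAction.stabilizer G a ⊓ MulAction.stabilizer G b) = ⊥ ∧
      Nat.card (MulAction.stabilizer G a) ∣ d.factorial * (d - 1).factorial ^ d := by
  classical
  obtain ⟨c, ⟨e⟩, horb⟩ := exists_ctx hprim a b d hd h2
  obtain ⟨g, hg⟩ := MulAction.exists_smul_eq G a b
  set H := MulAction.stabilizer G a with hH
  set K := MulAction.stabilizer G b with hK
  have hgK : H.map (MulAut.conj g).toMonoidHom = K := by
    rw [hK, ← hg, MulAction.stabilizer_smul_eq_stabilizer_map_conj]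
  have hbot : ∀ p : ℕ, p.Prime → Cfsg.pCoreOf p (H ⊓ K) = ⊥ := by
    intro p hp
    haveI := Fact.mk hp
    refine Op_inf_eq_bot c hgK p fun z hz => ?_
    -- the image on the suborbit is a normal `p`-subgroup
    set π := MulAction.toPermHom ↥H (MulAction.orbit H b)
    have himg : (Cfsg.pCore p ↥(K.subgroupOf H)).map (π.subgroupMap (K.subgroupOf H)) = ⊥ := by
      rw [eq_bot_iff, ← hF]
      refine le_trans ?_ (Cores.pCore_le_fittingSubgroup p)
      exact Cores.map_pCore_le _ (MonoidHom.subgroupMap_surjective _ _)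
    let e' : ↥(H ⊓ K) ≃* ↥(K.subgroupOf H) :=
      { toFun := fun w => ⟨⟨w.1, w.2.1⟩, w.2.2⟩
        invFun := fun w => ⟨w.1.1, w.1.2, w.2⟩
        left_inv := fun w => rfl
        right_inv := fun w => rfl
        map_mul' := fun v w => rfl }
    obtain ⟨z', hz', rfl⟩ := hz
    have h1 : π.subgroupMap (K.subgroupOf H) (e' z') = 1 :=
      (Subgroup.eq_bot_iff_forall _).mp himg _
        ⟨e' z', (Cores.map_pCore_equiv (p := p) e').le ⟨z', hz', rfl⟩, rfl⟩
    have h2' : π ⟨z'.1, z'.2.1⟩ = 1 := congrArg Subtype.val h1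
    refine mem_hcore.mpr ⟨z'.2.1, fun h hh => ?_⟩
    have h3 := Equiv.Perm.ext_iff.mp h2' ⟨(⟨h, hh⟩ : ↥H)⁻¹ • b, MulAction.mem_orbit b _⟩
    have h4 : (z' : G) • (h⁻¹ • b) = h⁻¹ • b := congrArg Subtype.val h3
    refine ⟨H.mul_mem (H.mul_mem hh z'.2.1) (H.inv_mem hh), ?_⟩
    show h * (z' : G) * h⁻¹ ∈ MulAction.stabilizer G b
    rw [MulAction.mem_stabilizer_iff, mul_smul, mul_smul, h4, smul_inv_smul]
  have hfit : Cfsg.fittingSubgroup ↥(H ⊓ K) = ⊥ := le_bot_iff.mp
    (Cores.fittingSubgroup_le_of_pCore_le fun p hp => (Op_eq_bot_iff.mp (hbot p hp)).le)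
  refine ⟨hfit, ?_⟩
  rcases bound_or_constrained c e horb with h | ⟨p, hp, -, h1, hne⟩
  · exact h
  exfalso
  haveI := Fact.mk hp
  have hO : Cfsg.pCoreOf p (a1 H K) = ⊥ := le_bot_iff.mp (hbot p hp ▸ le_Op_of_sn
    ((Op_sn p (a1 H K)).trans (Sn.of_le_normalizer (le_inf (a1_le_left H K) (a1_le_right H K))
      (inf_le_left.trans (le_normalizer_hcore H (H ⊓ K))))) (Op_isPGroup p _))
  rw [Op_eq_bot_iff.mp hO] at h1
  have h2 := Components.centralizer_genFitting_le (G := ↥(a1 H K))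
  rw [h1] at h2
  refine hne ((Subgroup.eq_bot_iff_forall _).mpr fun x hx => ?_)
  have h3 : (⟨x, hx⟩ : ↥(a1 H K)) ∈ (⊥ : Subgroup ↥(a1 H K)) :=
    h2 (Subgroup.mem_centralizer_iff.mpr fun y hy => by
      rw [SetLike.mem_coe, Subgroup.mem_bot] at hy
      simp [hy])
  exact congrArg Subtype.val (Subgroup.mem_bot.mp h3)

end Cfsg.Agent.Lib.PLocal.Subconstituent
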