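import Cfsg.Agent.Lib.PLocal.SimsBound
import Cfsg.Agent.Lib.PLocal.Subconstituent

/-!
# The chain attached to a suborbit of length three
-/

set_option autoImplicit false

namespace Cfsg.Agent.Lib.PLocal.SimsChain

open Subgroup Cfsg.Agent.Lib.ThreeTransp.ThompsonWielandt

variable {G : Type*} [Group G]

/-- Iterated intersections with conjugates. -/
def interChain (t : G) (A : Subgroup G) : ℕ → Subgroup G
  | 0 => A
  | m + 1 => interChain t A m ⊓ (interChain t A m).map (MulAut.conj t).toMonoidHom

theorem mem_conjMap {t x : G} {L : Subgroup G} :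
    x ∈ L.map (MulAut.conj t).toMonoidHom ↔ t⁻¹ * x * t ∈ L := by
  constructor
  · rintro ⟨y, hy, rfl⟩; simpa [mul_assoc] using hy
  · intro h; exact ⟨_, h, by simp [mul_assoc]⟩

theorem interChain_succ_le (t : G) (A : Subgroup G) (m : ℕ) :
    interChain t A (m + 1) ≤ interChain t A m := inf_le_left

theorem interChain_le (t : G) (A : Subgroup G) : ∀ m, interChain t A m ≤ A
  | 0 => le_rfl
  | m + 1 => (interChain_succ_le t A m).trans (interChain_le t A m)

theorem eq_of_lt_of_two {U S T : Subgroup G} [Finite G] (hUT : U ≤ T) (hc : U.relIndex T = 2)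
    (hUS : U < S) (hST : S ≤ T) : S = T := by
  have h := Subgroup.relIndex_mul_relIndex U S T hUS.le hST
  rw [hc] at h
  rcases (Nat.dvd_prime Nat.prime_two).mp ⟨_, h.symm⟩ with h1 | h1
  · exact absurd (Subgroup.relIndex_eq_one.mp h1) hUS.not_ge
  · rw [h1] at h
    exact le_antisymm hST (Subgroup.relIndex_eq_one.mp (by omega))

/-- The chain attached to the stabiliser, when it does not fix the suborbit pointwise. -/
theorem exists_sims [Finite G] {H K : Subgroup G} (c : Ctx H K) (t₀ : G)
    (ht₀ : H.map (MulAut.conj t₀).toMonoidHom = K) {k : ℕ} (hcard : Nat.card H = 3 * 2 ^ k)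
    (hidx : (H ⊓ K).relIndex H = 3) (hn : ¬ H ≤ normalizer ((H ⊓ K : Subgroup G) : Set G)) :
    ∃ e : ℤ → G, Sims k e H := by
  classical
  haveI := Fact.mk Nat.prime_two
  set A := H ⊓ K with hA
  have hAc : Nat.card A = 2 ^ k := by
    have h := Subgroup.relIndex_mul_relIndex ⊥ A H bot_le inf_le_left
    rw [Subgroup.relIndex_bot_left, Subgroup.relIndex_bot_left, hidx, hcard] at h
    omega
  -- choose the conjugating element
  obtain ⟨t, ht, hB⟩ : ∃ t : G, H.map (MulAut.conj t).toMonoidHom = K ∧
      A.map (MulAut.conj t).toMonoidHom ≠ A := by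
    by_cases h : A.map (MulAut.conj t₀).toMonoidHom = A
    swap
    · exact ⟨t₀, ht₀, h⟩
    obtain ⟨x, hx, hxn⟩ := SetLike.not_le_iff_exists.mp hn
    refine ⟨t₀ * x, ?_, fun h' => hxn ?_⟩
    · ext z
      rw [← ht₀, mem_conjMap, mem_conjMap, mul_inv_rev,
        show x⁻¹ * t₀⁻¹ * z * (t₀ * x) = x⁻¹ * (t₀⁻¹ * z * t₀) * x by group,
        Subgroup.mul_mem_cancel_right _ hx, Subgroup.mul_mem_cancel_left _ (inv_mem hx)]
    · rw [Subgroup.mem_normalizer_iff]
      intro z
      conv_lhs => rw [show (z ∈ A) = (t₀ * (x * z * x⁻¹) * t₀⁻¹ ∈ A.map (MulAut.conj (t₀ * x)).toMonoidHom)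
        by rw [mem_conjMap]; congr 1; group]
      rw [h']
      conv_rhs => rw [show (x * z * x⁻¹ ∈ A) = (t₀ * (x * z * x⁻¹) * t₀⁻¹ ∈ A.map (MulAut.conj t₀).toMonoidHom)
        by rw [mem_conjMap]; congr 1; group]
      rw [h]
  set L := interChain t A with hL
  have hmapcard : ∀ (U : Subgroup G), Nat.card (U.map (MulAut.conj t).toMonoidHom) = Nat.card U :=
    fun U => Subgroup.card_map_of_injective (MulAut.conj t).injective
  have hLA : ∀ m, L m ≤ A := interChain_le t A
  have hL0 : L 0 = A := rfl
  have hLdiv : ∀ m, ∃ j, j ≤ k ∧ Nat.card (L m) = 2 ^ j := fun m =>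
    (Nat.dvd_prime_pow Nat.prime_two).mp (hAc ▸ Subgroup.card_dvd_of_le (hLA m))
  have hidx2 : ∀ m, (L m).map (MulAut.conj t).toMonoidHom = L m ∨ (L (m + 1)).relIndex (L m) = 2 := by
    intro m
    obtain ⟨j, -, hj⟩ := hLdiv m
    have hpow : ∃ i, (L (m + 1)).relIndex (L m) = 2 ^ i := by
      have := Subgroup.relIndex_mul_relIndex ⊥ (L (m + 1)) (L m) bot_le (interChain_succ_le t A m)
      rw [Subgroup.relIndex_bot_left, Subgroup.relIndex_bot_left, hj] at this
      obtain ⟨i, -, hi⟩ := (Nat.dvd_prime_pow Nat.prime_two).mp ⟨_, (this.symm.trans (mul_comm _ _))⟩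
      exact ⟨i, hi⟩
    obtain ⟨i, hi⟩ := hpow
    have hle : (L (m + 1)).relIndex (L m) ≤ 3 := by
      show (L m ⊓ (L m).map _).relIndex (L m) ≤ 3
      rw [Subgroup.inf_relIndex_left]
      clear hi hj
      induction m with
      | zero =>
        refine le_trans (Subgroup.relIndex_le_of_le_right (K := A)
          (L := H.map (MulAut.conj t).toMonoidHom) (H := A.map (MulAut.conj t).toMonoidHom) ?_
          Subgroup.index_ne_zero_of_finite) (le_of_eq ?_)
        · rw [ht]; exact inf_le_right
        · rw [Subgroup.relIndex_map_map_of_injective _ _ (MulAut.conj t).injective, hidx]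
      | succ m ih =>
        refine le_trans (Subgroup.relIndex_le_of_le_right (K := L (m + 1))
          (L := (L m).map (MulAut.conj t).toMonoidHom) inf_le_right Subgroup.index_ne_zero_of_finite) ?_
        rw [Subgroup.relIndex_map_map_of_injective _ _ (MulAut.conj t).injective]
        show (L m ⊓ (L m).map _).relIndex (L m) ≤ 3
        rw [Subgroup.inf_relIndex_left]
        exact ih
    have hi1 : i ≤ 1 := by
      by_contra h
      have := Nat.pow_le_pow_right (show 0 < 2 by norm_num) (show 2 ≤ i by omega)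
      omega
    interval_cases i
    · refine Or.inl ((Subgroup.eq_of_le_of_card_ge ?_ (hmapcard _).le).symm)
      exact (Subgroup.relIndex_eq_one.mp (hi.trans (pow_zero 2))).trans inf_le_right
    · exact Or.inr (by simpa using hi)
  have hLsucc : ∀ m, (L (m + 1)).map (MulAut.conj t⁻¹).toMonoidHom ≤ L m := by
    intro m x hx
    obtain ⟨y, hy, rfl⟩ := hx
    have := mem_conjMap.mp (show y ∈ (L m).map (MulAut.conj t).toMonoidHom from hy.2)
    simpa using this
  have hjoin : ∀ m, (L (m + 1)).map (MulAut.conj t).toMonoidHom ≠ L (m + 1) →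
      (L m).map (MulAut.conj t).toMonoidHom ≠ L m →
      L (m + 1) ⊔ (L (m + 1)).map (MulAut.conj t⁻¹).toMonoidHom = L m := by
    intro m h1 h0
    refine eq_of_lt_of_two (interChain_succ_le t A m) ((hidx2 m).resolve_left h0)
      (lt_of_le_of_ne le_sup_left fun he => h1 ?_) (sup_le (interChain_succ_le t A m) (hLsucc m))
    refine (Subgroup.eq_of_le_of_card_ge (fun x hx => ?_) (hmapcard _).le).symm
    rw [mem_conjMap]
    have : t⁻¹ * x * t ∈ (L (m + 1)).map (MulAut.conj t⁻¹).toMonoidHom :=
      mem_conjMap.mpr (by simpa [mul_assoc] using hx)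
    refine he.ge ?_
    exact Subgroup.mem_sup_right this
  have htH : t ∉ H := by
    intro h
    refine c.ne (ht ▸ ?_)
    ext z
    rw [mem_conjMap, Subgroup.mul_mem_cancel_right _ h, Subgroup.mul_mem_cancel_left _ (inv_mem h)]
  -- the first invariant member
  have hex : ∃ m, (L m).map (MulAut.conj t).toMonoidHom = L m := by
    by_contra hno
    simp only [not_exists] at hno
    have : ∀ m, Nat.card (L m) * 2 ^ m = 2 ^ k := by
      intro m
      induction m with
      | zero => simpa [hL0] using hAc
      | succ m ih =>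
        have h := Subgroup.relIndex_mul_relIndex ⊥ (L (m + 1)) (L m) bot_le (interChain_succ_le t A m)
        rw [Subgroup.relIndex_bot_left, Subgroup.relIndex_bot_left,
          (hidx2 m).resolve_left (hno m)] at h
        rw [← ih, ← h, pow_succ']; ring
    have h := this (k + 1)
    have h1 : 1 ≤ Nat.card (L (k + 1)) := Nat.card_pos
    have h2 := Nat.mul_le_mul_right (2 ^ (k + 1)) h1
    rw [h, one_mul, pow_succ] at h2
    have := Nat.two_pow_pos k
    omega
  set n := Nat.find hex with hndef
  have hninv := Nat.find_spec hex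
  have hlt : ∀ m < n, (L m).map (MulAut.conj t).toMonoidHom ≠ L m := fun m hm => Nat.find_min hex hm
  have hcardL : ∀ m, m ≤ n → Nat.card (L m) * 2 ^ m = 2 ^ k := by
    intro m hm
    induction m with
    | zero => simpa [hL0] using hAc
    | succ m ih =>
      have h := Subgroup.relIndex_mul_relIndex ⊥ (L (m + 1)) (L m) bot_le (interChain_succ_le t A m)
      rw [Subgroup.relIndex_bot_left, Subgroup.relIndex_bot_left,
        (hidx2 m).resolve_left (hlt m (by omega))] at h
      rw [← ih (by omega), ← h, pow_succ']; ring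
  obtain ⟨n', hn'⟩ : ∃ n', n = n' + 1 := by
    refine ⟨n - 1, ?_⟩
    have : n ≠ 0 := fun h => hB (by have := hninv; rw [← hndef, h] at this; exact this)
    omega
  have hAB : A ⊔ A.map (MulAut.conj t⁻¹).toMonoidHom = H := by
    have hle : A.map (MulAut.conj t⁻¹).toMonoidHom ≤ H := by
      rintro _ ⟨y, hy, rfl⟩
      have := mem_conjMap.mp (ht.symm ▸ hy.2 : y ∈ H.map (MulAut.conj t).toMonoidHom)
      simpa using this
    have h := Subgroup.relIndex_mul_relIndex A (A ⊔ A.map (MulAut.conj t⁻¹).toMonoidHom) H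
      le_sup_left (sup_le inf_le_left hle)
    rw [hidx] at h
    rcases (Nat.dvd_prime Nat.prime_three).mp ⟨_, h.symm⟩ with h1 | h1
    · exfalso
      refine hB (Subgroup.eq_of_le_of_card_ge (fun x hx => ?_) (hmapcard A).le).symm
      rw [mem_conjMap]
      exact Subgroup.relIndex_eq_one.mp h1 (Subgroup.mem_sup_right ⟨x, hx, by simp⟩)
    · rw [h1] at h
      exact le_antisymm (sup_le inf_le_left hle) (Subgroup.relIndex_eq_one.mp (by omega))
  -- the invariant member is trivial
  have hbot : L n = ⊥ := by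
    set N := normalizer (L n : Set G) with hN
    have htN : t ∈ N := Components.mem_normalizer_iff_map_conj.mpr hninv
    have hstep : ∀ i, i ≤ n' → L (n' - i) ≤ N := by
      intro i hi
      induction i with
      | zero =>
        have h2 := (hidx2 n').resolve_left (hlt n' (by omega))
        rw [Nat.sub_zero, hN, hn']
        refine (Subgroup.normal_subgroupOf_iff_le_normalizer (interChain_succ_le t A n')).mp
          (Subgroup.normal_of_index_eq_two h2)
      | succ i ih =>
        have h1 := ih (by omega)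
        rw [show n' - i = n' - (i + 1) + 1 by omega] at h1
        rw [← hjoin (n' - (i + 1)) (hlt _ (by omega)) (hlt _ (by omega))]
        refine sup_le h1 ?_
        rintro _ ⟨y, hy, rfl⟩
        exact mul_mem (mul_mem (inv_mem htN) (h1 hy)) (by rw [inv_inv]; exact htN)
    have hAN : A ≤ N := by simpa [hL0] using hstep n' le_rfl
    have hHN : H ≤ N := hAB ▸ sup_le hAN (by
      rintro _ ⟨y, hy, rfl⟩
      exact mul_mem (mul_mem (inv_mem htN) (hAN hy)) (by rw [inv_inv]; exact htN))
    by_contra hne
    exact htH (c.normalizer_le hne ((hLA n).trans inf_le_left) hHN htN)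
  have hnk : n = k := by
    have h := hcardL n le_rfl
    rw [hbot, Subgroup.card_bot, one_mul] at h
    exact Nat.pow_right_injective le_rfl h
  have hlast : Nat.card (L n') = 2 := by
    have h := hcardL n' (by omega)
    rw [← hnk, hn', pow_succ'] at h
    exact Nat.eq_of_mul_eq_mul_right (Nat.two_pow_pos n') h
  obtain ⟨w, hw, hw1⟩ : ∃ w ∈ L n', w ≠ 1 := by
    by_contra hno
    push_neg at hno
    rw [(Subgroup.eq_bot_iff_forall _).mpr hno, Subgroup.card_bot] at hlast
    omega
  have hwgen : Subgroup.closure ({w} : Set G) = L n' := by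
    refine Subgroup.eq_of_le_of_card_ge ((closure_le _).mpr (by simpa using hw)) ?_
    rw [hlast]
    exact Finite.one_lt_card_iff_nontrivial.mpr
      ((Subgroup.nontrivial_iff_ne_bot _).mpr (by simpa using hw1))
  have hww : w * w = 1 := by
    have h := orderOf_dvd_natCard (⟨w, hw⟩ : ↥(L n'))
    rw [hlast, Subgroup.orderOf_mk] at h
    rw [← pow_two]; exact orderOf_dvd_iff_pow_eq_one.mp h
  let e : ℤ → G := fun i => t ^ (i - k) * w * (t ^ (i - k))⁻¹
  have hshift : ∀ (m i : ℤ), t ^ m * e i * (t ^ m)⁻¹ = e (i + m) := fun m i => by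
    simp only [e]
    rw [show i + m - k = m + (i - k) by ring, zpow_add, mul_inv_rev]
    group
  have hEshift : ∀ m a b : ℤ, (E e a b).map (MulAut.conj (t ^ m)).toMonoidHom = E e (a + m) (b + m) := by
    intro m a b
    rw [E, MonoidHom.map_closure, E, ← Set.image_comp]
    congr 1
    ext x
    constructor
    · rintro ⟨i, ⟨h1, h2⟩, rfl⟩; exact ⟨i + m, ⟨by omega, by omega⟩, (hshift m i).symm⟩
    · rintro ⟨i, ⟨h1, h2⟩, rfl⟩
      exact ⟨i - m, ⟨by omega, by omega⟩, (hshift m (i - m)).trans (by rw [sub_add_cancel])⟩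
  -- the members of the chain are the intervals ending at `k`
  have hLE : ∀ j, j ≤ n' → L (n' - j) = E e ((k : ℤ) - j) k := by
    intro j hj
    induction j with
    | zero =>
      rw [Nat.sub_zero, ← hwgen, E]
      simp [e]
    | succ j ih =>
      have h1 := ih (by omega)
      rw [show n' - j = n' - (j + 1) + 1 by omega] at h1
      have h2 := hjoin (n' - (j + 1)) (hlt _ (by omega)) (hlt _ (by omega))
      rw [← h2, h1, show t⁻¹ = t ^ (-1 : ℤ) by simp, hEshift]
      refine le_antisymm (sup_le (E_mono (by push_cast; omega) le_rfl) (E_mono (by push_cast; omega) (by omega))) ?_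
      rw [E, closure_le]
      rintro _ ⟨i, ⟨h3, h4⟩, rfl⟩
      by_cases hik : i = k
      · exact Subgroup.mem_sup_left (mem_E (by omega) (by omega))
      · exact Subgroup.mem_sup_right (mem_E (by push_cast at h3; omega) (by omega))
  have hA1 : A = E e 1 k := by
    have := hLE n' le_rfl
    rw [Nat.sub_self] at this
    rw [show (1 : ℤ) = (k : ℤ) - n' by omega]
    exact this
  have hHE : H = E e 0 k := by
    rw [← hAB, hA1, show t⁻¹ = t ^ (-1 : ℤ) by simp, hEshift]
    refine le_antisymm (sup_le (E_mono (by omega) le_rfl) (E_mono (by omega) (by omega))) ?_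
    rw [E, closure_le]
    rintro _ ⟨i, ⟨h3, h4⟩, rfl⟩
    by_cases hik : i = k
    · exact Subgroup.mem_sup_left (mem_E (by omega) (by omega))
    · exact Subgroup.mem_sup_right (mem_E (by omega) (by omega))
  refine ⟨e, ⟨Chain.of_card t (fun i => by simpa using hshift 1 i) (fun i => ?_) ?_, by omega, hHE,
    hcard, fun z hz hne hcen g hg => ?_, fun hmem => ?_, hA1 ▸ hn⟩⟩
  · simp only [e]
    rw [show t ^ (i - k) * w * (t ^ (i - k))⁻¹ * (t ^ (i - k) * w * (t ^ (i - k))⁻¹) =
      t ^ (i - k) * (w * w) * (t ^ (i - k))⁻¹ by group, hww, mul_one, mul_inv_cancel]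
  · intro a m hm
    rcases Nat.eq_zero_or_pos m with rfl | hm0
    · rw [E_empty (by simp), Subgroup.card_bot, pow_zero]
    have h := hcardL (k - m) (by omega)
    rw [show L (k - m) = E e ((k : ℤ) - (m - 1 : ℕ)) k by
      rw [← hLE (m - 1) (by omega)]; congr 1; omega] at h
    have h2 := hEshift (a - ((k : ℤ) - (m - 1 : ℕ))) ((k : ℤ) - (m - 1 : ℕ)) k
    rw [add_sub_cancel, show (k : ℤ) + (a - ((k : ℤ) - (m - 1 : ℕ))) = a + m - 1 by omega] at h2
    rw [← h2, Subgroup.card_map_of_injective (MulAut.conj _).injective]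
    refine Nat.eq_of_mul_eq_mul_right (Nat.two_pow_pos (k - m)) (h.trans ?_)
    rw [← pow_add]; congr 1; omega
  · have hle : closure ({z} : Set G) ≤ H := (closure_le _).mpr (by simpa using hz)
    refine c.normalizer_le (Z := closure ({z} : Set G)) (by simpa using hne) hle ?_ ?_
    · intro x hx
      refine Subgroup.centralizer_le_normalizer _ ?_
      rw [Subgroup.centralizer_closure, mem_centralizer_singleton_iff]
      exact (hcen x hx).eq.symm
    · refine Subgroup.centralizer_le_normalizer _ ?_
      rw [Subgroup.centralizer_closure, mem_centralizer_singleton_iff]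
      exact hg.eq
  · refine c.maxH.1 (c.maxK.2 H (lt_of_le_of_ne ?_ c.ne.symm))
    rw [← ht, hHE, show t = t ^ (1 : ℤ) by simp, hEshift, E, closure_le]
    rintro _ ⟨i, ⟨h3, h4⟩, rfl⟩
    by_cases hik : i = k + 1
    · rw [hik]; exact hHE ▸ hmem
    · exact mem_E (by omega) (by omega)

end Cfsg.Agent.Lib.PLocal.SimsChain
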