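import Cfsg.Agent.Lib.PLocal.Thompson
import Cfsg.Agent.Lib.PGroups.Subnormal

/-!
`p`-subgroups of `G/C_G(V)` for subgroups generated by fixed points of Sylow subgroups.
-/

set_option autoImplicit false

namespace Cfsg.Agent.Lib.PLocal

variable {G : Type*} [Group G] [Finite G] {p : ℕ} [hp : Fact p.Prime]

lemma normal_le_sup_inf_sylow (D C : Subgroup G) [D.Normal] (hCD : C ≤ D) {k : ℕ}
    (hk : C.relIndex D = p ^ k) (S : Sylow p G) : D ≤ C ⊔ ((S : Subgroup G) ⊓ D) := by
  rw [← Subgroup.relIndex_eq_one]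
  refine Nat.eq_one_of_dvd_coprimes (a := p ^ k) (b := ((S : Subgroup G) ⊓ D).relIndex D) ?_
    (hk ▸ Subgroup.relIndex_dvd_of_le_left D le_sup_left) (Subgroup.relIndex_dvd_of_le_left D le_sup_right)
  refine Nat.Coprime.pow_left k (hp.out.coprime_iff_not_dvd.mpr fun h => ?_)
  rw [Subgroup.inf_relIndex_right] at h
  exact S.not_dvd_index (h.trans (PGroups.relIndex_dvd_index_of_normal_right D (S : Subgroup G)))

/-- If `V` is generated by the subgroups `V ∩ C(S)` (`S` Sylow) then no normal subgroup properly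
contains `C_G(V)` with `p`-power index. -/
lemma eq_centralizer_of_gen_fixed {V : Subgroup G}
    (hgen : V ≤ ⨆ S : Sylow p G, V ⊓ Subgroup.centralizer ((S : Subgroup G) : Set G))
    {D : Subgroup G} [D.Normal] (hCD : Subgroup.centralizer (V : Set G) ≤ D) {k : ℕ}
    (hk : (Subgroup.centralizer (V : Set G)).relIndex D = p ^ k) :
    D = Subgroup.centralizer (V : Set G) := by
  refine le_antisymm ?_ hCD
  rw [← Subgroup.le_centralizer_iff]
  refine hgen.trans (iSup_le fun S => ?_)
  rw [Subgroup.le_centralizer_iff]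
  refine (normal_le_sup_inf_sylow D _ hCD hk S).trans (sup_le (Subgroup.centralizer_le inf_le_left) ?_)
  rw [Subgroup.le_centralizer_iff]
  exact inf_le_right.trans (Subgroup.centralizer_le (show ((S : Subgroup G) ⊓ D : Subgroup G) ≤ (S : Subgroup G) from inf_le_left))

lemma pCore_quotient_eq_bot_of_gen_fixed (V : Subgroup G) [V.Normal]
    (hgen : V ≤ ⨆ S : Sylow p G, V ⊓ Subgroup.centralizer ((S : Subgroup G) : Set G)) :
    Cfsg.pCore p (G ⧸ Subgroup.centralizer (V : Set G)) = ⊥ := by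
  set C := Subgroup.centralizer (V : Set G) with hC
  set D := (Cfsg.pCore p (G ⧸ C)).comap (QuotientGroup.mk' C) with hD
  have hCD : C ≤ D := fun c hc => by
    rw [hD, Subgroup.mem_comap, show QuotientGroup.mk' C c = 1 from (QuotientGroup.eq_one_iff c).mpr hc]
    exact one_mem _
  obtain ⟨k, hk⟩ : ∃ k, C.relIndex D = p ^ k := by
    obtain ⟨k, hk⟩ := IsPGroup.iff_card.mp (Cores.pCore_isPGroup p (G ⧸ C))
    refine ⟨k, ?_⟩
    rw [← hk, ← Subgroup.relIndex_bot_left]
    conv_lhs => rw [← QuotientGroup.ker_mk' C, ← MonoidHom.comap_bot, hD]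
    rw [Subgroup.relIndex_comap,
      Subgroup.map_comap_eq_self_of_surjective (QuotientGroup.mk'_surjective C)]
  haveI : D.Normal := (Cfsg.pCore_normal p (G ⧸ C)).comap _
  have hDC := eq_centralizer_of_gen_fixed hgen hCD hk
  rw [← Subgroup.map_comap_eq_self_of_surjective (QuotientGroup.mk'_surjective C)
    (Cfsg.pCore p (G ⧸ C)), ← hD, Subgroup.map_eq_bot_iff, QuotientGroup.ker_mk']
  exact hDC.le

end Cfsg.Agent.Lib.PLocal
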