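import Cfsg.Agent.Lib.PLocal.Quadratic
import Cfsg.Agent.Lib.PLocal.SylowGen

/-!
The stable normal closure `W(S)` of `Ω₁(Z(S))`.
-/

set_option autoImplicit false

namespace Cfsg.Agent.Lib.PLocal

universe u

variable {S : Type u} [Group S] {p : ℕ}

/-- The family defining the stable normal closure. -/
def StableFam (p : ℕ) (S : Type u) [Group S] : Set (Subgroup S) :=
  {W : Subgroup S | Cfsg.omegaOne p (Subgroup.center S) ≤ W ∧
    ∀ (H : Type u) [Group H] (τ : S →* H), Cfsg.IsStableEmbedding p τ → (W.map τ).Normal}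

lemma omegaOne_center_le_stable : Cfsg.omegaOne p (Subgroup.center S) ≤ Cfsg.stableNormalClosure p S :=
  le_sInf fun _ hW => hW.1

lemma omegaOne_center_le_omegaCenterThompson [Finite S] :
    Cfsg.omegaOne p (Subgroup.center S) ≤ Cfsg.omegaCenterThompson p S := by
  rw [omegaCenterThompson_eq]
  exact Subgroup.closure_mono fun x hx => ⟨Subgroup.center_le_centralizer _ hx.1, hx.2⟩

lemma omegaCenterThompson_mem_fam [Finite S] :
    Cfsg.omegaCenterThompson p S ∈ StableFam p S := by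
  refine ⟨omegaOne_center_le_omegaCenterThompson, fun H _ τ hτ => ?_⟩
  obtain ⟨hinj, _, -, -, hJ, -⟩ := hτ
  haveI := hJ
  rw [Cfsg.omegaCenterThompson, map_omegaOne τ hinj]
  refine ⟨fun x hx g => ?_⟩
  set Z := (Cfsg.thompsonSubgroup p S ⊓ Subgroup.centralizer (Cfsg.thompsonSubgroup p S : Set S)).map τ
    with hZ
  have hZeq : Z = (Cfsg.thompsonSubgroup p S).map τ ⊓
      Subgroup.centralizer (((Cfsg.thompsonSubgroup p S).map τ : Subgroup H) : Set H) := by
    ext y
    constructor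
    · rintro ⟨z, ⟨hz1, hz2⟩, rfl⟩
      refine ⟨⟨z, hz1, rfl⟩, ?_⟩
      rintro _ ⟨w, hw, rfl⟩
      rw [← map_mul, hz2 w hw, map_mul]
    · rintro ⟨⟨z, hz1, rfl⟩, hz2⟩
      refine ⟨z, ⟨hz1, fun w hw => hinj ?_⟩, rfl⟩
      rw [map_mul, map_mul]
      exact hz2 _ ⟨w, hw, rfl⟩
  have hmap : (Cfsg.omegaOne p Z).map (MulAut.conj g).toMonoidHom ≤ Cfsg.omegaOne p Z := by
    rw [map_omegaOne _ (MulAut.conj g).injective]
    refine Subgroup.closure_mono fun y hy => ⟨?_, hy.2⟩
    obtain ⟨z, hz, rfl⟩ := hy.1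
    haveI : Z.Normal := by rw [hZeq]; infer_instance
    exact ‹Z.Normal›.conj_mem z hz g
  exact hmap ⟨x, hx, rfl⟩

lemma stable_le_omegaCenterThompson [Finite S] :
    Cfsg.stableNormalClosure p S ≤ Cfsg.omegaCenterThompson p S :=
  sInf_le omegaCenterThompson_mem_fam

/-- The image of `W(S)` under a stable embedding is normal. -/
lemma stable_map_normal {H : Type u} [Group H] {τ : S →* H} (hτ : Cfsg.IsStableEmbedding p τ) :
    ((Cfsg.stableNormalClosure p S).map τ).Normal := by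
  refine ⟨fun x hx g => ?_⟩
  obtain ⟨s, hs, rfl⟩ := hx
  rw [Cfsg.stableNormalClosure, SetLike.mem_coe, Subgroup.mem_sInf] at hs
  have hfam : ∀ W ∈ StableFam p S, g * τ s * g⁻¹ ∈ W.map τ := fun W hW =>
    (hW.2 H τ hτ).conj_mem _ ⟨s, hs W hW, rfl⟩ g
  by_cases hne : (StableFam p S).Nonempty
  · obtain ⟨W0, hW0⟩ := hne
    obtain ⟨t, -, ht⟩ := hfam W0 hW0
    refine ⟨t, ?_, ht⟩
    rw [Cfsg.stableNormalClosure, SetLike.mem_coe, Subgroup.mem_sInf]
    intro W hW
    obtain ⟨t', ht', hte⟩ := hfam W hW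
    rwa [← hτ.1 (hte.trans ht.symm)]
  · obtain ⟨P, hP⟩ := hτ.2.2.1
    exfalso
    apply hne
    refine ⟨⊤, le_top, fun H' _ τ' hτ' => ?_⟩
    haveI : Finite H' := hτ'.2.1
    haveI : Finite S := Finite.of_injective τ' hτ'.1
    exact absurd ⟨_, omegaCenterThompson_mem_fam⟩ hne

lemma fam_map_equiv {S' : Type u} [Group S'] (η : S ≃* S') [Finite S]
    {W : Subgroup S} (hW : W ∈ StableFam p S) : W.map η.toMonoidHom ∈ StableFam p S' := by
  haveI : Finite S' := Finite.of_equiv S η.toEquiv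
  have hc : (Cfsg.omegaOne p (Subgroup.center S)).map η.toMonoidHom =
      Cfsg.omegaOne p (Subgroup.center S') := by
    rw [map_omegaOne _ η.injective]
    congr 1
    ext y
    constructor
    · rintro ⟨z, hz, rfl⟩
      rw [Subgroup.mem_center_iff]
      intro w
      obtain ⟨v, rfl⟩ := η.surjective w
      show η v * η z = η z * η v
      rw [← map_mul, Subgroup.mem_center_iff.mp hz v, map_mul]
    · intro hy
      refine ⟨η.symm y, Subgroup.mem_center_iff.mpr fun w => η.injective ?_, η.apply_symm_apply y⟩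
      rw [map_mul, map_mul, η.apply_symm_apply]
      exact Subgroup.mem_center_iff.mp hy _
  refine ⟨hc ▸ Subgroup.map_mono hW.1, fun H _ τ hτ => ?_⟩
  rw [Subgroup.map_map]
  refine hW.2 H _ ⟨hτ.1.comp η.injective, hτ.2.1, ?_, hτ.2.2.2.1, ?_, ?_⟩
  · obtain ⟨P, hP⟩ := hτ.2.2.1
    refine ⟨P, hP.trans ?_⟩
    ext y
    constructor
    · rintro ⟨t, rfl⟩
      exact ⟨η.symm t, congrArg τ (η.apply_symm_apply t)⟩
    · rintro ⟨t, rfl⟩
      exact ⟨η t, rfl⟩
  · rw [← Subgroup.map_map, map_thompsonSubgroup_equiv]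
    exact hτ.2.2.2.2.1
  · intro V _ hV
    refine hτ.2.2.2.2.2 V (hV.trans ?_)
    rw [← Subgroup.map_map]
    refine Subgroup.map_mono ?_
    rw [Cfsg.omegaCenterThompson, Cfsg.omegaCenterThompson, map_omegaOne _ η.injective,
      ← map_thompsonSubgroup_equiv η]
    refine Subgroup.closure_mono fun y hy => ⟨?_, hy.2⟩
    obtain ⟨z, ⟨hz1, hz2⟩, rfl⟩ := hy.1
    refine ⟨⟨z, hz1, rfl⟩, ?_⟩
    rintro _ ⟨w, hw, rfl⟩
    rw [← map_mul, hz2 w hw, map_mul]

lemma map_stable_le {S' : Type u} [Group S'] (η : S ≃* S') [Finite S] :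
    (Cfsg.stableNormalClosure p S).map η.toMonoidHom ≤ Cfsg.stableNormalClosure p S' := by
  haveI : Finite S' := Finite.of_equiv S η.toEquiv
  refine le_sInf fun W' hW' => ?_
  have h1 : Cfsg.stableNormalClosure p S ≤ W'.map η.symm.toMonoidHom :=
    sInf_le (fam_map_equiv η.symm hW')
  rintro _ ⟨s, hs, rfl⟩
  obtain ⟨t, ht, hte⟩ := h1 hs
  rw [← hte]
  show η (η.symm t) ∈ W'
  rw [η.apply_symm_apply]; exact ht

lemma map_stable_eq {S' : Type u} [Group S'] (η : S ≃* S') [Finite S] :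
    (Cfsg.stableNormalClosure p S).map η.toMonoidHom = Cfsg.stableNormalClosure p S' := by
  haveI : Finite S' := Finite.of_equiv S η.toEquiv
  refine le_antisymm (map_stable_le η) fun x hx => ⟨η.symm x, map_stable_le η.symm ⟨x, hx, rfl⟩,
    η.apply_symm_apply x⟩

lemma stable_ne_bot [Finite S] [hp : Fact p.Prime] (hS : IsPGroup p S) [Nontrivial S] :
    Cfsg.stableNormalClosure p S ≠ ⊥ := by
  haveI : Nontrivial (Subgroup.center S) := hS.center_nontrivial
  obtain ⟨n, hn0, hn⟩ := ((hS.to_subgroup (Subgroup.center S)).nontrivial_iff_card).mp inferInstance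
  obtain ⟨x, hx⟩ := exists_prime_orderOf_dvd_card' (G := Subgroup.center S) p (hn ▸ dvd_pow_self p hn0.ne')
  intro h
  have h1 : (x : S) ∈ Cfsg.stableNormalClosure p S :=
    omegaOne_center_le_stable (mem_omegaOne x.2 (by rw [← hx, ← Subgroup.orderOf_coe, pow_orderOf_eq_one]))
  rw [h, Subgroup.mem_bot] at h1
  rw [← Subgroup.orderOf_coe, h1, orderOf_one] at hx
  exact hp.out.ne_one hx.symm

/-- Subgroups of `W(S)` on which quadratic action is trivial action. -/
def QuadTriv (p : ℕ) (W : Subgroup S) : Prop :=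
  W ≤ Cfsg.stableNormalClosure p S ∧
    ∀ y : S, QuadOn W y → y ∈ Subgroup.centralizer (W : Set S)

lemma quadTriv_stable [Finite S] [hp : Fact p.Prime] :
    QuadTriv p (Cfsg.stableNormalClosure p S) := by
  have hZ : QuadTriv p (Cfsg.omegaOne p (Subgroup.center S)) :=
    ⟨omegaOne_center_le_stable, fun y _ z hz =>
      (Subgroup.mem_center_iff.mp (omegaOne_le p _ hz) y).symm⟩
  have hsup : ∀ A B : Subgroup S, QuadTriv p A → QuadTriv p B → QuadTriv p (A ⊔ B) := by
    refine fun A B hA hB => ⟨sup_le hA.1 hB.1, fun y hy => ?_⟩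
    have h1 : y ∈ Subgroup.centralizer (A : Set S) := hA.2 y (quadOn_of_le hy le_sup_left)
    have h2 : y ∈ Subgroup.centralizer (B : Set S) := hB.2 y (quadOn_of_le hy le_sup_right)
    have h3 : A ⊔ B ≤ Subgroup.centralizer {y} := sup_le
      (fun a ha => Subgroup.mem_centralizer_singleton_iff.mpr (h1 a ha))
      (fun b hb => Subgroup.mem_centralizer_singleton_iff.mpr (h2 b hb))
    exact fun w hw => Subgroup.mem_centralizer_singleton_iff.mp (h3 hw)
  obtain ⟨M, hM⟩ := (Set.toFinite {A : Subgroup S | QuadTriv p A}).exists_maximal ⟨_, hZ⟩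
  have htop : ∀ A, QuadTriv p A → A ≤ M := fun A hA =>
    le_sup_right.trans (hM.2 (hsup _ _ hM.1 hA) le_sup_left)
  suffices hfam : M ∈ StableFam p S by
    exact le_antisymm hM.1.1 (sInf_le hfam) ▸ hM.1
  refine ⟨htop _ hZ, fun H _ τ hτ => ?_⟩
  haveI : Finite H := hτ.2.1
  obtain ⟨P, hP⟩ := hτ.2.2.1
  set V := Subgroup.normalClosure ((M.map τ : Subgroup H) : Set H) with hV
  haveI hVn : V.Normal := Subgroup.normalClosure_normal
  haveI := stable_map_normal hτ
  have hVW : V ≤ (Cfsg.stableNormalClosure p S).map τ :=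
    Subgroup.normalClosure_le_normal (Subgroup.map_mono hM.1.1)
  have hMV : M.map τ ≤ V := Subgroup.le_normalClosure
  have hV' : QuadTriv p (V.comap τ) := by
    refine ⟨fun s hs => ?_, fun y hy => ?_⟩
    · obtain ⟨t, ht, hte⟩ := hVW hs
      rwa [← hτ.1 hte]
    · have hqV : QuadOn V (τ y) := by
        intro v hv
        obtain ⟨w, hw, rfl⟩ := hVW hv
        rw [← map_commutatorElement, ← map_mul, ← map_mul, hy w hv]
      have hst : Cfsg.IsPStableOn p V :=
        hτ.2.2.2.2.2 V (hVW.trans (Subgroup.map_mono stable_le_omegaCenterThompson))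
      set C := Subgroup.centralizer (V : Set H) with hC
      set D := (Cfsg.pCore p (H ⧸ C)).comap (QuotientGroup.mk' C) with hD
      haveI : D.Normal := (Cfsg.pCore_normal p (H ⧸ C)).comap _
      have hxD : τ y ∈ D := hst (τ y) (commutator_zpowers_eq_bot_iff.mpr hqV)
      have hCD : C ≤ D := fun c hc => by
        rw [hD, Subgroup.mem_comap, show QuotientGroup.mk' C c = 1 from (QuotientGroup.eq_one_iff c).mpr hc]
        exact one_mem _
      obtain ⟨k, hk⟩ : ∃ k, C.relIndex D = p ^ k := by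
        obtain ⟨k, hk⟩ := IsPGroup.iff_card.mp (Cores.pCore_isPGroup p (H ⧸ C))
        refine ⟨k, ?_⟩
        rw [← hk, ← Subgroup.relIndex_bot_left]
        conv_lhs => rw [← QuotientGroup.ker_mk' C, ← MonoidHom.comap_bot, hD]
        rw [Subgroup.relIndex_comap,
          Subgroup.map_comap_eq_self_of_surjective (QuotientGroup.mk'_surjective C)]
      have hgen : ∀ h : H, h * τ y * h⁻¹ ∈ Subgroup.centralizer ((M.map τ : Subgroup H) : Set H) := by
        intro h
        have hd : h * τ y * h⁻¹ ∈ C ⊔ ((P : Subgroup H) ⊓ D) :=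
          normal_le_sup_inf_sylow D C hCD hk P (‹D.Normal›.conj_mem _ hxD h)
        obtain ⟨c, hc, s, ⟨hsP, -⟩, hcs⟩ := Subgroup.mem_sup_of_normal_left.mp hd
        rw [hP] at hsP
        obtain ⟨s', rfl⟩ := hsP
        have hq1 : QuadOn V (h * τ y * h⁻¹) := quadOn_conj hqV h
        have hq2 : QuadOn V (τ s') := by
          have hn : h * τ y * h⁻¹ ∈ Subgroup.normalizer (V : Set H) := by
            rw [Subgroup.normalizer_eq_top]; trivial
          have := quadOn_mul_centralizer hn hq1 (inv_mem hc)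
          rwa [← hcs, inv_mul_cancel_left] at this
        have hq3 : QuadOn M s' := by
          intro w hw
          apply hτ.1
          rw [map_mul, map_mul, map_commutatorElement]
          exact hq2 _ (hMV ⟨w, hw, rfl⟩)
        rintro _ ⟨w, hw, rfl⟩
        rw [← hcs, ← mul_assoc, hc _ (hMV ⟨w, hw, rfl⟩), mul_assoc, ← map_mul, hM.1.2 s' hq3 w hw,
          map_mul, mul_assoc]
      have hVC : V ≤ Subgroup.centralizer {τ y} := by
        rw [hV, Subgroup.normalClosure, Subgroup.closure_le]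
        intro v hv
        obtain ⟨a, ha, hav⟩ := Group.mem_conjugatesOfSet_iff.mp hv
        obtain ⟨h, rfl⟩ := isConj_iff.mp hav
        rw [SetLike.mem_coe, Subgroup.mem_centralizer_singleton_iff]
        have h1 := hgen h⁻¹ a ha
        calc h * a * h⁻¹ * τ y = h * (a * (h⁻¹ * τ y * h⁻¹⁻¹)) * h⁻¹ := by group
          _ = h * (h⁻¹ * τ y * h⁻¹⁻¹ * a) * h⁻¹ := by rw [h1]
          _ = τ y * (h * a * h⁻¹) := by group
      intro w hw
      exact hτ.1 (by rw [map_mul, map_mul]; exact Subgroup.mem_centralizer_singleton_iff.mp (hVC hw))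
  have hle := htop _ hV'
  have : M.map τ = V := by
    refine le_antisymm hMV fun v hv => ?_
    obtain ⟨w, hw, rfl⟩ := hVW hv
    exact ⟨w, hle hv, rfl⟩
  rw [this]; exact hVn

end Cfsg.Agent.Lib.PLocal
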