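import Cfsg.Agent.Lib.PLocal.GroupFusionStable
import Cfsg.Agent.Lib.Fusion.NormalCriteria
import Cfsg.Agent.Lib.Fusion.Normal
import Cfsg.Agent.Lib.Fusion.ThompsonLocal
import Cfsg.Agent.Lib.LocalEven2.ClosedFunctor

/-!
The fusion system of a stable group, `p` odd, is constrained.
-/

set_option autoImplicit false
set_option linter.unusedSectionVars false

universe u

namespace Cfsg.Agent.Lib.PLocal

open Cfsg Cfsg.FusionSystem Cfsg.Agent.Lib.Fusion
open scoped commutatorElement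

variable {G : Type u} [Group G] [Finite G] {p : ℕ} [Fact p.Prime]

theorem map_centerThompsonAOf_le {G H : Type*} [Group G] [Group H] (f : G →* H)
    (hf : Function.Injective f) (P : Subgroup G) :
    (Cfsg.centerThompsonAOf P).map f ≤ Cfsg.centerThompsonAOf (P.map f) := by
  rintro _ ⟨x, ⟨hx, hxc⟩, rfl⟩
  refine ⟨(map_thompsonSubgroupAOf f hf P).le ⟨x, hx, rfl⟩, fun y hy => ?_⟩
  obtain ⟨z, hz, rfl⟩ := (map_thompsonSubgroupAOf f hf P).ge hy
  rw [← map_mul, ← map_mul, hxc z hz]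

set_option maxHeartbeats 1000000 in
/-- The fusion system of a stable group is constrained, `p` odd. -/
theorem isConstrained_of_stable (hp : p ≠ 2) (hst : Cfsg.IsNormalizerPStable p G) (S : Sylow p G) :
    (groupFusionSystem (S : Subgroup G)).IsConstrained p := by
  classical
  set F := groupFusionSystem (S : Subgroup G)
  have hF : F.IsSaturated p := group_isSaturated S
  refine ⟨hF, F.core, isNormal_core F, ?_⟩
  set Q := F.core
  have hQn : F.IsNormal Q := isNormal_core F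
  have hQS := hQn.1
  have hQwc := StronglyClosed.weaklyClosed (IsNormal.stronglyClosed hQn)
  suffices hT : centralizerIn (S : Subgroup G) Q ≤ Q by
    refine ⟨hQS, ?_⟩
    rintro R ⟨φ, hφ, rfl⟩
    rw [hQwc.2 φ hφ]
    exact hT
  by_contra hT
  set C := Subgroup.centralizer (Q : Set G) with hC
  set T := centralizerIn (S : Subgroup G) Q with hTdef
  have hTC : T ≤ C := inf_le_right
  have hTS : T ≤ (S : Subgroup G) := inf_le_left
  have hSN : (S : Subgroup G) ≤ Subgroup.normalizer (Q : Set G) := WeaklyClosed.le_normalizer hQwc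
  -- a Sylow subgroup of the centralizer
  set M := Subgroup.normalizer (Q : Set G) with hM
  have hCM : C ≤ M := Subgroup.centralizer_le_normalizer _
  have hCn : (C.subgroupOf M).Normal := by
    rw [show C.subgroupOf M = Q.normalizerMonoidHom.ker from
      (Subgroup.normalizerMonoidHom_ker Q).symm]
    infer_instance
  obtain ⟨RM, hRM⟩ : ∃ R : Sylow p ↥(C.subgroupOf M),
      (R : Subgroup ↥(C.subgroupOf M)) = (((S.subtype hSN : Sylow p M) : Subgroup M)).subgroupOf (C.subgroupOf M) :=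
    exists_sylow_subgroupOf_normal _ _
  set e := Subgroup.subgroupOfEquivOfLe hCM
  set RC : Sylow p C := Sylow.mapSurjective (f := e.toMonoidHom) e.surjective RM with hRC
  have hRCe : ∀ x : C, x ∈ (RC : Subgroup C) ↔ (x : G) ∈ T := by
    intro x
    constructor
    · rintro ⟨y, hy, rfl⟩
      change y ∈ (RM : Subgroup ↥(C.subgroupOf M)) at hy
      rw [hRM, Subgroup.mem_subgroupOf, Sylow.coe_subtype, Subgroup.mem_subgroupOf] at hy
      exact ⟨hy, (e y).2⟩
    · intro hx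
      refine ⟨⟨⟨x, hCM x.2⟩, x.2⟩, ?_, rfl⟩
      show _ ∈ (RM : Subgroup ↥(C.subgroupOf M))
      rw [hRM, Subgroup.mem_subgroupOf, Sylow.coe_subtype, Subgroup.mem_subgroupOf]
      exact hx.1
  -- the quotient by the centre of the core
  set Z : Subgroup C := Q.subgroupOf C with hZ
  have hZc : Z ≤ Subgroup.center C := fun z hz =>
    Subgroup.mem_center_iff.2 fun c => Subtype.ext (c.2 z hz).symm
  have : Z.Normal := ⟨fun z hz c => by
    rwa [Subgroup.mem_center_iff.1 (hZc hz) c, mul_inv_cancel_right]⟩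
  have hZp : IsPGroup p Z := (S.2.to_le hQS).comap_of_injective C.subtype C.subtype_injective
  have hst' : Cfsg.IsNormalizerPStable p (C ⧸ Z) :=
    isNormalizerPStable_quotient_central hp (LocalEven2.isNormalizerPStable_subgroup hst C) Z hZp
      fun x _ => Subgroup.mem_centralizer_iff.2 fun z hz => (Subgroup.mem_center_iff.1 (hZc hz) x).symm
  set π := QuotientGroup.mk' Z with hπ
  have hπs : Function.Surjective π := QuotientGroup.mk'_surjective Z
  set Tb : Sylow p (C ⧸ Z) := RC.mapSurjective hπs with hTb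
  have hTbe : (Tb : Subgroup (C ⧸ Z)) = (RC : Subgroup C).map π := Sylow.coe_mapSurjective _ _
  have hTbne : (Tb : Subgroup (C ⧸ Z)) ≠ ⊥ := by
    intro h
    refine hT fun x hx => ?_
    have h1 : π ⟨x, hTC hx⟩ ∈ (Tb : Subgroup (C ⧸ Z)) := by
      rw [hTbe]; exact ⟨_, (hRCe _).2 hx, rfl⟩
    rw [h, Subgroup.mem_bot, hπ, QuotientGroup.mk'_apply, QuotientGroup.eq_one_iff] at h1
    exact h1
  set W := Cfsg.centerThompsonAOf (Tb : Subgroup (C ⧸ Z)) with hW
  have hWT : W ≤ (Tb : Subgroup (C ⧸ Z)) := inf_le_left.trans (Subgroup.map_subtype_le _)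
  have hWne : W ≠ ⊥ := by
    rw [hW, ← inducedFunctor_zjA, Cfsg.inducedFunctor, Ne, Subgroup.map_eq_bot_iff_of_injective _
      (Subgroup.subtype_injective _)]
    exact (isCharPFunctor_zjA (p := p)).1 _ Tb.2 ((Subgroup.nontrivial_iff_ne_bot _).2 hTbne)
  have hWc : ∀ A : Set (C ⧸ Z), A ⊆ ((Tb : Subgroup (C ⧸ Z)) : Set (C ⧸ Z)) →
      Cfsg.ControlsStrongFusionOf (Subgroup.normalizer (W : Set (C ⧸ Z))) (Tb : Subgroup (C ⧸ Z)) A := by
    intro A hA
    have h := controls_of_family isCharPFunctor_zjA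
      (family_zjA_of_stable hp (Nat.card (C ⧸ Z)) _ rfl hst') Tb A hA
    rwa [inducedFunctor_zjA] at h
  set R : Subgroup G := ((RC : Subgroup C) ⊓ W.comap π).map C.subtype with hR
  have hmemR : ∀ x : C, x ∈ (RC : Subgroup C) → π x ∈ W → (x : G) ∈ R :=
    fun x h1 h2 => ⟨x, ⟨h1, h2⟩, rfl⟩
  have hRT : R ≤ T := by
    rintro _ ⟨x, hx, rfl⟩
    exact (hRCe x).1 hx.1
  have hRS : R ≤ (S : Subgroup G) := hRT.trans hTS
  -- strong closure
  have hclosed : F.StronglyClosed R := by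
    refine ⟨hRS, fun P hP φ hφ y => ?_⟩
    obtain ⟨ψ, hψ, hext, himg⟩ := hQn.2 P φ hφ
    obtain ⟨hPQ, hψS, g, hg⟩ := hψ
    have hgM : g ∈ M := mem_normalizer_of_finite fun q hq => by
      have h1 : ψ ⟨q, Subgroup.mem_sup_right hq⟩ ∈ Q :=
        himg.le ⟨_, hq, rfl⟩
      rwa [hg] at h1
    have htop : (C.subgroupOf M) ⊔ Subgroup.normalizer (((RM : Subgroup ↥(C.subgroupOf M)).map
        (C.subgroupOf M).subtype : Subgroup M) : Set M) = ⊤ := by
      rw [sup_comm]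
      exact Sylow.normalizer_sup_eq_top RM
    obtain ⟨c, hc, n, hn, hcn⟩ := Subgroup.mem_sup_of_normal_left.1
      (htop ▸ Subgroup.mem_top (⟨g, hgM⟩ : M))
    have hnT : ∀ x ∈ T, (n : G) * x * (n : G)⁻¹ ∈ T := by
      intro x hx
      have h1 : (⟨x, hCM (hTC hx)⟩ : M) ∈ (RM : Subgroup ↥(C.subgroupOf M)).map (C.subgroupOf M).subtype := by
        refine ⟨⟨⟨x, hCM (hTC hx)⟩, hTC hx⟩, ?_, rfl⟩
        show _ ∈ (RM : Subgroup ↥(C.subgroupOf M))
        rw [hRM, Subgroup.mem_subgroupOf, Sylow.coe_subtype, Subgroup.mem_subgroupOf]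
        exact hTS hx
      obtain ⟨w, hw, hwe⟩ := conj_mem_of_mem_normalizer hn h1
      change w ∈ (RM : Subgroup ↥(C.subgroupOf M)) at hw
      rw [hRM, Subgroup.mem_subgroupOf, Sylow.coe_subtype, Subgroup.mem_subgroupOf] at hw
      have he := congrArg Subtype.val hwe
      simp only [Subgroup.coe_subtype, Subgroup.coe_mul, Subgroup.coe_inv] at he
      rw [← he]
      exact ⟨hw, w.2⟩
    -- the automorphism of the quotient
    have hcj : ∀ x : G, x ∈ C → (n : G) * x * (n : G)⁻¹ ∈ C := fun x hx =>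
      hCn.conj_mem ⟨x, hCM hx⟩ hx n
    let σ₀ : C →* C := MonoidHom.mk' (fun x => ⟨(n : G) * x * (n : G)⁻¹, hcj x x.2⟩)
      fun a b => Subtype.ext (by simp [mul_assoc])
    have hσZ : Z ≤ Z.comap σ₀ := fun z hz => conj_mem_of_mem_normalizer n.2 hz
    let σ : C ⧸ Z →* C ⧸ Z := QuotientGroup.map Z Z σ₀ hσZ
    have hσ : Function.Injective σ := by
      rw [← MonoidHom.ker_eq_bot_iff, QuotientGroup.ker_map, eq_bot_iff]
      rintro _ ⟨z, hz, rfl⟩
      refine Subgroup.mem_bot.2 ((QuotientGroup.eq_one_iff z).2 ?_)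
      have h1 : (n : G)⁻¹ * ((n : G) * z * (n : G)⁻¹) * (n : G)⁻¹⁻¹ ∈ Q :=
        conj_mem_of_mem_normalizer (inv_mem n.2) hz
      rwa [show (n : G)⁻¹ * ((n : G) * z * (n : G)⁻¹) * (n : G)⁻¹⁻¹ = z by group] at h1
    have hσT : (Tb : Subgroup (C ⧸ Z)).map σ = (Tb : Subgroup (C ⧸ Z)) := by
      refine Subgroup.eq_of_le_of_card_ge ?_ (le_of_eq (Subgroup.card_map_of_injective hσ).symm)
      rw [hTbe]
      rintro _ ⟨_, ⟨x, hx, rfl⟩, rfl⟩
      exact ⟨σ₀ x, (hRCe _).2 (hnT x ((hRCe x).1 hx)), rfl⟩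
    obtain ⟨x, hx, hxy⟩ := hP y.2
    obtain ⟨hxT, hxW⟩ := hx
    have hsx : π (σ₀ x) ∈ W := by
      have h1 := map_centerThompsonAOf_le σ hσ (Tb : Subgroup (C ⧸ Z)) ⟨_, hxW, rfl⟩
      rw [hσT] at h1
      exact h1
    have hsT : (σ₀ x : G) ∈ T := hnT x ((hRCe x).1 hxT)
    let c' : C := ⟨((c : M) : G), hc⟩
    have heq : φ y = ((c' * σ₀ x * c'⁻¹ : C) : G) := by
      rw [← hext y, hg]
      show g * (y : G) * g⁻¹ = (c : G) * ((n : G) * (x : G) * (n : G)⁻¹) * (c : G)⁻¹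
      have hg' : g = (c : G) * n := congrArg Subtype.val hcn.symm
      rw [← hxy, hg']
      simp [mul_assoc]
    have hmem : c' * σ₀ x * c'⁻¹ ∈ (RC : Subgroup C) := by
      rw [hRCe, ← heq]
      exact ⟨hφ.2.1 y, heq ▸ (c' * σ₀ x * c'⁻¹).2⟩
    rw [heq]
    refine hmemR _ hmem ?_
    obtain ⟨k, hk, hke⟩ := (hWc {π (σ₀ x)} (Set.singleton_subset_iff.2 (hWT hsx))).2 (π c') (by
      rw [Set.image_singleton, Set.singleton_subset_iff, ← map_inv, ← map_mul, ← map_mul, hTbe]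
      exact ⟨_, hmem, rfl⟩)
    have h2 := hke _ (Set.mem_singleton _)
    rw [map_mul, map_mul, map_inv, h2]
    exact conj_mem_of_mem_normalizer hk hsx
  -- abelian over the centre of the core
  set Z₁ := Q ⊓ C with hZ₁
  have hRc : ⁅R, R⁆ ≤ Z₁ := by
    rw [Subgroup.commutator_le]
    rintro _ ⟨a, ⟨-, ha⟩, rfl⟩ _ ⟨b, ⟨-, hb⟩, rfl⟩
    rw [← map_commutatorElement]
    refine ⟨?_, (⁅a, b⁆ : C).2⟩
    have h1 : π ⁅a, b⁆ = 1 := by
      rw [map_commutatorElement, commutatorElement_eq_one_iff_mul_comm]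
      exact hb.2 _ ha.1
    rw [hπ, QuotientGroup.mk'_apply, QuotientGroup.eq_one_iff] at h1
    exact h1
  have hZR : Z₁ ≤ R := by
    rintro z ⟨hzQ, hzC⟩
    refine hmemR ⟨z, hzC⟩ ((hRCe _).2 ⟨hQS hzQ, hzC⟩) ?_
    rw [hπ, QuotientGroup.mk'_apply, (QuotientGroup.eq_one_iff (⟨z, hzC⟩ : C)).2 hzQ]
    exact one_mem _
  have hZ₁wc : F.WeaklyClosed Z₁ := by
    refine ⟨inf_le_left.trans hQS, fun φ hφ => ?_⟩
    obtain ⟨ψ, hψ, hext, himg⟩ := hQn.2 Z₁ φ hφ
    refine Subgroup.eq_of_le_of_card_ge ?_ (card_range_eq (F.injective_of_mem hφ)).ge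
    rintro _ ⟨z, rfl⟩
    rw [← hext z]
    refine ⟨himg.le ⟨_, z.2.1, rfl⟩, fun q hq => ?_⟩
    obtain ⟨w, hw, rfl⟩ := himg.ge hq
    rw [← map_mul, ← map_mul]
    exact congrArg ψ (Subtype.ext (z.2.2 w hw))
  have hbot : F.WeaklyClosed ⊥ :=
    StronglyClosed.weaklyClosed (IsNormal.stronglyClosed (isNormal_bot F))
  have hn2 : F.IsNormal R := by
    refine normal_of_series S.2 hF hclosed (n := 2) ![⊥, Z₁, R] rfl rfl ?_ ?_ ?_
    · refine Fin.monotone_iff_le_succ.2 fun i => ?_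
      fin_cases i
      · exact bot_le
      · exact hZR
    · intro i
      fin_cases i
      · show ⁅Z₁, R⁆ ≤ ⊥
        rw [le_bot_iff, Subgroup.commutator_eq_bot_iff_le_centralizer]
        exact fun z hz a ha => (((hRT ha).2) z hz.1).symm
      · exact hRc
    · intro i
      fin_cases i
      · exact hbot
      · exact hZ₁wc
  refine hWne ((Subgroup.eq_bot_iff_forall _).2 fun w hw => ?_)
  obtain ⟨x, hx, rfl⟩ := hTbe.le (hWT hw)
  rw [hπ, QuotientGroup.mk'_apply, QuotientGroup.eq_one_iff]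
  exact (le_core hn2 : R ≤ Q) (hmemR x hx hw)

end Cfsg.Agent.Lib.PLocal
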