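import Cfsg.Agent.Lib.PLocal.ZJFunctor
import Cfsg.Agent.Lib.Components.Constrained
import Cfsg.Agent.Lib.FusionControl.Centric
import Cfsg.Agent.Lib.OddLocal.PStable

/-!
`p`-stability (the form with an acting `p`-subgroup) modulo the `p'`-core; Glauberman's theorem for
constrained groups stable in that form.
-/

set_option autoImplicit false
set_option linter.unusedSectionVars false
set_option linter.style.haveILetI false

universe u

namespace Cfsg.Agent.Lib.PLocal

open scoped commutatorElement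

open Cfsg.Agent.Lib.FusionControl

variable {p : ℕ} [hp : Fact p.Prime] {G : Type u} [Group G] [Finite G]

/-- the image of `a` in the automiser of `P` lies in the `p`-core -/
def InCore (p : ℕ) {X : Type u} [Group X] (P : Subgroup X) (a : X) : Prop :=
  ∃ h : a ∈ Subgroup.normalizer (P : Set X),
    (QuotientGroup.mk (s := (Subgroup.centralizer (P : Set X)).subgroupOf (Subgroup.normalizer (P : Set X)))
      (⟨a, h⟩ : ↥(Subgroup.normalizer (P : Set X)))) ∈
      Cfsg.pCore p (↥(Subgroup.normalizer (P : Set X)) ⧸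
        (Subgroup.centralizer (P : Set X)).subgroupOf (Subgroup.normalizer (P : Set X)))

/-- automisers are the same modulo the `p'`-core -/
theorem inCore_iff {P : Subgroup G} (hP : IsPGroup p P) (hOP : (Cfsg.pPrimeCore p G ⊔ P).Normal) {a : G}
    (ha : a ∈ Subgroup.normalizer (P : Set G)) :
    InCore p P a ↔
      InCore p (P.map (QuotientGroup.mk' (Cfsg.pPrimeCore p G))) (QuotientGroup.mk' (Cfsg.pPrimeCore p G) a) := by
  set O := Cfsg.pPrimeCore p G with hO
  set π := QuotientGroup.mk' O with hπ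
  have hπs : Function.Surjective π := QuotientGroup.mk'_surjective O
  set N := Subgroup.normalizer (P : Set G) with hN
  set N' := Subgroup.normalizer (P.map π : Set (G ⧸ O)) with hN'
  have hNN : ∀ n : N, π (n : G) ∈ N' := fun n => Subgroup.le_normalizer_map π ⟨n, n.2, rfl⟩
  let ψ : N →* N' := (π.comp N.subtype).codRestrict N' hNN
  have hψs : Function.Surjective ψ := by
    rintro ⟨y, hy⟩
    obtain ⟨x, rfl⟩ := hπs y
    have hxK : x ∈ Subgroup.normalizer ((O ⊔ P : Subgroup G) : Set G) := by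
      rw [Subgroup.normalizer_eq_top_iff.2 hOP]; exact Subgroup.mem_top x
    have hPN : P ≤ Subgroup.normalizer (O : Set G) := by rw [Subgroup.normalizer_eq_top]; exact le_top
    have hPi : ¬ p ∣ P.relIndex (O ⊔ P) := by
      intro hd
      refine (Nat.Prime.coprime_iff_not_dvd hp.out).1 (Cores.pPrimeCore_coprime p G).symm ?_
      have h1 := Coprime.card_sup_mul_card_inf hPN
      rw [inf_comm, Components.isPGroup_inf_pPrimeCore_eq_bot hP, Subgroup.card_bot, mul_one,
        ← Coprime.relIndex_mul_card (le_sup_right : P ≤ O ⊔ P), mul_comm] at h1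
      exact Nat.eq_of_mul_eq_mul_right Nat.card_pos h1 ▸ hd
    obtain ⟨k, hk, hkx⟩ := exists_frattini (R := P) (le_sup_right) hP hPi hxK
    obtain ⟨o, ho, q, hq, rfl⟩ := Coprime.exists_mul_of_mem_sup hPN hk
    refine ⟨⟨q⁻¹ * o * q * x, ?_⟩, Subtype.ext ?_⟩
    · have h1 := mul_mem (Subgroup.inv_mem _ (Subgroup.le_normalizer hq : q ∈ N)) hkx
      rwa [show q⁻¹ * (o * q * x) = q⁻¹ * o * q * x by group] at h1
    · show π (q⁻¹ * o * q * x) = π x
      rw [map_mul, map_mul, map_mul, show π o = 1 from (QuotientGroup.eq_one_iff o).2 ho, map_inv, mul_one,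
        inv_mul_cancel, one_mul]
  set C := (Subgroup.centralizer (P : Set G)).subgroupOf N with hC
  set C' := (Subgroup.centralizer (P.map π : Set (G ⧸ O))).subgroupOf N' with hC'
  have hker : ∀ n : N, ψ n ∈ C' ↔ n ∈ C := by
    intro n
    constructor
    · intro h
      refine Subgroup.mem_subgroupOf.2 (Subgroup.mem_centralizer_iff.2 fun x hx => ?_)
      have h1 : π (x * (n : G)) = π ((n : G) * x) := by
        rw [map_mul, map_mul]; exact (Subgroup.mem_subgroupOf.1 h) (π x) ⟨x, hx, rfl⟩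
      have h2 : x⁻¹ * ((n : G) * x * (n : G)⁻¹) ∈ O := by
        refine (QuotientGroup.eq_one_iff _).1 ?_
        show π (x⁻¹ * ((n : G) * x * (n : G)⁻¹)) = 1
        rw [map_mul, map_mul π ((n : G) * x), ← h1, map_inv, map_mul, map_inv]
        group
      have h3 := eq_one_of_mem_pPrimeCore hP
        (mul_mem (inv_mem hx) ((Subgroup.mem_normalizer_iff.1 n.2 x).1 hx)) h2
      rw [inv_mul_eq_one, eq_mul_inv_iff_mul_eq] at h3
      exact h3
    · intro h
      refine Subgroup.mem_subgroupOf.2 ?_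
      rintro _ ⟨x, hx, rfl⟩
      show π x * π (n : G) = π (n : G) * π x
      rw [← map_mul, ← map_mul, Subgroup.mem_subgroupOf.1 h x hx]
  let Φ : N ⧸ C →* N' ⧸ C' := QuotientGroup.map C C' ψ fun n hn => (hker n).2 hn
  have hΦ : Function.Bijective Φ := by
    refine ⟨(injective_iff_map_eq_one Φ).2 fun y hy => ?_, fun y => ?_⟩
    · obtain ⟨n, rfl⟩ := QuotientGroup.mk'_surjective C y
      exact (QuotientGroup.eq_one_iff n).2 ((hker n).1 ((QuotientGroup.eq_one_iff _).1 hy))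
    · obtain ⟨z, rfl⟩ := QuotientGroup.mk'_surjective C' y
      obtain ⟨n, rfl⟩ := hψs z
      exact ⟨QuotientGroup.mk' C n, rfl⟩
  let e : N ⧸ C ≃* N' ⧸ C' := MulEquiv.ofBijective Φ hΦ
  have he : (Cfsg.pCore p (N ⧸ C)).map e.toMonoidHom = Cfsg.pCore p (N' ⧸ C') := Cores.map_pCore_equiv e
  constructor
  · rintro ⟨h, hc⟩
    exact ⟨hNN ⟨a, h⟩, he.le ⟨_, hc, rfl⟩⟩
  · rintro ⟨h, hc⟩
    refine ⟨ha, ?_⟩
    obtain ⟨y, hy, hye⟩ := he.ge hc
    have : y = QuotientGroup.mk' C ⟨a, ha⟩ := e.injective (hye.trans rfl)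
    rw [this] at hy
    exact hy

/-- a normal `p`-subgroup modulo the `p'`-core, with an acting `p`-subgroup, lifts -/
theorem exists_lift {P' A' : Subgroup (G ⧸ Cfsg.pPrimeCore p G)} (hP'n : P'.Normal) (hP' : IsPGroup p P')
    (hA' : IsPGroup p A') :
    ∃ A P : Subgroup G, IsPGroup p A ∧ IsPGroup p P ∧ (∀ a ∈ A, ∀ x ∈ P, a * x * a⁻¹ ∈ P) ∧
      P ≤ Cfsg.pPrimePCore p G ∧ (Cfsg.pPrimeCore p G ⊔ P).Normal ∧
      A.map (QuotientGroup.mk' (Cfsg.pPrimeCore p G)) = A' ∧
      P.map (QuotientGroup.mk' (Cfsg.pPrimeCore p G)) = P' := by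
  set O := Cfsg.pPrimeCore p G with hO
  set π := QuotientGroup.mk' O with hπ
  have hπs : Function.Surjective π := QuotientGroup.mk'_surjective O
  obtain ⟨W, hW⟩ := hA'.exists_le_sylow
  obtain ⟨S₀⟩ : Nonempty (Sylow p G) := inferInstance
  obtain ⟨y, hy⟩ := MulAction.exists_smul_eq (G ⧸ O) (S₀.mapSurjective hπs) W
  obtain ⟨g, rfl⟩ := hπs y
  set S := (S₀ : Subgroup G).map (MulAut.conj g).toMonoidHom with hS
  have hSp : IsPGroup p S := S₀.2.map _
  have hSW : S.map π = (W : Subgroup (G ⧸ O)) := by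
    rw [← hy]
    ext y
    constructor
    · rintro ⟨_, ⟨x, hx, rfl⟩, rfl⟩
      refine ⟨π x, ?_, ?_⟩
      · show π x ∈ ((S₀.mapSurjective hπs : Sylow p (G ⧸ O)) : Subgroup (G ⧸ O))
        rw [Sylow.coe_mapSurjective]
        exact ⟨x, hx, rfl⟩
      · show π g * π x * (π g)⁻¹ = π (g * x * g⁻¹)
        rw [map_mul, map_mul, map_inv]
    · rintro ⟨z, hz, rfl⟩
      replace hz : z ∈ ((S₀.mapSurjective hπs : Sylow p (G ⧸ O)) : Subgroup (G ⧸ O)) := hz
      rw [Sylow.coe_mapSurjective] at hz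
      obtain ⟨x, hx, rfl⟩ := hz
      refine ⟨g * x * g⁻¹, ⟨x, hx, rfl⟩, ?_⟩
      show π (g * x * g⁻¹) = π g * π x * (π g)⁻¹
      rw [map_mul, map_mul, map_inv]
  have hP'W : P' ≤ (W : Subgroup (G ⧸ O)) :=
    (Cores.le_pCore hP'n hP').trans (Cores.pCore_le_sylow W)
  have key : ∀ B : Subgroup (G ⧸ O), B ≤ (W : Subgroup (G ⧸ O)) → (S ⊓ B.comap π).map π = B := by
    intro B hB
    refine le_antisymm (by rintro _ ⟨x, hx, rfl⟩; exact hx.2) fun b hb => ?_
    obtain ⟨s, hs, rfl⟩ := hSW.ge (hB hb)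
    exact ⟨s, ⟨hs, hb⟩, rfl⟩
  refine ⟨S ⊓ A'.comap π, S ⊓ P'.comap π, hSp.to_le inf_le_left, hSp.to_le inf_le_left, ?_, ?_, ?_,
    key A' hW, key P' hP'W⟩
  · intro a ha x hx
    refine ⟨S.mul_mem (S.mul_mem ha.1 hx.1) (S.inv_mem ha.1), ?_⟩
    show π (a * x * a⁻¹) ∈ P'
    rw [map_mul, map_mul, map_inv]
    exact hP'n.conj_mem _ hx.2 _
  · exact inf_le_right.trans (Subgroup.comap_mono (Cores.le_pCore hP'n hP'))
  · have e : O ⊔ (S ⊓ P'.comap π) = P'.comap π := by
      rw [← Subgroup.comap_map_eq_self (f := π) (H := O ⊔ (S ⊓ P'.comap π))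
        (by rw [hπ, QuotientGroup.ker_mk']; exact le_sup_left), Subgroup.map_sup, key P' hP'W,
        show O.map π = ⊥ by rw [Subgroup.map_eq_bot_iff, hπ, QuotientGroup.ker_mk'], bot_sup_eq]
    rw [e]
    exact hP'n.comap π

theorem pCore_le_pPrimePCore' {X : Type u} [Group X] [Finite X] :
    Cfsg.pCore p X ≤ Cfsg.pPrimePCore p X := fun x hx =>
  Cores.map_pCore_le _ (QuotientGroup.mk'_surjective _) ⟨x, hx, rfl⟩

/-- stability passes to and from the quotient by the `p'`-core -/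
theorem isPStable_iff_quotient (hO : Cfsg.pCore p G ≠ ⊥) :
    Cfsg.IsPStable p G ↔ Cfsg.IsPStable p (G ⧸ Cfsg.pPrimeCore p G) := by
  set O := Cfsg.pPrimeCore p G with hOdef
  set π := QuotientGroup.mk' O with hπ
  have hπs : Function.Surjective π := QuotientGroup.mk'_surjective O
  have hO' : Cfsg.pPrimeCore p (G ⧸ O) = ⊥ := Cores.pPrimeCore_quotient_pPrimeCore p G
  constructor
  · rintro ⟨hodd, -, hst⟩
    refine ⟨hodd, fun h => hO ?_, fun A' P' hA' hP' _ _ hn hq => ?_⟩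
    · have h1 : (Cfsg.pCore p G).map π = ⊥ := le_bot_iff.1 ((Cores.map_pCore_le π hπs).trans h.le)
      rw [Subgroup.map_eq_bot_iff, hπ, QuotientGroup.ker_mk'] at h1
      rw [eq_bot_iff]
      intro x hx
      exact Subgroup.mem_bot.2 (eq_one_of_mem_pPrimeCore (Cores.pCore_isPGroup p G) hx (h1 hx))
    rw [hO', bot_sup_eq] at hn
    obtain ⟨A, P, hA, hP, hAP, hPle, hOP, rfl, rfl⟩ := exists_lift hn hP' hA'
    have hqA : ⁅⁅P, A⁆, A⁆ = ⊥ := by
      have hPA : ⁅P, A⁆ ≤ P := Subgroup.commutator_le.2 fun x hx a ha => by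
        rw [commutatorElement_def, show x * a * x⁻¹ * a⁻¹ = x * (a * x⁻¹ * a⁻¹) by group]
        exact mul_mem hx (hAP a ha _ (inv_mem hx))
      have hPA2 : ⁅⁅P, A⁆, A⁆ ≤ P := Subgroup.commutator_le.2 fun x hx a ha => by
        rw [commutatorElement_def, show x * a * x⁻¹ * a⁻¹ = x * (a * x⁻¹ * a⁻¹) by group]
        exact mul_mem (hPA hx) (hAP a ha _ (inv_mem (hPA hx)))
      refine (Subgroup.eq_bot_iff_forall _).2 fun x hx => eq_one_of_mem_pPrimeCore hP (hPA2 hx) ?_
      have h1 : π x ∈ ⁅⁅P.map π, A.map π⁆, A.map π⁆ := by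
        rw [← Subgroup.map_commutator, ← Subgroup.map_commutator]; exact ⟨x, hx, rfl⟩
      rw [hq, Subgroup.mem_bot] at h1
      exact (QuotientGroup.eq_one_iff x).1 h1
    rintro _ ⟨⟨y, hyN⟩, ⟨a, ha, rfl⟩, rfl⟩
    have haN : a ∈ Subgroup.normalizer (P : Set G) :=
      OddLocal.mem_normalizer_of_conj_mem (fun x hx => hAP a ha x hx)
    exact ((inCore_iff hP hOP haN).1 ⟨haN, hst A P hA hP hAP hPle hOP hqA ⟨⟨a, haN⟩, ha, rfl⟩⟩).2
  · rintro ⟨hodd, -, hst⟩
    refine ⟨hodd, hO, fun A P hA hP hAP hPle hOP hq => ?_⟩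
    rintro _ ⟨⟨a, haN⟩, ha, rfl⟩
    have hn : (P.map π).Normal := by
      have e : (O ⊔ P).map π = P.map π := by
        rw [Subgroup.map_sup, show O.map π = ⊥ by rw [Subgroup.map_eq_bot_iff, hπ, QuotientGroup.ker_mk'],
          bot_sup_eq]
      rw [← e]
      exact hOP.map π hπs
    have hAP' : ∀ a' ∈ A.map π, ∀ x ∈ P.map π, a' * x * a'⁻¹ ∈ P.map π := by
      rintro _ ⟨b, hb, rfl⟩ _ ⟨x, hx, rfl⟩
      exact ⟨b * x * b⁻¹, hAP b hb x hx, by rw [map_mul, map_mul, map_inv]⟩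
    have h1 := hst (A.map π) (P.map π) (hA.map π) (hP.map π) hAP'
      ((Cores.le_pCore hn (hP.map π)).trans pCore_le_pPrimePCore') (by rw [hO', bot_sup_eq]; exact hn)
      (by rw [← Subgroup.map_commutator, ← Subgroup.map_commutator, hq, Subgroup.map_bot])
    obtain ⟨_, h2⟩ := (inCore_iff hP hOP haN).2
      ⟨Subgroup.le_normalizer_map π ⟨a, haN, rfl⟩, h1 ⟨⟨π a, _⟩, ⟨a, ha, rfl⟩, rfl⟩⟩
    exact h2

/-- the normal `p`-subgroups of a stable group with trivial `p'`-core are stable -/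
theorem isPStableOn_of_isPStable (hst : Cfsg.IsPStable p G) (hO : Cfsg.pPrimeCore p G = ⊥) (P : Subgroup G)
    [hPn : P.Normal] (hP : IsPGroup p P) : Cfsg.IsPStableOn p P := by
  set C := Subgroup.centralizer (P : Set G) with hC
  set f := QuotientGroup.mk' C with hf
  intro a ha
  obtain ⟨a1, a2, ha1', ha2', ha1, ⟨i, ha2⟩, hab⟩ := Cfsg.Agent.Lib.Transfer.exists_pPart_decomp (p := p) a
  have hmono : ∀ b ∈ Subgroup.zpowers a, ⁅⁅P, Subgroup.zpowers b⁆, Subgroup.zpowers b⁆ = ⊥ := fun b hb => by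
    rw [eq_bot_iff, ← ha]
    exact Subgroup.commutator_mono (Subgroup.commutator_mono le_rfl (Subgroup.zpowers_le.2 hb))
      (Subgroup.zpowers_le.2 hb)
  -- the part of order prime to `p` acts trivially
  have ha1C : a1 ∈ C := by
    rw [hC, Subgroup.mem_centralizer_iff]
    intro x hx
    have hq := hmono a1 ha1'
    set c := ⁅a1, x⁆ with hc
    have hcP : c ∈ P := by
      rw [hc, commutatorElement_def]
      exact mul_mem (hPn.conj_mem x hx a1) (inv_mem hx)
    have hcc : a1 * c = c * a1 := (commutator_zpowers_eq_bot_iff.1 hq) x hx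
    have h1 := conj_pow_of_quad (commutator_zpowers_eq_bot_iff.1 hq) hx (orderOf a1)
    rw [pow_orderOf_eq_one, commutatorElement_one_left] at h1
    have h2 : c = 1 := Cfsg.Agent.Lib.Transfer.eq_one_of_isPGroup_of_coprime hP hcP
      (Nat.Coprime.coprime_dvd_left (orderOf_dvd_of_pow_eq_one h1.symm) ha1)
    exact (commutatorElement_eq_one_iff_mul_comm.1 h2).symm
  have ha2p : IsPGroup p (Subgroup.zpowers a2) := IsPGroup.of_card (n := i) (by rw [Nat.card_zpowers, ha2])
  have hP' : P ≤ Cfsg.pPrimePCore p G := (Cores.le_pCore hPn hP).trans pCore_le_pPrimePCore'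
  have haN : a2 ∈ Subgroup.normalizer (P : Set G) := by rw [Subgroup.normalizer_eq_top]; trivial
  have h2 := hst.2.2 (Subgroup.zpowers a2) P ha2p hP (fun b _ x hx => hPn.conj_mem x hx b) hP'
    (by rw [hO, bot_sup_eq]; exact hPn) (hmono a2 ha2') ⟨⟨a2, haN⟩, Subgroup.mem_zpowers a2, rfl⟩
  set N := Subgroup.normalizer (P : Set G) with hN
  let g : N ⧸ C.subgroupOf N →* G ⧸ C := QuotientGroup.map _ _ N.subtype fun _ hx => hx
  have hgs : Function.Surjective g := by
    intro y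
    obtain ⟨x, rfl⟩ := QuotientGroup.mk'_surjective C y
    exact ⟨QuotientGroup.mk (⟨x, by rw [hN, Subgroup.normalizer_eq_top]; trivial⟩ : N), rfl⟩
  have h3 : f a2 ∈ Cfsg.pCore p (G ⧸ C) := Cores.map_pCore_le g hgs ⟨_, h2, rfl⟩
  show f a ∈ Cfsg.pCore p (G ⧸ C)
  rw [hab, map_mul, show f a1 = 1 from (QuotientGroup.eq_one_iff a1).2 ha1C, one_mul]
  exact h3

/-- Glauberman's theorem for constrained stable groups -/
theorem zj_factorization (hp2 : p ≠ 2) (hc : Cfsg.IsPConstrained p G) (hs : Cfsg.IsPStable p G)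
    (T : Sylow p G) :
    Cfsg.pPrimeCore p G ⊔ Subgroup.normalizer (Cfsg.centerThompsonAOf (T : Subgroup G) : Set G) = ⊤ := by
  set O := Cfsg.pPrimeCore p G with hO
  set π := QuotientGroup.mk' O with hπ
  have hπs : Function.Surjective π := QuotientGroup.mk'_surjective O
  have hO' : Cfsg.pPrimeCore p (G ⧸ O) = ⊥ := Cores.pPrimeCore_quotient_pPrimeCore p G
  have hC : Subgroup.centralizer (Cfsg.pCore p (G ⧸ O) : Set (G ⧸ O)) ≤ Cfsg.pCore p (G ⧸ O) := by
    obtain ⟨R⟩ : Nonempty (Sylow p ↥(Cfsg.pPrimePCore p G)) := inferInstance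
    intro y hy
    obtain ⟨x, rfl⟩ := hπs y
    have h1 : x ∈ (Subgroup.centralizer (Cfsg.pCore p (G ⧸ O) : Set (G ⧸ O))).comap π := hy
    rw [Components.comap_centralizer_pCore_quotient p R] at h1
    exact sup_le (hc R) (Components.pPrimeCore_le_pPrimePCore p) h1
  have hst := (isPStable_iff_quotient hs.2.1).1 hs
  have hn : (Cfsg.inducedFunctor zjA ((T : Subgroup G).map π) : Subgroup (G ⧸ O)).Normal := by
    rw [inducedFunctor_zjA, ← zIn_zero_eq, ← Sylow.coe_mapSurjective hπs T]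
    exact zIn_normal hp2 hC (fun P _ hP => isPStableOn_of_isPStable hst hO' P hP) (Or.inr rfl) _
  rw [eq_top_iff]
  intro g _
  obtain ⟨n, hnN, hng⟩ := exists_lift_step isCharPFunctor_zjA T (x := π g)
    (by rw [Subgroup.normalizer_eq_top_iff.2 hn]; exact Subgroup.mem_top _)
  rw [inducedFunctor_zjA] at hnN
  have h1 : g * n⁻¹ ∈ O := by
    refine (QuotientGroup.eq_one_iff _).1 ?_
    show π (g * n⁻¹) = 1
    rw [map_mul, map_inv, hng, mul_inv_cancel]
  have h3 := mul_mem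
    (Subgroup.mem_sup_left (T := Subgroup.normalizer (Cfsg.centerThompsonAOf (T : Subgroup G) : Set G)) h1)
    (Subgroup.mem_sup_right hnN)
  rwa [inv_mul_cancel_right] at h3

theorem zj_normal (hp2 : p ≠ 2) (hc : Cfsg.IsPConstrained p G) (hs : Cfsg.IsPStable p G)
    (hO : Cfsg.pPrimeCore p G = ⊥) (T : Sylow p G) :
    (Cfsg.centerThompsonAOf (T : Subgroup G)).Normal := by
  have h := zj_factorization hp2 hc hs T
  rw [hO, bot_sup_eq] at h
  exact Subgroup.normalizer_eq_top_iff.1 h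

end Cfsg.Agent.Lib.PLocal
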