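import Cfsg.Agent.Lib.Characters.Induced
import Cfsg.Agent.Lib.Characters.Kernel
import Cfsg.Agent.Lib.Coprime.Basic
import Cfsg.Agent.Lib.BlockHeights.CharTools
import Cfsg.Prelude.Def_Transfer
import Mathlib

namespace Cfsg.Agent.Lib.PLocal.StronglyRealAverage

open Cfsg.Agent.Lib.Characters
open Cfsg.Agent.Lib.BlockHeights
open scoped ComplexConjugate

universe u
variable {G : Type u} [Group G] [Finite G]

omit [Finite G] in
theorem exists_proj (N P : Subgroup G) [N.Normal] (hdisj : N ⊓ P = ⊥) (hprod : N ⊔ P = ⊤) :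
    ∃ π : G →* G, (∀ g, π g ∈ P) ∧ (∀ g, g * (π g)⁻¹ ∈ N) ∧ (∀ n ∈ N, π n = 1) ∧ (∀ p ∈ P, π p = p) := by
  have hdec : ∀ g : G, ∃ p ∈ P, g * p⁻¹ ∈ N := fun g => by
    obtain ⟨n, hn, p, hp, h⟩ := Cfsg.Agent.Lib.Coprime.exists_mul_of_mem_sup (N := N) (H := P)
      (fun x _ => by rw [Subgroup.normalizer_eq_top]; trivial) (hprod ▸ Subgroup.mem_top g)
    exact ⟨p, hp, by rw [h, mul_inv_cancel_right]; exact hn⟩
  choose f hfP hfN using hdec
  have huniq : ∀ g p : G, p ∈ P → g * p⁻¹ ∈ N → f g = p := by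
    intro g p hp hpn
    have hN' : p * (f g)⁻¹ ∈ N := by
      have := mul_mem (inv_mem hpn) (hfN g)
      rwa [show (g * p⁻¹)⁻¹ * (g * (f g)⁻¹) = p * (f g)⁻¹ by group] at this
    have h1 : p * (f g)⁻¹ ∈ N ⊓ P := Subgroup.mem_inf.mpr ⟨hN', mul_mem hp (inv_mem (hfP g))⟩
    rw [hdisj, Subgroup.mem_bot, mul_inv_eq_one] at h1
    exact h1.symm
  refine ⟨{ toFun := f, map_one' := huniq 1 1 (one_mem P) (by rw [mul_inv_cancel]; exact one_mem N),
            map_mul' := fun a b => huniq (a * b) _ (mul_mem (hfP a) (hfP b)) ?_ }, hfP, hfN,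
    fun n hn => huniq n 1 (one_mem P) (by rwa [inv_one, mul_one]),
    fun p hp => huniq p p hp (by rw [mul_inv_cancel]; exact one_mem N)⟩
  have := mul_mem (Subgroup.Normal.conj_mem inferInstance _ (hfN b) a) (hfN a)
  convert this using 1
  group

open scoped Classical in
theorem main (N P : Subgroup G) (hN : N.Normal) (q : ℕ) [Fact q.Prime] (hq : q ≠ 2)
    (hNel : Cfsg.IsElementaryAbelian q N) (hP : IsPGroup 2 ↥P) (hP1 : P ≠ ⊥) (hdisj : N ⊓ P = ⊥)
    (hprod : N ⊔ P = ⊤) (hmin : N ≠ ⊥ ∧ ∀ M : Subgroup G, M.Normal → M ≠ ⊥ → N ≤ M) :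
    4 * Nat.card {χ : Cfsg.IrrCharacter G // (Cfsg.charDegree (χ : G → ℂ) = 1 ∨ 2 ∣ Cfsg.charDegree (χ : G → ℂ)) ∧ (Nat.card G : ℂ)⁻¹ * ∑ᶠ g : G, (χ : G → ℂ) (g * g) = 1} ≤ 3 * (∑ᶠ χ : {χ : Cfsg.IrrCharacter G // (Cfsg.charDegree (χ : G → ℂ) = 1 ∨ 2 ∣ Cfsg.charDegree (χ : G → ℂ)) ∧ (Nat.card G : ℂ)⁻¹ * ∑ᶠ g : G, (χ : G → ℂ) (g * g) = 1}, Cfsg.charDegree (χ.1 : G → ℂ)) := by
  haveI := hN
  haveI := Fintype.ofFinite G
  haveI : Fact (Nat.Prime 2) := ⟨Nat.prime_two⟩
  obtain ⟨π, hπP, hπN, hπn, hπp⟩ := exists_proj N P hdisj hprod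
  have hNc : ∀ a ∈ N, ∀ b ∈ N, a * b = b * a := fun a ha b hb =>
    congrArg (fun t : N => (t : G)) (hNel.1.is_comm.comm ⟨a, ha⟩ ⟨b, hb⟩)
  have hNexp : ∀ a ∈ N, a ^ q = 1 := hNel.2
  -- the central involution
  haveI : Nontrivial P := (Subgroup.nontrivial_iff_ne_bot P).mpr hP1
  obtain ⟨z, hzP, hz2, hz1, hzc⟩ : ∃ z ∈ P, z * z = 1 ∧ z ≠ 1 ∧ ∀ p ∈ P, p * z = z * p := by
    haveI := hP.center_nontrivial
    obtain ⟨c, hc⟩ := exists_prime_orderOf_dvd_card' (G := Subgroup.center P) 2 (by
      obtain ⟨n, hn⟩ := (hP.to_subgroup (Subgroup.center P)).exists_card_eq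
      rcases n with _ | n
      · exact absurd hn (Finite.one_lt_card (α := Subgroup.center P)).ne'
      · exact ⟨2 ^ n, by rw [hn, pow_succ, mul_comm]⟩)
    rw [← Subgroup.orderOf_coe, ← Subgroup.orderOf_coe] at hc
    refine ⟨((c : P) : G), (c : P).2, ?_, fun h => ?_, fun p hp => ?_⟩
    · rw [← pow_two, ← hc, pow_orderOf_eq_one]
    · rw [h, orderOf_one] at hc
      exact absurd hc (by norm_num)
    · exact congrArg (fun t : P => (t : G)) (Subgroup.mem_center_iff.mp c.2 ⟨p, hp⟩)
  have hzinv : ∀ n ∈ N, z * n * z⁻¹ = n⁻¹ := by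
    let C : Subgroup G := N ⊓ Subgroup.centralizer ({z} : Set G)
    have hCn : C.Normal := by
      refine ⟨fun x hx g => ⟨hN.conj_mem x hx.1 g, Subgroup.mem_centralizer_singleton_iff.mpr ?_⟩⟩
      have h0 : g * x * g⁻¹ = π g * x * (π g)⁻¹ := by
        have hy := hN.conj_mem x hx.1 (π g)
        calc g * x * g⁻¹ = (g * (π g)⁻¹) * (π g * x * (π g)⁻¹) * (g * (π g)⁻¹)⁻¹ := by group
          _ = π g * x * (π g)⁻¹ := by rw [hNc _ (hπN g) _ hy, mul_inv_cancel_right]
      rw [h0]
      have h1 := hzc _ (hπP g)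
      exact (((show Commute (π g) z from h1).mul_left
        (show Commute x z from Subgroup.mem_centralizer_singleton_iff.mp hx.2)).mul_left
        (show Commute (π g) z from h1).inv_left).eq
    have hC : C = ⊥ := by
      by_contra hne
      have hzN : ∀ n ∈ N, n * z = z * n := fun n hn =>
        Subgroup.mem_centralizer_singleton_iff.mp (hmin.2 C hCn hne hn).2
      have hzcen : ∀ g : G, g * z = z * g := fun g => by
        calc g * z = (g * (π g)⁻¹) * (π g * z) := by group
          _ = (g * (π g)⁻¹) * (z * π g) := by rw [hzc _ (hπP g)]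
          _ = ((g * (π g)⁻¹) * z) * π g := by group
          _ = z * g := by rw [hzN _ (hπN g)]; group
      have hnz : (Subgroup.zpowers z).Normal := ⟨fun x hx g => by
        obtain ⟨k, rfl⟩ := hx
        rw [((show Commute g z from hzcen g).zpow_right k).eq, mul_inv_cancel_right]
        exact ⟨k, rfl⟩⟩
      have hle := (hmin.2 _ hnz (fun h => hz1 (Subgroup.mem_bot.mp (h ▸ Subgroup.mem_zpowers z)))).trans
        (Subgroup.zpowers_le.mpr hzP)
      exact hmin.1 (eq_bot_iff.mpr fun n hn => by rw [← hdisj]; exact ⟨hn, hle hn⟩)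
    intro n hn
    have hzn : z * n * z⁻¹ ∈ N := hN.conj_mem n hn z
    have hmem : n * (z * n * z⁻¹) ∈ C := by
      refine ⟨mul_mem hn hzn, Subgroup.mem_centralizer_singleton_iff.mpr ?_⟩
      have hzi : z⁻¹ = z := inv_eq_of_mul_eq_one_right hz2
      have h1 := hNc n hn _ hzn
      calc n * (z * n * z⁻¹) * z = n * (z * n) := by group
        _ = z * ((z⁻¹ * n * z) * n) := by group
        _ = z * ((z * n * z⁻¹) * n) := by rw [hzi]
        _ = z * (n * (z * n * z⁻¹)) := by rw [h1]
    rw [hC, Subgroup.mem_bot] at hmem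
    exact eq_inv_of_mul_eq_one_right hmem
  -- a nontrivial linear character of `N`
  obtain ⟨n₀, hn₀, hn₀1⟩ := (Subgroup.bot_or_exists_ne_one N).resolve_left hmin.1
  letI : CommGroup N := { (inferInstance : Group N) with mul_comm := hNel.1.is_comm.comm }
  obtain ⟨lam, hlam⟩ := CommGroup.exists_apply_ne_one_of_hasEnoughRootsOfUnity N ℂ
    (a := ⟨n₀, hn₀⟩) (fun h => hn₀1 (congrArg Subtype.val h))
  let L : G → ℂ := fun g => if h : g ∈ N then ((lam ⟨g, h⟩ : ℂˣ) : ℂ) else 0
  have hLmul : ∀ a ∈ N, ∀ b ∈ N, L (a * b) = L a * L b := fun a ha b hb => by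
    simp only [L, dif_pos ha, dif_pos hb, dif_pos (mul_mem ha hb), ← Units.val_mul, ← map_mul]
    rfl
  have hL1 : L 1 = 1 := by
    simp only [L, dif_pos (one_mem N)]
    rw [show (⟨1, one_mem N⟩ : N) = 1 from rfl, map_one, Units.val_one]
  have hLne0 : ∀ a ∈ N, L a ≠ 0 := fun a ha => by simp only [L, dif_pos ha]; exact Units.ne_zero _
  have hLn0 : L n₀ ≠ 1 := fun h => hlam (Units.ext (by simpa [L, hn₀] using h))
  let S : Subgroup G :=
    { carrier := {p | p ∈ P ∧ ∀ n ∈ N, L (p * n * p⁻¹) = L n}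
      one_mem' := ⟨one_mem P, fun n _ => by simp⟩
      mul_mem' := by
        rintro a b ⟨ha, ha'⟩ ⟨hb, hb'⟩
        refine ⟨mul_mem ha hb, fun n hn => ?_⟩
        rw [show a * b * n * (a * b)⁻¹ = a * (b * n * b⁻¹) * a⁻¹ by group,
          ha' _ (hN.conj_mem n hn b), hb' n hn]
      inv_mem' := by
        rintro a ⟨ha, ha'⟩
        refine ⟨inv_mem ha, fun n hn => ?_⟩
        have h := ha' _ (hN.conj_mem n hn a⁻¹)
        rw [show a * (a⁻¹ * n * a⁻¹⁻¹) * a⁻¹ = n by group] at h
        exact h.symm }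
  have hSP : S ≤ P := fun p hp => hp.1
  have hzS : z ∉ S := by
    intro h
    apply hLn0
    have h1 := h.2 n₀ hn₀
    rw [hzinv n₀ hn₀] at h1
    have h2 : L n₀ ^ 2 = 1 := by
      have := hLmul n₀ hn₀ n₀⁻¹ (inv_mem hn₀)
      rw [mul_inv_cancel, hL1, h1] at this
      rw [pow_two]; exact this.symm
    have h3 : L n₀ ^ q = 1 := by
      simp only [L, dif_pos hn₀, ← Units.val_pow_eq_pow_val, ← map_pow]
      rw [show (⟨n₀, hn₀⟩ : N) ^ q = 1 from Subtype.ext (hNexp n₀ hn₀), map_one, Units.val_one]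
    have h4 := pow_gcd_eq_one.mpr ⟨h2, h3⟩
    rwa [(Nat.coprime_primes Nat.prime_two Fact.out).mpr (Ne.symm hq) |>.gcd_eq_one, pow_one] at h4
  let T : Subgroup G := S.comap π
  have hmemT : ∀ g, g ∈ T ↔ π g ∈ S := fun g => Subgroup.mem_comap
  have hNT : N ≤ T := fun n hn => (hmemT n).mpr (by rw [hπn n hn]; exact one_mem S)
  set k := T.index with hk
  have hk2 : 2 ∣ k ∧ 2 ≤ k := by
    have hrange : π.range = P := le_antisymm (fun x hx => by obtain ⟨g, rfl⟩ := hx; exact hπP g)
      (fun p hp => ⟨p, hπp p hp⟩)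
    have h1 : k = S.relIndex P := by rw [hk, Subgroup.index_comap, hrange]
    have h2 : S.relIndex P ∣ Nat.card P := Subgroup.relIndex_dvd_card ..
    obtain ⟨n, hn⟩ := hP.exists_card_eq
    rw [hn] at h2
    obtain ⟨j, -, hj⟩ := (Nat.dvd_prime_pow Nat.prime_two).mp h2
    rcases j with _ | j
    · exact absurd (Subgroup.relIndex_eq_one.mp (hj.trans (pow_zero 2)) hzP) hzS
    · rw [h1, hj]
      exact ⟨⟨2 ^ j, by rw [pow_succ, mul_comm]⟩, by
        rw [pow_succ]; exact Nat.le_mul_of_pos_left 2 (Nat.pow_pos (by norm_num))⟩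
  -- the characters of the stabilizer
  let M := {μ : S →* ℂˣ // ∀ s, μ s * μ s = 1}
  have hnu : ∀ a b : G, π a ∈ S → L (a * b * (π (a * b))⁻¹) = L (a * (π a)⁻¹) * L (b * (π b)⁻¹) := by
    intro a b ha
    have h1 : a * b * (π (a * b))⁻¹ =
        (a * (π a)⁻¹) * (π a * (b * (π b)⁻¹) * (π a)⁻¹) := by rw [map_mul]; group
    rw [h1, hLmul _ (hπN a) _ (hN.conj_mem _ (hπN b) _), ha.2 _ (hπN b)]
  let θ : M → T →* ℂˣ := fun μ =>
    MonoidHom.mk' (fun t => lam ⟨(t : G) * (π t)⁻¹, hπN t⟩ * μ.1 ⟨π t, (hmemT _).mp t.2⟩) (by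
      intro a b
      apply Units.ext
      have h := hnu a b ((hmemT _).mp a.2)
      simp only [L, dif_pos (hπN _)] at h
      simp only [Subgroup.coe_mul, Units.val_mul, h]
      have hμ : μ.1 ⟨π ((a : G) * b), (hmemT _).mp (mul_mem a.2 b.2)⟩ =
          μ.1 ⟨π a, (hmemT _).mp a.2⟩ * μ.1 ⟨π b, (hmemT _).mp b.2⟩ := by
        rw [← map_mul]
        congr 1
        exact Subtype.ext (map_mul π _ _)
      rw [hμ, Units.val_mul]
      ring)
  let θc : M → T → ℂ := fun μ t => ((θ μ t : ℂˣ) : ℂ)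
  have hθN : ∀ (μ : M) (t : T) (m : G) (hm : m ∈ N),
      θc μ (⟨m, hNT hm⟩ * t) = L m * θc μ t := by
    intro μ t m hm
    show ((θ μ (_ * t) : ℂˣ) : ℂ) = _
    rw [map_mul, Units.val_mul]
    congr 1
    show ((lam ⟨m * (π m)⁻¹, hπN m⟩ * μ.1 ⟨π m, (hmemT _).mp (hNT hm)⟩ : ℂˣ) : ℂ) = _
    have h1 : (⟨π m, (hmemT _).mp (hNT hm)⟩ : S) = 1 := Subtype.ext (hπn m hm)
    have h2 : (⟨m * (π m)⁻¹, hπN m⟩ : N) = ⟨m, hm⟩ := Subtype.ext (by
      show m * (π m)⁻¹ = m
      rw [hπn m hm, inv_one, mul_one])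
    rw [h1, h2, map_one, mul_one]
    simp [L, hm]
  have hext : ∀ (μ : M) (m : G), m ∈ N → ∀ y : G,
      Cfsg.extendByZero T (θc μ) (m * y) = L m * Cfsg.extendByZero T (θc μ) y := by
    intro μ m hm y
    by_cases hy : y ∈ T
    · rw [extendByZero_of_mem T _ (mul_mem (hNT hm) hy), extendByZero_of_mem T _ hy, ← hθN μ ⟨y, hy⟩ m hm]
      rfl
    · rw [extendByZero_of_not_mem T _ hy, extendByZero_of_not_mem T _
        (fun h => hy (by simpa using mul_mem (inv_mem (hNT hm)) h)), mul_zero]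
  have hG0 : (Nat.card G : ℂ) ≠ 0 := natCard_ne_zero_complex
  have hT0 : (Nat.card T : ℂ) ≠ 0 := by exact_mod_cast Nat.card_pos.ne'
  let χ : M → G → ℂ := fun μ => Cfsg.indFun T (θc μ)
  have hχchar : ∀ μ, Cfsg.IsCharacter G (χ μ) := fun μ => IsCharacter.indFun T
    (IsIrrCharacter.isCharacter (isIrrCharacter_unitsHom (θ μ)))
  have horth : ∀ μ μ' : M, Cfsg.classInner (χ μ) (χ μ') = if μ = μ' then 1 else 0 := by
    intro μ μ'
    show Cfsg.classInner (Cfsg.indFun T (θc μ)) (Cfsg.indFun T (θc μ')) = _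
    rw [classInner_indFun T _ (isClassFunction_indFun T _)]
    unfold Cfsg.classInner
    simp only [indFun_apply, map_mul, map_inv₀, map_natCast, map_sum, Finset.mul_sum]
    rw [Finset.sum_comm]
    have hx : ∀ x : G, ∑ t : T, θc μ t * conj (Cfsg.extendByZero T (θc μ') (x⁻¹ * (t : G) * x)) =
        if x ∈ T then (if μ = μ' then (Nat.card T : ℂ) else 0) else 0 := by
      intro x
      split_ifs with hxT hμ
      · subst hμ
        rw [Finset.sum_congr rfl (g := fun _ => (1 : ℂ)) (fun t _ => ?_), Finset.sum_const,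
          Finset.card_univ, nsmul_eq_mul, mul_one, Nat.card_eq_fintype_card]
        rw [extendByZero_of_mem T _ (mul_mem (mul_mem (inv_mem hxT) t.2) hxT)]
        have h1 : θ μ ⟨x⁻¹ * (t : G) * x, mul_mem (mul_mem (inv_mem hxT) t.2) hxT⟩ = θ μ t := by
          have : (⟨x⁻¹ * (t : G) * x, mul_mem (mul_mem (inv_mem hxT) t.2) hxT⟩ : T) =
              ⟨x, hxT⟩⁻¹ * t * ⟨x, hxT⟩ := rfl
          rw [this, map_mul, map_mul, map_inv, mul_right_comm, inv_mul_cancel, one_mul]
        show _ * conj ((θ μ _ : ℂˣ) : ℂ) = 1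
        rw [h1]
        have hn1 : ‖((θ μ t : ℂˣ) : ℂ)‖ = 1 := by
          refine Complex.norm_eq_one_of_pow_eq_one (n := Nat.card T) ?_ Nat.card_pos.ne'
          rw [← Units.val_pow_eq_pow_val, ← map_pow, pow_card_eq_one', map_one, Units.val_one]
        show ((θ μ t : ℂˣ) : ℂ) * conj ((θ μ t : ℂˣ) : ℂ) = 1
        rw [Complex.mul_conj, Complex.normSq_eq_norm_sq, hn1]
        norm_num
      · -- distinct characters of `S`
        have hval : ∀ t : T, θc μ t * conj (Cfsg.extendByZero T (θc μ') (x⁻¹ * (t : G) * x)) =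
            ((θ μ t * (θ μ' t)⁻¹ : ℂˣ) : ℂ) := by
          intro t
          rw [extendByZero_of_mem T _ (mul_mem (mul_mem (inv_mem hxT) t.2) hxT)]
          have h1 : θ μ' ⟨x⁻¹ * (t : G) * x, mul_mem (mul_mem (inv_mem hxT) t.2) hxT⟩ = θ μ' t := by
            have : (⟨x⁻¹ * (t : G) * x, mul_mem (mul_mem (inv_mem hxT) t.2) hxT⟩ : T) =
                ⟨x, hxT⟩⁻¹ * t * ⟨x, hxT⟩ := rfl
            rw [this, map_mul, map_mul, map_inv, mul_right_comm, inv_mul_cancel, one_mul]
          show _ * conj ((θ μ' _ : ℂˣ) : ℂ) = _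
          rw [h1, Units.val_mul]
          congr 1
          have hn1 : ‖((θ μ' t : ℂˣ) : ℂ)‖ = 1 := by
            refine Complex.norm_eq_one_of_pow_eq_one (n := Nat.card T) ?_ Nat.card_pos.ne'
            rw [← Units.val_pow_eq_pow_val, ← map_pow, pow_card_eq_one', map_one, Units.val_one]
          rw [Units.val_inv_eq_inv_val, Complex.inv_def, Complex.normSq_eq_norm_sq, hn1]
          simp
        rw [Finset.sum_congr rfl fun t _ => hval t]
        let ψ : T →* ℂˣ := θ μ * (θ μ')⁻¹
        have hψ : ψ ≠ 1 := by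
          intro h
          apply hμ
          apply Subtype.ext
          ext s
          have hs : π (s : G) = s := hπp _ (hSP s.2)
          have hsT : (s : G) ∈ T := (hmemT _).mpr (by rw [hs]; exact s.2)
          have h1 : θ μ ⟨s, hsT⟩ = θ μ' ⟨s, hsT⟩ := by
            have := DFunLike.congr_fun h ⟨s, hsT⟩
            exact mul_inv_eq_one.mp this
          have h2 : (⟨π (s : G), (hmemT _).mp hsT⟩ : S) = s := Subtype.ext hs
          have h3 := mul_left_cancel (show lam ⟨(s : G) * (π s)⁻¹, hπN _⟩ * μ.1 ⟨π (s : G), (hmemT _).mp hsT⟩ =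
            lam ⟨(s : G) * (π s)⁻¹, hπN _⟩ * μ'.1 ⟨π (s : G), (hmemT _).mp hsT⟩ from h1)
          rw [h2] at h3
          rw [h3]
        exact sum_hom_units_eq_zero ((Units.coeHom ℂ).comp ψ) (fun h => hψ (MonoidHom.ext fun t =>
          Units.ext (DFunLike.congr_fun h t)))
      · -- `x ∉ T`
        have hp : (π x)⁻¹ ∉ S := fun h => hxT ((hmemT x).mpr (by simpa using inv_mem h))
        obtain ⟨m, hm, hmne⟩ : ∃ m ∈ N, L ((π x)⁻¹ * m * (π x)) ≠ L m := by
          by_contra hcon
          push Not at hcon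
          exact hp ⟨inv_mem (hπP x), fun n hn => by rw [inv_inv]; exact hcon n hn⟩
        set m' := x⁻¹ * m * x with hm'
        have hm'N : m' ∈ N := by
          have := hN.conj_mem m hm x⁻¹; rwa [inv_inv] at this
        have hm'eq : m' = (π x)⁻¹ * m * π x := by
          have h1 := hNc _ hm _ (hπN x)
          calc m' = (π x)⁻¹ * ((x * (π x)⁻¹)⁻¹ * (m * (x * (π x)⁻¹))) * π x := by rw [hm']; group
            _ = (π x)⁻¹ * m * π x := by rw [h1, inv_mul_cancel_left]
        set W := ∑ t : T, θc μ t * conj (Cfsg.extendByZero T (θc μ') (x⁻¹ * (t : G) * x)) with hS0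
        have h2 : W = L m * conj (L m') * W := by
          conv_lhs => rw [hS0, ← Equiv.sum_comp (Equiv.mulLeft (⟨m, hNT hm⟩ : T))]
          rw [hS0, Finset.mul_sum]
          refine Finset.sum_congr rfl fun t _ => ?_
          simp only [Equiv.coe_mulLeft, Subgroup.coe_mul]
          rw [show x⁻¹ * (m * (t : G)) * x = m' * (x⁻¹ * (t : G) * x) by rw [hm']; group,
            hext μ' m' hm'N, hθN μ t m hm, map_mul]
          ring
        have hc : L m * conj (L m') ≠ 1 := by
          intro h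
          apply hmne
          rw [← hm'eq]
          have hn1 : ∀ a ∈ N, ‖L a‖ = 1 := fun a ha => by
            simp only [L, dif_pos ha]
            refine Complex.norm_eq_one_of_pow_eq_one (n := q) ?_ (Fact.out : q.Prime).ne_zero
            rw [← Units.val_pow_eq_pow_val, ← map_pow, show (⟨a, ha⟩ : N) ^ q = 1 from Subtype.ext (hNexp a ha),
              map_one, Units.val_one]
          calc L m' = (L m * conj (L m')) * L m' := by rw [h, one_mul]
            _ = L m * ((Complex.normSq (L m') : ℝ) : ℂ) := by rw [mul_assoc, mul_comm (conj _), Complex.mul_conj]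
            _ = L m := by rw [Complex.normSq_eq_norm_sq, hn1 m' hm'N]; norm_num
        have h3 : (1 - L m * conj (L m')) * W = 0 := by rw [sub_mul, one_mul, ← h2, sub_self]
        exact (mul_eq_zero.mp h3).resolve_left (sub_ne_zero.mpr (Ne.symm hc))
    have hterm : ∀ x : G, ∑ t : T, (Nat.card T : ℂ)⁻¹ *
        (θc μ t * ((Nat.card T : ℂ)⁻¹ * conj (Cfsg.extendByZero T (θc μ') (x⁻¹ * (t : G) * x)))) =
        (Nat.card T : ℂ)⁻¹ * (Nat.card T : ℂ)⁻¹ *
          (if x ∈ T then (if μ = μ' then (Nat.card T : ℂ) else 0) else 0) := by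
      intro x
      rw [← hx x, Finset.mul_sum]
      exact Finset.sum_congr rfl fun t _ => by ring
    rw [Finset.sum_congr rfl fun x _ => hterm x, ← Finset.mul_sum, Finset.sum_ite,
      Finset.sum_const_zero, add_zero, Finset.sum_const, nsmul_eq_mul, ← Fintype.card_subtype,
      ← Nat.card_eq_fintype_card]
    split_ifs
    · show (Nat.card T : ℂ)⁻¹ * (Nat.card T : ℂ)⁻¹ * ((Nat.card T : ℂ) * (Nat.card T : ℂ)) = 1
      field_simp
    · simp
  have hFS : ∀ μ, (Nat.card G : ℂ)⁻¹ * ∑ᶠ g : G, χ μ (g * g) = 1 := by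
    intro μ
    rw [finsum_eq_sum_of_fintype]
    simp only [χ, indFun_apply, ← Finset.mul_sum]
    rw [Finset.sum_comm]
    have hx : ∀ x : G, ∑ g : G, Cfsg.extendByZero T (θc μ) (x⁻¹ * (g * g) * x) =
        ∑ g : G, Cfsg.extendByZero T (θc μ) (g * g) := fun x =>
      Fintype.sum_equiv (MulAut.conj x⁻¹).toEquiv _ _ fun g => by
        simp only [MulEquiv.toEquiv_eq_coe, EquivLike.coe_coe, MulAut.conj_apply, inv_inv]
        congr 1
        group
    rw [Finset.sum_congr rfl fun x _ => hx x, Finset.sum_const, Finset.card_univ, nsmul_eq_mul,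
      ← Nat.card_eq_fintype_card]
    set F : G → ℂ := fun g => Cfsg.extendByZero T (θc μ) (g * g) with hF
    have hsum : ∑ g : G, F g = (Nat.card T : ℂ) := by
      let c : G → N → ℂ := fun g m => L ((m : G) * (g * (m : G) * g⁻¹))
      have hshift : ∀ m : N, ∑ g : G, c g m * F g = ∑ g : G, F g := by
        intro m
        conv_rhs => rw [← Equiv.sum_comp (Equiv.mulLeft (m : G))]
        refine Finset.sum_congr rfl fun g _ => ?_
        simp only [Equiv.coe_mulLeft, hF, c]
        rw [show (m : G) * g * ((m : G) * g) = ((m : G) * (g * (m : G) * g⁻¹)) * (g * g) by group,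
          hext μ _ (mul_mem m.2 (hN.conj_mem _ m.2 g))]
      have hcN : ∀ g : G, ∑ m : N, c g m = if z * π g ∈ S then (Nat.card N : ℂ) else 0 := by
        intro g
        have hconj : ∀ n ∈ N, g * n * g⁻¹ = π g * n * (π g)⁻¹ := fun n hn => by
          calc g * n * g⁻¹ = (g * (π g)⁻¹) * (π g * n * (π g)⁻¹) * (g * (π g)⁻¹)⁻¹ := by group
            _ = π g * n * (π g)⁻¹ := by
              rw [hNc _ (hπN g) _ (hN.conj_mem n hn _), mul_inv_cancel_right]
        have hzp : ∀ n ∈ N, L ((z * π g) * n * (z * π g)⁻¹) = L (π g * n * (π g)⁻¹)⁻¹ := by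
          intro n hn
          congr 1
          rw [← hzinv _ (hN.conj_mem n hn (π g))]
          group
        let ψ : N →* ℂ :=
          { toFun := fun m => c g m
            map_one' := by
              show L ((1 : G) * (g * 1 * g⁻¹)) = 1
              rw [one_mul, mul_one, mul_inv_cancel, hL1]
            map_mul' := fun a b => by
              simp only [c, Subgroup.coe_mul]
              rw [← hLmul _ (mul_mem a.2 (hN.conj_mem _ a.2 g)) _ (mul_mem b.2 (hN.conj_mem _ b.2 g))]
              congr 1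
              have h1 := hNc _ b.2 _ (hN.conj_mem _ a.2 g)
              calc (a : G) * b * (g * (a * b) * g⁻¹) = a * (b * (g * a * g⁻¹)) * (g * b * g⁻¹) := by group
                _ = a * ((g * a * g⁻¹) * b) * (g * b * g⁻¹) := by rw [h1]
                _ = a * (g * a * g⁻¹) * (b * (g * b * g⁻¹)) := by group }
        have hiff : ψ = 1 ↔ z * π g ∈ S := by
          constructor
          · intro h
            refine ⟨mul_mem hzP (hπP g), fun n hn => ?_⟩
            rw [hzp n hn]
            have h1 : c g ⟨n, hn⟩ = 1 := DFunLike.congr_fun h ⟨n, hn⟩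
            simp only [c, hconj n hn] at h1
            rw [hLmul n hn _ (hN.conj_mem n hn _)] at h1
            have h2 := hLmul _ (hN.conj_mem n hn (π g)) _ (inv_mem (hN.conj_mem n hn (π g)))
            rw [mul_inv_cancel, hL1] at h2
            have := hLne0 _ (hN.conj_mem n hn (π g))
            apply mul_right_cancel₀ this
            rw [h1, mul_comm]; exact h2.symm
          · intro h
            ext ⟨n, hn⟩
            show c g ⟨n, hn⟩ = 1
            simp only [c, hconj n hn]
            rw [hLmul n hn _ (hN.conj_mem n hn _), ← h.2 n hn, hzp n hn, mul_comm,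
              ← hLmul _ (hN.conj_mem n hn _) _ (inv_mem (hN.conj_mem n hn _)), mul_inv_cancel, hL1]
        split_ifs with hS
        · have h1 : ∀ m : N, c g m = 1 := fun m => DFunLike.congr_fun (hiff.mpr hS) m
          rw [Finset.sum_congr rfl fun m _ => h1 m, Finset.sum_const, Finset.card_univ, nsmul_eq_mul,
            mul_one, Nat.card_eq_fintype_card]
        · exact sum_hom_units_eq_zero ψ (fun h => hS (hiff.mp h))
      have hN0 : (Nat.card N : ℂ) ≠ 0 := by exact_mod_cast Nat.card_pos.ne'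
      apply mul_left_cancel₀ hN0
      calc (Nat.card N : ℂ) * ∑ g : G, F g = ∑ m : N, ∑ g : G, c g m * F g := by
            rw [Finset.sum_congr rfl fun m _ => hshift m, Finset.sum_const, Finset.card_univ,
              nsmul_eq_mul, Nat.card_eq_fintype_card]
        _ = ∑ g : G, (if z * π g ∈ S then (Nat.card N : ℂ) else 0) * F g := by
            rw [Finset.sum_comm]
            exact Finset.sum_congr rfl fun g _ => by rw [← Finset.sum_mul, hcN]
        _ = ∑ g : G, if z * π g ∈ S then (Nat.card N : ℂ) else 0 := by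
            refine Finset.sum_congr rfl fun g _ => ?_
            split_ifs with hS
            · suffices F g = 1 by rw [this, mul_one]
              have hp2 : π (g * g) = (z * π g) * (z * π g) := by
                rw [map_mul]
                calc π g * π g = (z * z) * (π g * π g) := by rw [hz2, one_mul]
                  _ = z * (z * π g) * π g := by group
                  _ = z * (π g * z) * π g := by rw [hzc _ (hπP g)]
                  _ = z * π g * (z * π g) := by group
              have hgT : g * g ∈ T := (hmemT _).mpr (by rw [hp2]; exact mul_mem hS hS)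
              show Cfsg.extendByZero T (θc μ) (g * g) = 1
              rw [extendByZero_of_mem T _ hgT]
              show ((lam ⟨g * g * (π (g * g))⁻¹, hπN _⟩ * μ.1 ⟨π (g * g), (hmemT _).mp hgT⟩ : ℂˣ) : ℂ) = 1
              have h1 : (⟨π (g * g), (hmemT _).mp hgT⟩ : S) = ⟨z * π g, hS⟩ * ⟨z * π g, hS⟩ :=
                Subtype.ext hp2
              rw [h1, map_mul μ.1, μ.2, mul_one]
              set n := g * (π g)⁻¹ with hn
              have hnN : n ∈ N := hπN g
              have h2 : g * g * (π (g * g))⁻¹ = n * (π g * n * (π g)⁻¹) := by rw [hn, map_mul]; group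
              have h3 : ((lam ⟨g * g * (π (g * g))⁻¹, hπN _⟩ : ℂˣ) : ℂ) = L (n * (π g * n * (π g)⁻¹)) := by
                rw [← h2]; simp only [L, dif_pos (hπN (g * g))]
              rw [h3, hLmul n hnN _ (hN.conj_mem n hnN _), ← hS.2 n hnN]
              have h4 : (z * π g) * n * (z * π g)⁻¹ = (π g * n * (π g)⁻¹)⁻¹ := by
                rw [← hzinv _ (hN.conj_mem n hnN (π g))]; group
              rw [h4, ← hLmul _ (inv_mem (hN.conj_mem n hnN _)) _ (hN.conj_mem n hnN _), inv_mul_cancel, hL1]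
            · rw [zero_mul]
        _ = (Nat.card N : ℂ) * (Nat.card T : ℂ) := by
            rw [Finset.sum_ite, Finset.sum_const_zero, add_zero, Finset.sum_const, nsmul_eq_mul,
              ← Fintype.card_subtype, ← Nat.card_eq_fintype_card, mul_comm]
            congr 2
            refine Nat.card_congr ((Equiv.mulLeft z).subtypeEquiv fun g => ?_)
            show z * π g ∈ S ↔ z * g ∈ T
            rw [hmemT, map_mul, hπp z hzP]
    show (Nat.card G : ℂ)⁻¹ * ((Nat.card T : ℂ)⁻¹ * ((Nat.card G : ℂ) * ∑ g : G, F g)) = 1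
    rw [hsum]
    field_simp
  have hirr : ∀ μ, Cfsg.IsIrrCharacter G (χ μ) := fun μ =>
    (IsCharacter.isIrr_iff (hχchar μ)).mpr (by rw [horth, if_pos rfl])
  have hdeg : ∀ μ, Cfsg.charDegree (χ μ) = k := fun μ => by
    refine charDegree_of_apply_one ?_
    show Cfsg.indFun T (θc μ) 1 = _
    rw [indFun_one]
    show (T.index : ℂ) * ((θ μ 1 : ℂˣ) : ℂ) = _
    rw [map_one, Units.val_one, mul_one]
  -- counting
  haveI : Finite (Cfsg.IrrCharacter G) := irr_linearIndependent.finite
  haveI := Fintype.ofFinite (Cfsg.IrrCharacter G)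
  let X := {χ : Cfsg.IrrCharacter G // (Cfsg.charDegree (χ : G → ℂ) = 1 ∨ 2 ∣ Cfsg.charDegree (χ : G → ℂ)) ∧ (Nat.card G : ℂ)⁻¹ * ∑ᶠ g : G, (χ : G → ℂ) (g * g) = 1}
  let emb : M → X := fun μ => ⟨⟨χ μ, hirr μ⟩, Or.inr (by rw [hdeg]; exact hk2.1), hFS μ⟩
  have hemb : Function.Injective emb := by
    intro a b hab
    have h1 : χ a = χ b := congrArg (fun t : X => (t.1 : G → ℂ)) hab
    by_contra hne
    have h2 := horth a b
    rw [if_neg hne, h1, horth, if_pos rfl] at h2
    exact one_ne_zero h2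
  haveI : Finite M := Finite.of_injective emb hemb
  haveI := Fintype.ofFinite M
  rw [finsum_eq_sum_of_fintype, Nat.card_eq_fintype_card]
  let d : X → ℕ := fun x => Cfsg.charDegree (x.1 : G → ℂ)
  set A := Finset.univ.filter (fun x : X => d x = 1) with hA
  set B := Finset.univ.filter (fun x : X => ¬ d x = 1) with hB
  have hB2 : ∀ x ∈ B, 2 ≤ d x := by
    intro x hx
    have h1 := (Finset.mem_filter.mp hx).2
    obtain ⟨c, hc⟩ := x.2.1.resolve_left h1
    have h3 : 0 < d x := charDegree_irr_pos x.1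
    omega
  have hembB : Finset.univ.image emb ⊆ B := by
    intro x hx
    obtain ⟨μ, -, rfl⟩ := Finset.mem_image.mp hx
    refine Finset.mem_filter.mpr ⟨Finset.mem_univ _, ?_⟩
    show ¬ Cfsg.charDegree (χ μ) = 1
    rw [hdeg]
    have := hk2.2
    omega
  have hAle : A.card ≤ k * Fintype.card M := by
    have hlin : ∀ x ∈ A, ∃ φ : G →* ℂˣ, (x.1 : G → ℂ) = (fun g => ((φ g : ℂˣ) : ℂ)) ∧
        ∀ g, φ g * φ g = 1 := by
      intro x hx
      have h1 : d x = 1 := (Finset.mem_filter.mp hx).2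
      have hone : (x.1 : G → ℂ) 1 = 1 := by
        rw [irr_apply_one]; show ((d x : ℕ) : ℂ) = 1; rw [h1, Nat.cast_one]
      obtain ⟨φ, hφ⟩ := IsCharacter.exists_hom_of_apply_one (irr_isCharacter x.1) hone
      refine ⟨φ, hφ, ?_⟩
      have h2 := x.2.2
      rw [finsum_eq_sum_of_fintype] at h2
      by_contra hcon
      push Not at hcon
      obtain ⟨g₁, hg₁⟩ := hcon
      let ψ : G →* ℂ := (Units.coeHom ℂ).comp (φ * φ)
      have hψ : ψ ≠ 1 := fun h => hg₁ (Units.ext (DFunLike.congr_fun h g₁))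
      have h3 := sum_hom_units_eq_zero ψ hψ
      have h4 : ∑ g : G, (x.1 : G → ℂ) (g * g) = ∑ g : G, ψ g := Finset.sum_congr rfl fun g _ => by
        rw [hφ]
        show ((φ (g * g) : ℂˣ) : ℂ) = ((φ g * φ g : ℂˣ) : ℂ)
        rw [map_mul]
      rw [h4, h3, mul_zero] at h2
      exact zero_ne_one h2
    let f : A → (G →* ℂˣ) := fun x => (hlin x.1 x.2).choose
    have hf : ∀ x : A, (x.1.1 : G → ℂ) = (fun g => ((f x g : ℂˣ) : ℂ)) ∧ ∀ g, f x g * f x g = 1 :=
      fun x => (hlin x.1 x.2).choose_spec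
    let r : A → M := fun x => ⟨(f x).comp S.subtype, fun s => (hf x).2 s⟩
    have hfib : ∀ μ : M, (Finset.univ.filter (fun x : A => r x = μ)).card ≤ k := by
      intro μ
      by_cases hemp : (Finset.univ.filter (fun x : A => r x = μ)) = ∅
      · rw [hemp]; simp
      obtain ⟨x₀, hx₀⟩ := Finset.nonempty_iff_ne_empty.mpr hemp
      have hφN : ∀ (x : A), ∀ n ∈ N, f x n = 1 := by
        intro x n hn
        have h2 : f x n ^ 2 = 1 := by rw [pow_two]; exact (hf x).2 n
        have h3 : f x n ^ q = 1 := by rw [← map_pow, hNexp n hn, map_one]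
        have h4 := pow_gcd_eq_one.mpr ⟨h2, h3⟩
        rwa [(Nat.coprime_primes Nat.prime_two Fact.out).mpr (Ne.symm hq) |>.gcd_eq_one, pow_one] at h4
      let Fib := {x : A // r x = μ}
      let hom : Fib → (G →* ℂ) := fun x => (Units.coeHom ℂ).comp (f x.1 * (f x₀)⁻¹)
      have hhom : Function.Injective hom := by
        intro a b hab
        apply Subtype.ext
        apply Subtype.ext
        apply Subtype.ext
        apply Subtype.ext
        funext g
        rw [(hf a.1).1, (hf b.1).1]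
        have := DFunLike.congr_fun hab g
        have h1 : f a.1 g * (f x₀ g)⁻¹ = f b.1 g * (f x₀ g)⁻¹ := Units.ext this
        show ((f a.1 g : ℂˣ) : ℂ) = ((f b.1 g : ℂˣ) : ℂ)
        rw [mul_right_cancel h1]
      have hli : LinearIndependent ℂ (fun x : Fib => (hom x : G → ℂ)) :=
        (linearIndependent_monoidHom G ℂ).comp hom hhom
      let v : Fib → (G ⧸ T → ℂ) := fun x c => hom x c.out
      let Φ : (G ⧸ T → ℂ) →ₗ[ℂ] (G → ℂ) := LinearMap.funLeft ℂ ℂ (fun g : G => (g : G ⧸ T))
      have hv : (fun x : Fib => (hom x : G → ℂ)) = Φ ∘ v := by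
        funext x g
        show hom x g = hom x ((g : G ⧸ T).out)
        obtain ⟨t, ht⟩ := QuotientGroup.mk_out_eq_mul T g
        rw [ht, map_mul]
        have ht' : hom x (t : G) = 1 := by
          show ((f x.1 (t : G) * (f x₀ (t : G))⁻¹ : ℂˣ) : ℂ) = 1
          have hr : r x.1 = r x₀ := x.2.trans (Finset.mem_filter.mp hx₀).2.symm
          have hS' : f x.1 (π t) = f x₀ (π t) :=
            DFunLike.congr_fun (congrArg Subtype.val hr) ⟨π t, (hmemT _).mp t.2⟩
          have hdecomp : ∀ y : A, f y (t : G) = f y (π t) := fun y => by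
            conv_lhs => rw [show (t : G) = ((t : G) * (π t)⁻¹) * π t by group]
            rw [map_mul, hφN y _ (hπN _), one_mul]
          rw [hdecomp, hdecomp, hS', mul_inv_cancel, Units.val_one]
        rw [ht', mul_one]
      rw [hv] at hli
      haveI := Fintype.ofFinite (G ⧸ T)
      have h1 := (LinearIndependent.of_comp Φ hli).fintype_card_le_finrank
      rw [Module.finrank_fintype_fun_eq_card, ← Nat.card_eq_fintype_card (α := G ⧸ T),
        ← Subgroup.index_eq_card, Fintype.card_subtype] at h1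
      exact h1
    calc A.card = (Finset.univ : Finset A).card := by rw [Finset.card_univ, Fintype.card_coe]
      _ = ∑ μ : M, (Finset.univ.filter (fun x : A => r x = μ)).card :=
          Finset.card_eq_sum_card_fiberwise fun x _ => Finset.mem_univ _
      _ ≤ ∑ _μ : M, k := Finset.sum_le_sum fun μ _ => hfib μ
      _ = k * Fintype.card M := by rw [Finset.sum_const, Finset.card_univ, smul_eq_mul, mul_comm]
  have hBsum : k * Fintype.card M + 4 * B.card ≤ 3 * ∑ x ∈ B, d x := by
    have hge : ∑ x ∈ Finset.univ.image emb, (3 * d x - 4) ≤ ∑ x ∈ B, (3 * d x - 4) :=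
      Finset.sum_le_sum_of_subset hembB
    rw [Finset.sum_image fun a _ b _ h => hemb h] at hge
    have hd : ∀ μ, d (emb μ) = k := fun μ => hdeg μ
    simp only [hd, Finset.sum_const, Finset.card_univ, smul_eq_mul] at hge
    have hkk : k ≤ 3 * k - 4 := by have := hk2.2; omega
    have h1 : k * Fintype.card M ≤ Fintype.card M * (3 * k - 4) := by
      rw [mul_comm]; exact Nat.mul_le_mul_left _ hkk
    have h2 : ∑ x ∈ B, (3 * d x - 4) + 4 * B.card = 3 * ∑ x ∈ B, d x := by
      rw [Finset.mul_sum, show 4 * B.card = ∑ _x ∈ B, 4 by rw [Finset.sum_const, smul_eq_mul, mul_comm],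
        ← Finset.sum_add_distrib]
      exact Finset.sum_congr rfl fun x hx => by have := hB2 x hx; omega
    omega
  have hcard : Fintype.card X = A.card + B.card := by
    rw [← Finset.card_univ]
    exact (Finset.card_filter_add_card_filter_not (s := Finset.univ) (fun x : X => d x = 1)).symm
  have hdsum : ∑ x : X, d x = A.card + ∑ x ∈ B, d x := by
    rw [← Finset.sum_filter_add_sum_filter_not Finset.univ (fun x : X => d x = 1)]
    congr 1
    rw [Finset.sum_congr rfl (g := fun _ => 1) fun x hx => (Finset.mem_filter.mp hx).2,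
      Finset.sum_const, smul_eq_mul, mul_one]
  show 4 * Fintype.card X ≤ 3 * ∑ x : X, d x
  omega

end Cfsg.Agent.Lib.PLocal.StronglyRealAverage
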