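import Cfsg.Agent.Lib.PLocal.SupersolubleCriterion
import Cfsg.Agent.Lib.Fusion.Inner
import Mathlib.GroupTheory.FiniteAbelian.Basic

/-!
Supersoluble systems on abelian groups: distinct invariants against a homocyclic summand.
-/

set_option autoImplicit false
set_option linter.unusedSectionVars false

namespace Cfsg.Agent.Lib.PLocal.Supersol

open Cfsg Cfsg.FusionSystem Cfsg.Agent.Lib.Fusion

variable {p : ℕ} [hp : Fact p.Prime]

/-- With distinct invariants the layers of the socle have order at most `p`. -/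
theorem layer_small {T : Type*} [CommGroup T] {ι : Type*} [Fintype ι] (e : ι → ℕ)
    (he : Function.Injective e) (φ : T ≃* ((i : ι) → Multiplicative (ZMod (p ^ e i)))) (i : ℕ)
    (w z : T) (hw : (w ^ p ^ i) ^ p = 1) (hz : (z ^ p ^ i) ^ p = 1)
    (hzn : ¬ ∃ z' : T, z' ^ p ^ (i + 1) = z ^ p ^ i) :
    ∃ (c : ℕ) (w' : T), w' ^ p ^ (i + 1) = w ^ p ^ i * ((z ^ p ^ i) ^ c)⁻¹ := by
  classical
  have hord : ∀ (x : T), (x ^ p ^ i) ^ p = 1 → ∀ j : ι,
      p ^ e j ∣ p ^ (i + 1) * (Multiplicative.toAdd (φ x j)).val := by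
    intro x hx j
    haveI : NeZero (p ^ e j) := ⟨(pow_pos hp.out.pos _).ne'⟩
    have h1 : (φ x j) ^ p ^ (i + 1) = 1 := by
      rw [← Pi.pow_apply, ← map_pow, pow_succ, pow_mul, hx, map_one]; rfl
    have h2 := congrArg Multiplicative.toAdd h1
    rw [toAdd_pow, toAdd_one, nsmul_eq_mul] at h2
    rw [← ZMod.natCast_eq_zero_iff]
    push_cast
    rw [ZMod.natCast_val, ZMod.cast_id]
    simpa using h2
  -- coordinates with invariant different from `i + 1` are powers
  have hdiv : ∀ (x : T), (x ^ p ^ i) ^ p = 1 → ∀ j : ι, e j ≠ i + 1 →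
      ∃ b : ℕ, (p ^ i * (Multiplicative.toAdd (φ x j)).val : ZMod (p ^ e j)) =
        (p ^ (i + 1) * b : ℕ) := by
    intro x hx j hj
    rcases lt_or_gt_of_ne hj with h | h
    · refine ⟨0, ?_⟩
      have h0 : ((p ^ i : ℕ) : ZMod (p ^ e j)) = 0 :=
        (ZMod.natCast_eq_zero_iff _ _).2 (pow_dvd_pow p (by omega))
      push_cast at h0 ⊢
      rw [h0]; simp
    · have h1 := hord x hx j
      have h1' : p ^ (i + 1) * p ^ (e j - (i + 1)) ∣ p ^ (i + 1) * (Multiplicative.toAdd (φ x j)).val := by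
        rwa [← pow_add, show i + 1 + (e j - (i + 1)) = e j by omega]
      obtain ⟨b, hb⟩ := (dvd_pow_self p (show e j - (i + 1) ≠ 0 by omega)).trans
        (Nat.dvd_of_mul_dvd_mul_left (pow_pos hp.out.pos _) h1')
      refine ⟨b, ?_⟩
      rw [hb]; push_cast; ring
  have hval : ∀ (x : T) (j : ι), Multiplicative.toAdd (φ (x ^ p ^ i) j) =
      (p ^ i * (Multiplicative.toAdd (φ x j)).val : ZMod (p ^ e j)) := fun x j => by
    haveI : NeZero (p ^ e j) := ⟨(pow_pos hp.out.pos _).ne'⟩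
    rw [map_pow, Pi.pow_apply, toAdd_pow, nsmul_eq_mul, ZMod.natCast_val, ZMod.cast_id]
    push_cast; rfl
  -- choose the multiplier
  obtain ⟨c, hc⟩ : ∃ c : ℕ, ∀ j, e j = i + 1 →
      (p : ℤ) ∣ ((Multiplicative.toAdd (φ w j)).val : ℤ) - c * (Multiplicative.toAdd (φ z j)).val := by
    by_cases hex : ∃ j, e j = i + 1
    · obtain ⟨j₀, hj₀⟩ := hex
      have hzj : ¬ p ∣ (Multiplicative.toAdd (φ z j₀)).val := by
        intro hd
        apply hzn
        have hall : ∀ j, ∃ b : ℕ, (p ^ i * (Multiplicative.toAdd (φ z j)).val : ZMod (p ^ e j)) =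
            (p ^ (i + 1) * b : ℕ) := by
          intro j
          by_cases hj : e j = i + 1
          · obtain rfl := he (hj.trans hj₀.symm)
            obtain ⟨b, hb⟩ := hd
            refine ⟨b, ?_⟩
            rw [hb]; push_cast; ring
          · exact hdiv z hz j hj
        choose b hb using hall
        refine ⟨φ.symm fun j => Multiplicative.ofAdd (b j : ZMod (p ^ e j)), φ.injective ?_⟩
        funext j
        apply Multiplicative.toAdd.injective
        rw [hval, hb, map_pow, φ.apply_symm_apply, Pi.pow_apply, toAdd_pow, toAdd_ofAdd, nsmul_eq_mul]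
        push_cast; rfl
      set a := (Multiplicative.toAdd (φ w j₀)).val
      set b := (Multiplicative.toAdd (φ z j₀)).val
      have hb : (b : ZMod p) ≠ 0 := by rwa [Ne, ZMod.natCast_eq_zero_iff]
      refine ⟨((a : ZMod p) * (b : ZMod p)⁻¹).val, fun j hj => ?_⟩
      obtain rfl := he (hj.trans hj₀.symm)
      rw [← ZMod.intCast_zmod_eq_zero_iff_dvd]
      push_cast
      rw [ZMod.natCast_zmod_val, mul_assoc, inv_mul_cancel₀ hb, mul_one, sub_self]
    · exact ⟨0, fun j hj => absurd ⟨j, hj⟩ hex⟩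
  have hfin : ∀ j, ∃ b : ℤ, ((p ^ (i + 1) : ℕ) : ZMod (p ^ e j)) * (b : ZMod (p ^ e j)) =
      (p ^ i * (Multiplicative.toAdd (φ w j)).val : ZMod (p ^ e j)) -
        (c : ZMod (p ^ e j)) * (p ^ i * (Multiplicative.toAdd (φ z j)).val : ZMod (p ^ e j)) := by
    intro j
    by_cases hj : e j = i + 1
    · obtain ⟨b, hb⟩ := hc j hj
      refine ⟨b, ?_⟩
      have hb' := congrArg (fun t : ℤ => (t : ZMod (p ^ e j))) hb
      push_cast at hb' ⊢
      rw [pow_succ, mul_assoc, ← hb']
      ring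
    · obtain ⟨b₁, hb₁⟩ := hdiv w hw j hj
      obtain ⟨b₂, hb₂⟩ := hdiv z hz j hj
      refine ⟨(b₁ : ℤ) - c * b₂, ?_⟩
      rw [hb₁, hb₂]
      push_cast; ring
  choose b hb using hfin
  refine ⟨c, φ.symm fun j => Multiplicative.ofAdd (b j : ZMod (p ^ e j)), φ.injective ?_⟩
  funext j
  apply Multiplicative.toAdd.injective
  rw [map_pow φ, φ.apply_symm_apply, map_mul φ, map_inv φ, map_pow φ (z ^ p ^ i) c, Pi.mul_apply,
    Pi.inv_apply, Pi.pow_apply, Pi.pow_apply, toAdd_mul, toAdd_inv, toAdd_pow, toAdd_pow, toAdd_ofAdd,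
    hval, hval, nsmul_eq_mul, nsmul_eq_mul, ← sub_eq_add_neg]
  exact hb j

/-- Invariant steps in an abelian group with distinct invariants. -/
theorem exists_step_distinct {T : Type*} [CommGroup T] [Finite T] (hT : IsPGroup p T) {ι : Type*}
    [Fintype ι] (e : ι → ℕ) (he : Function.Injective e)
    (φ : T ≃* ((i : ι) → Multiplicative (ZMod (p ^ e i)))) (Γ : Subgroup (MulAut T)) (N : Subgroup T)
    (hN : ∀ α ∈ Γ, ∀ x ∈ N, α x ∈ N) (hne : N ≠ ⊤) :
    ∃ x, x ∉ N ∧ ∀ α ∈ Γ, ∀ y ∈ N ⊔ Subgroup.zpowers x, α y ∈ N ⊔ Subgroup.zpowers x := by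
  classical
  obtain ⟨x₁, hx₁⟩ : ∃ x, x ∉ N := by
    by_contra h; push Not at h
    exact hne (eq_top_iff.2 fun x _ => h x)
  obtain ⟨n, hn⟩ := IsPGroup.iff_card.1 hT
  have hexp : ∀ x : T, x ^ p ^ n = 1 := fun x => by rw [← hn]; exact pow_card_eq_one'
  have hex : ∃ k, ∃ x, x ∉ N ∧ x ^ p ^ (k + 1) = 1 :=
    ⟨n, x₁, hx₁, by rw [pow_succ, pow_mul, hexp, one_pow]⟩
  set k := Nat.find hex with hk
  have hmin : ∀ y : T, y ^ p ^ k = 1 → y ∈ N := by
    intro y hy
    by_contra hyN
    rcases Nat.eq_zero_or_pos k with h0 | h0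
    · rw [h0, pow_zero, pow_one] at hy
      exact hyN (hy ▸ one_mem N)
    · exact Nat.find_min hex (show k - 1 < k by omega)
        ⟨y, hyN, by rwa [show k - 1 + 1 = k by omega]⟩
  let P : ℕ → Prop := fun i => ∃ x, x ∉ N ∧ x ^ p ^ (k + 1) = 1 ∧ ∃ z : T, z ^ p ^ i = x ^ p ^ k
  obtain ⟨x₀, hx₀N, hx₀⟩ := Nat.find_spec hex
  have hP0 : P 0 := ⟨x₀, hx₀N, hx₀, x₀ ^ p ^ k, by rw [pow_zero, pow_one]⟩
  set i := Nat.findGreatest P n with hi
  obtain ⟨x, hxN, hxk, z, hz⟩ : P i := Nat.findGreatest_spec (Nat.zero_le n) hP0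
  have hmax : ∀ y : T, y ∉ N → y ^ p ^ (k + 1) = 1 → ¬ ∃ z' : T, z' ^ p ^ (i + 1) = y ^ p ^ k := by
    intro y hyN hy hz'
    by_cases h : i + 1 ≤ n
    · exact Nat.findGreatest_is_greatest (Nat.lt_succ_self i) h ⟨y, hyN, hy, hz'⟩
    · obtain ⟨z', hz'⟩ := hz'
      refine hyN (hmin y ?_)
      rw [← hz']
      obtain ⟨d, hd⟩ := pow_dvd_pow p (show n ≤ i + 1 by omega)
      rw [hd, pow_mul, hexp, one_pow]
  refine ⟨x, hxN, fun α hα y hy => ?_⟩
  have hle : N ⊔ Subgroup.zpowers x ≤ (N ⊔ Subgroup.zpowers x).comap α.toMonoidHom := by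
    refine sup_le (fun u hu => Subgroup.mem_sup_left (hN α hα u hu)) ?_
    rw [Subgroup.zpowers_le, Subgroup.mem_comap]
    have hz1 : (z ^ p ^ i) ^ p = 1 := by rw [hz, ← pow_mul, ← pow_succ, hxk]
    have hzn : ¬ ∃ z' : T, z' ^ p ^ (i + 1) = z ^ p ^ i := hz ▸ hmax x hxN hxk
    obtain ⟨c, w', hc⟩ := layer_small e he φ i (α z) z
      (by rw [← map_pow, ← map_pow, hz1, map_one]) hz1 hzn
    rw [← map_pow, hz, map_pow] at hc
    have hy' : α x * (x ^ c)⁻¹ ∈ N := by
      by_contra hne'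
      refine hmax _ hne' ?_ ⟨w', ?_⟩
      · rw [mul_pow, inv_pow, ← pow_mul, mul_comm c, pow_mul, ← map_pow, hxk, map_one, one_pow,
          inv_one, mul_one]
      · rw [hc, mul_pow, inv_pow, ← pow_mul, ← pow_mul, mul_comm c]
    have := (N ⊔ Subgroup.zpowers x).mul_mem (Subgroup.mem_sup_left hy')
      (Subgroup.mem_sup_right (Subgroup.npow_mem_zpowers x c))
    rwa [inv_mul_cancel_right] at this
  exact hle hy

/-- A homocyclic summand of rank two gives a bad group of automorphisms. -/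
theorem not_restricted_of_summand {T : Type*} [Group T] [Finite T] {n : ℕ} (hn : 0 < n) {H : Type}
    [CommGroup H] (e : T ≃* (Multiplicative (ZMod (p ^ n)) × Multiplicative (ZMod (p ^ n))) × H) :
    ¬ ∀ K : Subgroup (MulAut T), (Nat.card K).Coprime p → IsMulCommutative K ∧ ∀ h ∈ K, h ^ (p - 1) = 1 := by
  classical
  intro hres
  haveI : Finite (MulAut T) := Finite.of_injective _ DFunLike.coe_injective
  haveI : NeZero (p ^ n) := ⟨(pow_pos hp.out.pos n).ne'⟩
  let M := Multiplicative (ZMod (p ^ n)) × Multiplicative (ZMod (p ^ n))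
  let Ψ : MulAut M →* MulAut T :=
    { toFun := fun a => (MulAut.congr e).symm (MulEquiv.prodCongr a (MulEquiv.refl H))
      map_one' := MulEquiv.ext fun v => by
        show e.symm ((e v).1, (e v).2) = v
        exact e.symm_apply_apply v
      map_mul' := fun a b => MulEquiv.ext fun v => by
        show e.symm (a (b (e v).1), (e v).2) =
          e.symm (a (e (e.symm (b (e v).1, (e v).2))).1, (e (e.symm (b (e v).1, (e v).2))).2)
        rw [e.apply_symm_apply] }
  have hΨ : Function.Injective Ψ := fun a b h => MulEquiv.ext fun v => by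
    have h1 : e.symm (a (e (e.symm (v, 1))).1, (e (e.symm (v, 1))).2) =
        e.symm (b (e (e.symm (v, 1))).1, (e (e.symm (v, 1))).2) := DFunLike.congr_fun h (e.symm (v, 1))
    rw [e.apply_symm_apply] at h1
    exact congrArg Prod.fst (e.symm.injective h1)
  have hone : (1 : ZMod (p ^ n)) ≠ 0 := fun h2 => by
    have h4 := Nat.one_lt_pow hn.ne' hp.out.one_lt
    have := ZMod.one_eq_zero_iff.1 h2
    omega
  haveI : Finite (MulAut M) := Finite.of_injective _ DFunLike.coe_injective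
  by_cases hp2 : p = 2
  · subst hp2
    let t : MulAut M :=
      { toFun := fun v => (v.2, v.1⁻¹ * v.2⁻¹)
        invFun := fun v => (v.1⁻¹ * v.2⁻¹, v.1)
        left_inv := fun v => Prod.ext (by simp) rfl
        right_inv := fun v => Prod.ext rfl (by simp)
        map_mul' := fun v w => Prod.ext rfl (by
          show (v.1 * w.1)⁻¹ * (v.2 * w.2)⁻¹ = (v.1⁻¹ * v.2⁻¹) * (w.1⁻¹ * w.2⁻¹)
          rw [mul_inv, mul_inv, mul_mul_mul_comm]) }
    have ht3 : t ^ 3 = 1 := MulEquiv.ext fun v => by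
      rw [pow_succ, pow_succ, pow_one]
      show t (t (t v)) = v
      exact Prod.ext (by simp [t]) (by simp [t])
    obtain ⟨-, hK⟩ := hres (Subgroup.zpowers (Ψ t)) (by
      rw [Nat.card_zpowers]
      exact Nat.Coprime.coprime_dvd_left (orderOf_dvd_of_pow_eq_one (show Ψ t ^ 3 = 1 by
        rw [← map_pow, ht3, map_one])) (by norm_num))
    have h1 := hK _ (Subgroup.mem_zpowers _)
    rw [pow_one, ← map_one Ψ] at h1
    have h2 := congrArg Prod.fst (DFunLike.congr_fun (hΨ h1) ((Multiplicative.ofAdd 1, 1) : M))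
    change (1 : Multiplicative (ZMod (2 ^ n))) = Multiplicative.ofAdd 1 at h2
    exact hone (congrArg Multiplicative.toAdd h2).symm
  let d : MulAut M :=
    { toFun := fun v => (v.1⁻¹, v.2)
      invFun := fun v => (v.1⁻¹, v.2)
      left_inv := fun v => Prod.ext (inv_inv _) rfl
      right_inv := fun v => Prod.ext (inv_inv _) rfl
      map_mul' := fun v w => Prod.ext (mul_inv v.1 w.1) rfl }
  let s : MulAut M := MulEquiv.prodComm
  set A : Subgroup (MulAut M) := Subgroup.closure {d, s}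
  let sgn : Fin 2 → Multiplicative (ZMod (p ^ n)) → Multiplicative (ZMod (p ^ n)) :=
    fun a u => if a = 0 then u else u⁻¹
  let mono : Fin 2 × Fin 2 × Fin 2 → M → M := fun c v =>
    if c.1 = 0 then (sgn c.2.1 v.1, sgn c.2.2 v.2) else (sgn c.2.1 v.2, sgn c.2.2 v.1)
  have hA8 : ∀ a ∈ A, ∃ c, (a : M → M) = mono c := by
    intro a ha
    induction ha using Subgroup.closure_induction_left with
    | one => exact ⟨(0, 0, 0), rfl⟩
    | mul_left x hx y hy ih =>
      obtain ⟨⟨w, i, j⟩, hc⟩ := ih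
      rcases hx with rfl | rfl
      · refine ⟨(w, i + 1, j), funext fun v => ?_⟩
        show d (y v) = _
        rw [hc]
        fin_cases w <;> fin_cases i <;> simp [d, mono, sgn]
      · refine ⟨(w + 1, j, i), funext fun v => ?_⟩
        show s (y v) = _
        rw [hc]
        fin_cases w <;> simp [s, mono] <;> rfl
    | inv_mul_cancel x hx y hy ih =>
      obtain ⟨⟨w, i, j⟩, hc⟩ := ih
      rcases hx with rfl | rfl
      · refine ⟨(w, i + 1, j), funext fun v => ?_⟩
        show d.symm (y v) = _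
        rw [hc]
        show d (mono (w, i, j) v) = _
        fin_cases w <;> fin_cases i <;> simp [d, mono, sgn]
      · refine ⟨(w + 1, j, i), funext fun v => ?_⟩
        show s.symm (y v) = _
        rw [hc]
        fin_cases w <;> simp [s, mono] <;> rfl
  have hAp : IsPGroup 2 A := by
    intro a
    refine ⟨3, Subtype.ext (MulEquiv.ext fun v => ?_)⟩
    obtain ⟨c, hc⟩ := hA8 a.1 a.2
    have hit : ∀ k : ℕ, (((a.1 ^ k : MulAut M) : M → M)) = (mono c)^[k] := by
      intro k
      induction k with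
      | zero => rfl
      | succ k ih =>
        funext v
        rw [pow_succ', Function.iterate_succ_apply', MulAut.mul_apply, ih, hc]
    rw [SubgroupClass.coe_pow, hit]
    obtain ⟨w, i, j⟩ := c
    show (mono (w, i, j))^[8] v = v
    fin_cases w <;> fin_cases i <;> fin_cases j <;>
      simp [Function.iterate_succ_apply', Function.iterate_zero_apply, mono, sgn]
  obtain ⟨hK, -⟩ := hres (A.map Ψ) (by
    rw [Subgroup.card_map_of_injective hΨ]
    haveI : Fact (Nat.Prime 2) := ⟨Nat.prime_two⟩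
    obtain ⟨k, hk⟩ := IsPGroup.iff_card.1 hAp
    rw [hk]
    exact Nat.Coprime.pow_left k ((Nat.coprime_primes Nat.prime_two hp.out).2 (Ne.symm hp2)))
  have h1 := congrArg Subtype.val (hK.is_comm.comm
    ⟨Ψ d, d, Subgroup.subset_closure (by simp), rfl⟩ ⟨Ψ s, s, Subgroup.subset_closure (by simp), rfl⟩)
  simp only [Subgroup.coe_mul, ← map_mul] at h1
  have h3 := congrArg Prod.snd (DFunLike.congr_fun (hΨ h1) ((Multiplicative.ofAdd 1, 1) : M))
  change Multiplicative.ofAdd (1 : ZMod (p ^ n)) = (Multiplicative.ofAdd 1)⁻¹ at h3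
  have h4 : (1 : ZMod (p ^ n)) = -1 := congrArg Multiplicative.toAdd h3
  have h5 : ((2 : ℕ) : ZMod (p ^ n)) = 0 := by push_cast; linear_combination h4
  rw [ZMod.natCast_eq_zero_iff] at h5
  exact hp2 ((Nat.prime_dvd_prime_iff_eq hp.out Nat.prime_two).1 ((dvd_pow_self p hn.ne').trans h5))

end Cfsg.Agent.Lib.PLocal.Supersol
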