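import Cfsg.Prelude.Def_OddOrderLocal
import Cfsg.Agent.Lib.PGroups.BurnsideBasis
import Cfsg.Agent.Lib.Cores.Frattini

/-!
Automorphisms of metacyclic `2`-groups: one of odd order forces a homocyclic group or the quaternion group of
order `8`.
-/

set_option autoImplicit false
set_option linter.unusedSectionVars false
set_option linter.style.haveILetI false

namespace Cfsg.Agent.Lib.PLocal.TwoMetacyclic

/-- The conclusion: homocyclic of rank two, or quaternion of order eight. -/
def Shape (Q : Type*) [Group Q] : Prop :=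
  (∃ (n : ℕ) (a b : Q), 1 ≤ n ∧ Commute a b ∧ orderOf a = 2 ^ n ∧ orderOf b = 2 ^ n ∧ Nat.card Q = 4 ^ n ∧
      (∀ q : Q, ∃ i j : ℕ, q = a ^ i * b ^ j) ∧
      (∀ i j : ℕ, a ^ i * b ^ j = 1 → 2 ^ n ∣ i ∧ 2 ^ n ∣ j)) ∨
    (Nat.card Q = 8 ∧ (∃ a b : Q, ¬ Commute a b) ∧ (∀ q w : Q, q ^ 2 = 1 → Commute q w))

variable {Q : Type*} [Group Q]

theorem conj_pow_eq {a b c : Q} (hab : b * a = c * a * b) (hca : Commute c a) (hcb : Commute c b) :
    ∀ i j : ℕ, b ^ j * a ^ i = c ^ (i * j) * a ^ i * b ^ j := by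
  have h1 : ∀ i : ℕ, b * a ^ i = c ^ i * a ^ i * b := by
    intro i
    induction i with
    | zero => simp
    | succ i ih =>
      calc b * a ^ (i + 1) = c ^ i * a ^ i * (b * a) := by rw [pow_succ, ← mul_assoc, ih]; group
        _ = c ^ i * (a ^ i * c) * (a * b) := by rw [hab]; group
        _ = c ^ i * (c * a ^ i) * (a * b) := by rw [(hca.pow_right i).eq]
        _ = _ := by rw [pow_succ c, pow_succ a]; group
  intro i j
  induction j with
  | zero => simp
  | succ j ih =>
    calc b ^ (j + 1) * a ^ i = b * (c ^ (i * j) * a ^ i * b ^ j) := by rw [pow_succ', mul_assoc, ih]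
      _ = (b * c ^ (i * j)) * a ^ i * b ^ j := by group
      _ = c ^ (i * j) * (b * a ^ i) * b ^ j := by rw [← (hcb.pow_left (i * j)).eq]; group
      _ = c ^ (i * j) * c ^ i * a ^ i * (b * b ^ j) := by rw [h1]; group
      _ = _ := by rw [← pow_add, ← pow_succ', show i * j + i = i * (j + 1) by ring]

theorem mul_pow_class_two {y z c : Q} (h : z * y = c * y * z) (hcy : Commute c y) (hcz : Commute c z) :
    ∀ r : ℕ, (y * z) ^ r = c ^ r.choose 2 * y ^ r * z ^ r := by
  intro r
  induction r with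
  | zero => simp
  | succ r ih =>
    have h2 : z ^ r * y = c ^ r * y * z ^ r := by simpa using conj_pow_eq h hcy hcz 1 r
    calc (y * z) ^ (r + 1) = c ^ r.choose 2 * y ^ r * (z ^ r * y) * z := by rw [pow_succ, ih]; group
      _ = c ^ r.choose 2 * (y ^ r * c ^ r) * (y * (z ^ r * z)) := by rw [h2]; group
      _ = c ^ r.choose 2 * (c ^ r * y ^ r) * (y * (z ^ r * z)) := by rw [((hcy.pow_left r).pow_right r).eq]
      _ = _ := by
        rw [Nat.choose_succ_succ', Nat.choose_one_right, add_comm r (r.choose 2), pow_add, pow_succ y,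
          pow_succ z]
        group

/-- A metacyclic `2`-group with a nontrivial automorphism of odd order. -/
theorem shape_of_odd_aut [Finite Q] (hQ : IsPGroup 2 Q) (hm : Cfsg.IsMetacyclic Q) (σ : MulAut Q)
    (hodd : Odd (orderOf σ)) (hσ : σ ≠ 1) : Shape Q := by
  classical
  have := hQ.isNilpotent
  obtain ⟨N, hN, hNc, hQc⟩ := hm
  obtain ⟨a₀, ha₀⟩ := hNc.exists_generator
  set a : Q := (a₀ : Q) with ha
  have hNa : N = Subgroup.zpowers a := by
    refine le_antisymm (fun u hu => ?_) (Subgroup.zpowers_le.2 a₀.2)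
    obtain ⟨i, hi⟩ := Subgroup.mem_zpowers_iff.1 (ha₀ ⟨u, hu⟩)
    exact ⟨i, congrArg Subtype.val hi⟩
  obtain ⟨b₀, hb₀⟩ := hQc.exists_generator
  obtain ⟨b, rfl⟩ := QuotientGroup.mk_surjective b₀
  have hform0 : ∀ q : Q, ∃ i j : ℤ, q = b ^ j * a ^ i := fun q => by
    obtain ⟨j, hj⟩ := Subgroup.mem_zpowers_iff.1 (hb₀ (q : Q ⧸ N))
    rw [← QuotientGroup.mk_zpow, QuotientGroup.eq, hNa] at hj
    obtain ⟨i, hi⟩ := Subgroup.mem_zpowers_iff.1 hj
    exact ⟨i, j, by rw [hi, mul_inv_cancel_left]⟩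
  -- the Frattini quotient
  let π := QuotientGroup.mk' (frattini Q)
  have hsq : ∀ u : Q ⧸ frattini Q, u * u = 1 := fun u => by
    have := Cores.pow_eq_one_quotient_frattini hQ u
    rwa [pow_two] at this
  have hzp : ∀ (u : Q) (i : ℤ), π (u ^ i) = 1 ∨ π (u ^ i) = π u := fun u i => by
    rcases Int.even_or_odd i with ⟨k, rfl⟩ | ⟨k, rfl⟩
    · left; rw [map_zpow, zpow_add, hsq]
    · right; rw [map_zpow, two_mul, zpow_add, zpow_add, hsq, one_mul, zpow_one]
  have hcl : ∀ q : Q, π q = 1 ∨ π q = π a ∨ π q = π b ∨ π q = π b * π a := fun q => by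
    obtain ⟨i, j, rfl⟩ := hform0 q
    rcases hzp a i with e1 | e1 <;> rcases hzp b j with e2 | e2 <;> rw [map_mul, e1, e2] <;> simp
  have hfix : ∀ τ : MulAut Q, Odd (orderOf τ) → π (τ a) = π a → π (τ b) = π b → τ = 1 := by
    intro τ hτ h1 h2
    have hall : ∀ q : Q, π (τ q) = π q := fun q => by
      obtain ⟨i, j, rfl⟩ := hform0 q
      simp only [map_mul, map_zpow, h1, h2]
    have hA : ∀ α ∈ Subgroup.zpowers τ, ∀ x : Q, α x * x⁻¹ ∈ frattini Q := by
      let S : Subgroup (MulAut Q) :=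
        { carrier := {α | ∀ x : Q, π (α x) = π x}
          one_mem' := fun x => rfl
          mul_mem' := fun {α β} hα hβ x => (hα (β x)).trans (hβ x)
          inv_mem' := fun {α} hα x => by
            have := hα (α⁻¹ x)
            rw [show α (α⁻¹ x) = x from α.apply_symm_apply x] at this
            exact this.symm }
      intro α hα x
      have := (Subgroup.zpowers_le.2 (show τ ∈ S from hall) hα : α ∈ S) x
      rw [← QuotientGroup.eq_one_iff, QuotientGroup.mk_mul, QuotientGroup.mk_inv, mul_inv_eq_one]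
      exact this
    have hgen : Subgroup.closure (Set.range (![(a : Q ⧸ frattini Q), (b : Q ⧸ frattini Q)] : Fin 2 → Q ⧸ frattini Q)) = ⊤ := by
      refine eq_top_iff.2 fun u _ => ?_
      obtain ⟨q, rfl⟩ := QuotientGroup.mk_surjective u
      obtain ⟨i, j, rfl⟩ := hform0 q
      rw [QuotientGroup.mk_mul, QuotientGroup.mk_zpow, QuotientGroup.mk_zpow]
      have hmem := fun r : Fin 2 =>
        Subgroup.subset_closure (Set.mem_range_self (f := (![(a : Q ⧸ frattini Q), (b : Q ⧸ frattini Q)] : Fin 2 → Q ⧸ frattini Q)) r)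
      exact mul_mem (zpow_mem (hmem 1) j) (zpow_mem (hmem 0) i)
    have hd := PGroups.card_dvd_frattini_pow (r := 2) _ hgen (Subgroup.zpowers τ) hA
    obtain ⟨k, hk⟩ := IsPGroup.iff_card.1 (hQ.to_subgroup (frattini Q))
    rw [Nat.card_zpowers, hk, ← pow_mul] at hd
    obtain ⟨l, -, hl⟩ := (Nat.dvd_prime_pow Nat.prime_two).1 hd
    rw [← orderOf_eq_one_iff, hl]
    rcases Nat.eq_zero_or_pos l with rfl | hl0
    · rfl
    · exact absurd hτ (Nat.not_odd_iff_even.2 (hl ▸ (Nat.even_pow.2 ⟨even_two, hl0.ne'⟩)))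
  -- an element moved three ways
  have hinj : ∀ (τ : MulAut Q) (u v : Q), π (τ u) = π (τ v) → π u = π v := fun τ u v h => by
    rw [QuotientGroup.mk'_apply, QuotientGroup.mk'_apply, QuotientGroup.eq] at h ⊢
    have hch : ∀ w ∈ frattini Q, τ⁻¹ w ∈ frattini Q := fun w hw => by
      have := Subgroup.characteristic_iff_comap_eq.1 (inferInstance : (frattini Q).Characteristic) τ⁻¹
      rw [← this] at hw
      exact hw
    have := hch _ h
    rw [map_mul, map_inv, show τ⁻¹ (τ u) = u from τ.symm_apply_apply u,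
      show τ⁻¹ (τ v) = v from τ.symm_apply_apply v] at this
    exact this
  have hab : π a ≠ π b ∧ π a ≠ 1 ∧ π b ≠ 1 := by
    by_contra hcon
    refine hσ (hfix σ hodd ?_ ?_)
    all_goals
      have h3 : ∀ q : Q, π q = 1 ∨ π q = (if π a = 1 then π b else π a) := by
        intro q
        rcases not_and_or.1 hcon with h | h
        · rw [not_not] at h
          rcases hcl q with e | e | e | e <;> rw [e] <;> simp [h, hsq]
        rcases not_and_or.1 h with h | h <;> rw [not_not] at h
        · rcases hcl q with e | e | e | e <;> rw [e] <;> simp [h]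
        · by_cases ha1 : π a = 1 <;> rcases hcl q with e | e | e | e <;> rw [e] <;> simp [h, ha1]
      have h4 : ∀ q : Q, π (σ q) = π q := fun q => by
        have hone : ∀ w : Q, π w = 1 → π (σ w) = 1 := fun w hw => by
          have hch := Subgroup.characteristic_iff_comap_eq.1 (inferInstance : (frattini Q).Characteristic) σ
          rw [QuotientGroup.mk'_apply, QuotientGroup.eq_one_iff] at hw ⊢
          rw [← hch] at hw
          exact hw
        rcases h3 q with e | e
        · rw [e, hone q e]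
        · rcases h3 (σ q) with e' | e'
          · have := hinj σ q 1 (by rw [e', map_one, map_one])
            rw [e', this, map_one]
          · rw [e', e]
    · exact h4 a
    · exact h4 b
  obtain ⟨hab1, ha1, hb1⟩ := hab
  have hbaa : π b * π a * π a = π b := by rw [mul_assoc, hsq, mul_one]
  have hσone : ∀ τ : MulAut Q, ∀ u, π u ≠ 1 → π (τ u) ≠ 1 := fun τ u hu e =>
    hu (by rw [hinj τ u 1 (by rw [e, map_one, map_one]), map_one])
  have hσa : π (σ a) ≠ π a := by
    intro e
    have hb' : π (σ b) = π b ∨ π (σ b) = π b * π a := by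
      rcases hcl (σ b) with h | h | h | h
      · exact (hσone σ b hb1 h).elim
      · exact (hab1 (hinj σ a b (e.trans h.symm))).elim
      · exact Or.inl h
      · exact Or.inr h
    rcases hb' with hb' | hb'
    · exact hσ (hfix σ hodd e hb')
    · have h2 : σ ^ 2 = 1 := by
        refine hfix (σ ^ 2) (hodd.of_dvd_nat (orderOf_pow_dvd 2)) ?_ ?_
        · show π (σ (σ a)) = π a
          obtain ⟨i, j, hij⟩ := hform0 (σ a)
          have : π (σ (σ a)) = π (σ a) := by
            have h0 : π (σ (σ a) * (σ a)⁻¹) = 1 := by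
              rw [← map_inv σ, ← map_mul]
              by_contra hne
              refine hσone σ⁻¹ _ hne ?_
              rw [show σ⁻¹ (σ (σ a * a⁻¹)) = σ a * a⁻¹ from σ.symm_apply_apply _, map_mul, map_inv, e,
                mul_inv_cancel]
            rw [map_mul, map_inv, mul_inv_eq_one] at h0
            exact h0
          rw [this, e]
        · show π (σ (σ b)) = π b
          have h0 : π (σ (σ b)) = π (σ (b * a)) := by
            have : π (σ (σ b * (b * a)⁻¹)) = 1 := by
              by_contra hne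
              refine hσone σ⁻¹ _ hne ?_
              rw [show σ⁻¹ (σ (σ b * (b * a)⁻¹)) = σ b * (b * a)⁻¹ from σ.symm_apply_apply _, map_mul, map_inv,
                hb', map_mul, mul_inv_cancel]
            rw [map_mul, map_mul, map_inv, map_inv, mul_inv_eq_one] at this
            exact this
          rw [h0, map_mul, map_mul, hb', e, hbaa]
      refine hσ (orderOf_eq_one_iff.1 ?_)
      have := orderOf_dvd_of_pow_eq_one h2
      rcases (Nat.dvd_prime Nat.prime_two).1 this with h | h
      · exact h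
      · rw [h] at hodd; exact absurd hodd (by decide)
  set a' := σ a with ha'
  have ha'1 : π a' ≠ 1 := hσone σ a ha1
  have hfour : ∀ q : Q, π q = 1 ∨ π q = π a ∨ π q = π a' ∨ π q = π a * π a' := fun q => by
    have hcomm : Commute (π b) (π a) := mul_eq_one_iff_eq_inv.1 (hsq (π b * π a)) |>.trans (by
      rw [mul_inv_rev, inv_eq_of_mul_eq_one_right (hsq _), inv_eq_of_mul_eq_one_right (hsq _)])
    rcases hcl a' with h | h | h | h
    · exact (ha'1 h).elim
    · exact (hσa h).elim
    all_goals rcases hcl q with e | e | e | e <;> rw [e, h] <;>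
      simp [hcomm.eq, ← mul_assoc, hsq]
  -- generation
  set N' := Subgroup.zpowers a' with hN'
  have hN'n : N'.Normal := by
    have e : N' = N.map σ.toMonoidHom := by rw [hNa, MonoidHom.map_zpowers]; rfl
    rw [e]; exact Subgroup.Normal.map hN _ σ.surjective
  have hgen : N ⊔ N' = ⊤ := by
    refine frattini_nongenerating (eq_top_iff.2 fun q _ => ?_)
    have key : ∀ w ∈ N ⊔ N', π q = π w → q ∈ N ⊔ N' ⊔ frattini Q := fun w hw e => by
      rw [show q = w * (w⁻¹ * q) by group]
      exact mul_mem (Subgroup.mem_sup_left hw) (Subgroup.mem_sup_right (QuotientGroup.eq.1 e.symm))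
    have hA : a ∈ N ⊔ N' := Subgroup.mem_sup_left a₀.2
    have hA' : a' ∈ N ⊔ N' := Subgroup.mem_sup_right (Subgroup.mem_zpowers a')
    rcases hfour q with e | e | e | e
    · exact key 1 (one_mem _) (by rw [e, map_one])
    · exact key a hA e
    · exact key a' hA' e
    · exact key (a * a') (mul_mem hA hA') (by rw [e, map_mul])
  obtain ⟨m, hm⟩ : ∃ m, orderOf a = 2 ^ m := by
    obtain ⟨m, -, hm⟩ := (Nat.dvd_prime_pow Nat.prime_two).1
      ((IsPGroup.iff_card.1 hQ).choose_spec ▸ orderOf_dvd_natCard a)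
    exact ⟨m, hm⟩
  have hm' : orderOf a' = 2 ^ m := (σ.orderOf_eq a).trans hm
  have hform : ∀ q : Q, ∃ i j : ℕ, q = a ^ i * a' ^ j := fun q => by
    obtain ⟨u, hu, v, hv, rfl⟩ := Subgroup.mem_sup_of_normal_left.1 (hgen ▸ Subgroup.mem_top q)
    rw [hNa] at hu
    obtain ⟨i, rfl⟩ := (isOfFinOrder_of_finite a).mem_powers_iff_mem_zpowers.2 hu
    obtain ⟨j, rfl⟩ := (isOfFinOrder_of_finite a').mem_powers_iff_mem_zpowers.2 hv
    exact ⟨i, j, rfl⟩
  have hex : ∃ r, a' ^ 2 ^ r ∈ N := ⟨m, by rw [← hm', pow_orderOf_eq_one]; exact one_mem N⟩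
  set s := Nat.find hex with hs
  have hsm : s ≤ m := Nat.find_le (by rw [← hm', pow_orderOf_eq_one]; exact one_mem N)
  have hmin : ∀ j : ℕ, a' ^ j ∈ N → 2 ^ s ∣ j := by
    intro j hj
    by_contra hnd
    obtain ⟨t, ht, htd⟩ := (Nat.dvd_prime_pow Nat.prime_two).1 (Nat.gcd_dvd_right j (2 ^ s))
    have hts : t < s := lt_of_le_of_ne ht fun e => hnd (by rw [← e, ← htd]; exact Nat.gcd_dvd_left j (2 ^ s))
    refine Nat.find_min hex hts ?_
    rw [← htd, ← zpow_natCast, Nat.gcd_eq_gcd_ab, zpow_add, zpow_mul, zpow_mul, zpow_natCast, zpow_natCast]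
    exact mul_mem (zpow_mem hj _) (zpow_mem (Nat.find_spec hex) _)
  have hs1 : 1 ≤ s := by
    by_contra hc
    have h0 := Nat.find_spec hex
    rw [← hs, show s = 0 by omega, pow_zero, pow_one, hNa] at h0
    obtain ⟨i, hi⟩ := Subgroup.mem_zpowers_iff.1 h0
    rcases hzp a i with e | e
    · exact ha'1 (by rw [← hi]; exact e)
    · exact hσa (by rw [ha', ← hi] at *; exact e)
  have hinj2 : ∀ i j : ℕ, a ^ i * a' ^ j = 1 → 2 ^ s ∣ j := fun i j h => by
    refine hmin j ?_
    rw [eq_inv_of_mul_eq_one_right h]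
    exact inv_mem (pow_mem a₀.2 i)
  have hdvd : ∀ {u : Q} {i : ℕ}, orderOf u = 2 ^ m → u ^ i = 1 → 2 ^ m ∣ i :=
    fun hu h => hu ▸ orderOf_dvd_of_pow_eq_one h
  have hcard : Nat.card Q = 2 ^ m * 2 ^ s := by
    obtain ⟨k, hk⟩ := Subgroup.mem_zpowers_iff.1 (show a' ^ 2 ^ s ∈ Subgroup.zpowers a from hNa ▸ (Nat.find_spec hex :))
    let f : Fin (2 ^ m) × Fin (2 ^ s) → Q := fun w => a ^ (w.1 : ℕ) * a' ^ (w.2 : ℕ)
    have hf : Function.Bijective f := by
      constructor
      · rintro ⟨⟨i, hi⟩, ⟨j, hj⟩⟩ ⟨⟨i', hi'⟩, ⟨j', hj'⟩⟩ h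
        simp only [f] at h
        have hjj : j = j' := by
          have key : ∀ {i i' j j' : ℕ}, a ^ i * a' ^ j = a ^ i' * a' ^ j' → j ≤ j' → 2 ^ s ∣ j' - j :=
            fun {i i' j j'} h hle => by
            refine hmin _ ?_
            have e : a' ^ (j' - j) = (a ^ i')⁻¹ * a ^ i := by
              rw [pow_sub _ hle, eq_inv_mul_iff_mul_eq, ← mul_assoc, ← h, mul_inv_cancel_right]
            rw [e]
            exact mul_mem (inv_mem (pow_mem a₀.2 i')) (pow_mem a₀.2 i)
          rcases le_total j j' with hle | hle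
          · have := Nat.eq_zero_of_dvd_of_lt (key h hle) (by omega); omega
          · have := Nat.eq_zero_of_dvd_of_lt (key h.symm hle) (by omega); omega
        subst hjj
        rw [mul_left_inj, pow_inj_mod, hm, Nat.mod_eq_of_lt hi, Nat.mod_eq_of_lt hi'] at h
        subst h
        rfl
      · intro q
        obtain ⟨i, j, rfl⟩ := hform q
        refine ⟨⟨⟨(((i : ℤ) + k * (j / 2 ^ s : ℕ)) % (2 ^ m : ℕ)).toNat, ?_⟩,
          ⟨j % 2 ^ s, Nat.mod_lt _ (by positivity)⟩⟩, ?_⟩
        · have h0 : (0 : ℤ) < ((2 ^ m : ℕ) : ℤ) := by positivity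
          have := Int.emod_lt_of_pos ((i : ℤ) + k * (j / 2 ^ s : ℕ)) h0
          have := Int.emod_nonneg ((i : ℤ) + k * (j / 2 ^ s : ℕ)) h0.ne'
          omega
        simp only [f]
        rw [← zpow_natCast a (Int.toNat _), Int.toNat_of_nonneg (Int.emod_nonneg _ (by positivity)),
          ← hm, zpow_mod_orderOf, zpow_add, zpow_mul, hk, zpow_natCast, zpow_natCast, ← pow_mul, mul_assoc,
          ← pow_add, Nat.div_add_mod]
    rw [← Nat.card_eq_of_bijective f hf, Nat.card_prod, Nat.card_fin, Nat.card_fin]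
  -- the commutator
  set c := a' * a * a'⁻¹ * a⁻¹ with hc
  have hcN : c ∈ N := mul_mem (hN.conj_mem a a₀.2 a') (inv_mem a₀.2)
  have hcN' : c ∈ N' := by
    rw [hc, show a' * a * a'⁻¹ * a⁻¹ = a' * (a * a'⁻¹ * a⁻¹) by group]
    exact mul_mem (Subgroup.mem_zpowers a') (hN'n.conj_mem _ (inv_mem (Subgroup.mem_zpowers a')) a)
  have hcomN : ∀ u ∈ N, Commute u a := fun u hu => by
    rw [hNa] at hu
    obtain ⟨i, rfl⟩ := Subgroup.mem_zpowers_iff.1 hu
    exact (Commute.refl a).zpow_left i
  have hcomN' : ∀ u ∈ N', Commute u a' := fun u hu => by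
    obtain ⟨i, rfl⟩ := Subgroup.mem_zpowers_iff.1 hu
    exact (Commute.refl a').zpow_left i
  have hca : Commute c a := hcomN c hcN
  have hca' : Commute c a' := hcomN' c hcN'
  have hba : a' * a = c * a * a' := by rw [hc]; group
  rcases hsm.lt_or_eq with hlt | heq
  · -- the central part is nontrivial
    right
    have hN'N : a' ^ 2 ^ s ∈ Subgroup.zpowers a := hNa ▸ Nat.find_spec hex
    obtain ⟨k, hk⟩ := (isOfFinOrder_of_finite a).mem_powers_iff_mem_zpowers.2 hN'N
    simp only at hk
    have hks : 2 ^ s ∣ k ∧ ¬ 2 ^ (s + 1) ∣ k := by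
      have h1 : orderOf (a ^ k) = 2 ^ (m - s) := by
        rw [hk, orderOf_pow_of_dvd (by positivity) (hm' ▸ pow_dvd_pow 2 hsm), hm', Nat.pow_div hsm two_pos]
      rw [orderOf_pow, hm] at h1
      obtain ⟨t, ht, hg⟩ := (Nat.dvd_prime_pow Nat.prime_two).1 (Nat.gcd_dvd_left (2 ^ m) k)
      rw [hg, Nat.pow_div ht two_pos] at h1
      have hts : t = s := by
        have := Nat.pow_right_injective le_rfl h1
        omega
      refine ⟨hts ▸ hg ▸ Nat.gcd_dvd_right _ _, fun hd => ?_⟩
      have h2 : 2 ^ (s + 1) ∣ Nat.gcd (2 ^ m) k := Nat.dvd_gcd (pow_dvd_pow 2 hlt) hd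
      rw [hg, hts] at h2
      have := (Nat.pow_dvd_pow_iff_le_right Nat.one_lt_two).1 h2
      omega
    obtain ⟨⟨u, rfl⟩, hu2⟩ := hks
    have hu : Odd u := Nat.not_even_iff_odd.1 fun ⟨v, hv⟩ =>
      hu2 ⟨v, by rw [hv, pow_succ]; ring⟩
    set z := a ^ 2 ^ s with hz
    rw [pow_mul, ← hz] at hk
    have hzord : orderOf z = 2 ^ (m - s) := by
      rw [hz, orderOf_pow_of_dvd (by positivity) (hm ▸ pow_dvd_pow 2 hsm), hm, Nat.pow_div hsm two_pos]
    have hzu : z ∈ Subgroup.zpowers (a' ^ 2 ^ s) := by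
      rw [← hk]
      have h1 : Subgroup.zpowers (z ^ u) = Subgroup.zpowers z := by
        refine Subgroup.eq_of_le_of_card_ge (Subgroup.zpowers_le.2 (Subgroup.pow_mem _ (Subgroup.mem_zpowers z) u)) ?_
        rw [Nat.card_zpowers, Nat.card_zpowers, show orderOf (z ^ u) = orderOf z from Nat.Coprime.orderOf_pow ?_]
        rw [show orderOf z = 2 ^ (m - s) from hzord]
        exact Nat.Coprime.pow_left _ (Nat.coprime_two_left.2 hu)
      rw [h1]; exact Subgroup.mem_zpowers z
    have hzc' : Commute z a' := by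
      obtain ⟨i, hi⟩ := Subgroup.mem_zpowers_iff.1 hzu
      rw [← hi]; exact ((Commute.refl a').pow_left _).zpow_left i
    have hc2 : c ^ 2 ^ s = 1 := by
      have h1 := conj_pow_eq hba hca hca' (2 ^ s) 1
      rw [pow_one, mul_one, ← hz, hzc'.symm.eq] at h1
      exact right_eq_mul.1 (mul_right_cancel (b := a') h1)
    -- the third generator
    obtain ⟨i, j, hij⟩ := hform (σ a')
    have hord3 : orderOf (σ a') = 2 ^ m := (σ.orderOf_eq a').trans hm'
    have hodds : Odd i ∧ Odd j := by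
      have hne1 : π (σ a') ≠ π a' := fun e => hσa (hinj σ a' a e)
      have hne2 : π (σ a') ≠ π a := by
        intro e
        refine hσa ?_
        obtain ⟨t, ht⟩ : ∃ t, orderOf σ = 2 * t + 1 := hodd
        have h2 : ∀ t : ℕ, π ((σ ^ (2 * t)) a) = π a := by
          intro t
          induction t with
          | zero => rfl
          | succ t ih =>
            rw [show 2 * (t + 1) = 2 + 2 * t by ring, pow_add, MulAut.mul_apply]
            have h0 : π ((σ ^ 2) ((σ ^ (2 * t)) a)) = π ((σ ^ 2) a) := by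
              have : π ((σ ^ 2) ((σ ^ (2 * t)) a * a⁻¹)) = 1 := by
                by_contra hne
                refine hσone (σ ^ 2)⁻¹ _ hne ?_
                rw [show (σ ^ 2)⁻¹ ((σ ^ 2) ((σ ^ (2 * t)) a * a⁻¹)) = (σ ^ (2 * t)) a * a⁻¹ from
                  (σ ^ 2).symm_apply_apply _, map_mul, map_inv, ih, mul_inv_cancel]
              rw [map_mul, map_mul, map_inv, map_inv, mul_inv_eq_one] at this
              exact this
            rw [h0, pow_two]; exact e
        have h3 := h2 (t + 1)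
        rw [show 2 * (t + 1) = 1 + orderOf σ by omega, pow_add, pow_orderOf_eq_one, mul_one, pow_one] at h3
        exact h3
      have hne3 : π (σ a') ≠ 1 := hσone σ a' ha'1
      have hev : ∀ {u : Q} {r : ℕ}, Even r → π (u ^ r) = 1 := fun {u r} ⟨v, hv⟩ => by
        rw [hv, map_pow, pow_add, hsq]
      have hod : ∀ {u : Q} {r : ℕ}, Odd r → π (u ^ r) = π u := fun {u r} ⟨v, hv⟩ => by
        rw [hv, map_pow, pow_succ, two_mul, pow_add, hsq, one_mul]
      rcases Nat.even_or_odd i with hi | hi <;> rcases Nat.even_or_odd j with hj | hj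
      · exact (hne3 (by rw [hij, map_mul, hev hi, hev hj, one_mul])).elim
      · exact (hne1 (by rw [hij, map_mul, hev hi, hod hj, one_mul])).elim
      · exact (hne2 (by rw [hij, map_mul, hod hi, hev hj, mul_one])).elim
      · exact ⟨hi, hj⟩
    obtain ⟨hi, hj⟩ := hodds
    have hcji : a' ^ j * a ^ i = c ^ (i * j) * a ^ i * a' ^ j := conj_pow_eq hba hca hca' i j
    have hbig : (σ a') ^ 2 ^ (m - 1) =
        c ^ ((i * j) * (2 ^ (s - 1) * (2 ^ s - 1) * 2 ^ (m - 1 - s))) := by
      have h1 := mul_pow_class_two hcji ((hca.pow_left _).pow_right i) ((hca'.pow_left _).pow_right j) (2 ^ s)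
      rw [show (2 ^ s : ℕ).choose 2 = 2 ^ (s - 1) * (2 ^ s - 1) by
        obtain ⟨r, hr⟩ : ∃ r, s = r + 1 := ⟨s - 1, by omega⟩
        rw [Nat.choose_two_right, hr, pow_succ, Nat.add_sub_cancel,
          show 2 ^ r * 2 * (2 ^ r * 2 - 1) = 2 * (2 ^ r * (2 ^ r * 2 - 1)) by ring,
          Nat.mul_div_cancel_left _ two_pos]] at h1
      rw [← pow_mul, ← pow_mul a i, ← pow_mul a' j, mul_comm i (2 ^ s), mul_comm j (2 ^ s), pow_mul a,
        pow_mul a', ← hz, ← hk, ← pow_mul z u, mul_assoc, ← pow_add, ← hij] at h1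
      rw [show 2 ^ (m - 1) = 2 ^ s * 2 ^ (m - 1 - s) by rw [← pow_add]; congr 1; omega, pow_mul, h1,
        ((Commute.pow_pow (show Commute c z from (hca.pow_right _)) _ _)).mul_pow, ← pow_mul, ← pow_mul]
      have he : 2 ^ (m - s) ∣ (i + u * j) * 2 ^ (m - 1 - s) := by
        rw [show m - s = 1 + (m - 1 - s) by omega, pow_add, pow_one]
        exact Nat.mul_dvd_mul_right ((hi.add_odd (hu.mul hj)).two_dvd) _
      have hz1 : z ^ ((i + u * j) * 2 ^ (m - 1 - s)) = 1 := orderOf_dvd_iff_pow_eq_one.1 (by rw [hzord]; exact he)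
      rw [hz1, mul_one, mul_assoc (i * j)]
    have hne : (σ a') ^ 2 ^ (m - 1) ≠ 1 := fun e => by
      have h1 := hdvd hord3 e
      have := (Nat.pow_dvd_pow_iff_le_right Nat.one_lt_two).1 h1
      omega
    have hsm1 : s = m - 1 := by
      by_contra hne1
      refine hne (hbig.trans ?_)
      have : 2 ^ s ∣ (i * j) * (2 ^ (s - 1) * (2 ^ s - 1) * 2 ^ (m - 1 - s)) := by
        refine Dvd.dvd.mul_left ?_ _
        rw [mul_right_comm, ← pow_add]
        exact Dvd.dvd.mul_right (pow_dvd_pow 2 (by omega)) _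
      obtain ⟨w, hw⟩ := this
      rw [hw, pow_mul, hc2, one_pow]
    have hzo : orderOf z = 2 := by rw [hzord, show m - s = 1 by omega, pow_one]
    have hcz : c = z ∨ c = 1 := by
      obtain ⟨r, hr⟩ := (isOfFinOrder_of_finite a').mem_powers_iff_mem_zpowers.2 hcN'
      simp only at hr
      obtain ⟨v, rfl⟩ := hmin r (hr ▸ hcN)
      rw [pow_mul, ← hk, ← pow_mul, ← pow_mod_orderOf, hzo] at hr
      rcases Nat.mod_two_eq_zero_or_one (u * v) with e | e <;> rw [e] at hr
      · exact Or.inr (by rw [← hr, pow_zero])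
      · exact Or.inl (by rw [← hr, pow_one])
    have hc1 : c ≠ 1 := fun e => hne (by rw [hbig, e, one_pow])
    have hceq : c = z := hcz.resolve_right hc1
    have hs' : s = 1 := by
      by_contra hne1
      refine hne (hbig.trans ?_)
      have : 2 ∣ (i * j) * (2 ^ (s - 1) * (2 ^ s - 1) * 2 ^ (m - 1 - s)) :=
        ((dvd_pow_self 2 (show s - 1 ≠ 0 by omega)).mul_right _ |>.mul_right _).mul_left _
      obtain ⟨w, hw⟩ := this
      rw [hw, pow_mul, hceq, show z ^ 2 = 1 by rw [← hzo]; exact pow_orderOf_eq_one z, one_pow]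
    have hm2 : m = 2 := by omega
    refine ⟨by rw [hcard, hs', hm2]; norm_num, ⟨a', a, fun hcom => hc1 (by
      rw [hc, hcom.eq, mul_inv_cancel_right, mul_inv_cancel])⟩, fun q w hq => ?_⟩
    have hz2 : z ^ 2 = 1 := by rw [← hzo]; exact pow_orderOf_eq_one z
    obtain ⟨i, j, rfl⟩ := hform q
    have hcentral : ∀ v, Commute (z ^ v) w := fun v => by
      obtain ⟨i', j', rfl⟩ := hform w
      exact (((show Commute z a from (Commute.refl a).pow_left _).pow_right i').mul_right (hzc'.pow_right j')).pow_left v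
    have hza : a ^ 2 = z := by rw [hz, hs', pow_one]
    have hza' : a' ^ 2 = z := by
      rw [show 2 = 2 ^ s by rw [hs', pow_one], ← hk, ← pow_mod_orderOf, hzo, Nat.odd_iff.1 hu, pow_one]
    rcases Nat.even_or_odd i with ⟨i', rfl⟩ | ⟨i', rfl⟩ <;> rcases Nat.even_or_odd j with ⟨j', rfl⟩ | ⟨j', rfl⟩
    · rw [← two_mul, ← two_mul, pow_mul, pow_mul, hza, hza']
      exact (hcentral i').mul_left (hcentral j')
    all_goals
      exfalso; apply hc1; rw [hceq]
      have hza'' : Commute z a := (Commute.refl a).pow_left _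
      have haa : (a * a') ^ 2 = z := by
        rw [mul_pow_class_two hba hca hca' 2, hza, hza', Nat.choose_self, pow_one, hceq, mul_assoc, ← pow_two, hz2,
          mul_one]
      have key : ∀ (v : Q) (r : ℕ), v ^ 2 = z → Commute z v → (z ^ r * v) ^ 2 = 1 → z = 1 := by
        intro v r hv hzv h
        rw [(hzv.pow_left r).mul_pow, hv, ← pow_mul, ← pow_succ, ← pow_mod_orderOf, hzo,
          show (r * 2 + 1) % 2 = 1 by omega, pow_one] at h
        exact h
      simp only [← two_mul, pow_succ, pow_zero, one_mul, pow_mul, hza, hza'] at hq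
    · refine key a' (i' + j') hza' hzc' ?_
      rw [pow_two, pow_add, mul_assoc (z ^ i')]
      simpa [mul_assoc, hza, hza', pow_two] using hq
    · refine key a (i' + j') hza hza'' ?_
      rw [pow_two, pow_add, mul_assoc (z ^ i'), (hza''.pow_left j').eq]
      simpa [mul_assoc, hza, hza', pow_two] using hq
    · refine key (a * a') (i' + j') haa (hza''.mul_right hzc') ?_
      rw [pow_two, pow_add, show z ^ i' * z ^ j' * (a * a') = z ^ i' * (z ^ j' * a) * a' by group,
        (hza''.pow_left j').eq]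
      simpa [mul_assoc, hza, hza', pow_two] using hq
  · -- homocyclic
    left
    have htriv : ∀ v ∈ N, v ∈ N' → v = 1 := fun v hv hv' => by
      obtain ⟨r, rfl⟩ := (isOfFinOrder_of_finite a').mem_powers_iff_mem_zpowers.2 hv'
      exact orderOf_dvd_iff_pow_eq_one.1 (by rw [hm', ← heq]; exact hmin r hv)
    have hc1 := htriv c hcN hcN'
    have hab' : Commute a a' := by
      rw [hc1, one_mul] at hba
      exact hba.symm
    refine ⟨m, a, a', by omega, hab', hm, hm', by rw [hcard, heq, ← pow_add, ← two_mul, pow_mul]; norm_num, hform,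
      fun i j h => ?_⟩
    have hj := hinj2 i j h
    rw [heq] at hj
    refine ⟨hdvd hm ?_, hj⟩
    have h' : a' ^ j = 1 := orderOf_dvd_iff_pow_eq_one.1 (by rw [hm']; exact hj)
    rwa [h', mul_one] at h

end Cfsg.Agent.Lib.PLocal.TwoMetacyclic
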