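import Cfsg.Agent.Lib.Fusion.Aut
import Cfsg.Agent.Lib.Transfer.PFrattini
import Cfsg.Agent.Lib.PGroups.BurnsideBasis
import Cfsg.Agent.Lib.PLocal.TwoMetacyclic
import Cfsg.Prelude.Def_OddOrderLocal
import Mathlib.FieldTheory.Finite.Basic

/-!
Supersolubility of a system in which the underlying group is normal: automorphism groups whose
`p'`-part is abelian of exponent dividing `p - 1` have all chief factors of order `p`.
-/

set_option autoImplicit false
set_option linter.unusedSectionVars false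

namespace Cfsg.Agent.Lib.PLocal.Supersol

open Cfsg Cfsg.FusionSystem Cfsg.Agent.Lib.Fusion
open scoped commutatorElement

variable {p : ℕ} [hp : Fact p.Prime]

section Eigen

open Polynomial

/-- An endomorphism of a module over `ZMod p` satisfying `T ^ p = T` has an eigenvector. -/
theorem exists_eigen {V : Type*} [AddCommGroup V] [Module (ZMod p) V] (T : Module.End (ZMod p) V)
    (hT : T ^ p = T) {u : V} (hu : u ≠ 0) : ∃ (c : ZMod p) (v : V), v ≠ 0 ∧ T v = c • v := by
  have key : ∀ s : Multiset (ZMod p),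
      aeval T (s.map fun a => (X - C a : (ZMod p)[X])).prod u = 0 →
        ∃ (c : ZMod p) (v : V), v ≠ 0 ∧ T v = c • v := by
    intro s
    induction s using Multiset.induction with
    | empty =>
      intro h
      simp only [Multiset.map_zero, Multiset.prod_zero, map_one, Module.End.one_apply] at h
      exact absurd h hu
    | cons a s ih =>
      intro h
      rw [Multiset.map_cons, Multiset.prod_cons, map_mul, Module.End.mul_apply] at h
      by_cases hw : aeval T (s.map fun a => (X - C a : (ZMod p)[X])).prod u = 0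
      · exact ih hw
      · refine ⟨a, _, hw, ?_⟩
        rw [map_sub, aeval_X, aeval_C, LinearMap.sub_apply, sub_eq_zero] at h
        exact h
  refine key (X ^ Fintype.card (ZMod p) - X : (ZMod p)[X]).roots ?_
  rw [prod_multiset_X_sub_C_of_monic_of_roots_card_eq]
  · rw [map_sub, map_pow, aeval_X, ZMod.card, hT, sub_self, LinearMap.zero_apply]
  · exact monic_X_pow_sub (by rw [degree_X, ZMod.card]; exact_mod_cast hp.out.one_lt)
  · rw [FiniteField.roots_X_pow_card_sub_X, FiniteField.X_pow_card_sub_X_natDegree_eq _ Fintype.one_lt_card]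
    rfl

/-- The additive form, for a group of exponent `p`. -/
theorem exists_eigen_add {V : Type*} [AddCommGroup V] [Nontrivial V] [Module (ZMod p) V]
    (g : V →+ V) (hg : ∀ v, (⇑g)^[p] v = g v) : ∃ (c : ZMod p) (v : V), v ≠ 0 ∧ g v = c.val • v := by
  let T : Module.End (ZMod p) V := { g with map_smul' := ZMod.map_smul g }
  have hTp : T ^ p = T := LinearMap.ext fun v => by
    rw [Module.End.coe_pow]
    exact hg v
  obtain ⟨u, hu⟩ := exists_ne (0 : V)
  obtain ⟨c, v, hv, hcv⟩ := exists_eigen T hTp hu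
  refine ⟨c, v, hv, ?_⟩
  rw [← Nat.cast_smul_eq_nsmul (ZMod p), ZMod.natCast_zmod_val]
  exact hcv

/-- The multiplicative form of `exists_eigen`. -/
theorem exists_eigen_mul {U : Type*} [CommGroup U] [Nontrivial U] (hU : ∀ v : U, v ^ p = 1)
    (f : U →* U) (hf : ∀ v, (⇑f)^[p] v = f v) : ∃ (c : ZMod p) (v : U), v ≠ 1 ∧ f v = v ^ c.val := by
  haveI hM : Module (ZMod p) (Additive U) :=
    AddCommGroup.zmodModule (G := Additive U) fun v => Additive.toMul.injective (hU _)
  obtain ⟨c, v, hv, hcv⟩ := exists_eigen_add (p := p) (V := Additive U) (MonoidHom.toAdditive f)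
    (fun v => Additive.toMul.injective (hf (Additive.toMul v)))
  exact ⟨c, Additive.toMul v, fun e => hv (Additive.toMul.injective e), congrArg Additive.toMul hcv⟩

end Eigen

variable {T : Type*} [Group T] [Finite T]

/-- Automorphisms of a cyclic group of order dividing `p`. -/
theorem aut_small {C : Type*} [Group C] [Finite C] (hC : Nat.card C ∣ p) :
    (∀ a b : MulAut C, a * b = b * a) ∧ ∀ a : MulAut C, a ^ (p - 1) = 1 := by
  rcases (Nat.dvd_prime hp.out).1 hC with h | h
  · haveI : Subsingleton C := (Nat.card_eq_one_iff_unique.1 h).1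
    exact ⟨fun a b => MulEquiv.ext fun x => Subsingleton.elim _ _,
      fun a => MulEquiv.ext fun x => Subsingleton.elim _ _⟩
  · haveI : IsCyclic C := isCyclic_of_prime_card h
    haveI : Finite (MulAut C) := Finite.of_injective _ DFunLike.coe_injective
    refine ⟨fun a b => (IsCyclic.mulAutMulEquiv C).injective (by rw [map_mul, map_mul, mul_comm]),
      fun a => ?_⟩
    have h1 : Nat.card (MulAut C) = p - 1 := by
      rw [IsCyclic.card_mulAut, h, Nat.totient_prime hp.out]
    rw [← h1, pow_card_eq_one']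

/-- One step of an invariant series with factors of order `p`. -/
theorem exists_step (hT : IsPGroup p T) (Γ : Subgroup (MulAut T)) (hInn : ∀ t, MulAut.conj t ∈ Γ)
    (P₀ : Subgroup Γ) (hP₀ : IsPGroup p P₀) (hab : ∀ a b : Γ, a * b * a⁻¹ * b⁻¹ ∈ P₀)
    (hexp : ∀ a : Γ, a ^ (p - 1) ∈ P₀) (N : Subgroup T) (hN : ∀ α ∈ Γ, ∀ x ∈ N, α x ∈ N)
    (hne : N ≠ ⊤) :
    ∃ x, x ∉ N ∧ ∀ α ∈ Γ, ∀ y ∈ N ⊔ Subgroup.zpowers x, α y ∈ N ⊔ Subgroup.zpowers x := by
  classical
  have hNn : N.Normal := ⟨fun n hn g => hN _ (hInn g) n hn⟩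
  have hmap : ∀ a : Γ, N.map (a : MulAut T).toMonoidHom = N := fun a => by
    refine le_antisymm (by rintro _ ⟨x, hx, rfl⟩; exact hN _ a.2 x hx) fun y hy => ?_
    exact ⟨((a⁻¹ : Γ) : MulAut T) y, hN _ (a⁻¹).2 y hy, (a : MulAut T).apply_symm_apply y⟩
  let act : Γ →* MulAut (T ⧸ N) :=
    { toFun := fun a => QuotientGroup.congr N N (a : MulAut T) (hmap a)
      map_one' := MulEquiv.ext fun q => by
        obtain ⟨x, rfl⟩ := QuotientGroup.mk_surjective q; rfl
      map_mul' := fun a b => MulEquiv.ext fun q => by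
        obtain ⟨x, rfl⟩ := QuotientGroup.mk_surjective q; rfl }
  have hQ : IsPGroup p (T ⧸ N) := hT.to_quotient N
  haveI : Nontrivial (T ⧸ N) := by
    rw [← not_subsingleton_iff_nontrivial, QuotientGroup.subsingleton_iff]
    exact hne
  -- the elements of order dividing `p` of the centre
  let Ω₁ : Subgroup (T ⧸ N) :=
    { carrier := {z | z ∈ Subgroup.center (T ⧸ N) ∧ z ^ p = 1}
      one_mem' := ⟨one_mem _, one_pow p⟩
      mul_mem' := fun {a b} ha hb => ⟨mul_mem ha.1 hb.1, by
        rw [(show Commute a b from (Subgroup.mem_center_iff.1 ha.1 b).symm).mul_pow, ha.2, hb.2, one_mul]⟩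
      inv_mem' := fun {a} ha => ⟨inv_mem ha.1, by rw [inv_pow, ha.2, inv_one]⟩ }
  have hΩinv : ∀ a : Γ, ∀ z ∈ Ω₁, act a z ∈ Ω₁ := fun a z hz =>
    ⟨Subgroup.mem_center_iff.2 fun g => by
      obtain ⟨g', rfl⟩ := (act a).surjective g
      rw [← map_mul, ← map_mul, Subgroup.mem_center_iff.1 hz.1], by rw [← map_pow, hz.2, map_one]⟩
  letI : MulAction P₀ Ω₁ :=
    { smul := fun a z => ⟨act a z, hΩinv a z z.2⟩
      one_smul := fun z => Subtype.ext (by show act (1 : Γ) (z : T ⧸ N) = z; rw [map_one]; rfl)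
      mul_smul := fun a b z => Subtype.ext (by
        show act ((a : Γ) * (b : Γ)) (z : T ⧸ N) = act a (act b z)
        rw [map_mul]; rfl) }
  have hΩp : p ∣ Nat.card Ω₁ := by
    haveI := hQ.center_nontrivial
    obtain ⟨n, hn0, hn⟩ := ((hQ.to_subgroup (Subgroup.center (T ⧸ N))).nontrivial_iff_card).mp
      inferInstance
    obtain ⟨z, hz⟩ := exists_prime_orderOf_dvd_card' (G := Subgroup.center (T ⧸ N)) p
      (hn ▸ dvd_pow_self p hn0.ne')
    have hzm : (z : T ⧸ N) ∈ Ω₁ := ⟨z.2, by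
      rw [← SubgroupClass.coe_pow, ← hz, pow_orderOf_eq_one, Subgroup.coe_one]⟩
    have h1 : orderOf (⟨(z : T ⧸ N), hzm⟩ : Ω₁) = p := by
      rw [← Subgroup.orderOf_coe]
      exact (Subgroup.orderOf_coe z).trans hz
    exact h1 ▸ orderOf_dvd_natCard _
  obtain ⟨w, hw1⟩ : ∃ w : MulAction.fixedPoints P₀ Ω₁, (w : Ω₁) ≠ 1 := by
    have h1 := hP₀.card_modEq_card_fixedPoints Ω₁
    have h1m : (1 : Ω₁) ∈ MulAction.fixedPoints P₀ Ω₁ := fun a =>
      Subtype.ext (show act (a : Γ) 1 = 1 from map_one _)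
    haveI : Nonempty (MulAction.fixedPoints P₀ Ω₁) := ⟨⟨1, h1m⟩⟩
    have h2 : 1 < Nat.card (MulAction.fixedPoints P₀ Ω₁) := by
      have h3 : p ∣ Nat.card (MulAction.fixedPoints P₀ Ω₁) := (Nat.modEq_zero_iff_dvd).1
        (h1.symm.trans (Nat.modEq_zero_iff_dvd.2 hΩp))
      exact lt_of_lt_of_le hp.out.one_lt (Nat.le_of_dvd Nat.card_pos h3)
    haveI := (Finite.one_lt_card_iff_nontrivial).1 h2
    obtain ⟨w, hw⟩ := exists_ne (⟨1, h1m⟩ : MulAction.fixedPoints P₀ Ω₁)
    exact ⟨w, fun e => hw (Subtype.ext e)⟩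
  let W : Subgroup (T ⧸ N) :=
    { carrier := {z | z ∈ Ω₁ ∧ ∀ a ∈ P₀, act a z = z}
      one_mem' := ⟨one_mem _, fun a _ => map_one _⟩
      mul_mem' := fun {x y} hx hy => ⟨mul_mem hx.1 hy.1, fun a ha => by
        rw [map_mul, hx.2 a ha, hy.2 a ha]⟩
      inv_mem' := fun {x} hx => ⟨inv_mem hx.1, fun a ha => by rw [map_inv, hx.2 a ha]⟩ }
  have hWinv : ∀ b : Γ, ∀ z ∈ W, act b z ∈ W := fun b z hz => ⟨hΩinv b z hz.1, fun a ha => by
    have hk : b⁻¹ * a * b ∈ P₀ := by
      have := P₀.mul_mem (hab b⁻¹ a) ha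
      simpa [mul_assoc] using this
    have h2 := hz.2 _ hk
    rw [show (act a) ((act b) z) = act (b * (b⁻¹ * a * b)) z by
      rw [show b * (b⁻¹ * a * b) = a * b by group, map_mul]; rfl, map_mul]
    show act b (act (b⁻¹ * a * b) z) = _
    rw [h2]⟩
  have hwW : ((w : Ω₁) : T ⧸ N) ∈ W := ⟨(w : Ω₁).2, fun a ha =>
    congrArg Subtype.val (w.2 ⟨a, ha⟩)⟩
  obtain ⟨U, ⟨hU1, hUW, hUinv⟩, hUmin⟩ := (Set.toFinite {U : Subgroup (T ⧸ N) |
      U ≠ ⊥ ∧ U ≤ W ∧ ∀ a : Γ, ∀ z ∈ U, act a z ∈ U}).exists_minimal ⟨W, fun e => hw1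
        (Subtype.ext (Subgroup.mem_bot.1 (e ▸ hwW))), le_rfl, hWinv⟩
  -- every automorphism acts on `U` as a power map
  have hcomm : ∀ a b : Γ, ∀ z ∈ W, act a (act b z) = act b (act a z) := by
    intro a b z hz
    have h1 := (hWinv b _ (hWinv a z hz)).2 _ (hab a b)
    conv_rhs => rw [← h1]
    show (act a * act b) z = (act (a * b * a⁻¹ * b⁻¹) * (act b * act a)) z
    rw [← map_mul, ← map_mul, ← map_mul]
    group
  have hpow : ∀ a : Γ, ∀ z ∈ W, act (a ^ (p - 1)) z = z := fun a z hz => hz.2 _ (hexp a)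
  letI : CommGroup U :=
    { (inferInstance : Group U) with
      mul_comm := fun x y => Subtype.ext (Subgroup.mem_center_iff.1 (hUW y.2).1.1 x) }
  have hscalar : ∀ a : Γ, ∃ c : ℕ, ∀ z ∈ U, act a z = z ^ c := by
    intro a
    let fa : U →* U := ((act a).toMonoidHom.comp U.subtype).codRestrict U fun z => hUinv a z z.2
    have hiter : ∀ (k : ℕ) (v : U), (((⇑fa)^[k] v : U) : T ⧸ N) = act (a ^ k) (v : T ⧸ N) := by
      intro k
      induction k with
      | zero => intro v; rw [pow_zero, map_one]; rfl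
      | succ k ih =>
        intro v
        rw [Function.iterate_succ_apply', pow_succ', map_mul]
        show act a (((⇑fa)^[k] v : U) : T ⧸ N) = _
        rw [ih]; rfl
    have hfp : ∀ v : U, (⇑fa)^[p] v = fa v := fun v => by
      apply Subtype.ext
      rw [hiter, show p = p - 1 + 1 by have := hp.out.one_le; omega, pow_succ, map_mul]
      show act (a ^ (p - 1)) (act a _) = _
      rw [hpow a _ (hWinv a _ (hUW v.2))]
      rfl
    haveI : Nontrivial U := (Subgroup.nontrivial_iff_ne_bot U).2 hU1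
    obtain ⟨c, v, hv, hcv⟩ := exists_eigen_mul (U := U) (fun v => Subtype.ext (by
      rw [SubgroupClass.coe_pow]; exact (hUW v.2).1.2)) fa hfp
    let Uc : Subgroup (T ⧸ N) :=
      { carrier := {z | z ∈ U ∧ act a z = z ^ c.val}
        one_mem' := ⟨one_mem _, by rw [map_one, one_pow]⟩
        mul_mem' := fun {x y} hx hy => ⟨mul_mem hx.1 hy.1, by
          rw [map_mul, hx.2, hy.2,
            (show Commute x y from (Subgroup.mem_center_iff.1 (hUW hx.1).1.1 y).symm).mul_pow]⟩
        inv_mem' := fun {x} hx => ⟨inv_mem hx.1, by rw [map_inv, hx.2, inv_pow]⟩ }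
    have hvc : (v : T ⧸ N) ∈ Uc := ⟨v.2, congrArg Subtype.val hcv⟩
    have hle := hUmin (show Uc ∈ {U : Subgroup (T ⧸ N) |
        U ≠ ⊥ ∧ U ≤ W ∧ ∀ a : Γ, ∀ z ∈ U, act a z ∈ U} from ⟨fun e => hv
          (Subtype.ext (Subgroup.mem_bot.1 (e ▸ hvc))), fun z hz => hUW hz.1,
        fun b z hz => ⟨hUinv b z hz.1, by
          rw [hcomm a b z (hUW hz.1), hz.2, map_pow]⟩⟩) fun z hz => hz.1
    exact ⟨c.val, fun z hz => (hle hz).2⟩
  obtain ⟨u, huU, hu1⟩ := (Subgroup.bot_or_exists_ne_one U).resolve_left hU1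
  obtain ⟨x, rfl⟩ := QuotientGroup.mk_surjective u
  refine ⟨x, fun h => hu1 ((QuotientGroup.eq_one_iff x).2 h), fun α hα y hy => ?_⟩
  have hle : N ⊔ Subgroup.zpowers x ≤ (N ⊔ Subgroup.zpowers x).comap α.toMonoidHom := by
    refine sup_le (fun n hn => Subgroup.mem_sup_left (hN α hα n hn)) ?_
    rw [Subgroup.zpowers_le, Subgroup.mem_comap]
    obtain ⟨c, hc⟩ := hscalar ⟨α, hα⟩
    have h1 : ((α x : T) : T ⧸ N) = ((x ^ c : T) : T ⧸ N) := hc _ huU
    rw [eq_comm, QuotientGroup.eq] at h1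
    have := (N ⊔ Subgroup.zpowers x).mul_mem
      (Subgroup.mem_sup_right (Subgroup.npow_mem_zpowers x c)) (Subgroup.mem_sup_left h1)
    rwa [mul_inv_cancel_left] at this
  exact hle hy

/-- A metacyclic `p`-group has Frattini index at most `p ^ 2`. -/
theorem index_frattini_dvd (hT : IsPGroup p T) (hm : Cfsg.IsMetacyclic T) :
    (frattini T).index ∣ p ^ 2 := by
  obtain ⟨N, hNn, hNc, hQc⟩ := hm
  set π := QuotientGroup.mk' (frattini T)
  have hexp : ∀ q : T ⧸ frattini T, q ^ p = 1 := fun q => by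
    obtain ⟨t, rfl⟩ := QuotientGroup.mk_surjective q
    rw [← QuotientGroup.mk_pow]
    exact (QuotientGroup.eq_one_iff _).2 (Transfer.pow_mem_frattini hT t)
  haveI : (N.map π).Normal := hNn.map π (QuotientGroup.mk'_surjective _)
  haveI : IsCyclic (N.map π) :=
    isCyclic_of_surjective (π.subgroupMap N) (π.subgroupMap_surjective N)
  have hN' : N ≤ (N.map π).comap π := Subgroup.le_comap_map _ _
  haveI : IsCyclic ((T ⧸ frattini T) ⧸ N.map π) :=
    isCyclic_of_surjective (QuotientGroup.map N (N.map π) π hN') fun q => by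
      obtain ⟨q, rfl⟩ := QuotientGroup.mk_surjective q
      obtain ⟨t, rfl⟩ := QuotientGroup.mk_surjective q
      exact ⟨(t : T ⧸ N), rfl⟩
  have small : ∀ {C : Type _} [Group C] [Finite C] [IsCyclic C], (∀ c : C, c ^ p = 1) →
      Nat.card C ∣ p := by
    intro C _ _ _ hC
    obtain ⟨g, hg⟩ := IsCyclic.exists_ofOrder_eq_natCard (α := C)
    exact hg ▸ orderOf_dvd_of_pow_eq_one (hC g)
  rw [Subgroup.index, Subgroup.card_eq_card_quotient_mul_card_subgroup (N.map π), sq]
  refine mul_dvd_mul (small fun c => ?_) (small fun c => Subtype.ext ?_)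
  · obtain ⟨q, rfl⟩ := QuotientGroup.mk_surjective c
    rw [← QuotientGroup.mk_pow, hexp q]; rfl
  · rw [SubgroupClass.coe_pow, hexp]; rfl

/-- An invariant maximal subgroup of a two-generator group. -/
theorem exists_pcore_of_maximal (hT : IsPGroup p T) (hm : Cfsg.IsMetacyclic T)
    (Γ : Subgroup (MulAut T)) (M : Subgroup T) (hMi : M.index = p) (hMn : M.Normal)
    (hM : ∀ α ∈ Γ, ∀ x ∈ M, α x ∈ M) :
    ∃ P₀ : Subgroup Γ, IsPGroup p P₀ ∧ (∀ a b : Γ, a * b * a⁻¹ * b⁻¹ ∈ P₀) ∧
      ∀ a : Γ, a ^ (p - 1) ∈ P₀ := by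
  classical
  set Φ := frattini T
  have hΦM : Φ ≤ M := by
    refine frattini_le_coatom ⟨fun e => ?_, fun K hK => ?_⟩
    · rw [e, Subgroup.index_top] at hMi; exact hp.out.one_lt.ne hMi
    · have h1 := Subgroup.index_dvd_of_le hK.le
      rw [hMi] at h1
      rcases (Nat.dvd_prime hp.out).1 h1 with h1 | h1
      · exact Subgroup.index_eq_one.1 h1
      · refine absurd (Subgroup.eq_of_le_of_card_ge hK.le (le_of_eq ?_)) hK.ne
        have a := Subgroup.card_mul_index M
        have b := Subgroup.card_mul_index K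
        rw [hMi] at a; rw [h1] at b
        exact Nat.eq_of_mul_eq_mul_right hp.out.pos (b.trans a.symm)
  have hΦinv : ∀ α : MulAut T, ∀ x ∈ Φ, α x ∈ Φ := fun α x hx => by
    rw [← Subgroup.characteristic_iff_comap_eq.1 (inferInstance : Φ.Characteristic) α] at hx
    exact hx
  have hmapM : ∀ a : Γ, M.map (a : MulAut T).toMonoidHom = M := fun a => by
    refine le_antisymm (by rintro _ ⟨x, hx, rfl⟩; exact hM _ a.2 x hx) fun y hy => ?_
    exact ⟨((a⁻¹ : Γ) : MulAut T) y, hM _ (a⁻¹).2 y hy, (a : MulAut T).apply_symm_apply y⟩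
  let resM : Γ →* MulAut M :=
    { toFun := fun a =>
        { toFun := fun x => ⟨(a : MulAut T) x, hM _ a.2 x x.2⟩
          invFun := fun x => ⟨((a⁻¹ : Γ) : MulAut T) x, hM _ (a⁻¹).2 x x.2⟩
          left_inv := fun x => Subtype.ext ((a : MulAut T).symm_apply_apply (x : T))
          right_inv := fun x => Subtype.ext ((a : MulAut T).apply_symm_apply (x : T))
          map_mul' := fun x y => Subtype.ext (map_mul (a : MulAut T) (x : T) (y : T)) }
      map_one' := MulEquiv.ext fun x => rfl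
      map_mul' := fun a b => MulEquiv.ext fun x => rfl }
  set ΦM := Φ.subgroupOf M
  haveI : ΦM.Normal := Subgroup.normal_subgroupOf
  have hmapΦ : ∀ a : Γ, ΦM.map (resM a).toMonoidHom = ΦM := fun a => by
    refine le_antisymm (by rintro _ ⟨x, hx, rfl⟩; exact hΦinv _ _ hx) fun y hy => ?_
    exact ⟨resM a⁻¹ y, hΦinv _ _ hy, by
      rw [MulEquiv.coe_toMonoidHom, map_inv]; exact (resM a).apply_symm_apply y⟩
  let act₁ : Γ →* MulAut (T ⧸ M) :=
    { toFun := fun a => QuotientGroup.congr M M (a : MulAut T) (hmapM a)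
      map_one' := MulEquiv.ext fun q => by
        obtain ⟨x, rfl⟩ := QuotientGroup.mk_surjective q; rfl
      map_mul' := fun a b => MulEquiv.ext fun q => by
        obtain ⟨x, rfl⟩ := QuotientGroup.mk_surjective q; rfl }
  let act₂ : Γ →* MulAut (M ⧸ ΦM) :=
    { toFun := fun a => QuotientGroup.congr ΦM ΦM (resM a) (hmapΦ a)
      map_one' := MulEquiv.ext fun q => by
        obtain ⟨x, rfl⟩ := QuotientGroup.mk_surjective q; rfl
      map_mul' := fun a b => MulEquiv.ext fun q => by
        obtain ⟨x, rfl⟩ := QuotientGroup.mk_surjective q; rfl }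
  have hc1 : Nat.card (T ⧸ M) ∣ p := dvd_of_eq hMi
  have hc2 : Nat.card (M ⧸ ΦM) ∣ p := by
    have h1 := Subgroup.relIndex_mul_index hΦM
    have h2 := index_frattini_dvd hT hm
    rw [← h1, hMi, sq] at h2
    exact Nat.dvd_of_mul_dvd_mul_right hp.out.pos h2
  obtain ⟨hcm₁, hex₁⟩ := aut_small (p := p) hc1
  obtain ⟨hcm₂, hex₂⟩ := aut_small (p := p) hc2
  refine ⟨act₁.ker ⊓ act₂.ker, ?_, fun a b => ⟨?_, ?_⟩, fun a => ⟨?_, ?_⟩⟩
  rotate_left
  · show act₁ _ = 1
    rw [map_mul, map_mul, map_mul, map_inv, map_inv, hcm₁ (act₁ a) (act₁ b), mul_inv_cancel_right,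
      mul_inv_cancel]
  · show act₂ _ = 1
    rw [map_mul, map_mul, map_mul, map_inv, map_inv, hcm₂ (act₂ a) (act₂ b), mul_inv_cancel_right,
      mul_inv_cancel]
  · show act₁ _ = 1
    rw [map_pow, hex₁]
  · show act₂ _ = 1
    rw [map_pow, hex₂]
  -- the automorphisms trivial on both factors form a `p`-group
  have hd : ∀ a ∈ act₁.ker, ∀ x : T, x⁻¹ * (a : MulAut T) x ∈ M := fun a ha x => by
    have h1 := DFunLike.congr_fun (MonoidHom.mem_ker.1 ha) (x : T ⧸ M)
    exact QuotientGroup.eq.1 (Eq.symm h1)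
  have hd' : ∀ a ∈ act₂.ker, ∀ x ∈ M, x⁻¹ * (a : MulAut T) x ∈ Φ := fun a ha x hx => by
    have h1 := DFunLike.congr_fun (MonoidHom.mem_ker.1 ha) ((⟨x, hx⟩ : M) : M ⧸ ΦM)
    exact Subgroup.mem_subgroupOf.1 (QuotientGroup.eq.1 (Eq.symm h1))
  haveI : Finite (MulAut T) := Finite.of_injective _ DFunLike.coe_injective
  let K₀ : Subgroup (MulAut T) :=
    { carrier := {α | ∀ x : T, ((α x : T) : T ⧸ Φ) = (x : T ⧸ Φ)}
      one_mem' := fun x => rfl
      mul_mem' := fun {α β} hα hβ x => (hα (β x)).trans (hβ x)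
      inv_mem' := fun {α} hα x => by
        rw [← hα (α⁻¹ x)]
        exact congrArg _ (α.apply_symm_apply x) }
  have hK₀ : IsPGroup p K₀ := by
    let en := Finite.equivFin (T ⧸ Φ)
    have h1 := PGroups.card_dvd_frattini_pow (fun i => en.symm i)
      (by rw [Equiv.range_eq_univ, Subgroup.closure_univ]) K₀ (fun α hα x => by
        rw [← QuotientGroup.eq_one_iff, QuotientGroup.mk_mul, QuotientGroup.mk_inv, hα x,
          mul_inv_cancel])
    obtain ⟨k, hk⟩ := IsPGroup.iff_card.1 (hT.to_subgroup Φ)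
    rw [hk, ← pow_mul] at h1
    obtain ⟨l, -, hl⟩ := (Nat.dvd_prime_pow hp.out).1 h1
    exact IsPGroup.of_card hl
  rintro ⟨a, ha1, ha2⟩
  have hak : ∀ (x : T) (k : ℕ), ((((a : MulAut T) ^ k) x : T) : T ⧸ Φ) =
      (x : T ⧸ Φ) * ((x⁻¹ * (a : MulAut T) x : T) : T ⧸ Φ) ^ k := by
    intro x k
    induction k with
    | zero => rw [pow_zero, pow_zero, mul_one]; rfl
    | succ k ih =>
      have hd1 := hd a ha1 x
      have h2 : (((a : MulAut T) (x⁻¹ * (a : MulAut T) x) : T) : T ⧸ Φ) =
          ((x⁻¹ * (a : MulAut T) x : T) : T ⧸ Φ) :=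
        (QuotientGroup.eq.2 (hd' a ha2 _ hd1)).symm
      rw [pow_succ', MulAut.mul_apply]
      have h3 : ((((a : MulAut T) (((a : MulAut T) ^ k) x)) : T) : T ⧸ Φ) =
          (((a : MulAut T) x : T) : T ⧸ Φ) * ((x⁻¹ * (a : MulAut T) x : T) : T ⧸ Φ) ^ k := by
        have h4 : ((((a : MulAut T) ^ k) x : T) : T ⧸ Φ) =
            ((x * (x⁻¹ * (a : MulAut T) x) ^ k : T) : T ⧸ Φ) := by
          rw [ih]; rfl
        have h5 := QuotientGroup.eq.2 (show ((a : MulAut T) (((a : MulAut T) ^ k) x))⁻¹ *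
          (a : MulAut T) (x * (x⁻¹ * (a : MulAut T) x) ^ k) ∈ Φ by
            rw [← map_inv, ← map_mul]; exact hΦinv _ _ (QuotientGroup.eq.1 h4))
        rw [h5, map_mul, map_pow, QuotientGroup.mk_mul, QuotientGroup.mk_pow, h2]
      rw [h3, pow_succ', ← mul_assoc, ← QuotientGroup.mk_mul, mul_inv_cancel_left]
  have hap : (a : MulAut T) ^ p ∈ K₀ := fun x => by
    rw [hak x p, ← QuotientGroup.mk_pow,
      (QuotientGroup.eq_one_iff ((x⁻¹ * (a : MulAut T) x) ^ p)).2 (Transfer.pow_mem_frattini hT _), mul_one]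
  obtain ⟨k, hk⟩ := hK₀ ⟨_, hap⟩
  refine ⟨k + 1, Subtype.ext (Subtype.ext ?_)⟩
  show (a : MulAut T) ^ p ^ (k + 1) = 1
  rw [pow_succ', pow_mul]
  exact congrArg Subtype.val hk

/-- A characteristic subgroup of index `p` in an abelian group, not homocyclic. -/
theorem exists_invariant_maximal_abelian (hab : ∀ x y : T, x * y = y * x) (hT : IsPGroup p T) (hm : Cfsg.IsMetacyclic T)
    (hhom : ¬ ∃ n : ℕ, 0 < n ∧
      Nonempty (T ≃* Multiplicative (ZMod (p ^ n)) × Multiplicative (ZMod (p ^ n))))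
    (hncy : ¬ IsCyclic T) : ∃ M : Subgroup T, M.index = p ∧ M.Characteristic := by
  classical
  obtain ⟨N, hNn, hNc, hQc⟩ := hm
  letI : CommGroup T := { (inferInstance : Group T) with mul_comm := hab }
  obtain ⟨e, he⟩ := IsPGroup.iff_card.1 hT
  -- the exponent
  obtain ⟨n, hn, hexp⟩ : ∃ n : ℕ, (∃ x : T, orderOf x = p ^ n) ∧ ∀ x : T, x ^ p ^ n = 1 := by
    obtain ⟨x, hx⟩ := Monoid.exists_orderOf_eq_exponent (G := T) Monoid.ExponentExists.of_finite
    obtain ⟨n, hn⟩ := (IsPGroup.iff_orderOf.1 hT) x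
    exact ⟨n, ⟨x, hn⟩, fun y => by rw [← hn, hx]; exact Monoid.pow_exponent_eq_one y⟩
  obtain ⟨x, hx⟩ := hn
  have hn0 : 0 < n := by
    rcases Nat.eq_zero_or_pos n with h | h
    · exfalso
      subst h
      refine hncy ?_
      haveI : Subsingleton T := ⟨fun u v => by
        have := hexp u; have := hexp v; simp_all⟩
      exact isCyclic_of_subsingleton
    · exact h
  set f : T →* T := powMonoidHom (p ^ (n - 1))
  have hfx : f x ≠ 1 := by
    show x ^ p ^ (n - 1) ≠ 1
    intro h
    have := orderOf_dvd_of_pow_eq_one h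
    rw [hx, Nat.pow_dvd_pow_iff_le_right hp.out.one_lt] at this
    omega
  have hfp : ∀ y ∈ f.range, y ^ p = 1 := by
    rintro _ ⟨y, rfl⟩
    show (y ^ p ^ (n - 1)) ^ p = 1
    rw [← pow_mul, ← pow_succ, show n - 1 + 1 = n by omega, hexp]
  refine ⟨f.ker, ?_, ?_⟩
  · rw [Subgroup.index_ker]
    have hdvd : p ∣ Nat.card f.range := by
      have h1 : orderOf (⟨f x, x, rfl⟩ : f.range) = p := orderOf_eq_prime
        (Subtype.ext (hfp _ ⟨x, rfl⟩)) fun h => hfx (congrArg Subtype.val h)
      exact h1 ▸ orderOf_dvd_natCard _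
    obtain ⟨k, hk⟩ := IsPGroup.iff_card.1 (hT.to_subgroup f.range)
    rw [hk] at hdvd ⊢
    rcases Nat.lt_or_ge k 2 with h2 | h2
    · interval_cases k
      · exact absurd hdvd (fun h => hp.out.one_lt.ne' (Nat.dvd_one.1 (by simpa using h)))
      · rw [pow_one]
    · exfalso
      -- the image is noncyclic: the group is homocyclic
      obtain ⟨y, hy⟩ : ∃ y : T, f y ∉ Subgroup.zpowers (f x) := by
        by_contra hc
        push Not at hc
        have h3 : Nat.card f.range ≤ Nat.card (Subgroup.zpowers (f x)) :=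
          Subgroup.card_le_of_le (by rintro _ ⟨y, rfl⟩; exact hc y)
        rw [hk, Nat.card_zpowers] at h3
        have h4 : orderOf (f x) ≤ p := Nat.le_of_dvd hp.out.pos
          (orderOf_dvd_of_pow_eq_one (hfp _ ⟨x, rfl⟩))
        have h5 : p ^ 2 ≤ p := ((Nat.pow_le_pow_right hp.out.pos h2).trans h3).trans h4
        have h6 := hp.out.two_le
        nlinarith
      haveI : NeZero (p ^ n) := ⟨(pow_pos hp.out.pos n).ne'⟩
      have hval : ∀ (u : T) (i j : ZMod (p ^ n)), u ^ (i + j).val = u ^ i.val * u ^ j.val := by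
        intro u i j
        rw [← pow_add, ZMod.val_add, ← pow_eq_pow_mod (i.val + j.val) (hexp u)]
      let g : Multiplicative (ZMod (p ^ n)) × Multiplicative (ZMod (p ^ n)) →* T :=
        MonoidHom.mk' (fun v => x ^ (v.1.toAdd).val * y ^ (v.2.toAdd).val) fun v w => by
          simp only [Prod.fst_mul, Prod.snd_mul, toAdd_mul, hval]
          exact mul_mul_mul_comm _ _ _ _
      have key : ∀ (k : ℕ) (i j : ℕ), k ≤ n → x ^ i * y ^ j = 1 → p ^ k ∣ i ∧ p ^ k ∣ j := by
        intro k
        induction k with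
        | zero => intro i j _ _; simp
        | succ k ih =>
          intro i j hkn h
          obtain ⟨⟨i', rfl⟩, ⟨j', rfl⟩⟩ := ih i j (by omega) h
          have h1 := congrArg (· ^ p ^ (n - 1 - k)) h
          simp only [mul_pow, one_pow, ← pow_mul] at h1
          rw [show p ^ k * i' * p ^ (n - 1 - k) = p ^ (n - 1) * i' by
              rw [mul_right_comm, ← pow_add]; congr 2; omega,
            show p ^ k * j' * p ^ (n - 1 - k) = p ^ (n - 1) * j' by
              rw [mul_right_comm, ← pow_add]; congr 2; omega,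
            pow_mul, pow_mul] at h1
          change (f x) ^ i' * (f y) ^ j' = 1 at h1
          have hj : p ∣ j' := by
            by_contra hj
            refine hy ?_
            have h2 : (f y) ^ j' ∈ Subgroup.zpowers (f x) := by
              rw [eq_inv_of_mul_eq_one_right h1]
              exact inv_mem (Subgroup.npow_mem_zpowers _ _)
            have h7 : (f y) ^ p ∈ Subgroup.zpowers (f x) := by
              rw [hfp _ ⟨y, rfl⟩]; exact one_mem _
            have h8 : Nat.gcd j' p = 1 := ((hp.out.coprime_iff_not_dvd).2 hj).symm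
            have h9 := Nat.gcd_eq_gcd_ab j' p
            rw [h8, Nat.cast_one] at h9
            rw [← zpow_one (f y), h9, zpow_add, zpow_mul, zpow_mul, zpow_natCast, zpow_natCast]
            exact mul_mem (zpow_mem h2 _) (zpow_mem h7 _)
          have hi : p ∣ i' := by
            obtain ⟨j'', rfl⟩ := hj
            rw [pow_mul (f y), hfp _ ⟨y, rfl⟩, one_pow, mul_one] at h1
            have h2 := orderOf_dvd_of_pow_eq_one h1
            rwa [orderOf_eq_prime (hfp _ ⟨x, rfl⟩) hfx] at h2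
          rw [pow_succ]
          exact ⟨mul_dvd_mul_left _ hi, mul_dvd_mul_left _ hj⟩
      have hinj : Function.Injective g := by
        rw [injective_iff_map_eq_one]
        intro v hv
        obtain ⟨h1, h2⟩ := key n _ _ le_rfl hv
        have h1' := Nat.eq_zero_of_dvd_of_lt h1 (ZMod.val_lt _)
        have h2' := Nat.eq_zero_of_dvd_of_lt h2 (ZMod.val_lt _)
        exact Prod.ext (Multiplicative.toAdd.injective ((ZMod.val_eq_zero _).1 h1'))
          (Multiplicative.toAdd.injective ((ZMod.val_eq_zero _).1 h2'))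
      have hle : Nat.card T ≤
          Nat.card (Multiplicative (ZMod (p ^ n)) × Multiplicative (ZMod (p ^ n))) := by
        rw [Nat.card_prod, Nat.card_congr Multiplicative.toAdd, Nat.card_zmod,
          Subgroup.card_eq_card_quotient_mul_card_subgroup N]
        refine Nat.mul_le_mul ?_ ?_
        · obtain ⟨w, hw⟩ := IsCyclic.exists_ofOrder_eq_natCard (α := T ⧸ N)
          obtain ⟨w', rfl⟩ := QuotientGroup.mk_surjective w
          refine hw ▸ Nat.le_of_dvd (pow_pos hp.out.pos n) (orderOf_dvd_of_pow_eq_one ?_)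
          rw [← QuotientGroup.mk_pow, hexp]; rfl
        · obtain ⟨w, hw⟩ := IsCyclic.exists_ofOrder_eq_natCard (α := N)
          refine hw ▸ Nat.le_of_dvd (pow_pos hp.out.pos n) (orderOf_dvd_of_pow_eq_one ?_)
          exact Subtype.ext (by rw [SubgroupClass.coe_pow, hexp]; rfl)
      have hcard := le_antisymm (Nat.card_le_card_of_injective g hinj) hle
      exact hhom ⟨n, hn0, ⟨(MulEquiv.ofBijective g
        ((Nat.bijective_iff_injective_and_card g).2 ⟨hinj, hcard⟩)).symm⟩⟩
  · refine Subgroup.characteristic_iff_le_comap.2 fun α z hz => ?_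
    show (α z) ^ p ^ (n - 1) = 1
    rw [← map_pow, show z ^ p ^ (n - 1) = 1 from hz, map_one]

/-- A maximal subgroup invariant under all automorphisms, for `p` odd. -/
theorem exists_invariant_maximal (hp2 : p ≠ 2) (hT : IsPGroup p T) (hm : Cfsg.IsMetacyclic T)
    (hhom : ¬ ∃ n : ℕ, 0 < n ∧
      Nonempty (T ≃* Multiplicative (ZMod (p ^ n)) × Multiplicative (ZMod (p ^ n))))
    (hncy : ¬ IsCyclic T) : ∃ M : Subgroup T, M.index = p ∧ M.Characteristic := by
  classical
  by_cases hab : ∀ x y : T, x * y = y * x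
  · exact exists_invariant_maximal_abelian hab hT hm hhom hncy
  obtain ⟨N, hNn, hNc, hQc⟩ := hm
  set D := commutator T
  have hAb : ∀ x y : T ⧸ D, x * y = y * x := fun x y => by
    obtain ⟨x, rfl⟩ := QuotientGroup.mk_surjective x
    obtain ⟨y, rfl⟩ := QuotientGroup.mk_surjective y
    rw [← QuotientGroup.mk_mul, ← QuotientGroup.mk_mul, QuotientGroup.eq,
      show (x * y)⁻¹ * (y * x) = ⁅y⁻¹, x⁻¹⁆ by rw [commutatorElement_def]; group]
    exact Subgroup.commutator_mem_commutator (Subgroup.mem_top _) (Subgroup.mem_top _)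
  have hDN : D ≤ N := by
    letI := IsCyclic.commGroup (α := T ⧸ N)
    refine (Abelianization.commutator_subset_ker (QuotientGroup.mk' N)).trans ?_
    rw [QuotientGroup.ker_mk']
  have hncy' : ¬ IsCyclic (T ⧸ D) := by
    intro hcy
    apply hab
    obtain ⟨g, hg⟩ := hcy.exists_generator
    obtain ⟨t, rfl⟩ := QuotientGroup.mk_surjective g
    haveI : Group.IsNilpotent T := hT.isNilpotent
    have htop : Subgroup.zpowers t = ⊤ := by
      refine frattini_nongenerating (eq_top_iff.2 fun u _ => ?_)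
      obtain ⟨k, hk⟩ := Subgroup.mem_zpowers_iff.1 (hg u)
      rw [← QuotientGroup.mk_zpow, QuotientGroup.eq] at hk
      have hDF : D ≤ frattini T := fun z hz => Transfer.mem_frattini_of_forall_hom hT
        fun {A} _ hA δ => by
          haveI : IsCyclic A := isCyclic_of_prime_card hA.out
          letI := IsCyclic.commGroup (α := A)
          exact MonoidHom.mem_ker.1 (Abelianization.commutator_subset_ker δ hz)
      have := Subgroup.mul_mem_sup (Subgroup.zpow_mem_zpowers t k) (hDF hk)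
      rwa [mul_inv_cancel_left] at this
    intro x y
    obtain ⟨i, rfl⟩ := Subgroup.mem_zpowers_iff.1 (htop ▸ Subgroup.mem_top x)
    obtain ⟨j, rfl⟩ := Subgroup.mem_zpowers_iff.1 (htop ▸ Subgroup.mem_top y)
    exact zpow_mul_comm t i j
  by_cases hhom' : ∃ n : ℕ, 0 < n ∧
      Nonempty (T ⧸ D ≃* Multiplicative (ZMod (p ^ n)) × Multiplicative (ZMod (p ^ n)))
  swap
  · haveI : (N.map (QuotientGroup.mk' D)).Normal :=
      hNn.map _ (QuotientGroup.mk'_surjective _)
    have hm' : Cfsg.IsMetacyclic (T ⧸ D) := by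
      refine ⟨N.map (QuotientGroup.mk' D), inferInstance,
        isCyclic_of_surjective ((QuotientGroup.mk' D).subgroupMap N)
          ((QuotientGroup.mk' D).subgroupMap_surjective N), ?_⟩
      refine isCyclic_of_surjective (QuotientGroup.map N _ (QuotientGroup.mk' D)
        (Subgroup.le_comap_map _ _)) fun q => ?_
      obtain ⟨q, rfl⟩ := QuotientGroup.mk_surjective q
      obtain ⟨t, rfl⟩ := QuotientGroup.mk_surjective q
      exact ⟨(t : T ⧸ N), rfl⟩
    obtain ⟨M, hMi, hMc⟩ := exists_invariant_maximal_abelian hAb (hT.to_quotient D) hm' hhom' hncy'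
    refine ⟨M.comap (QuotientGroup.mk' D),
      by rw [Subgroup.index_comap_of_surjective _ (QuotientGroup.mk'_surjective D), hMi], ?_⟩
    refine Subgroup.characteristic_iff_le_comap.2 fun α z hz => ?_
    have hD : D.map α.toMonoidHom = D :=
      Subgroup.characteristic_iff_map_eq.1 inferInstance α
    exact (Subgroup.characteristic_iff_le_comap.1 hMc (QuotientGroup.congr D D α hD)) hz
  obtain ⟨n, hn0, ⟨e⟩⟩ := hhom'
  -- the derived subgroup is cyclic
  haveI : IsCyclic D :=
    isCyclic_of_injective (Subgroup.inclusion hDN) (Subgroup.inclusion_injective hDN)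
  obtain ⟨⟨c, hcD⟩, hc⟩ := IsCyclic.exists_generator (α := D)
  have hcgen : ∀ d ∈ D, d ∈ Subgroup.zpowers c := fun d hd => by
    obtain ⟨k, hk⟩ := Subgroup.mem_zpowers_iff.1 (hc ⟨d, hd⟩)
    exact ⟨k, congrArg Subtype.val hk⟩
  have hc1 : c ≠ 1 := by
    intro h
    refine hab fun x y => ?_
    have h1 := hcgen ⁅x, y⁆ (Subgroup.commutator_mem_commutator (Subgroup.mem_top _) (Subgroup.mem_top _))
    rw [h, Subgroup.zpowers_one_eq_bot, Subgroup.mem_bot, commutatorElement_eq_one_iff_commute] at h1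
    exact h1
  set R := Subgroup.zpowers (c ^ p) with hR
  have hRinv : ∀ α : MulAut T, ∀ r ∈ R, α r ∈ R := by
    intro α r hr
    obtain ⟨k, rfl⟩ := Subgroup.mem_zpowers_iff.1 hr
    have hαc : α c ∈ D := by
      rw [← Subgroup.characteristic_iff_comap_eq.1 (inferInstance : D.Characteristic) α] at hcD
      exact hcD
    obtain ⟨j, hj⟩ := Subgroup.mem_zpowers_iff.1 (hcgen _ hαc)
    rw [map_zpow, map_pow, ← hj]
    refine zpow_mem (⟨j, ?_⟩ : (c ^ j) ^ p ∈ R) k
    show (c ^ p) ^ j = (c ^ j) ^ p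
    rw [← zpow_natCast, ← zpow_natCast (c ^ j), ← zpow_mul, ← zpow_mul, mul_comm]
  haveI hRn : R.Normal := ⟨fun r hr g => hRinv (MulAut.conj g) r hr⟩
  set π := QuotientGroup.mk' R
  have hcR : π c ≠ 1 := by
    intro h
    obtain ⟨k, hk⟩ := Subgroup.mem_zpowers_iff.1 ((QuotientGroup.eq_one_iff c).1 h)
    rw [← zpow_natCast, ← zpow_mul] at hk
    have h1 : (orderOf c : ℤ) ∣ (p : ℤ) * k - 1 := by
      rw [orderOf_dvd_iff_zpow_eq_one, zpow_sub, hk, zpow_one, mul_inv_cancel]
    obtain ⟨e, he⟩ := (IsPGroup.iff_orderOf.1 hT) c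
    rcases e with _ | e
    · exact hc1 (orderOf_eq_one_iff.1 (by simpa using he))
    · have h2 : (p : ℤ) ∣ (p : ℤ) * k - 1 := by
        refine dvd_trans ?_ h1
        rw [he, pow_succ']; exact_mod_cast dvd_mul_right _ _
      have h3 : (p : ℤ) ∣ 1 := by
        have := dvd_sub (dvd_mul_right (p : ℤ) k) h2
        simpa using this
      exact hp.out.one_lt.ne' (Nat.dvd_one.1 (by exact_mod_cast h3))
  have hcp : π c ^ p = 1 := by
    rw [← map_pow]
    exact (QuotientGroup.eq_one_iff _).2 (Subgroup.mem_zpowers _)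
  set C := Subgroup.zpowers (π c)
  have hCcard : Nat.card C = p := by rw [Nat.card_zpowers, orderOf_eq_prime hcp hcR]
  haveI hCn : C.Normal := by
    have : C = D.map π := by
      refine le_antisymm (Subgroup.zpowers_le.2 ⟨c, hcD, rfl⟩) ?_
      rintro _ ⟨d, hd, rfl⟩
      obtain ⟨k, rfl⟩ := Subgroup.mem_zpowers_iff.1 (hcgen d hd)
      exact ⟨k, (map_zpow π c k).symm⟩
    rw [this]
    exact Subgroup.Normal.map inferInstance π (QuotientGroup.mk'_surjective R)
  have hCc : ∀ z ∈ C, ∀ g : T ⧸ R, g * z = z * g := by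
    haveI : Group.IsNilpotent (T ⧸ R) := (hT.to_quotient R).isNilpotent
    obtain ⟨z, hz, hzc, hzo⟩ := Cfsg.Agent.Lib.Transfer.exists_central_orderOf_eq
      (hT.to_quotient R) C (fun e => by
        rw [e, Subgroup.card_bot] at hCcard; exact hp.out.one_lt.ne hCcard)
    have : Subgroup.zpowers z = C := Subgroup.eq_of_le_of_card_ge (Subgroup.zpowers_le.2 hz)
      (by rw [hCcard, Nat.card_zpowers, hzo])
    intro w hw g
    exact Subgroup.mem_center_iff.1 ((this ▸ (Subgroup.zpowers_le.2 hzc)) hw) g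
  have hpn : ∀ u : T ⧸ R, u ^ p ^ n ∈ C := by
    intro u
    obtain ⟨t, rfl⟩ := QuotientGroup.mk_surjective u
    have h1 : ((t : T ⧸ D)) ^ p ^ n = 1 := by
      apply e.injective
      rw [map_pow, map_one]
      refine Prod.ext ?_ ?_ <;>
      · apply Multiplicative.toAdd.injective
        simp [toAdd_pow]
    rw [← QuotientGroup.mk_pow, QuotientGroup.eq_one_iff] at h1
    obtain ⟨k, hk⟩ := Subgroup.mem_zpowers_iff.1 (hcgen _ h1)
    refine ⟨k, ?_⟩
    show π c ^ k = π t ^ p ^ n
    rw [← map_zpow, hk, map_pow]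
  let f : T ⧸ R →* T ⧸ R := MonoidHom.mk' (fun u => u ^ p ^ n) fun u w => by
    obtain ⟨u, rfl⟩ := QuotientGroup.mk_surjective u
    obtain ⟨w, rfl⟩ := QuotientGroup.mk_surjective w
    have hmem : ⁅π w, π u⁆ ∈ C := by
      rw [← map_commutatorElement]
      obtain ⟨k, hk⟩ := Subgroup.mem_zpowers_iff.1
        (hcgen ⁅w, u⁆ (Subgroup.commutator_mem_commutator (Subgroup.mem_top _) (Subgroup.mem_top _)))
      exact ⟨k, by show π c ^ k = _; rw [← map_zpow, hk]⟩
    have h1 := TwoMetacyclic.mul_pow_class_two (y := π u) (z := π w) (c := ⁅π w, π u⁆)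
      (by rw [commutatorElement_def]; group) (hCc _ hmem _).symm (hCc _ hmem _).symm (p ^ n)
    have h2 : ⁅π w, π u⁆ ^ (p ^ n).choose 2 = 1 := by
      obtain ⟨m, hm⟩ : p ∣ (p ^ n).choose 2 := by
        rw [Nat.choose_two_right]
        refine Nat.dvd_div_of_mul_dvd ?_
        refine Nat.Coprime.mul_dvd_of_dvd_of_dvd ?_ ?_
          (Dvd.dvd.mul_right (dvd_pow_self p hn0.ne') _)
        · rw [Nat.coprime_comm, hp.out.coprime_iff_not_dvd]
          exact fun h => hp2 ((Nat.prime_dvd_prime_iff_eq hp.out Nat.prime_two).1 h)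
        · exact (Nat.even_mul_pred_self _).two_dvd
      obtain ⟨k, hk⟩ := Subgroup.mem_zpowers_iff.1 hmem
      rw [← hk, hm, pow_mul]
      have h3 : (π c ^ k) ^ p = 1 := by
        rw [← zpow_natCast, ← zpow_mul, mul_comm, zpow_mul, zpow_natCast, hcp, one_zpow]
      rw [h3, one_pow]
    rw [h2, one_mul] at h1
    exact h1
  have hfr : f.range = C := by
    rcases (Nat.dvd_prime hp.out).1 ((Subgroup.card_dvd_of_le
      (show f.range ≤ C by rintro _ ⟨u, rfl⟩; exact hpn u)).trans (dvd_of_eq hCcard)) with h | h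
    · exfalso
      have hall : ∀ u : T ⧸ R, u ^ p ^ n = 1 := fun u =>
        Subgroup.mem_bot.1 ((Subgroup.eq_bot_of_card_eq _ h) ▸ (⟨u, rfl⟩ : f u ∈ f.range))
      -- count
      have hlow : p * (p ^ n * p ^ n) ∣ Nat.card (T ⧸ R) := by
        have h3 : R ≤ D := Subgroup.zpowers_le.2 (pow_mem hcD p)
        have h4 := Subgroup.relIndex_mul_index h3
        have h5 : D.index = p ^ n * p ^ n := by
          rw [Subgroup.index, Nat.card_congr e.toEquiv, Nat.card_prod,
            Nat.card_congr Multiplicative.toAdd, Nat.card_zmod]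
        rw [← Subgroup.index, ← h4, h5]
        refine mul_dvd_mul_right ?_ _
        have h6 : Nat.card (D.map π) = R.relIndex D := by
          rw [Subgroup.relIndex, Subgroup.index]
          let g : D →* D.map π := π.subgroupMap D
          have hk : g.ker = R.subgroupOf D := by
            ext d
            rw [MonoidHom.mem_ker, Subgroup.mem_subgroupOf, ← QuotientGroup.eq_one_iff,
              Subtype.ext_iff]
            rfl
          exact ((Nat.card_congr (QuotientGroup.quotientMulEquivOfEq hk.symm).toEquiv).trans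
            (Nat.card_congr (QuotientGroup.quotientKerEquivOfSurjective g
              (π.subgroupMap_surjective D)).toEquiv)).symm
        rw [← h6, ← hCcard]
        exact Subgroup.card_dvd_of_le (Subgroup.zpowers_le.2 ⟨c, hcD, rfl⟩)
      have hup : Nat.card (T ⧸ R) ∣ p ^ n * p ^ n := by
        haveI : (N.map π).Normal := hNn.map π (QuotientGroup.mk'_surjective _)
        rw [Subgroup.card_eq_card_quotient_mul_card_subgroup (N.map π)]
        refine mul_dvd_mul ?_ ?_
        · haveI : IsCyclic ((T ⧸ R) ⧸ N.map π) :=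
            isCyclic_of_surjective (QuotientGroup.map N (N.map π) π (Subgroup.le_comap_map _ _))
              fun q => by
                obtain ⟨q, rfl⟩ := QuotientGroup.mk_surjective q
                obtain ⟨t, rfl⟩ := QuotientGroup.mk_surjective q
                exact ⟨(t : T ⧸ N), rfl⟩
          obtain ⟨w, hw⟩ := IsCyclic.exists_ofOrder_eq_natCard (α := (T ⧸ R) ⧸ N.map π)
          obtain ⟨w', rfl⟩ := QuotientGroup.mk_surjective w
          exact hw ▸ orderOf_dvd_of_pow_eq_one (by rw [← QuotientGroup.mk_pow, hall]; rfl)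
        · haveI : IsCyclic (N.map π) :=
            isCyclic_of_surjective (π.subgroupMap N) (π.subgroupMap_surjective N)
          obtain ⟨w, hw⟩ := IsCyclic.exists_ofOrder_eq_natCard (α := N.map π)
          exact hw ▸ orderOf_dvd_of_pow_eq_one (Subtype.ext (by
            rw [SubgroupClass.coe_pow, hall]; rfl))
      have h7 := Nat.le_of_dvd (Nat.mul_pos (pow_pos hp.out.pos n) (pow_pos hp.out.pos n))
        (hlow.trans hup)
      have h8 := hp.out.two_le
      have h9 := Nat.mul_pos (pow_pos hp.out.pos n) (pow_pos hp.out.pos n)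
      nlinarith
    · exact Subgroup.eq_of_le_of_card_ge (by rintro _ ⟨u, rfl⟩; exact hpn u) (by rw [h, hCcard])
  refine ⟨f.ker.comap π, ?_, ?_⟩
  · rw [Subgroup.index_comap_of_surjective _ (QuotientGroup.mk'_surjective R), Subgroup.index_ker,
      hfr, hCcard]
  · refine Subgroup.characteristic_iff_le_comap.2 fun α z hz => ?_
    have h1 : z ^ p ^ n ∈ R := by
      rw [← QuotientGroup.eq_one_iff, QuotientGroup.mk_pow]
      exact hz
    show π (α z) ^ p ^ n = 1
    rw [← map_pow, ← map_pow]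
    exact (QuotientGroup.eq_one_iff _).2 (hRinv α _ h1)

end Cfsg.Agent.Lib.PLocal.Supersol
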