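import Cfsg.Agent.Lib.PLocal.SupersolubleSystem
import Cfsg.Agent.Lib.PLocal.SupersolubleStep
import Cfsg.Agent.Lib.Fusion.EssentialSeries

/-!
Supersoluble systems: the top subgroup is normal and the automisers of `S` are restricted.
-/

set_option autoImplicit false
set_option linter.unusedSectionVars false

namespace Cfsg.Agent.Lib.PLocal.Supersol

open Cfsg Cfsg.FusionSystem Cfsg.Agent.Lib.Fusion
open scoped commutatorElement

variable {Ω : Type*} [Group Ω] {S : Subgroup Ω} [Finite S] {p : ℕ} [hp : Fact p.Prime]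

/-- The trace of a cyclic step of a chain on a subgroup is cyclic. -/
theorem isCyclic_trace (F : FusionSystem S) {c c' : Subgroup Ω} (hc : F.StronglyClosed c)
    {g : Ω} (hg : g ∈ S) (hcc : c' = c ⊔ Subgroup.zpowers g) {P : Subgroup Ω} (hP : P ≤ S)
    [((c.subgroupOf P).subgroupOf (c'.subgroupOf P)).Normal] :
    IsCyclic (↥(c'.subgroupOf P) ⧸ (c.subgroupOf P).subgroupOf (c'.subgroupOf P)) := by
  have hCn : ∀ u ∈ S, ∀ v ∈ c, u * v * u⁻¹ ∈ c := fun u hu v hv =>
    conj_mem_of_mem_normalizer (WeaklyClosed.le_normalizer (StronglyClosed.weaklyClosed hc) hu) hv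
  set B := c'.subgroupOf P
  set D := c'.subgroupOf S
  haveI : (c.subgroupOf S).Normal := ⟨fun v hv u => hCn u u.2 v hv⟩
  set E := (c.subgroupOf S).subgroupOf D
  haveI : E.Normal := Subgroup.normal_subgroupOf
  haveI : IsCyclic (D ⧸ E) := by
    have hgD : (⟨g, hg⟩ : S) ∈ D := by
      show g ∈ c'
      rw [hcc]; exact Subgroup.mem_sup_right (Subgroup.mem_zpowers g)
    refine ⟨⟨((⟨⟨g, hg⟩, hgD⟩ : D) : D ⧸ E), fun q => ?_⟩⟩
    obtain ⟨⟨⟨u, huS⟩, hu⟩, rfl⟩ := QuotientGroup.mk_surjective q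
    have h2 : u ∈ (c.subgroupOf S ⊔ Subgroup.zpowers (⟨g, hg⟩ : S)).map S.subtype := by
      rw [Subgroup.map_sup, Subgroup.map_subgroupOf_eq_of_le hc.1, MonoidHom.map_zpowers]
      show u ∈ c ⊔ Subgroup.zpowers g
      exact hcc ▸ hu
    obtain ⟨w, hw, hwu⟩ := h2
    rw [SetLike.mem_coe, Subgroup.mem_sup_of_normal_left] at hw
    obtain ⟨v, hv, _, ⟨k, rfl⟩, hvw⟩ := hw
    refine ⟨k, ?_⟩
    show ((⟨⟨g, hg⟩, hgD⟩ : D) : D ⧸ E) ^ k = _
    rw [← QuotientGroup.mk_zpow, QuotientGroup.eq]
    show (((⟨g, hg⟩ : S) ^ k)⁻¹ * ⟨u, huS⟩ : S) ∈ c.subgroupOf S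
    rw [show (⟨u, huS⟩ : S) = w from Subtype.ext hwu.symm, ← hvw, ← mul_assoc]
    have := (inferInstance : (c.subgroupOf S).Normal).conj_mem v hv ((⟨g, hg⟩ : S) ^ k)⁻¹
    simpa using this
  let fB : B →* D ⧸ E := (QuotientGroup.mk' E).comp
    (((Subgroup.inclusion hP).comp B.subtype).codRestrict D fun x => x.2)
  have hker : fB.ker = (c.subgroupOf P).subgroupOf B := by
    ext x
    rw [MonoidHom.mem_ker]
    show ((_ : D) : D ⧸ E) = 1 ↔ _
    rw [QuotientGroup.eq_one_iff]
    rfl
  refine isCyclic_of_injective ((QuotientGroup.kerLift fB).comp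
    (QuotientGroup.quotientMulEquivOfEq hker.symm).toMonoidHom) ?_
  exact (QuotientGroup.kerLift_injective fB).comp
    (QuotientGroup.quotientMulEquivOfEq hker.symm).injective

/-- A chain gives every subgroup of `S` an invariant series with factors of order `p`. -/
theorem exists_series (hS : IsPGroup p S) {F : FusionSystem S} (h : HasChain F) {P : Subgroup Ω}
    (hP : P ≤ S) : ∃ (W : ℕ → Subgroup P) (m : ℕ), W 0 = ⊥ ∧ W m = ⊤ ∧
      (∀ α ∈ F.autGroup P, ∀ i, ∀ x ∈ W i, α x ∈ W i) ∧ ∀ i < m, (W i).relIndex (W (i + 1)) ∣ p := by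
  classical
  haveI := finite_of_le hP
  obtain ⟨n, c, hc0, hcn, hsc, hstep⟩ := h
  have hinv : ∀ j, ∀ α ∈ F.autGroup P, ∀ x : P, (x : Ω) ∈ c j → ((α x : P) : Ω) ∈ c j :=
    fun j α hα x hx => (hsc j).2 (P ⊓ c j) inf_le_right _
      (restr_mem F (autHom_mem F hP hα) inf_le_left) ⟨x, x.2, hx⟩
  let I := {U : Subgroup P // ∀ α ∈ F.autGroup P, ∀ x ∈ U, α x ∈ U}
  have hnorm : ∀ U : I, U.1.Normal := fun U => ⟨fun x hx u => by
    simpa using U.2 _ (inn_le_autGroup F hP ⟨u, rfl⟩) x hx⟩
  have hnext : ∀ U : I, ∃ V : I, U.1 ≤ V.1 ∧ U.1.relIndex V.1 ∣ p ∧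
      (U.1 = ⊤ ∨ Nat.card U.1 < Nat.card V.1) := by
    intro U
    by_cases hU : U.1 = ⊤
    · exact ⟨U, le_rfl, by rw [Subgroup.relIndex_self]; exact one_dvd _, Or.inl hU⟩
    haveI := hnorm U
    -- the first member of the chain not contained in `U`
    obtain ⟨i, hi, hprev⟩ : ∃ i : Fin n, ¬ (c i.succ).subgroupOf P ≤ U.1 ∧
        (c i.castSucc).subgroupOf P ≤ U.1 := by
      by_contra hc
      push Not at hc
      have key : ∀ j : Fin (n + 1), (c j).subgroupOf P ≤ U.1 := by
        intro j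
        induction j using Fin.induction with
        | zero => rw [hc0, Subgroup.bot_subgroupOf]; exact bot_le
        | succ j ihj =>
          by_contra hh
          exact hc j hh ihj
      refine hU (eq_top_iff.2 fun x _ => key (Fin.last n) ?_)
      show (x : Ω) ∈ c (Fin.last n)
      rw [hcn]; exact hP x.2
    set B := (c i.succ).subgroupOf P
    haveI : ((c i.castSucc).subgroupOf P).Normal :=
      hnorm ⟨_, fun α hα x hx => hinv _ α hα x hx⟩
    haveI : (((c i.castSucc).subgroupOf P).subgroupOf B).Normal := Subgroup.normal_subgroupOf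
    haveI : (U.1.subgroupOf B).Normal := Subgroup.normal_subgroupOf
    obtain ⟨g, hg, hgg⟩ := (hstep i).2
    haveI := isCyclic_trace F (hsc i.castSucc) hg hgg hP
    have hle : ((c i.castSucc).subgroupOf P).subgroupOf B ≤ (U.1.subgroupOf B).comap (MonoidHom.id B) :=
      fun x hx => hprev hx
    haveI : IsCyclic (B ⧸ U.1.subgroupOf B) :=
      isCyclic_of_surjective (QuotientGroup.map _ (U.1.subgroupOf B) (MonoidHom.id B) hle) fun q => by
        obtain ⟨x, rfl⟩ := QuotientGroup.mk_surjective q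
        exact ⟨(x : B ⧸ _), rfl⟩
    haveI : Nontrivial (B ⧸ U.1.subgroupOf B) := by
      rw [← not_subsingleton_iff_nontrivial, QuotientGroup.subsingleton_iff, Subgroup.subgroupOf_eq_top]
      exact hi
    have hBp : IsPGroup p (B ⧸ U.1.subgroupOf B) :=
      (((hS.to_le hP).to_subgroup B)).to_quotient _
    obtain ⟨k, hk0, hk⟩ := hBp.nontrivial_iff_card.mp inferInstance
    obtain ⟨q, hq⟩ := exists_prime_orderOf_dvd_card' (G := B ⧸ U.1.subgroupOf B) p
      (hk ▸ dvd_pow_self p hk0.ne')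
    obtain ⟨y, rfl⟩ := QuotientGroup.mk_surjective q
    have hyU : (y : P) ∉ U.1 := fun hy => by
      rw [(QuotientGroup.eq_one_iff y).2 hy, orderOf_one] at hq
      exact hp.out.one_lt.ne hq
    have hyp : (y : P) ^ p ∈ U.1 := by
      have h1 : (y : B ⧸ U.1.subgroupOf B) ^ p = 1 := by rw [← hq, pow_orderOf_eq_one]
      rw [← QuotientGroup.mk_pow, QuotientGroup.eq_one_iff] at h1
      exact h1
    -- the elements of order `p` form a single cyclic subgroup
    have huniq : ∀ z : B, (z : P) ^ p ∈ U.1 → (z : P) ∈ U.1 ⊔ Subgroup.zpowers (y : P) := by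
      intro z hz
      have h1 : (z : B ⧸ U.1.subgroupOf B) ^ p = 1 := by
        rw [← QuotientGroup.mk_pow, QuotientGroup.eq_one_iff]; exact hz
      have h2 : (z : B ⧸ U.1.subgroupOf B) ∈ Subgroup.zpowers (y : B ⧸ U.1.subgroupOf B) := by
        by_contra hne
        letI := Fintype.ofFinite (B ⧸ U.1.subgroupOf B)
        have h3 := IsCyclic.card_pow_eq_one_le (α := B ⧸ U.1.subgroupOf B) hp.out.pos
        have h4 : insert (z : B ⧸ U.1.subgroupOf B)
            ((Finset.univ.filter fun w => w ∈ Subgroup.zpowers (y : B ⧸ U.1.subgroupOf B))) ⊆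
            Finset.univ.filter fun w => w ^ p = 1 := by
          intro w hw
          rw [Finset.mem_filter]
          refine ⟨Finset.mem_univ _, ?_⟩
          rcases Finset.mem_insert.1 hw with rfl | hw
          · exact h1
          · obtain ⟨j, rfl⟩ := Subgroup.mem_zpowers_iff.1 (Finset.mem_filter.1 hw).2
            rw [← zpow_natCast, zpow_comm, zpow_natCast, ← hq, pow_orderOf_eq_one, one_zpow]
        have h5 := (Finset.card_le_card h4).trans h3
        rw [Finset.card_insert_of_notMem (by simp [hne]),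
          ← Fintype.card_subtype, ← Nat.card_eq_fintype_card] at h5
        have h6 : Nat.card {w // w ∈ Subgroup.zpowers (y : B ⧸ U.1.subgroupOf B)} = p := by
          rw [← hq, ← Nat.card_zpowers]
        omega
      obtain ⟨j, hj⟩ := Subgroup.mem_zpowers_iff.1 h2
      rw [← QuotientGroup.mk_zpow, QuotientGroup.eq] at hj
      have h7 : ((y : P) ^ j)⁻¹ * z ∈ U.1 := hj
      have := (U.1 ⊔ Subgroup.zpowers (y : P)).mul_mem
        (Subgroup.mem_sup_right (Subgroup.zpow_mem_zpowers (y : P) j)) (Subgroup.mem_sup_left h7)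
      rwa [mul_inv_cancel_left] at this
    refine ⟨⟨U.1 ⊔ Subgroup.zpowers (y : P), fun α hα x hx => ?_⟩, le_sup_left, ?_, Or.inr ?_⟩
    · have h1 : U.1 ⊔ Subgroup.zpowers (y : P) ≤ (U.1 ⊔ Subgroup.zpowers (y : P)).comap α.toMonoidHom := by
        refine sup_le (fun u hu => Subgroup.mem_sup_left (U.2 α hα u hu)) ?_
        rw [Subgroup.zpowers_le, Subgroup.mem_comap]
        exact huniq ⟨α y, hinv _ α hα _ y.2⟩ (by
          show (α (y : P)) ^ p ∈ U.1
          rw [← map_pow]; exact U.2 α hα _ hyp)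
      exact h1 hx
    · rw [Subgroup.relIndex_sup_left, Subgroup.relIndex]
      set H := Subgroup.zpowers (y : P)
      haveI : (U.1.subgroupOf H).Normal := Subgroup.normal_subgroupOf
      have hgen : ∀ q : H ⧸ U.1.subgroupOf H,
          q ∈ Subgroup.zpowers (((⟨y, Subgroup.mem_zpowers _⟩ : H)) : H ⧸ U.1.subgroupOf H) := by
        intro q
        obtain ⟨⟨_, j, rfl⟩, rfl⟩ := QuotientGroup.mk_surjective q
        exact ⟨j, rfl⟩
      rw [Subgroup.index, ← orderOf_eq_card_of_forall_mem_zpowers hgen]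
      exact orderOf_dvd_of_pow_eq_one ((QuotientGroup.eq_one_iff _).2 hyp)
    · refine Set.Finite.card_lt_card (Set.toFinite _) ?_
      show U.1 < U.1 ⊔ Subgroup.zpowers (y : P)
      exact left_lt_sup.2 fun h => hyU (h (Subgroup.mem_zpowers _))
  choose next hle hidx hgrow using hnext
  let bot : I := ⟨⊥, fun α _ x hx => by rw [Subgroup.mem_bot.1 hx, map_one]; exact one_mem _⟩
  let sq : ℕ → I := fun k => next^[k] bot
  have hsucc : ∀ k, sq (k + 1) = next (sq k) := fun k => Function.iterate_succ_apply' next k bot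
  have hcard : ∀ k, (sq k).1 = ⊤ ∨ k + 1 ≤ Nat.card (sq k).1 := by
    intro k
    induction k with
    | zero => exact Or.inr (Nat.one_le_iff_ne_zero.2 Nat.card_pos.ne')
    | succ k ih =>
      rw [hsucc]
      rcases hgrow (sq k) with h | h
      · exact Or.inl (top_le_iff.1 (h ▸ hle (sq k)))
      · rcases ih with h' | h'
        · exact Or.inl (top_le_iff.1 (h' ▸ hle (sq k)))
        · exact Or.inr (Nat.succ_le_of_lt (lt_of_le_of_lt h' h))
  refine ⟨fun k => (sq k).1, Nat.card P, rfl, (hcard _).resolve_right fun h => ?_,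
    fun α hα i x hx => (sq i).2 α hα x hx, fun i _ => ?_⟩
  · have := Subgroup.card_le_card_group (sq (Nat.card P)).1
    omega
  · show (sq i).1.relIndex (sq (i + 1)).1 ∣ p
    rw [hsucc]
    exact hidx _

/-- In a supersoluble saturated system the top is normal. -/
theorem isNormal_of_hasChain (hS : IsPGroup p S) {F : FusionSystem S} (hF : F.IsSaturated p)
    (h : HasChain F) : F.IsNormal S := by
  refine normal_of_stronglyClosed_of_le hS hF ⟨le_rfl, fun R _ φ hφ x => apply_mem hφ x⟩
    fun P hP => ?_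
  obtain ⟨W, m, h0, hm, hinv, hidx⟩ := exists_series hS h hP.1.1
  exact (IsEssential.not_series hS hF hP W m h0 hm hinv hidx).elim

/-- An automorphism of order prime to `p` trivial on the factors of a series is trivial. -/
theorem eq_one_of_trivial_factors {T : Type*} [Group T] [Finite T] (hT : IsPGroup p T)
    (W : ℕ → Subgroup T) (m : ℕ) (h0 : W 0 = ⊥) (hm : W m = ⊤) (σ : MulAut T)
    (hσ : (orderOf σ).Coprime p) (h : ∀ i < m, ∀ x ∈ W (i + 1), x⁻¹ * σ x ∈ W i) : σ = 1 := by
  suffices H : ∀ i ≤ m, ∀ x ∈ W i, σ x = x from MulEquiv.ext fun x => H m le_rfl x (hm ▸ Subgroup.mem_top x)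
  intro i
  induction i with
  | zero => intro _ x hx; rw [h0, Subgroup.mem_bot] at hx; rw [hx, map_one]
  | succ i ih =>
    intro hi x hx
    set d := x⁻¹ * σ x
    have hd : σ d = d := ih (by omega) d (h i (by omega) x hx)
    have hk : ∀ k : ℕ, (σ ^ k) x = x * d ^ k := by
      intro k
      induction k with
      | zero => simp
      | succ k ihk =>
        rw [pow_succ', MulAut.mul_apply, ihk, map_mul, map_pow, hd, pow_succ', ← mul_assoc,
          show σ x = x * d from (mul_inv_cancel_left _ _).symm]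
    have h3 := hk (orderOf σ)
    rw [pow_orderOf_eq_one] at h3
    have h4 : d ^ orderOf σ = 1 := mul_left_cancel (a := x) (by rw [mul_one]; exact h3.symm)
    have h5 : d = 1 := by
      obtain ⟨l, hl⟩ := (IsPGroup.iff_orderOf.1 hT) d
      refine orderOf_eq_one_iff.1 (Nat.eq_one_of_dvd_coprimes (Nat.Coprime.pow_right l hσ)
        (orderOf_dvd_of_pow_eq_one h4) ?_)
      rw [hl]
    exact (inv_mul_eq_one.1 h5).symm

/-- Every group of automorphisms of order prime to `p` of a group all whose systems are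
supersoluble is abelian of exponent dividing `p - 1`. -/
theorem aut_restricted (hS : IsPGroup p S)
    (hall : ∀ F : FusionSystem S, F.IsSaturated p → HasChain F) (H : Subgroup (MulAut S))
    (hH : (Nat.card H).Coprime p) : IsMulCommutative H ∧ ∀ h ∈ H, h ^ (p - 1) = 1 := by
  classical
  haveI := finite_mulAut (le_refl S)
  let G := S ⋊[H.subtype] H
  haveI : Finite G := Finite.of_equiv _ SemidirectProduct.equivProd.symm
  let ι : S →* G := SemidirectProduct.inl
  have hι : Function.Injective ι := SemidirectProduct.inl_injective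
  have hidx : ¬ p ∣ ι.range.index := by
    have h2 := Subgroup.card_mul_index ι.range
    rw [SemidirectProduct.card, show Nat.card ι.range = Nat.card S from
      (Nat.card_congr (MonoidHom.ofInjective hι).toEquiv).symm] at h2
    rw [Nat.eq_of_mul_eq_mul_left Nat.card_pos h2]
    exact (hp.out.coprime_iff_not_dvd).1 hH.symm
  let T : Sylow p G := (hS.of_surjective _ ι.rangeRestrict_surjective).toSylow hidx
  have hR := transported_realized ι hι
  have hchain := hall _ (IsRealizedBy.isSaturated hR T rfl)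
  obtain ⟨W, m, h0, hm, hinv, hidx'⟩ := exists_series hS hchain le_rfl
  have hmem : ∀ a : H, (a : MulAut S) ∈ (transported ι hι).autGroup S := fun a => by
    refine mem_autGroup_of_hom _ ⟨le_rfl, fun x => ((a : MulAut S) x).2,
      SemidirectProduct.inr a, fun x => ?_⟩
    show (SemidirectProduct.inl ((a : MulAut S) x) : G) = _
    rw [← map_inv]
    exact SemidirectProduct.inl_aut (φ := H.subtype) a x
  have hWn : ∀ i, (W i).Normal := fun i => ⟨fun x hx g => by
    simpa using hinv _ (inn_le_autGroup (transported ι hι) le_rfl ⟨g, rfl⟩) i x hx⟩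
  -- the action on each factor
  have key : ∀ i, i < m → ∀ a b : H, ∀ x ∈ W (i + 1),
      x⁻¹ * ((⁅a, b⁆ : H) : MulAut S) x ∈ W i ∧ x⁻¹ * ((a ^ (p - 1) : H) : MulAut S) x ∈ W i := by
    intro i hi a b x hx
    haveI := hWn i
    set A := (W i).subgroupOf (W (i + 1))
    haveI : A.Normal := Subgroup.normal_subgroupOf
    let res : H →* MulAut (W (i + 1)) :=
      { toFun := fun a =>
          { toFun := fun z => ⟨(a : MulAut S) z, hinv _ (hmem a) _ z z.2⟩
            invFun := fun z => ⟨((a⁻¹ : H) : MulAut S) z, hinv _ (hmem a⁻¹) _ z z.2⟩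
            left_inv := fun z => Subtype.ext ((a : MulAut S).symm_apply_apply (z : S))
            right_inv := fun z => Subtype.ext ((a : MulAut S).apply_symm_apply (z : S))
            map_mul' := fun u v => Subtype.ext (map_mul (a : MulAut S) (u : S) (v : S)) }
        map_one' := MulEquiv.ext fun z => rfl
        map_mul' := fun u v => MulEquiv.ext fun z => rfl }
    have hmapA : ∀ a, A.map (res a).toMonoidHom = A := fun a => by
      refine le_antisymm (by rintro _ ⟨z, hz, rfl⟩; exact hinv _ (hmem a) i _ hz) fun y hy => ?_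
      exact ⟨res a⁻¹ y, hinv _ (hmem a⁻¹) i _ hy, by
        rw [MulEquiv.coe_toMonoidHom, map_inv]; exact (res a).apply_symm_apply y⟩
    let act : H →* MulAut (W (i + 1) ⧸ A) :=
      { toFun := fun a => QuotientGroup.congr A A (res a) (hmapA a)
        map_one' := MulEquiv.ext fun q => by
          obtain ⟨z, rfl⟩ := QuotientGroup.mk_surjective q; rfl
        map_mul' := fun u v => MulEquiv.ext fun q => by
          obtain ⟨z, rfl⟩ := QuotientGroup.mk_surjective q; rfl }
    obtain ⟨hcm, hex⟩ := aut_small (p := p) (C := W (i + 1) ⧸ A) (hidx' i hi)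
    have triv : ∀ u : H, act u = 1 → x⁻¹ * (u : MulAut S) x ∈ W i := fun u hu => by
      have h1 := DFunLike.congr_fun hu ((⟨x, hx⟩ : W (i + 1)) : W (i + 1) ⧸ A)
      have h3 : ((res u ⟨x, hx⟩ : W (i + 1)) : W (i + 1) ⧸ A) =
          ((⟨x, hx⟩ : W (i + 1)) : W (i + 1) ⧸ A) := h1
      exact Subgroup.mem_subgroupOf.1 ((QuotientGroup.eq (s := A)).1 h3.symm)
    refine ⟨triv _ ?_, triv _ (by rw [map_pow, hex])⟩
    rw [map_commutatorElement, commutatorElement_eq_one_iff_commute]
    exact hcm _ _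
  have hcop : ∀ a : H, (orderOf (a : MulAut S)).Coprime p := fun a => by
    rw [Subgroup.orderOf_coe]
    exact Nat.Coprime.coprime_dvd_left (orderOf_dvd_natCard a) hH
  have hcomm : ∀ a b : H, ⁅a, b⁆ = 1 := fun a b => Subtype.ext
    (eq_one_of_trivial_factors hS W m h0 hm _ (hcop _) fun i hi x hx => (key i hi a b x hx).1)
  refine ⟨⟨⟨fun a b => commutatorElement_eq_one_iff_commute.1 (hcomm a b)⟩⟩, fun a ha => ?_⟩
  exact eq_one_of_trivial_factors hS W m h0 hm _
    (by rw [show a ^ (p - 1) = (((⟨a, ha⟩ : H) ^ (p - 1) : H) : MulAut S) from rfl]; exact hcop _)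
    fun i hi x hx => (key i hi ⟨a, ha⟩ 1 x hx).2

/-- The converse criterion. -/
theorem hasChain_of_restricted (hS : IsPGroup p S) {F : FusionSystem S} (hF : F.IsSaturated p)
    (hn : F.IsNormal S)
    (hres : ∀ H : Subgroup (MulAut S), (Nat.card H).Coprime p →
      IsMulCommutative H ∧ ∀ h ∈ H, h ^ (p - 1) = 1) : HasChain F := by
  classical
  haveI := finite_mulAut (le_refl S)
  set Γ := F.autGroup S
  obtain ⟨⟨-, R, hR⟩, -⟩ := IsSaturated.automized_receptive hS hF (isFullyNormalized_top F)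
  rw [autInducedBy_self] at hR
  set P₀ : Subgroup Γ := (Inn S).subgroupOf Γ
  haveI : P₀.Normal := ⟨fun x hx g => by
    obtain ⟨t, ht⟩ := Subgroup.mem_subgroupOf.1 hx
    refine Subgroup.mem_subgroupOf.2 ⟨(g : MulAut S) t, MulEquiv.ext fun z => ?_⟩
    show (g : MulAut S) t * z * ((g : MulAut S) t)⁻¹ =
      (g : MulAut S) ((x : MulAut S) ((g : MulAut S).symm z))
    rw [← ht, MulAut.conj_apply, map_mul, map_mul, map_inv, MulEquiv.apply_symm_apply]⟩
  have hP₀ : IsPGroup p P₀ := hR ▸ R.isPGroup'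
  have hcop : (Nat.card P₀).Coprime P₀.index := by
    have h1 := R.card_coprime_index
    rwa [hR] at h1
  obtain ⟨H, hH⟩ := Subgroup.exists_right_complement'_of_coprime hcop
  have hHc : (Nat.card (H.map Γ.subtype)).Coprime p := by
    rw [Subgroup.card_map_of_injective Γ.subtype_injective, ← hH.symm.index_eq_card,
      Nat.coprime_comm, hp.out.coprime_iff_not_dvd]
    have h1 := R.not_dvd_index
    rwa [hR] at h1
  obtain ⟨hHab, hHex⟩ := hres _ hHc
  have hmk : ∀ a : Γ, ∃ h ∈ H, (a : Γ ⧸ P₀) = (h : Γ ⧸ P₀) := fun a => by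
    obtain ⟨⟨i, h⟩, e⟩ := hH.2 a
    refine ⟨h, h.2, ?_⟩
    rw [← e]
    show (((i : Γ) * (h : Γ) : Γ) : Γ ⧸ P₀) = _
    rw [QuotientGroup.mk_mul, (QuotientGroup.eq_one_iff (i : Γ)).2 i.2, one_mul]
  refine hasChain_of_normal F hn fun N hN hne =>
    exists_step hS Γ (fun t => inn_le_autGroup F le_rfl ⟨t, rfl⟩) P₀ hP₀ ?_ ?_ N hN hne
  · intro a b
    obtain ⟨x, hx, hax⟩ := hmk a
    obtain ⟨y, hy, hby⟩ := hmk b
    have h1 : x * y = y * x := Γ.subtype_injective (by
      rw [map_mul, map_mul]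
      exact congrArg Subtype.val (hHab.is_comm.comm ⟨_, x, hx, rfl⟩ ⟨_, y, hy, rfl⟩))
    rw [← QuotientGroup.eq_one_iff, QuotientGroup.mk_mul, QuotientGroup.mk_mul, QuotientGroup.mk_mul,
      QuotientGroup.mk_inv, QuotientGroup.mk_inv, hax, hby, ← QuotientGroup.mk_mul, h1,
      QuotientGroup.mk_mul, mul_inv_cancel_right, mul_inv_cancel]
  · intro a
    obtain ⟨x, hx, hax⟩ := hmk a
    rw [← QuotientGroup.eq_one_iff, QuotientGroup.mk_pow, hax, ← QuotientGroup.mk_pow,
      show x ^ (p - 1) = 1 from Subtype.ext (hHex _ ⟨x, hx, rfl⟩)]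
    rfl

end Cfsg.Agent.Lib.PLocal.Supersol
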