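import Cfsg.Agent.Lib.PLocal.SupersolubleSystem
import Cfsg.Agent.Lib.Classical.SLTwoSylow
import Cfsg.Agent.Lib.Classical.SLTwoSmallFacts
import Cfsg.Agent.Lib.Classical.LinearCard
import Cfsg.Agent.Lib.Involutions.TwoGroupRec
import Cfsg.Agent.Lib.Involutions.QuasiDihedral
import Mathlib.FieldTheory.Finite.GaloisField
import Mathlib.NumberTheory.LSeries.PrimesInAP

/-!
Groups with dihedral, quaternion or semidihedral Sylow `2`-subgroup and no normal `2`-complement.
-/

set_option autoImplicit false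
set_option linter.unusedSectionVars false

namespace Cfsg.Agent.Lib.PLocal.Supersol

open Cfsg Matrix Cfsg.Agent.Lib.Involutions

theorem multiplicity_two (k d : ℕ) (hd : Odd d) : (2 ^ k * d).factorization 2 = k := by
  have h0 : d ≠ 0 := by rintro rfl; exact absurd hd (by decide)
  rw [Nat.factorization_mul (pow_ne_zero k two_ne_zero) h0, Finsupp.add_apply,
    Nat.Prime.factorization_pow Nat.prime_two, Finsupp.single_eq_same,
    Nat.factorization_eq_zero_of_not_dvd (fun h => Nat.not_even_iff_odd.2 hd (even_iff_two_dvd.2 h)),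
    add_zero]

theorem nine_pow_two_pow (j : ℕ) : ∃ d : ℕ, Odd d ∧ 9 ^ 2 ^ j = 2 ^ (j + 3) * d + 1 := by
  induction j with
  | zero => exact ⟨1, odd_one, by norm_num⟩
  | succ j ih =>
    obtain ⟨d, hd, he⟩ := ih
    refine ⟨d * (2 ^ (j + 2) * d + 1), hd.mul ⟨2 ^ (j + 1) * d, by ring⟩, ?_⟩
    rw [pow_succ (2 : ℕ) j, pow_mul, he]
    ring

variable {K : Type*} [Field K]

/-- An upper unitriangular matrix. -/
def upperU : SpecialLinearGroup (Fin 2) K := ⟨!![1, 1; 0, 1], by simp [Matrix.det_fin_two]⟩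

/-- A lower unitriangular matrix. -/
def lowerV : SpecialLinearGroup (Fin 2) K := ⟨!![1, 0; -2, 1], by simp [Matrix.det_fin_two]⟩

theorem odd_orderOf_upperU (p : ℕ) [CharP K p] (hp : Odd p) : Odd (orderOf (upperU : SpecialLinearGroup (Fin 2) K)) := by
  refine Odd.of_dvd_nat hp (orderOf_dvd_of_pow_eq_one (Subtype.ext ?_))
  have : ∀ n : ℕ, (((upperU : SpecialLinearGroup (Fin 2) K) ^ n : SpecialLinearGroup (Fin 2) K) :
      Matrix (Fin 2) (Fin 2) K) = !![1, (n : K); 0, 1] := by
    intro n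
    induction n with
    | zero => simp [Matrix.one_fin_two]
    | succ n ih =>
      rw [pow_succ]
      change ((upperU : SpecialLinearGroup (Fin 2) K) ^ n).1 * upperU.1 = _
      rw [ih]
      simp [upperU, Matrix.mul_fin_two, add_comm]
  rw [this, CharP.cast_eq_zero]
  simp [Matrix.one_fin_two]

theorem odd_orderOf_lowerV (p : ℕ) [CharP K p] (hp : Odd p) : Odd (orderOf (lowerV : SpecialLinearGroup (Fin 2) K)) := by
  refine Odd.of_dvd_nat hp (orderOf_dvd_of_pow_eq_one (Subtype.ext ?_))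
  have : ∀ n : ℕ, (((lowerV : SpecialLinearGroup (Fin 2) K) ^ n : SpecialLinearGroup (Fin 2) K) :
      Matrix (Fin 2) (Fin 2) K) = !![1, 0; -2 * (n : K), 1] := by
    intro n
    induction n with
    | zero => simp [Matrix.one_fin_two]
    | succ n ih =>
      rw [pow_succ]
      change ((lowerV : SpecialLinearGroup (Fin 2) K) ^ n).1 * lowerV.1 = _
      rw [ih]
      simp [lowerV, Matrix.mul_fin_two]
      ring
  rw [this, CharP.cast_eq_zero]
  simp [Matrix.one_fin_two]

theorem upperU_mul_lowerV_sq : (upperU * lowerV : SpecialLinearGroup (Fin 2) K) ^ 2 = -1 := by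
  rw [sq]
  apply Subtype.ext
  change (upperU.1 * lowerV.1) * (upperU.1 * lowerV.1) = -(1 : Matrix (Fin 2) (Fin 2) K)
  simp [upperU, lowerV, Matrix.mul_fin_two, Matrix.one_fin_two]
  norm_num

theorem neg_one_ne_one (h2 : (2 : K) ≠ 0) : (-1 : SpecialLinearGroup (Fin 2) K) ≠ 1 := by
  intro h
  have h1 := congrArg (fun g : SpecialLinearGroup (Fin 2) K => (g : Matrix (Fin 2) (Fin 2) K) 0 0) h
  simp at h1
  exact h2 (by linear_combination -h1)

theorem even_orderOf_uv (h2 : (2 : K) ≠ 0) :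
    Even (orderOf (upperU * lowerV : SpecialLinearGroup (Fin 2) K)) := by
  have h1 : orderOf (-1 : SpecialLinearGroup (Fin 2) K) = 2 :=
    orderOf_eq_prime (by rw [neg_one_sq]) (neg_one_ne_one h2)
  have h3 := orderOf_pow_dvd (x := (upperU * lowerV : SpecialLinearGroup (Fin 2) K)) 2
  rw [upperU_mul_lowerV_sq, h1] at h3
  exact even_iff_two_dvd.2 h3

section Ambient

variable {Ω : Type*} [Group Ω] {S : Subgroup Ω} [Finite S]

/-- A field of order `3 ^ 2 ^ j` and the Sylow `2`-subgroup of its `SL₂`. -/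
theorem exists_SL2_model (j : ℕ) : ∃ (F : Type) (_ : Field F) (_ : Fintype F), CharP F 3 ∧
    ∀ P : Sylow 2 (SpecialLinearGroup (Fin 2) F),
      Nonempty ((P : Subgroup (SpecialLinearGroup (Fin 2) F)) ≃* QuaternionGroup (2 ^ (j + 1))) := by
  haveI : Fact (Nat.Prime 3) := ⟨Nat.prime_three⟩
  haveI : Fact (Nat.Prime 2) := ⟨Nat.prime_two⟩
  letI : Fintype (GaloisField 3 (2 ^ j)) := Fintype.ofFinite _
  refine ⟨GaloisField 3 (2 ^ j), inferInstance, inferInstance, inferInstance, fun P => ?_⟩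
  have h2 : (2 : GaloisField 3 (2 ^ j)) ≠ 0 := by
    intro h
    have h' : ((2 : ℕ) : GaloisField 3 (2 ^ j)) = 0 := by exact_mod_cast h
    rw [CharP.cast_eq_zero_iff (GaloisField 3 (2 ^ j)) 3] at h'
    omega
  obtain ⟨k, hk, ⟨e⟩⟩ := Lib.Classical.sylow_two_SL2_quaternion h2 P
  have hq : Fintype.card (GaloisField 3 (2 ^ j)) = 3 ^ 2 ^ j := by
    rw [← Nat.card_eq_fintype_card, GaloisField.card 3 _ (by positivity)]
  obtain ⟨d, hd, he⟩ := nine_pow_two_pow j
  have hcard : Nat.card (P : Subgroup (SpecialLinearGroup (Fin 2) (GaloisField 3 (2 ^ j)))) = 2 ^ (j + 3) := by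
    rw [P.card_eq_multiplicity, Lib.Classical.card_SL2, hq,
      show (3 ^ 2 ^ j) ^ 2 - 1 = 2 ^ (j + 3) * d by
        rw [← pow_mul, mul_comm, pow_mul, show (3 : ℕ) ^ 2 = 9 by norm_num, he, Nat.add_sub_cancel],
      mul_left_comm, multiplicity_two _ _ (Odd.mul (Odd.pow (by decide)) hd)]
  rw [Nat.card_congr e.toEquiv, Nat.card_eq_fintype_card, QuaternionGroup.card] at hcard
  have : k = j + 1 := by
    rw [show 4 * 2 ^ k = 2 ^ (k + 2) by ring] at hcard
    have := Nat.pow_right_injective le_rfl hcard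
    omega
  exact ⟨this ▸ e⟩

/-- Quaternion groups carry systems without chains. -/
theorem exists_no_chain_quaternion (hS : IsPGroup 2 S) {n : ℕ} (hn : 2 ≤ n)
    (e : S ≃* QuaternionGroup n) : ∃ F : FusionSystem S, F.IsSaturated 2 ∧ ¬ HasChain F := by
  haveI : NeZero n := ⟨by omega⟩
  haveI : Fact (Nat.Prime 2) := ⟨Nat.prime_two⟩
  obtain ⟨k, hk⟩ := IsPGroup.iff_card.1 hS
  rw [Nat.card_congr e.toEquiv, Nat.card_eq_fintype_card, QuaternionGroup.card] at hk
  obtain ⟨j, rfl⟩ : ∃ j, n = 2 ^ (j + 1) := by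
    obtain ⟨i, -, hi⟩ := (Nat.dvd_prime_pow Nat.prime_two).1 (Dvd.intro_left 4 hk)
    rcases i with _ | i
    · rw [hi] at hn; simp at hn
    · exact ⟨i, hi⟩
  obtain ⟨F, _, _, hchar, hP⟩ := exists_SL2_model j
  obtain ⟨eP⟩ := hP default
  have h2 : (2 : F) ≠ 0 := by
    intro h
    have h' : ((2 : ℕ) : F) = 0 := by exact_mod_cast h
    rw [CharP.cast_eq_zero_iff F 3] at h'
    omega
  exact exists_no_chain hS default (e.trans eP.symm) (odd_orderOf_upperU 3 (by decide))
    (odd_orderOf_lowerV 3 (by decide)) (even_orderOf_uv h2)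

/-- Dihedral groups carry systems without chains. -/
theorem exists_no_chain_dihedral (hS : IsPGroup 2 S) {n : ℕ} (hn : 2 ≤ n)
    (e : S ≃* DihedralGroup n) : ∃ F : FusionSystem S, F.IsSaturated 2 ∧ ¬ HasChain F := by
  classical
  haveI : NeZero n := ⟨by omega⟩
  haveI : Fact (Nat.Prime 2) := ⟨Nat.prime_two⟩
  obtain ⟨k, hk⟩ := IsPGroup.iff_card.1 hS
  rw [Nat.card_congr e.toEquiv, DihedralGroup.nat_card] at hk
  obtain ⟨j, rfl⟩ : ∃ j, n = 2 ^ (j + 1) := by
    obtain ⟨i, -, hi⟩ := (Nat.dvd_prime_pow Nat.prime_two).1 (Dvd.intro_left 2 hk)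
    rcases i with _ | i
    · rw [hi] at hn; simp at hn
    · exact ⟨i, hi⟩
  obtain ⟨F, _, _, hchar, hP⟩ := exists_SL2_model j
  set L := SpecialLinearGroup (Fin 2) F
  obtain ⟨eP⟩ := hP default
  set P : Sylow 2 L := default
  have h2 : (2 : F) ≠ 0 := by
    intro h
    have h' : ((2 : ℕ) : F) = 0 := by exact_mod_cast h
    rw [CharP.cast_eq_zero_iff F 3] at h'
    omega
  set m := 2 ^ (j + 1) with hm
  set Z := Subgroup.center L
  have hodd : Odd (Fintype.card F) := by
    obtain ⟨i, -, hi⟩ := FiniteField.card F 3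
    rw [hi]; exact Odd.pow (by decide)
  have hZ : Nat.card Z = 2 := Lib.Classical.card_center_SL2_odd hodd
  have hZP : Z ≤ (P : Subgroup L) := by
    obtain ⟨R, hR⟩ := (IsPGroup.of_card (n := 1) (by rw [hZ, pow_one]) : IsPGroup 2 Z).exists_le_sylow
    obtain ⟨g, hg⟩ := MulAction.exists_smul_eq L R P
    intro z hz
    rw [← hg, Sylow.coe_subgroup_smul, Subgroup.mem_pointwise_smul_iff_inv_smul_mem]
    refine hR (?_ : (MulAut.conj g)⁻¹ • z ∈ Z)
    show g⁻¹ * z * g ∈ Z
    rw [mul_assoc, ← Subgroup.mem_center_iff.1 hz g, inv_mul_cancel_left]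
    exact hz
  set π := QuotientGroup.mk' Z
  set x : L := (eP.symm (.a 1) : L) with hx
  set y : L := (eP.symm (.xa 0) : L) with hy
  -- the only involution
  have hinv : ∀ z ∈ Z, z = 1 ∨ z = x ^ m := by
    intro z hz
    rcases eq_or_ne z 1 with h | h
    · exact Or.inl h
    refine Or.inr ?_
    have hz2 : z * z = 1 := by
      have : (⟨z, hz⟩ : Z) ^ Nat.card Z = 1 := pow_card_eq_one'
      rw [hZ, sq] at this
      exact congrArg Subtype.val this
    set w := eP ⟨z, hZP hz⟩ with hw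
    have hw2 : w * w = 1 := by rw [hw, ← map_mul, ← map_one eP]; exact congrArg eP (Subtype.ext hz2)
    have hw1 : w ≠ 1 := fun e' => h (congrArg Subtype.val (eP.injective (e'.trans (map_one eP).symm)))
    have hwm : w = (.a 1) ^ m := by
      rw [QuaternionGroup.a_one_pow]
      rcases hw' : w with i | i
      · rw [hw'] at hw2 hw1
        rw [QuaternionGroup.a_mul_a, ← QuaternionGroup.a_zero] at hw2
        have hi : i + i = 0 := QuaternionGroup.a.inj hw2
        have hd : 2 * m ∣ 2 * i.val := by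
          rw [← ZMod.natCast_eq_zero_iff]
          push_cast
          rw [ZMod.natCast_val, ZMod.cast_id]
          exact (two_mul i).trans hi
        obtain ⟨c, hc⟩ := Nat.dvd_of_mul_dvd_mul_left two_pos hd
        haveI : NeZero (2 * m) := ⟨by positivity⟩
        have hlt := ZMod.val_lt i
        rw [hc] at hlt
        rcases c with _ | _ | c
        · exfalso; apply hw1
          rw [(ZMod.val_eq_zero i).1 (by simpa using hc), QuaternionGroup.a_zero]
        · rw [show i = ((i.val : ℕ) : ZMod (2 * m)) by rw [ZMod.natCast_val, ZMod.cast_id], hc]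
          simp
        · nlinarith
      · exfalso
        rw [hw'] at hw2
        have h1 : orderOf (QuaternionGroup.xa i : QuaternionGroup m) ∣ 2 :=
          orderOf_dvd_of_pow_eq_one (by rw [sq]; exact hw2)
        rw [QuaternionGroup.orderOf_xa] at h1
        norm_num at h1
    have h3 : (⟨z, hZP hz⟩ : (P : Subgroup L)) = eP.symm ((.a 1) ^ m) := by
      rw [← hwm, hw, eP.symm_apply_apply]
    rw [map_pow] at h3
    exact (congrArg Subtype.val h3).trans (by rw [hx, SubgroupClass.coe_pow])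
  have hox : orderOf x = 2 * m := by
    rw [hx, Subgroup.orderOf_coe, MulEquiv.orderOf_eq, QuaternionGroup.orderOf_a_one]
  have hxm : x ^ m ∈ Z := by
    have : ¬ Z ≤ ⊥ := fun h => by
      rw [le_bot_iff.1 h, Subgroup.card_bot] at hZ; omega
    obtain ⟨z, hz, hz1⟩ := SetLike.not_le_iff_exists.1 this
    exact ((hinv z hz).resolve_left (fun h => hz1 (Subgroup.mem_bot.2 h))) ▸ hz
  have hyy : y * y = x ^ m := by
    rw [hx, hy, ← SubgroupClass.coe_pow, ← map_pow, ← Subgroup.coe_mul, ← map_mul,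
      QuaternionGroup.xa_mul_xa, QuaternionGroup.a_one_pow]
    simp
  have hconj : y * x * y⁻¹ = x⁻¹ := by
    rw [mul_inv_eq_iff_eq_mul, hx, hy, ← InvMemClass.coe_inv, ← map_inv, ← Subgroup.coe_mul,
      ← map_mul, ← Subgroup.coe_mul, ← map_mul]
    congr 2
    have : (QuaternionGroup.a 1 : QuaternionGroup m)⁻¹ = .a (-1) := rfl
    rw [this, QuaternionGroup.xa_mul_a, QuaternionGroup.a_mul_xa]
    congr 1
    ring
  have hyx : ∀ i : ℤ, y ≠ x ^ i := by
    intro i h
    rw [hx, hy, ← SubgroupClass.coe_zpow, ← map_zpow] at h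
    have h1 : (QuaternionGroup.xa 0 : QuaternionGroup m) = (.a 1) ^ i :=
      eP.symm.injective (Subtype.ext h)
    have key : ∀ k : ℕ, (QuaternionGroup.xa 0 : QuaternionGroup m) ≠ (.a 1) ^ k := by
      intro k hk'
      rw [QuaternionGroup.a_one_pow] at hk'
      cases hk'
    obtain ⟨l, rfl | rfl⟩ := i.eq_nat_or_neg
    · rw [zpow_natCast] at h1; exact key l h1
    · rw [_root_.zpow_neg, zpow_natCast, QuaternionGroup.a_one_pow] at h1
      cases h1
  have hπm : π (x ^ m) = 1 := (QuotientGroup.eq_one_iff _).2 hxm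
  have hm0 : 0 < m := by positivity
  have hoπ : orderOf (π x) = m := by
    refine (orderOf_eq_iff hm0).2 ⟨by rw [← map_pow, hπm], fun i hi hi0 he => ?_⟩
    rw [← map_pow] at he
    have hz := (QuotientGroup.eq_one_iff _).1 he
    rcases hinv _ hz with h | h
    · have := orderOf_dvd_of_pow_eq_one h
      rw [hox] at this
      exact absurd (Nat.le_of_dvd hi0 this) (by omega)
    · have h4 := pow_injOn_Iio_orderOf (x := x) (Set.mem_Iio.2 (by rw [hox]; omega))
        (Set.mem_Iio.2 (by rw [hox]; omega)) h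
      omega
  let T : Sylow 2 (L ⧸ Z) := P.mapSurjective (QuotientGroup.mk'_surjective Z)
  have hT : (T : Subgroup (L ⧸ Z)) = (P : Subgroup L).map π := rfl
  have hTcard : Nat.card (T : Subgroup (L ⧸ Z)) = 2 * m := by
    have h1 : Nat.card ((P : Subgroup L).map π) * Nat.card Z = Nat.card (P : Subgroup L) := by
      let g := π.subgroupMap (P : Subgroup L)
      have hk' : g.ker = Z.subgroupOf (P : Subgroup L) := by
        ext d
        rw [MonoidHom.mem_ker, Subgroup.mem_subgroupOf, ← QuotientGroup.eq_one_iff, Subtype.ext_iff]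
        rfl
      rw [← Nat.card_congr (QuotientGroup.quotientKerEquivOfSurjective g
        (π.subgroupMap_surjective _)).toEquiv, hk',
        ← Nat.card_congr (Subgroup.subgroupOfEquivOfLe hZP).toEquiv, mul_comm]
      rw [mul_comm]
      exact (Subgroup.card_eq_card_quotient_mul_card_subgroup _).symm
    rw [hZ, Nat.card_congr eP.toEquiv, Nat.card_eq_fintype_card (α := QuaternionGroup _),
      QuaternionGroup.card] at h1
    rw [hT]
    omega
  obtain ⟨eT⟩ := nonempty_mulEquiv_dihedral (G := L ⧸ Z) (H := (T : Subgroup (L ⧸ Z))) hTcard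
    (x := π x) (y := π y) (hT ▸ ⟨x, (eP.symm (.a 1)).2, rfl⟩) (hT ▸ ⟨y, (eP.symm (.xa 0)).2, rfl⟩) hoπ
    (by rw [← map_mul, hyy, hπm]) (by
      intro h
      obtain ⟨i, hi⟩ := Subgroup.mem_zpowers_iff.1 h
      rw [← map_zpow] at hi
      have hz : (x ^ i)⁻¹ * y ∈ Z := QuotientGroup.eq.1 hi
      rcases hinv _ hz with h' | h'
      · exact hyx i (inv_mul_eq_one.1 h').symm
      · refine hyx (i + m) ?_
        rw [_root_.zpow_add, zpow_natCast, ← h', mul_inv_cancel_left])
    (by rw [← map_mul, ← map_inv, ← map_mul, hconj, map_inv])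
  have he2 : π (upperU * lowerV : L) ≠ 1 := by
    intro h
    have hz := Subgroup.mem_center_iff.1 ((QuotientGroup.eq_one_iff _).1 h) (upperU : L)
    have h1 : ((upperU : L).1 * ((upperU : L).1 * (lowerV : L).1)) 0 0 =
        (((upperU : L).1 * (lowerV : L).1) * (upperU : L).1) 0 0 :=
      congrArg (fun g : L => (g : Matrix (Fin 2) (Fin 2) F) 0 0) hz
    simp [upperU, lowerV, Matrix.mul_fin_two] at h1
    exact h2 h1
  have hsq : π (upperU * lowerV : L) ^ 2 = 1 := by
    rw [← map_pow, upperU_mul_lowerV_sq]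
    refine (QuotientGroup.eq_one_iff _).2 (Subgroup.mem_center_iff.2 fun g => ?_)
    rw [mul_neg_one, neg_one_mul]
  refine exists_no_chain hS T (e.trans eT.symm) (u := π upperU) (v := π lowerV)
    (Odd.of_dvd_nat (odd_orderOf_upperU 3 (by decide)) (orderOf_map_dvd π _))
    (Odd.of_dvd_nat (odd_orderOf_lowerV 3 (by decide)) (orderOf_map_dvd π _)) ?_
  rw [← map_mul, orderOf_eq_prime hsq he2]
  exact even_two

/-- Semidihedral groups carry systems without chains. -/
theorem exists_no_chain_semidihedral (hS : IsPGroup 2 S) (h : Cfsg.IsQuasiDihedral S) :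
    ∃ F : FusionSystem S, F.IsSaturated 2 ∧ ¬ HasChain F := by
  classical
  haveI : Fact (Nat.Prime 2) := ⟨Nat.prime_two⟩
  obtain ⟨x, y, n, hg⟩ := exists_qdGen h
  have hn := hg.hn
  obtain ⟨m, rfl⟩ : ∃ m, n = m + 1 := ⟨n - 1, by omega⟩
  -- a prime congruent to `2^m - 1` modulo `2^(m+1)`
  obtain ⟨q, hq2, hqp, hqm⟩ := Nat.forall_exists_prime_gt_and_zmodEq 2 (q := 2 ^ (m + 1))
    (a := 2 ^ m - 1) (by positivity) (by
      push_cast
      exact ⟨-((2 : ℤ) ^ m + 1), 2 ^ (m - 1), by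
        obtain ⟨l, rfl⟩ : ∃ l, m = l + 1 := ⟨m - 1, by omega⟩
        rw [Nat.add_sub_cancel]; ring⟩)
  haveI : Fact q.Prime := ⟨hqp⟩
  obtain ⟨a, ha⟩ := hqm.dvd
  push_cast at ha
  obtain ⟨t', ht'⟩ : ∃ t : ℕ, q + 1 = 2 ^ m * t ∧ Odd t := by
    have h1 : ((q : ℤ) + 1) = 2 ^ m * (1 - 2 * a) := by
      rw [pow_succ] at ha; linear_combination -ha
    have h2 : 0 ≤ 1 - 2 * a := by
      by_contra hh
      have : ((q : ℤ) + 1) < 0 := by rw [h1]; exact mul_neg_of_pos_of_neg (by positivity) (not_le.1 hh)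
      omega
    refine ⟨(1 - 2 * a).toNat, ?_, ?_⟩
    · zify
      rw [Int.toNat_of_nonneg h2, h1]
    · rw [← Int.odd_coe_nat, Int.toNat_of_nonneg h2]
      exact ⟨-a, by ring⟩
  obtain ⟨hq1, ht⟩ := ht'
  obtain ⟨d', hd', hq1'⟩ : ∃ d', Odd d' ∧ q - 1 = 2 * d' := by
    obtain ⟨l, rfl⟩ : ∃ l, m = l + 2 := ⟨m - 2, by omega⟩
    refine ⟨2 ^ (l + 1) * t' - 1, ?_, ?_⟩
    · have h1 : 0 < 2 ^ (l + 1) * t' := Nat.mul_pos (by positivity) ht.pos
      obtain ⟨c, hc⟩ : ∃ c, 2 ^ (l + 1) * t' = 2 * c := ⟨2 ^ l * t', by ring⟩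
      exact ⟨c - 1, by omega⟩
    · have h1 : 2 ^ (l + 2) * t' = 2 * (2 ^ (l + 1) * t') := by ring
      omega
  obtain ⟨K, _, _, _, hKcard⟩ : ∃ (K : Type) (_ : Field K) (_ : Algebra (ZMod q) K) (_ : Fintype K),
      Nat.card K = q ^ 2 :=
    ⟨GaloisField q 2, inferInstance, inferInstance, Fintype.ofFinite _,
      GaloisField.card q 2 two_ne_zero⟩
  haveI : CharP K q := charP_of_injective_algebraMap (algebraMap (ZMod q) K).injective q
  have hKc : Nat.card Kˣ = 2 ^ (m + 1) * (d' * t') := by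
    rw [Nat.card_units, hKcard]
    have : q ^ 2 - 1 = (q + 1) * (q - 1) := by
      rw [← Nat.sq_sub_sq q 1, one_pow]
    rw [this, hq1, hq1']; ring
  obtain ⟨g, hgg⟩ := IsCyclic.exists_ofOrder_eq_natCard (α := Kˣ)
  set ζu := g ^ (d' * t')
  have hoz : orderOf ζu = 2 ^ (m + 1) := by
    have hdvd : d' * t' ∣ orderOf g := by rw [hgg, hKc]; exact Dvd.intro_left _ rfl
    rw [show orderOf ζu = orderOf g / (d' * t') from
      orderOf_pow_of_dvd (Nat.mul_pos hd'.pos ht.pos).ne' hdvd, hgg, hKc,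
      Nat.mul_div_cancel _ (Nat.mul_pos hd'.pos ht.pos)]
  set ζ : K := (ζu : K)
  have hζm : ζ ^ 2 ^ m = -1 := by
    have h1 : (ζ ^ 2 ^ m) ^ 2 = 1 := by
      rw [← pow_mul, ← pow_succ, ← Units.val_pow_eq_pow_val, ← hoz, pow_orderOf_eq_one, Units.val_one]
    rcases sq_eq_one_iff.1 h1 with h2 | h2
    · exfalso
      have h3 : orderOf ζu ∣ 2 ^ m := orderOf_dvd_of_pow_eq_one (Units.ext (by
        rw [Units.val_pow_eq_pow_val, Units.val_one]; exact h2))
      rw [hoz, Nat.pow_dvd_pow_iff_le_right (by norm_num)] at h3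
      omega
    · exact h2
  have hζ0 : ζ ≠ 0 := ζu.ne_zero
  have hζq : ζ ^ q = -ζ⁻¹ := by
    have h1 : ζ ^ (q + 1) = -1 := by
      rw [hq1, pow_mul, hζm, ht.neg_one_pow]
    rw [pow_succ] at h1
    rw [eq_comm, neg_eq_iff_eq_neg]
    exact inv_eq_of_mul_eq_one_right (by linear_combination -h1)
  obtain ⟨τ, hτ⟩ : ∃ τ : ZMod q, algebraMap (ZMod q) K τ = ζ + ζ ^ q := by
    have hfix : (ζ + ζ ^ q) ^ q = ζ + ζ ^ q := by
      rw [add_pow_char, ← pow_mul, add_comm]
      congr 1
      have h1 : ζ ^ (q * q) = ζ := by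
        rw [← sq, ← hKcard, Nat.card_eq_fintype_card]
        exact FiniteField.pow_card ζ
      exact h1
    have hmem := hfix
    by_contra hc
    push Not at hc
    -- too many roots of `X ^ q - X`
    have hroot : ∀ z ∈ insert (ζ + ζ ^ q) (Finset.univ.image (algebraMap (ZMod q) K)),
        z ∈ (Polynomial.X ^ q - Polynomial.X : Polynomial K).roots.toFinset := by
      intro z hz
      rw [Multiset.mem_toFinset, Polynomial.mem_roots
        (FiniteField.X_pow_card_sub_X_ne_zero K hqp.one_lt)]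
      rcases Finset.mem_insert.1 hz with rfl | hz
      · simp [hmem]
      · obtain ⟨c, -, rfl⟩ := Finset.mem_image.1 hz
        simp [← map_pow, ZMod.pow_card]
    have h2 := (Finset.card_le_card hroot).trans ((Multiset.toFinset_card_le _).trans
      ((Polynomial.card_roots' _).trans_eq (FiniteField.X_pow_card_sub_X_natDegree_eq K hqp.one_lt)))
    rw [Finset.card_insert_of_notMem (by
      intro h'
      obtain ⟨c, -, hc'⟩ := Finset.mem_image.1 h'
      exact hc c hc'), Finset.card_image_of_injective _ (algebraMap (ZMod q) K).injective,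
      Finset.card_univ, ZMod.card] at h2
    omega
  -- the generators
  set A : Matrix (Fin 2) (Fin 2) (ZMod q) := !![0, 1; 1, τ] with hA
  set B : Matrix (Fin 2) (Fin 2) (ZMod q) := !![1, 0; τ, -1] with hB
  let X : GL (Fin 2) (ZMod q) := Matrix.GeneralLinearGroup.mkOfDetNeZero A (by simp [hA, Matrix.det_fin_two])
  let Y : GL (Fin 2) (ZMod q) := Matrix.GeneralLinearGroup.mkOfDetNeZero B (by simp [hB, Matrix.det_fin_two])
  have hYY : Y * Y = 1 := by
    apply Units.ext
    show B * B = 1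
    simp [hB, Matrix.mul_fin_two, Matrix.one_fin_two]
  have hYX : Y * X * Y * X = -1 := by
    apply Units.ext
    show B * A * B * A = -1
    simp [hB, hA, Matrix.mul_fin_two, Matrix.one_fin_two]
  have hXm : X ^ 2 ^ m = -1 := by
    apply Units.ext
    rw [Units.val_pow_eq_pow_val]
    show A ^ 2 ^ m = -1
    have hinj : Function.Injective ((algebraMap (ZMod q) K).mapMatrix :
        Matrix (Fin 2) (Fin 2) (ZMod q) →+* Matrix (Fin 2) (Fin 2) K) := fun a b h => by
      ext i j
      exact (algebraMap (ZMod q) K).injective (congrFun (congrFun h i) j)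
    apply hinj
    rw [map_pow, map_neg, map_one]
    set AK := (algebraMap (ZMod q) K).mapMatrix A
    set Pm : Matrix (Fin 2) (Fin 2) K := !![1, 1; ζ, -ζ⁻¹]
    have hτ' : algebraMap (ZMod q) K τ = ζ - ζ⁻¹ := by rw [hτ, hζq, sub_eq_add_neg]
    have hint : AK * Pm = Pm * !![ζ, 0; 0, -ζ⁻¹] := by
      simp [AK, Pm, hA, Matrix.mul_fin_two, RingHom.mapMatrix_apply, Matrix.map, hτ']
      ext i j
      fin_cases i <;> fin_cases j <;> simp [Matrix.mul_apply, Fin.sum_univ_two, hτ', hζ0, sub_mul, mul_sub, add_mul, mul_add] <;> (try field_simp) <;> (try ring)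
    have hpow : ∀ k : ℕ, AK ^ k * Pm = Pm * !![ζ ^ k, 0; 0, (-ζ⁻¹) ^ k] := by
      intro k
      induction k with
      | zero => rw [pow_zero, one_mul, pow_zero, pow_zero, ← Matrix.one_fin_two, mul_one]
      | succ k ih =>
        rw [pow_succ, mul_assoc, hint, ← mul_assoc, ih, mul_assoc]
        simp [Matrix.mul_fin_two, pow_succ]
    have hdet : IsUnit Pm.det := by
      have hne : Pm.det ≠ 0 := ?_
      · exact ⟨Units.mk0 _ hne, rfl⟩
      simp only [Pm, Matrix.det_fin_two_of]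
      intro hz
      field_simp at hz
      have h1 : ζ ^ 2 = -1 := by linear_combination -hz
      have h3 : ζu ^ 4 = 1 := Units.ext (by
        rw [Units.val_pow_eq_pow_val, Units.val_one]
        show ζ ^ 4 = 1
        rw [show ζ ^ 4 = (ζ ^ 2) ^ 2 by ring, h1]; ring)
      have h4 := orderOf_dvd_of_pow_eq_one h3
      rw [hoz, show (4 : ℕ) = 2 ^ 2 by norm_num, Nat.pow_dvd_pow_iff_le_right (by norm_num)] at h4
      omega
    have h1 : AK ^ 2 ^ m * Pm = -1 * Pm := by
      rw [hpow, neg_pow, (Nat.even_pow.2 ⟨even_two, by omega⟩).neg_one_pow, one_mul, inv_pow, hζm,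
        inv_neg, inv_one]
      simp [Pm, Matrix.mul_fin_two]
    haveI := Pm.invertibleOfIsUnitDet hdet
    exact Matrix.mul_left_injective_of_invertible Pm h1
  have h2K : (2 : ZMod q) ≠ 0 := by
    intro h'
    have h'' : ((2 : ℕ) : ZMod q) = 0 := by exact_mod_cast h'
    rw [ZMod.natCast_eq_zero_iff] at h''
    have := Nat.le_of_dvd two_pos h''
    omega
  have hone : (-1 : GL (Fin 2) (ZMod q)) ≠ 1 := by
    intro h'
    have h1 := congrArg (fun g : GL (Fin 2) (ZMod q) => (g : Matrix (Fin 2) (Fin 2) (ZMod q)) 0 0) h'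
    simp at h1
    exact h2K (by linear_combination -h1)
  have hoX : orderOf X = 2 ^ (m + 1) :=
    orderOf_eq_prime_pow (by rw [hXm]; exact hone) (by rw [pow_succ, pow_mul, hXm, neg_one_sq])
  have hconj : ∀ i : ℤ, Y * X ^ i = X ^ (qdExp (m + 1) * i) * Y := by
    intro i
    have h1 : Y * X * Y⁻¹ = X ^ qdExp (m + 1) := by
      rw [qdExp, Nat.add_sub_cancel, _root_.zpow_sub, show ((2 : ℤ) ^ m) = ((2 ^ m : ℕ) : ℤ) by push_cast; rfl,
        zpow_natCast, hXm, zpow_one, inv_eq_of_mul_eq_one_right hYY, eq_mul_inv_iff_mul_eq]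
      exact hYX
    rw [_root_.zpow_mul, ← h1, conj_zpow, inv_mul_cancel_right]
  have hYz : ∀ i : ℤ, X ^ i ≠ Y := by
    intro i h'
    have h1 : X * Y = Y * X := by rw [← h', ← _root_.zpow_one_add, ← _root_.zpow_add_one, add_comm]
    have h2 := congrArg (fun g : GL (Fin 2) (ZMod q) => (g : Matrix (Fin 2) (Fin 2) (ZMod q)) 0 1) h1
    simp [X, Y, hA, hB, Matrix.mul_fin_two] at h2
    exact h2K (by linear_combination -h2)
  -- the embedding
  have hXeq : ∀ i j : ℤ, x ^ i = x ^ j → X ^ i = X ^ j := by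
    intro i j hij
    rw [zpow_eq_zpow_iff_modEq, hoX, ← hg.ox]
    exact zpow_eq_zpow_iff_modEq.1 hij
  choose ii hii using fun s : S => hg.normal_form s
  let f : S → GL (Fin 2) (ZMod q) := fun s => if s ∈ Subgroup.zpowers x then X ^ ii s else X ^ ii s * Y
  have hfx : ∀ i : ℤ, f (x ^ i) = X ^ i := fun i => by
    have hmem : x ^ i ∈ Subgroup.zpowers x := Subgroup.zpow_mem_zpowers x i
    simp only [f, if_pos hmem]
    rcases hii (x ^ i) with h' | h'
    · exact (hXeq _ _ h').symm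
    · exact absurd h'.symm (hg.zpow_y_ne_zpow _ _)
  have hfy : ∀ i : ℤ, f (x ^ i * y) = X ^ i * Y := fun i => by
    have hmem : x ^ i * y ∉ Subgroup.zpowers x := by
      rintro ⟨l, hl⟩
      exact hg.zpow_y_ne_zpow i l hl.symm
    simp only [f, if_neg hmem]
    rcases hii (x ^ i * y) with h' | h'
    · exact absurd h' (hg.zpow_y_ne_zpow _ _)
    · rw [hXeq _ _ (mul_right_cancel h').symm]
  let fh : S →* GL (Fin 2) (ZMod q) := MonoidHom.mk' f fun u w => by
    obtain ⟨i, rfl | rfl⟩ := hg.normal_form u <;> obtain ⟨l, rfl | rfl⟩ := hg.normal_form w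
    · rw [← _root_.zpow_add, hfx, hfx, hfx, _root_.zpow_add]
    · rw [hg.mul_xy, hfx, hfy, hfy, _root_.zpow_add, mul_assoc]
    · rw [hg.mul_yx, hfy, hfx, hfy, _root_.zpow_add, mul_assoc, mul_assoc (X ^ i) Y, hconj]
    · rw [hg.mul_yy, hfy, hfy, hfx, mul_assoc (X ^ i) Y, ← mul_assoc Y, hconj, mul_assoc _ Y Y, hYY,
        mul_one, ← _root_.zpow_add]
  have hinj : Function.Injective fh := by
    rw [injective_iff_map_eq_one]
    intro s hs
    obtain ⟨i, rfl | rfl⟩ := hg.normal_form s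
    · have h1 : X ^ i = X ^ (0 : ℤ) := by rw [zpow_zero]; exact (hfx i).symm.trans hs
      rw [zpow_eq_zpow_iff_modEq, hoX, ← hg.ox] at h1
      rw [← zpow_zero x, zpow_eq_zpow_iff_modEq]; exact h1
    · exfalso
      have h1 : X ^ i * Y = 1 := (hfy i).symm.trans hs
      exact hYz (-i) (by rw [_root_.zpow_neg, inv_eq_of_mul_eq_one_right h1])
  have hcard : Nat.card fh.range = 2 ^ (m + 2) := by
    rw [← Nat.card_congr (MonoidHom.ofInjective hinj).toEquiv, hg.card]
  let P₀ : Sylow 2 (GL (Fin 2) (ZMod q)) :=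
    (hS.of_surjective fh.rangeRestrict fh.rangeRestrict_surjective).toSylow (by
      intro hd
      have h1 : 2 ^ (m + 3) ∣ Nat.card (GL (Fin 2) (ZMod q)) := by
        rw [← Subgroup.card_mul_index fh.range, hcard, pow_succ]
        exact mul_dvd_mul_left _ hd
      rw [Lib.Classical.card_GL2, ZMod.card] at h1
      have h2 : q * (q - 1) * (q ^ 2 - 1) = 2 ^ (m + 2) * (q * d' * d' * t') := by
        rw [show q ^ 2 - 1 = (q + 1) * (q - 1) by rw [← Nat.sq_sub_sq q 1, one_pow], hq1, hq1']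
        ring
      rw [h2, pow_succ 2 (m + 2)] at h1
      have h3 := Nat.dvd_of_mul_dvd_mul_left (by positivity) h1
      exact Nat.not_even_iff_odd.2 (((hqp.odd_of_ne_two (by omega)).mul hd').mul hd' |>.mul ht)
        (even_iff_two_dvd.2 h3))
  haveI : CharP (ZMod q) q := ZMod.charP q
  have hinjGL := Matrix.SpecialLinearGroup.toGL_injective (n := Fin 2) (R := ZMod q)
  refine exists_no_chain hS P₀ (MonoidHom.ofInjective hinj)
    (u := SpecialLinearGroup.toGL upperU) (v := SpecialLinearGroup.toGL lowerV) ?_ ?_ ?_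
  · rw [orderOf_injective _ hinjGL]
    exact odd_orderOf_upperU q (hqp.odd_of_ne_two (by omega))
  · rw [orderOf_injective _ hinjGL]
    exact odd_orderOf_lowerV q (hqp.odd_of_ne_two (by omega))
  · rw [← map_mul, orderOf_injective _ hinjGL]
    exact even_orderOf_uv h2K

end Ambient

end Cfsg.Agent.Lib.PLocal.Supersol
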