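import Cfsg.Agent.Lib.Fusion.Realized
import Cfsg.Agent.Lib.Transfer.Frobenius
import Cfsg.Agent.Lib.Fusion.Aut
import Cfsg.Agent.Lib.Fusion.NormalCriteria
import Cfsg.Prelude.Def_FusionSystem

/-!
Supersoluble systems: chains of strongly closed subgroups, and transported group systems.
-/

set_option autoImplicit false
set_option linter.unusedSectionVars false

namespace Cfsg.Agent.Lib.PLocal.Supersol

open Cfsg Cfsg.FusionSystem Cfsg.Agent.Lib.Fusion

variable {Ω : Type*} [Group Ω] {S : Subgroup Ω} [Finite S]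

/-- A chain of strongly closed subgroups with cyclic steps. -/
def HasChain (F : FusionSystem S) : Prop :=
  ∃ (m : ℕ) (c : Fin (m + 1) → Subgroup Ω), c 0 = ⊥ ∧ c (Fin.last m) = S ∧
    (∀ i : Fin (m + 1), F.StronglyClosed (c i)) ∧
    ∀ i : Fin m, c i.castSucc ≤ c i.succ ∧ ∃ x ∈ S, c i.succ = c i.castSucc ⊔ Subgroup.zpowers x

/-- A cyclic group has a chain. -/
theorem hasChain_of_cyclic (F : FusionSystem S) (hc : IsCyclic S) : HasChain F := by
  have h1 : F.StronglyClosed ⊥ := ⟨bot_le, fun R hR φ hφ x => by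
    have : (x : Ω) = 1 := Subgroup.mem_bot.1 (hR x.2)
    rw [show x = 1 from Subtype.ext this, map_one]
    exact one_mem _⟩
  have h2 : F.StronglyClosed S := ⟨le_rfl, fun R _ φ hφ x => apply_mem hφ x⟩
  obtain ⟨g, hg⟩ := hc.exists_generator
  refine ⟨1, ![⊥, S], rfl, rfl, fun i => ?_, fun i => ?_⟩
  · fin_cases i
    · exact h1
    · exact h2
  · fin_cases i
    refine ⟨bot_le, g, g.2, ?_⟩
    show S = ⊥ ⊔ _
    rw [bot_sup_eq]
    refine le_antisymm (fun x hx => ?_) (Subgroup.zpowers_le.2 g.2)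
    obtain ⟨k, hk⟩ := Subgroup.mem_zpowers_iff.1 (hg ⟨x, hx⟩)
    exact ⟨k, congrArg Subtype.val hk⟩

/-- A system in which `S` is normal has a chain when invariant steps exist. -/
theorem hasChain_of_normal (F : FusionSystem S) (hn : F.IsNormal S)
    (hstep : ∀ N : Subgroup S, (∀ α ∈ F.autGroup S, ∀ x ∈ N, α x ∈ N) → N ≠ ⊤ →
      ∃ x, x ∉ N ∧ ∀ α ∈ F.autGroup S, ∀ y ∈ N ⊔ Subgroup.zpowers x,
        α y ∈ N ⊔ Subgroup.zpowers x) : HasChain F := by
  classical
  let I := {N : Subgroup S // ∀ α ∈ F.autGroup S, ∀ x ∈ N, α x ∈ N}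
  have hstep' : ∀ N : I, ∃ M : I, ∃ x : S, M.1 = N.1 ⊔ Subgroup.zpowers x ∧
      (N.1 = ⊤ ∨ Nat.card N.1 < Nat.card M.1) := by
    intro N
    by_cases h : N.1 = ⊤
    · exact ⟨N, 1, by rw [Subgroup.zpowers_one_eq_bot, sup_bot_eq], Or.inl h⟩
    · obtain ⟨x, hx, hinv⟩ := hstep N.1 N.2 h
      refine ⟨⟨_, hinv⟩, x, rfl, Or.inr (Set.Finite.card_lt_card (Set.toFinite _) ?_)⟩
      show N.1 < N.1 ⊔ Subgroup.zpowers x
      exact left_lt_sup.2 fun h => hx (h (Subgroup.mem_zpowers x))
  choose next gen hnext hgrow using hstep'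
  let bot : I := ⟨⊥, fun α _ x hx => by rw [Subgroup.mem_bot.1 hx, map_one]; exact one_mem _⟩
  let sq : ℕ → I := fun k => next^[k] bot
  have hsucc : ∀ k, sq (k + 1) = next (sq k) := fun k => Function.iterate_succ_apply' next k bot
  have hcard : ∀ k, (sq k).1 = ⊤ ∨ k + 1 ≤ Nat.card (sq k).1 := by
    intro k
    induction k with
    | zero => exact Or.inr (Nat.one_le_iff_ne_zero.2 Nat.card_pos.ne')
    | succ k ih =>
      rw [hsucc]
      rcases hgrow (sq k) with h | h
      · exact Or.inl (top_le_iff.1 (h ▸ (hnext (sq k)).symm ▸ le_sup_left))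
      · rcases ih with h' | h'
        · exact Or.inl (top_le_iff.1 (h' ▸ (hnext (sq k)).symm ▸ le_sup_left))
        · exact Or.inr (Nat.succ_le_of_lt (lt_of_le_of_lt h' h))
  set m := Nat.card S
  have hm : (sq m).1 = ⊤ := (hcard m).resolve_right fun h => by
    have := Subgroup.card_le_card_group (sq m).1
    omega
  refine ⟨m, fun i => (sq i).1.map S.subtype, ?_, ?_, fun i => ?_, fun i => ?_⟩
  · show ((sq 0).1).map S.subtype = ⊥
    exact Subgroup.map_bot _
  · show ((sq m).1).map S.subtype = S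
    rw [hm, ← MonoidHom.range_eq_map, Subgroup.range_subtype]
  · refine ⟨Subgroup.map_subtype_le _, fun R hR φ hφ x => ?_⟩
    obtain ⟨ψ, hψ, hext, himg⟩ := hn.2 R φ hφ
    have hψS : restr (le_sup_right : S ≤ R ⊔ S) ψ ∈ F.Hom S := restr_mem F hψ le_sup_right
    have hr : (restr (le_sup_right : S ≤ R ⊔ S) ψ).range = S :=
      Subgroup.eq_of_le_of_card_ge (range_le hψS) (card_range_eq (F.injective_of_mem hψS)).ge
    let α : MulAut S := isoOf _ (F.injective_of_mem hψS) hr
    have hα : α ∈ F.autGroup S := mem_autGroup_of_hom F (by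
      have e1 : autHom α = restr (le_sup_right : S ≤ R ⊔ S) ψ :=
        MonoidHom.ext fun z => by rw [autHom_apply]; exact isoOf_coe _ _ hr z
      exact e1 ▸ hψS)
    obtain ⟨z, hz, hzx⟩ := hR x.2
    refine ⟨α z, (sq i).2 α hα z hz, ?_⟩
    show ((α z : S) : Ω) = φ x
    rw [← hext x]
    exact congrArg ψ (Subtype.ext hzx)
  · refine ⟨?_, (gen (sq i) : Ω), (gen (sq i)).2, ?_⟩
    · show ((sq i).1).map S.subtype ≤ ((sq (i + 1)).1).map S.subtype
      refine Subgroup.map_mono ?_
      show _ ≤ (next^[(i : ℕ) + 1] bot).1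
      rw [Function.iterate_succ_apply', hnext]
      exact le_sup_left
    · show ((next^[(i : ℕ) + 1] bot).1).map S.subtype = _
      rw [Function.iterate_succ_apply', hnext, Subgroup.map_sup, MonoidHom.map_zpowers]
      rfl

/-- An automorphism of odd order of a cyclic `2`-group is trivial. -/
theorem aut_cyclic_two {C : Type*} [Group C] [Finite C] [IsCyclic C] (hC : IsPGroup 2 C)
    (a : MulAut C) (ha : Odd (orderOf a)) : a = 1 := by
  haveI : Fact (Nat.Prime 2) := ⟨Nat.prime_two⟩
  obtain ⟨k, hk⟩ := IsPGroup.iff_card.1 hC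
  have h1 : orderOf a ∣ 2 ^ (k - 1) := by
    refine (orderOf_dvd_natCard a).trans (dvd_of_eq ?_)
    rw [IsCyclic.card_mulAut, hk]
    rcases k with _ | k
    · rfl
    · rw [Nat.totient_prime_pow_succ Nat.prime_two]; simp
  obtain ⟨l, -, hl⟩ := (Nat.dvd_prime_pow Nat.prime_two).1 h1
  rcases l with _ | l
  · exact orderOf_eq_one_iff.1 (by simpa using hl)
  · rw [hl] at ha
    exact absurd ha (by simp [Nat.odd_pow_iff])

/-- With a chain, all automizers of a system on a `2`-group are `2`-groups. -/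
theorem isPGroup_autGroup_of_chain (hS : IsPGroup 2 S) {F : FusionSystem S} (h : HasChain F)
    {P : Subgroup Ω} (hP : P ≤ S) {σ : MulAut P} (hσ : σ ∈ F.autGroup P)
    (hodd : Odd (orderOf σ)) : σ = 1 := by
  classical
  haveI : Fact (Nat.Prime 2) := ⟨Nat.prime_two⟩
  haveI := finite_of_le hP
  obtain ⟨m, c, hc0, hcm, hsc, hstep⟩ := h
  suffices H : ∀ i : Fin (m + 1), ∀ x : P, (x : Ω) ∈ c i → σ x = x from
    MulEquiv.ext fun x => H (Fin.last m) x (hcm.symm ▸ hP x.2)
  intro i
  induction i using Fin.induction with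
  | zero =>
    intro x hx
    rw [hc0, Subgroup.mem_bot] at hx
    rw [show x = 1 from Subtype.ext hx, map_one]
  | succ i ih =>
    obtain ⟨hle, g, hgS, hg⟩ := hstep i
    set A := (c i.castSucc).subgroupOf P
    set B := (c i.succ).subgroupOf P
    have hinv : ∀ j, ∀ τ ∈ F.autGroup P, ∀ x : P, (x : Ω) ∈ c j → ((τ x : P) : Ω) ∈ c j := by
      intro j τ hτ x hx
      exact (hsc j).2 (P ⊓ c j) inf_le_right _ (restr_mem F (autHom_mem F hP hτ) inf_le_left)
        ⟨x, x.2, hx⟩
    have hnorm : ∀ j, ((c j).subgroupOf P).Normal := fun j => ⟨fun x hx u => by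
      have := hinv j _ (inn_le_autGroup F hP ⟨u, rfl⟩) x hx
      exact this⟩
    haveI := hnorm i.castSucc
    set A' := A.subgroupOf B
    haveI : A'.Normal := Subgroup.normal_subgroupOf
    -- the step is cyclic
    have hCn : ∀ u ∈ S, ∀ v ∈ c i.castSucc, u * v * u⁻¹ ∈ c i.castSucc := fun u hu v hv =>
      conj_mem_of_mem_normalizer (WeaklyClosed.le_normalizer
        (StronglyClosed.weaklyClosed (hsc i.castSucc)) hu) hv
    set D := (c i.succ).subgroupOf S
    set E := ((c i.castSucc).subgroupOf S).subgroupOf D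
    haveI : ((c i.castSucc).subgroupOf S).Normal := ⟨fun v hv u => hCn u u.2 v hv⟩
    haveI : E.Normal := Subgroup.normal_subgroupOf
    haveI : IsCyclic (D ⧸ E) := by
      have hgD : (⟨g, hgS⟩ : S) ∈ D := by
        show g ∈ c i.succ
        rw [hg]; exact Subgroup.mem_sup_right (Subgroup.mem_zpowers g)
      refine ⟨⟨((⟨⟨g, hgS⟩, hgD⟩ : D) : D ⧸ E), fun q => ?_⟩⟩
      obtain ⟨⟨⟨u, huS⟩, hu⟩, rfl⟩ := QuotientGroup.mk_surjective q
      have hu' : (⟨u, huS⟩ : S) ∈ (c i.castSucc).subgroupOf S ⊔ Subgroup.zpowers ⟨g, hgS⟩ := by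
        have h1 : c i.castSucc ≤ S := (hsc i.castSucc).1
        have h2 : u ∈ ((c i.castSucc).subgroupOf S ⊔ Subgroup.zpowers (⟨g, hgS⟩ : S)).map S.subtype := by
          rw [Subgroup.map_sup, Subgroup.map_subgroupOf_eq_of_le h1, MonoidHom.map_zpowers]
          show u ∈ c i.castSucc ⊔ Subgroup.zpowers g
          exact hg ▸ hu
        obtain ⟨w, hw, hwu⟩ := h2
        rwa [show (⟨u, huS⟩ : S) = w from Subtype.ext hwu.symm]
      obtain ⟨v, hv, w, ⟨k, rfl⟩, hvw⟩ := Subgroup.mem_sup_of_normal_left.1 hu'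
      refine ⟨k, ?_⟩
      show ((⟨⟨g, hgS⟩, hgD⟩ : D) : D ⧸ E) ^ k = _
      rw [← QuotientGroup.mk_zpow, QuotientGroup.eq]
      show (((⟨g, hgS⟩ : S) ^ k)⁻¹ * ⟨u, huS⟩ : S) ∈ (c i.castSucc).subgroupOf S
      rw [← hvw, ← mul_assoc]
      have := (inferInstance : ((c i.castSucc).subgroupOf S).Normal).conj_mem v hv
        ((⟨g, hgS⟩ : S) ^ k)⁻¹
      simpa using this
    let fB : B →* D ⧸ E := (QuotientGroup.mk' E).comp
      ((((Subgroup.inclusion hP).comp B.subtype)).codRestrict D fun x => x.2)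
    have hker : fB.ker = A' := by
      ext x
      rw [MonoidHom.mem_ker]
      show ((_ : D) : D ⧸ E) = 1 ↔ _
      rw [QuotientGroup.eq_one_iff]
      rfl
    haveI : IsCyclic (B ⧸ A') := by
      refine isCyclic_of_injective ((QuotientGroup.kerLift fB).comp
        (QuotientGroup.quotientMulEquivOfEq hker.symm).toMonoidHom) ?_
      exact (QuotientGroup.kerLift_injective fB).comp
        (QuotientGroup.quotientMulEquivOfEq hker.symm).injective
    have hQp : IsPGroup 2 (B ⧸ A') := ((hS.to_le hP).to_subgroup B).to_quotient A'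
    let σB : MulAut B :=
      { toFun := fun x => ⟨σ x, hinv _ σ hσ x x.2⟩
        invFun := fun x => ⟨σ⁻¹ x, hinv _ σ⁻¹ (inv_mem hσ) x x.2⟩
        left_inv := fun x => Subtype.ext (σ.symm_apply_apply (x : P))
        right_inv := fun x => Subtype.ext (σ.apply_symm_apply (x : P))
        map_mul' := fun x y => Subtype.ext (map_mul σ (x : P) (y : P)) }
    have hmap : A'.map σB.toMonoidHom = A' := by
      refine le_antisymm (by rintro _ ⟨x, hx, rfl⟩; exact hinv _ σ hσ x hx) fun y hy => ?_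
      exact ⟨σB⁻¹ y, hinv _ σ⁻¹ (inv_mem hσ) y hy, σB.apply_symm_apply y⟩
    have hord : orderOf (QuotientGroup.congr A' A' σB hmap : MulAut (B ⧸ A')) ∣ orderOf σ := by
      refine orderOf_dvd_of_pow_eq_one (MulEquiv.ext fun q => ?_)
      have hit : ∀ (k : ℕ) (x : B), (((σB ^ k) x : B) : P) = (σ ^ k) x := by
        intro k
        induction k with
        | zero => intro x; rfl
        | succ k ih =>
          intro x
          rw [pow_succ', pow_succ', MulAut.mul_apply, MulAut.mul_apply]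
          show σ (((σB ^ k) x : B) : P) = _
          rw [ih]
      have hq : ∀ (k : ℕ) (x : B),
          ((QuotientGroup.congr A' A' σB hmap : MulAut (B ⧸ A')) ^ k) (x : B ⧸ A') =
            (((σB ^ k) x : B) : B ⧸ A') := by
        intro k
        induction k with
        | zero => intro x; rfl
        | succ k ih => intro x; rw [pow_succ', pow_succ', MulAut.mul_apply, ih]; rfl
      obtain ⟨x, rfl⟩ := QuotientGroup.mk_surjective q
      rw [hq]
      show _ = (x : B ⧸ A')
      exact congrArg _ (Subtype.ext (by rw [hit, pow_orderOf_eq_one]; rfl))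
    have htriv := aut_cyclic_two hQp (QuotientGroup.congr A' A' σB hmap) (Odd.of_dvd_nat hodd hord)
    intro x hx
    have h1 : (x : P)⁻¹ * σ x ∈ A := by
      have h2 := DFunLike.congr_fun htriv ((⟨x, hx⟩ : B) : B ⧸ A')
      have h3 : ((σB ⟨x, hx⟩ : B) : B ⧸ A') = ((⟨x, hx⟩ : B) : B ⧸ A') := h2
      exact Subgroup.mem_subgroupOf.1 ((QuotientGroup.eq (s := A')).1 h3.symm)
    set d := (x : P)⁻¹ * σ x
    have hd : σ d = d := ih d h1
    have hk : ∀ k : ℕ, (σ ^ k) x = x * d ^ k := by
      intro k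
      induction k with
      | zero => simp
      | succ k ihk =>
        rw [pow_succ', MulAut.mul_apply, ihk, map_mul, map_pow, hd, pow_succ', ← mul_assoc,
          show σ x = x * d from (mul_inv_cancel_left _ _).symm]
    have h3 := hk (orderOf σ)
    rw [pow_orderOf_eq_one] at h3
    have h4 : d ^ orderOf σ = 1 := mul_left_cancel (a := x) (by rw [mul_one]; exact h3.symm)
    have h5 : d = 1 := by
      obtain ⟨l, hl⟩ := (IsPGroup.iff_orderOf.1 (hS.to_le hP)) d
      have h6 := orderOf_dvd_of_pow_eq_one h4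
      rcases l with _ | l
      · exact orderOf_eq_one_iff.1 (by simpa using hl)
      · exfalso
        rw [hl] at h6
        exact (Nat.not_even_iff_odd.2 hodd) (even_iff_two_dvd.2 ((dvd_pow_self 2 (Nat.succ_ne_zero l)).trans h6))
    exact (inv_mul_eq_one.1 h5).symm

/-- The system of a finite group, transported along an injective homomorphism. -/
def transported {G : Type*} [Group G] (ι : S →* G) (hι : Function.Injective ι) : FusionSystem S where
  Hom P := {φ | ∃ (hP : P ≤ S) (hφ : ∀ x : P, φ x ∈ S), ∃ g : G,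
    ∀ x : P, ι ⟨φ x, hφ x⟩ = g * ι ⟨x, hP x.2⟩ * g⁻¹}
  le_of_mem := fun ⟨hP, hφ, _⟩ => ⟨hP, hφ⟩
  injective_of_mem := by
    rintro P φ ⟨hP, hφ, g, hg⟩ x y e
    have h1 : g * ι ⟨x, hP x.2⟩ * g⁻¹ = g * ι ⟨y, hP y.2⟩ * g⁻¹ := by
      rw [← hg, ← hg]; exact congrArg ι (Subtype.ext e)
    exact Subtype.ext (congrArg Subtype.val (hι (mul_left_cancel (mul_right_cancel h1))) :)
  conj_mem {P g} hP hg := by
    refine ⟨hP, fun x => S.mul_mem (S.mul_mem hg (hP x.2)) (S.inv_mem hg), ι ⟨g, hg⟩, fun x => ?_⟩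
    rw [← map_mul, ← map_inv, ← map_mul]
    rfl
  comp_mem := by
    rintro P R φ ψ ⟨hP, hφ, g, hg⟩ ⟨hR, hψ, g', hg'⟩ h
    refine ⟨hP, fun x => hψ _, g' * g, fun x => ?_⟩
    show ι ⟨ψ ⟨φ x, h x⟩, _⟩ = _
    rw [hg', hg, mul_inv_rev]
    simp only [mul_assoc]
  inv_mem := by
    rintro P φ ⟨hP, hφ, g, hg⟩
    have hinj : Function.Injective φ := fun x y e => by
      have h1 : g * ι ⟨x, hP x.2⟩ * g⁻¹ = g * ι ⟨y, hP y.2⟩ * g⁻¹ := by
        rw [← hg, ← hg]; exact congrArg ι (Subtype.ext e)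
      exact Subtype.ext (congrArg Subtype.val (hι (mul_left_cancel (mul_right_cancel h1))) :)
    let e := MonoidHom.ofInjective hinj
    refine ⟨P.subtype.comp e.symm.toMonoidHom,
      ⟨fun y hy => by obtain ⟨x, rfl⟩ := hy; exact hφ x, fun y => hP (e.symm y).2, g⁻¹, fun y => ?_⟩,
      fun x => congrArg Subtype.val (e.symm_apply_apply x)⟩
    obtain ⟨x, rfl⟩ := e.surjective y
    simp only [MonoidHom.comp_apply, MulEquiv.coe_toMonoidHom, e.symm_apply_apply, inv_inv]
    show ι ⟨(x : Ω), _⟩ = g⁻¹ * ι ⟨φ x, _⟩ * g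
    rw [hg]
    group

theorem transported_realized {G : Type*} [Group G] (ι : S →* G) (hι : Function.Injective ι) :
    (transported ι hι).IsRealizedBy ι :=
  ⟨hι, fun P hP φ hφ => ⟨fun ⟨_, _, g, hg⟩ => ⟨g, hg⟩, fun ⟨g, hg⟩ => ⟨hP, hφ, g, hg⟩⟩⟩

/-- A group with two elements of odd order whose product has even order gives a system without
chains. -/
theorem exists_no_chain {G : Type*} [Group G] [Finite G] (hS : IsPGroup 2 S) (T : Sylow 2 G)
    (e : S ≃* (T : Subgroup G)) {u v : G} (hu : Odd (orderOf u)) (hv : Odd (orderOf v))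
    (huv : Even (orderOf (u * v))) : ∃ F : FusionSystem S, F.IsSaturated 2 ∧ ¬ HasChain F := by
  classical
  haveI : Fact (Nat.Prime 2) := ⟨Nat.prime_two⟩
  let ι : S →* G := (T : Subgroup G).subtype.comp e.toMonoidHom
  have hι : Function.Injective ι := (T : Subgroup G).subtype_injective.comp e.injective
  have hr : (T : Subgroup G) = ι.range := by
    ext x
    exact ⟨fun hx => ⟨e.symm ⟨x, hx⟩, congrArg Subtype.val (e.apply_symm_apply ⟨x, hx⟩)⟩,
      by rintro ⟨s, rfl⟩; exact (e s).2⟩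
  have hR := transported_realized ι hι
  refine ⟨transported ι hι, IsRealizedBy.isSaturated hR T hr, fun hch => ?_⟩
  have hnpc : Cfsg.HasNormalPComplement 2 G := by
    refine Cfsg.Agent.Lib.Transfer.hasNormalPComplement_of_frobenius T fun Q hQ g hg hgo => ?_
    set P := preimageAlong ι Q with hPdef
    have hPS : P ≤ S := preimageAlong_le ι Q
    have hQe : imageAlong ι P = Q := imageAlong_preimageAlong (hr ▸ hQ)
    have hg' : g ∈ Subgroup.normalizer (imageAlong ι P : Set G) := by rw [hQe]; exact hg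
    haveI := finite_of_le hPS
    have hβ : conjAut hg' ∈ autInducedBy ⊤ (imageAlong ι P) :=
      conjAut_mem_autInducedBy (K := ⊤) trivial hg'
    rw [← IsRealizedBy.autGroup hR hPS] at hβ
    obtain ⟨α, hα, hαe⟩ := hβ
    have hodd : Odd (orderOf g) := by
      rw [← Nat.not_even_iff_odd, even_iff_two_dvd]
      intro hd
      exact Nat.prime_two.one_lt.ne' (Nat.Coprime.eq_one_of_dvd hgo.symm hd)
    have hord : orderOf α ∣ orderOf g := by
      rw [← (MulAut.congr (pushEquiv hR.1 hPS)).orderOf_eq α]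
      rw [MulEquiv.coe_toMonoidHom] at hαe
      rw [hαe]
      refine orderOf_dvd_of_pow_eq_one (MulEquiv.ext fun x => Subtype.ext ?_)
      have : ∀ k : ℕ, ((((conjAut hg') ^ k) x : imageAlong ι P) : G) = g ^ k * x * (g ^ k)⁻¹ := by
        intro k
        induction k with
        | zero => simp
        | succ k ih =>
          rw [pow_succ', MulAut.mul_apply, conjAut_coe, ih, pow_succ', mul_inv_rev]
          simp only [mul_assoc]
      rw [this, pow_orderOf_eq_one]
      simp
    have hα1 : α = 1 := isPGroup_autGroup_of_chain hS hch hPS hα (Odd.of_dvd_nat hodd hord)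
    rw [hα1, map_one] at hαe
    intro x hx
    have h1 := congrArg (fun f : MulAut (imageAlong ι P) =>
      ((f ⟨x, hQe.symm ▸ hx⟩ : imageAlong ι P) : G)) hαe
    change x = g * x * g⁻¹ at h1
    calc x * g = (g * x * g⁻¹) * g := by rw [← h1]
      _ = g * x := by group
  obtain ⟨T', K, hKn, hK⟩ := hnpc
  have hcop : Nat.Coprime (Nat.card K) 2 := by
    have h1 : K.index = Nat.card (T' : Subgroup G) := hK.symm.index_eq_card
    have h3 : (T' : Subgroup G).index = Nat.card K := hK.index_eq_card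
    rw [Nat.coprime_comm, Nat.prime_two.coprime_iff_not_dvd, ← h3]
    exact T'.not_dvd_index
  have hmem : ∀ w : G, Odd (orderOf w) → w ∈ K := by
    intro w hw
    haveI := hKn
    have h2 : orderOf (w : G ⧸ K) ∣ orderOf w := orderOf_map_dvd (QuotientGroup.mk' K) w
    have h3 : orderOf (w : G ⧸ K) ∣ Nat.card (G ⧸ K) := orderOf_dvd_natCard _
    obtain ⟨k, hk⟩ := IsPGroup.iff_card.1 T'.isPGroup'
    rw [show Nat.card (G ⧸ K) = 2 ^ k from hk ▸ hK.symm.index_eq_card] at h3
    rw [← QuotientGroup.eq_one_iff, ← orderOf_eq_one_iff]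
    refine Nat.eq_one_of_dvd_coprimes (Nat.Coprime.pow_right k ?_) h2 h3
    exact Nat.coprime_two_right.2 hw
  have h5 := (Subgroup.orderOf_mk _ (mul_mem (hmem u hu) (hmem v hv))) ▸
    orderOf_dvd_natCard (⟨u * v, mul_mem (hmem u hu) (hmem v hv)⟩ : K)
  exact Nat.prime_two.one_lt.ne' (Nat.Coprime.eq_one_of_dvd hcop.symm (huv.two_dvd.trans h5))

/-- A homocyclic group of rank two carries a system without chains. -/
theorem exists_no_chain_homocyclic {p : ℕ} [Fact p.Prime] (hp2 : p ≠ 2) (hS : IsPGroup p S) {n : ℕ}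
    (hn : 0 < n) (e : S ≃* Multiplicative (ZMod (p ^ n)) × Multiplicative (ZMod (p ^ n))) :
    ∃ F : FusionSystem S, F.IsSaturated p ∧ ¬ HasChain F := by
  classical
  haveI : NeZero (p ^ n) := ⟨(pow_pos (Fact.out : p.Prime).pos n).ne'⟩
  let M := Multiplicative (ZMod (p ^ n)) × Multiplicative (ZMod (p ^ n))
  let d : MulAut M :=
    { toFun := fun v => (v.1⁻¹, v.2)
      invFun := fun v => (v.1⁻¹, v.2)
      left_inv := fun v => Prod.ext (inv_inv _) rfl
      right_inv := fun v => Prod.ext (inv_inv _) rfl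
      map_mul' := fun v w => Prod.ext (mul_inv v.1 w.1) rfl }
  let s : MulAut M := MulEquiv.prodComm
  set A : Subgroup (MulAut M) := Subgroup.closure {d, s}
  -- monomial automorphisms
  let sgn : Fin 2 → Multiplicative (ZMod (p ^ n)) → Multiplicative (ZMod (p ^ n)) :=
    fun a u => if a = 0 then u else u⁻¹
  let mono : Fin 2 × Fin 2 × Fin 2 → M → M := fun c v =>
    if c.1 = 0 then (sgn c.2.1 v.1, sgn c.2.2 v.2) else (sgn c.2.1 v.2, sgn c.2.2 v.1)
  have hA8 : ∀ a ∈ A, ∃ c, (a : M → M) = mono c := by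
    intro a ha
    induction ha using Subgroup.closure_induction_left with
    | one => exact ⟨(0, 0, 0), rfl⟩
    | mul_left x hx y hy ih =>
      obtain ⟨⟨w, i, j⟩, hc⟩ := ih
      rcases hx with rfl | rfl
      · refine ⟨(w, i + 1, j), funext fun v => ?_⟩
        show d (y v) = _
        rw [hc]
        fin_cases w <;> fin_cases i <;> simp [d, mono, sgn]
      · refine ⟨(w + 1, j, i), funext fun v => ?_⟩
        show s (y v) = _
        rw [hc]
        fin_cases w <;> simp [s, mono] <;> rfl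
    | inv_mul_cancel x hx y hy ih =>
      obtain ⟨⟨w, i, j⟩, hc⟩ := ih
      rcases hx with rfl | rfl
      · refine ⟨(w, i + 1, j), funext fun v => ?_⟩
        show d.symm (y v) = _
        rw [hc]
        show d (mono (w, i, j) v) = _
        fin_cases w <;> fin_cases i <;> simp [d, mono, sgn]
      · refine ⟨(w + 1, j, i), funext fun v => ?_⟩
        show s.symm (y v) = _
        rw [hc]
        fin_cases w <;> simp [s, mono] <;> rfl
  haveI : Finite (MulAut M) := Finite.of_injective _ DFunLike.coe_injective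
  have hAp : IsPGroup 2 A := by
    intro a
    refine ⟨3, Subtype.ext (MulEquiv.ext fun v => ?_)⟩
    obtain ⟨c, hc⟩ := hA8 a.1 a.2
    have hit : ∀ k : ℕ, (((a.1 ^ k : MulAut M) : M → M)) = (mono c)^[k] := by
      intro k
      induction k with
      | zero => rfl
      | succ k ih =>
        funext v
        rw [pow_succ', Function.iterate_succ_apply', MulAut.mul_apply, ih, hc]
    rw [SubgroupClass.coe_pow, hit]
    obtain ⟨w, i, j⟩ := c
    show (mono (w, i, j))^[8] v = v
    fin_cases w <;> fin_cases i <;> fin_cases j <;>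
      simp [Function.iterate_succ_apply', Function.iterate_zero_apply, mono, sgn]
  let G := M ⋊[A.subtype] A
  haveI : Finite G := Finite.of_equiv _ SemidirectProduct.equivProd.symm
  have hMp : IsPGroup p M := hS.of_equiv e
  set T₀ : Subgroup G := (SemidirectProduct.inl : M →* G).range
  have hT₀p : IsPGroup p T₀ := hMp.of_surjective _ (SemidirectProduct.inl : M →* G).rangeRestrict_surjective
  have hidx : ¬ p ∣ T₀.index := by
    have h1 : T₀.index = Nat.card A := by
      have h2 := Subgroup.card_mul_index T₀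
      rw [SemidirectProduct.card, show Nat.card T₀ = Nat.card M from
        (Nat.card_congr (MonoidHom.ofInjective SemidirectProduct.inl_injective).toEquiv).symm] at h2
      exact Nat.eq_of_mul_eq_mul_left Nat.card_pos h2
    obtain ⟨k, hk⟩ := IsPGroup.iff_card.1 hAp
    rw [h1, hk]
    intro hd
    exact hp2 ((Nat.prime_dvd_prime_iff_eq (Fact.out : p.Prime) Nat.prime_two).1
      ((Fact.out : p.Prime).dvd_of_dvd_pow hd))
  let T : Sylow p G := hT₀p.toSylow hidx
  let ι : S →* G := SemidirectProduct.inl.comp e.toMonoidHom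
  have hι : Function.Injective ι := SemidirectProduct.inl_injective.comp e.injective
  have hr : (T : Subgroup G) = ι.range := by
    show T₀ = _
    ext x
    constructor
    · rintro ⟨v, rfl⟩
      exact ⟨e.symm v, congrArg SemidirectProduct.inl (e.apply_symm_apply v)⟩
    · rintro ⟨z, rfl⟩
      exact ⟨e z, rfl⟩
  have hR := transported_realized ι hι
  refine ⟨transported ι hι, IsRealizedBy.isSaturated hR T hr, ?_⟩
  rintro ⟨m, c, hc0, hcm, hsc, hstep⟩
  -- each member of the chain is invariant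
  have hinv : ∀ i, ∀ a ∈ A, ∀ z : S, (z : Ω) ∈ c i → ((e.symm (a (e z)) : S) : Ω) ∈ c i := by
    intro i a ha z hz
    let φ : S →* Ω := S.subtype.comp (e.symm.toMonoidHom.comp (a.toMonoidHom.comp e.toMonoidHom))
    have hφ : φ ∈ (transported ι hι).Hom S := by
      refine ⟨le_rfl, fun x => (e.symm (a (e x))).2, SemidirectProduct.inr ⟨a, ha⟩, fun x => ?_⟩
      show (SemidirectProduct.inl (e (e.symm (a (e x)))) : G) = _
      rw [e.apply_symm_apply, ← map_inv]
      exact SemidirectProduct.inl_aut (φ := A.subtype) (⟨a, ha⟩ : A) (e x)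
    exact (hsc i).2 (c i) le_rfl _ (restr_mem (transported ι hι) hφ (hsc i).1) ⟨z, hz⟩
  let rC : Fin (m + 1) → Subgroup M := fun i => ((c i).subgroupOf S).map e.toMonoidHom
  have hrC : ∀ i, ∀ a ∈ A, ∀ v ∈ rC i, a v ∈ rC i := by
    rintro i a ha _ ⟨z, hz, rfl⟩
    exact ⟨e.symm (a (e z)), hinv i a ha z hz, e.apply_symm_apply _⟩
  obtain ⟨x, hx⟩ : ∃ x : M, x ≠ 1 :=
    ⟨(Multiplicative.ofAdd 1, 1), fun h => by
      have h1 := congrArg (fun v : M => Multiplicative.toAdd v.1) h
      have h2 : (1 : ZMod (p ^ n)) = 0 := h1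
      have h3 := (ZMod.one_eq_zero_iff).1 h2
      have h4 := Nat.one_lt_pow hn.ne' (Fact.out : p.Prime).one_lt
      omega⟩
  have hex : ∃ i, rC i ≠ ⊥ := ⟨Fin.last m, fun h => hx (Subgroup.mem_bot.1 (h ▸
    ⟨e.symm x, hcm.symm ▸ (e.symm x).2, e.apply_symm_apply x⟩))⟩
  obtain ⟨i, hi, himin⟩ := (Set.toFinite {i | rC i ≠ ⊥}).exists_minimal hex
  obtain ⟨j, rfl⟩ : ∃ j : Fin m, j.succ = i := by
    refine ⟨i.pred ?_, Fin.succ_pred _ _⟩
    rintro rfl
    exact hi (by simp [rC, hc0])
  have hprev : rC j.castSucc = ⊥ := by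
    by_contra h
    exact absurd (himin h (Fin.castSucc_le_succ j)) (not_le.2 Fin.castSucc_lt_succ)
  obtain ⟨-, g, hgS, hg⟩ := hstep j
  set w := e ⟨g, hgS⟩
  have hW : rC j.succ = Subgroup.zpowers w := by
    have hc' : c j.castSucc = ⊥ := by
      have h1 : (c j.castSucc).subgroupOf S = ⊥ :=
        (Subgroup.map_eq_bot_iff_of_injective _ e.injective).1 hprev
      rw [← Subgroup.map_subgroupOf_eq_of_le (hsc j.castSucc).1, h1, Subgroup.map_bot]
    have h2 : (c j.succ).subgroupOf S = Subgroup.zpowers (⟨g, hgS⟩ : S) := by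
      rw [hg, hc', bot_sup_eq]
      ext z
      rw [Subgroup.mem_subgroupOf]
      constructor
      · rintro ⟨k, hk⟩
        exact ⟨k, Subtype.ext hk⟩
      · rintro ⟨k, hk⟩
        exact ⟨k, congrArg Subtype.val hk⟩
    show ((c j.succ).subgroupOf S).map e.toMonoidHom = _
    rw [h2, MonoidHom.map_zpowers]
    rfl
  have hw : w ≠ 1 := fun h => hi (by rw [hW, h, Subgroup.zpowers_one_eq_bot])
  obtain ⟨a, ha⟩ := Subgroup.mem_zpowers_iff.1 (hW ▸ hrC j.succ s (Subgroup.subset_closure (by simp)) w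
    (hW.symm ▸ Subgroup.mem_zpowers w))
  obtain ⟨b, hb⟩ := Subgroup.mem_zpowers_iff.1 (hW ▸ hrC j.succ d (Subgroup.subset_closure (by simp)) w
    (hW.symm ▸ Subgroup.mem_zpowers w))
  -- `b` is both `-1` and `1` on the two coordinates
  have ha1 : w.1 ^ a = w.2 := congrArg Prod.fst ha
  have ha2 : w.2 ^ a = w.1 := congrArg Prod.snd ha
  have hb1 : w.1 ^ b = w.1⁻¹ := congrArg Prod.fst hb
  have hb2 : w.2 ^ b = w.2 := congrArg Prod.snd hb
  have h3 : w.2⁻¹ = w.2 := by
    rw [← hb2]
    conv_lhs => rw [hb2]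
    conv_rhs => rw [← ha1, ← zpow_mul, mul_comm, zpow_mul, hb1, inv_zpow, ha1]
  have h5 : ∀ u : Multiplicative (ZMod (p ^ n)), u⁻¹ = u → u = 1 := by
    intro u hu
    have h6 : orderOf u ∣ 2 := orderOf_dvd_of_pow_eq_one (by
      rw [sq]; nth_rw 1 [← hu]; exact inv_mul_cancel u)
    have h7 : orderOf u ∣ p ^ n := by
      refine (orderOf_dvd_natCard u).trans (dvd_of_eq ?_)
      rw [Nat.card_congr Multiplicative.toAdd, Nat.card_zmod]
    refine orderOf_eq_one_iff.1 (Nat.eq_one_of_dvd_coprimes ?_ h6 h7)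
    exact Nat.Coprime.pow_right n ((Nat.coprime_primes Nat.prime_two Fact.out).2 (Ne.symm hp2))
  have h2 : w.2 = 1 := h5 _ h3
  have h1 : w.1 = 1 := by rw [← ha2, h2, one_zpow]
  exact hw (Prod.ext h1 h2)

end Cfsg.Agent.Lib.PLocal.Supersol

namespace Cfsg.Agent.Lib.PLocal.Supersol

open Cfsg Cfsg.FusionSystem Cfsg.Agent.Lib.Fusion

variable {Ω : Type*} [Group Ω] {S : Subgroup Ω} [Finite S]

/-- A homocyclic `2`-group of rank two carries a system without chains. -/
theorem exists_no_chain_homocyclic_two (hS : IsPGroup 2 S) {n : ℕ} (hn : 0 < n)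
    (e : S ≃* Multiplicative (ZMod (2 ^ n)) × Multiplicative (ZMod (2 ^ n))) :
    ∃ F : FusionSystem S, F.IsSaturated 2 ∧ ¬ HasChain F := by
  classical
  haveI : Fact (Nat.Prime 2) := ⟨Nat.prime_two⟩
  haveI : NeZero (2 ^ n) := ⟨by positivity⟩
  let M := Multiplicative (ZMod (2 ^ n)) × Multiplicative (ZMod (2 ^ n))
  let t : MulAut M :=
    { toFun := fun v => (v.2, v.1⁻¹ * v.2⁻¹)
      invFun := fun v => (v.1⁻¹ * v.2⁻¹, v.1)
      left_inv := fun v => Prod.ext (by simp) rfl
      right_inv := fun v => Prod.ext rfl (by simp)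
      map_mul' := fun v w => Prod.ext rfl (by
        show (v.1 * w.1)⁻¹ * (v.2 * w.2)⁻¹ = (v.1⁻¹ * v.2⁻¹) * (w.1⁻¹ * w.2⁻¹)
        rw [mul_inv, mul_inv, mul_mul_mul_comm]) }
  have ht3 : t ^ 3 = 1 := MulEquiv.ext fun v => by
    rw [pow_succ, pow_succ, pow_one]
    show t (t (t v)) = v
    exact Prod.ext (by simp [t]) (by simp [t])
  have ht1 : t ≠ 1 := by
    intro h
    have h1 := congrArg Prod.fst (DFunLike.congr_fun h ((Multiplicative.ofAdd 1, 1) : M))
    change (1 : Multiplicative (ZMod (2 ^ n))) = Multiplicative.ofAdd 1 at h1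
    have h2 : (0 : ZMod (2 ^ n)) = 1 := congrArg Multiplicative.toAdd h1
    have h3 := ZMod.one_eq_zero_iff.1 h2.symm
    have h4 := Nat.one_lt_pow hn.ne' (one_lt_two : 1 < 2)
    omega
  have hot : orderOf t = 3 := by
    haveI : Fact (Nat.Prime 3) := ⟨Nat.prime_three⟩
    exact orderOf_eq_prime ht3 ht1
  haveI : Finite (MulAut M) := Finite.of_injective _ DFunLike.coe_injective
  set A : Subgroup (MulAut M) := Subgroup.zpowers t
  let G := M ⋊[A.subtype] A
  haveI : Finite G := Finite.of_equiv _ SemidirectProduct.equivProd.symm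
  have hMp : IsPGroup 2 M := hS.of_equiv e
  set T₀ : Subgroup G := (SemidirectProduct.inl : M →* G).range
  have hidx : ¬ 2 ∣ T₀.index := by
    have h2 := Subgroup.card_mul_index T₀
    rw [SemidirectProduct.card, show Nat.card T₀ = Nat.card M from
      (Nat.card_congr (MonoidHom.ofInjective SemidirectProduct.inl_injective).toEquiv).symm,
      Nat.card_zpowers, hot] at h2
    rw [Nat.eq_of_mul_eq_mul_left Nat.card_pos h2]
    decide
  let T : Sylow 2 G := (hMp.of_surjective _
    (SemidirectProduct.inl : M →* G).rangeRestrict_surjective).toSylow hidx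
  let ι : S →* G := SemidirectProduct.inl.comp e.toMonoidHom
  have hι : Function.Injective ι := SemidirectProduct.inl_injective.comp e.injective
  have hr : (T : Subgroup G) = ι.range := by
    show T₀ = _
    ext x
    constructor
    · rintro ⟨v, rfl⟩
      exact ⟨e.symm v, congrArg SemidirectProduct.inl (e.apply_symm_apply v)⟩
    · rintro ⟨z, rfl⟩
      exact ⟨e z, rfl⟩
  have hR := transported_realized ι hι
  refine ⟨transported ι hι, IsRealizedBy.isSaturated hR T hr, fun hch => ?_⟩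
  let β : MulAut S := (MulAut.congr e).symm t
  have hβ : β ∈ (transported ι hι).autGroup S := by
    refine mem_autGroup_of_hom _ ⟨le_rfl, fun x => (β x).2,
      SemidirectProduct.inr ⟨t, Subgroup.mem_zpowers t⟩, fun x => ?_⟩
    show (SemidirectProduct.inl (e (e.symm (t (e x)))) : G) = _
    rw [e.apply_symm_apply, ← map_inv]
    exact SemidirectProduct.inl_aut (φ := A.subtype) (⟨t, Subgroup.mem_zpowers t⟩ : A) (e x)
  have hβo : orderOf β = 3 := by rw [MulEquiv.orderOf_eq, hot]
  have h1 := isPGroup_autGroup_of_chain hS hch le_rfl hβ (by rw [hβo]; decide)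
  rw [h1, orderOf_one] at hβo
  omega

end Cfsg.Agent.Lib.PLocal.Supersol
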