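import Cfsg.Agent.Lib.PLocal.FixHalfGeneral
import Cfsg.Agent.Lib.Coprime.Action
import Cfsg.Agent.Lib.Coprime.PxQ
import Cfsg.Agent.Lib.Coprime.Generation
import Cfsg.Agent.Lib.Cores.Fitting

/-!
The Fitting subgroup of a maximal solvable subgroup generated by two conjugates of an element of prime
order at least five centralizes the normalized subgroups of coprime order.
-/

set_option autoImplicit false

namespace Cfsg.Agent.Lib.PLocal.FixHalf

open Module Cfsg.Agent.Lib
open scoped commutatorElement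

variable {p : ℕ} [hp : Fact p.Prime] {G : Type*} [Group G] [Finite G]

/-- The linear form of the bound: a module is larger than the square of the fixed points. -/
theorem card_fixed_sq_lt_add {q : ℕ} [Fact q.Prime] (hp5 : 5 ≤ p) {A : Type*} [Group A] [Finite A]
    [Group.IsSolvable A] {M : Type*} [AddCommGroup M] [Module (ZMod q) M] [Finite M] [Nontrivial M]
    (β : A →* End (ZMod q) M)
    (hirr : ∀ U : Submodule (ZMod q) M, (∀ g, ∀ v ∈ U, β g v ∈ U) → U = ⊥ ∨ U = ⊤)
    {x : A} (hxp : x ^ p = 1) (hgen : Subgroup.normalClosure ({x} : Set A) = ⊤) (hx : β x ≠ 1) :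
    Nat.card {v // β x v = v} * Nat.card {v // β x v = v} < Nat.card M := by
  haveI : Module.Finite (ZMod q) M := Module.Finite.of_finite
  let β' : A →* (End (ZMod q) M)ˣ := β.toHomUnits
  haveI : Group.IsSolvable β'.range := solvable_of_surjective β'.rangeRestrict_surjective
  haveI : Finite β'.range := Finite.of_surjective _ β'.rangeRestrict_surjective
  have h1 := fix_lt_general (p := p) ((Units.coeHom _).comp β'.range.subtype)
    (Units.val_injective.comp β'.range.subtype_injective)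
    (fun U hU => hirr U fun g v hv => hU ⟨β' g, g, rfl⟩ v hv)
    hp5 (x := β'.rangeRestrict x) (by rw [← map_pow, hxp, map_one])
    (by rw [← Set.image_singleton, ← Subgroup.map_normalClosure _ _ β'.rangeRestrict_surjective,
        hgen, Subgroup.map_top_of_surjective _ β'.rangeRestrict_surjective])
    (fun h => hx (show ((β' x : (End (ZMod q) M)ˣ) : End (ZMod q) M) = 1 by
      rw [show β' x = 1 from congrArg Subtype.val h, Units.val_one]))
  have h2 : Nat.card {v // β x v = v} =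
      Nat.card (LinearMap.ker (((Units.coeHom _).comp β'.range.subtype) (β'.rangeRestrict x) - 1)) := by
    refine Nat.card_congr (Equiv.subtypeEquivRight fun v => ?_)
    rw [LinearMap.mem_ker, LinearMap.sub_apply, End.one_apply, sub_eq_zero]
    rfl
  rw [h2, Module.natCard_eq_pow_finrank (K := ZMod q), Module.natCard_eq_pow_finrank (K := ZMod q) (V := M),
    Nat.card_zmod, ← pow_add, ← two_mul]
  exact Nat.pow_lt_pow_right (Fact.out : q.Prime).one_lt h1

theorem card_fixed_sq_lt_exp {q : ℕ} [Fact q.Prime] (hp5 : 5 ≤ p) {A : Type*} [Group A] [Finite A]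
    [Group.IsSolvable A] {M : Type*} [AddCommGroup M] [Finite M] [Nontrivial M]
    (hq : ∀ v : M, q • v = 0) (γ : A → M →+ M) (h1 : ∀ v, γ 1 v = v)
    (hmul : ∀ a b v, γ (a * b) v = γ a (γ b v))
    (hirr : ∀ U : AddSubgroup M, (∀ g, ∀ v ∈ U, γ g v ∈ U) → U = ⊥ ∨ U = ⊤)
    {x : A} (hxp : x ^ p = 1) (hgen : Subgroup.normalClosure ({x} : Set A) = ⊤)
    (hx : ∃ v, γ x v ≠ v) :
    Nat.card {v // γ x v = v} * Nat.card {v // γ x v = v} < Nat.card M := by
  haveI inst : Module (ZMod q) M := AddCommGroup.zmodModule hq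
  let L : A → End (ZMod q) M := fun g =>
    { toFun := γ g, map_add' := map_add (γ g), map_smul' := ZMod.map_smul (γ g) }
  have hL : ∀ g v, L g v = γ g v := fun g v => rfl
  let β : A →* End (ZMod q) M :=
    { toFun := L
      map_one' := LinearMap.ext fun v => by rw [hL, Module.End.one_apply]; exact h1 v
      map_mul' := fun a b => LinearMap.ext fun v => by
        rw [Module.End.mul_apply, hL, hL, hL]; exact hmul a b v }
  exact card_fixed_sq_lt_add (p := p) (q := q) (M := M) hp5 β (fun U hU => by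
      rcases hirr U.toAddSubgroup (fun g v hv => hU g v hv) with h | h
      · exact Or.inl ((Submodule.eq_bot_iff U).mpr fun v hv => by
          have : v ∈ U.toAddSubgroup := hv
          rwa [h, AddSubgroup.mem_bot] at this)
      · exact Or.inr (eq_top_iff.mpr fun v _ => h.ge (AddSubgroup.mem_top v)))
    hxp hgen fun h => hx.elim fun v hv => hv ((LinearMap.congr_fun h v).trans (Module.End.one_apply v))

theorem card_fixed_sq_lt {q : ℕ} [Fact q.Prime] (hp5 : 5 ≤ p) {A : Type*} [Group A] [Finite A]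
    [Group.IsSolvable A] {W : Type*} [CommGroup W] [Finite W] [Nontrivial W]
    (hWq : ∀ w : W, w ^ q = 1) (α : A →* MulAut W)
    (hirr : ∀ U : Subgroup W, (∀ g, ∀ w ∈ U, α g w ∈ U) → U = ⊥ ∨ U = ⊤)
    {x : A} (hxp : x ^ p = 1) (hgen : Subgroup.normalClosure ({x} : Set A) = ⊤) (hx : α x ≠ 1) :
    Nat.card {w // α x w = w} * Nat.card {w // α x w = w} < Nat.card W :=
  card_fixed_sq_lt_exp (p := p) hp5 (M := Additive W)
    (fun v => Additive.toMul.injective (hWq (Additive.toMul v)))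
    (fun g =>
      { toFun := fun v => Additive.ofMul (α g (Additive.toMul v))
        map_zero' := map_one (α g)
        map_add' := fun u v => map_mul (α g) (Additive.toMul u) (Additive.toMul v) })
    (fun v => by
      show Additive.ofMul (α 1 (Additive.toMul v)) = v
      rw [map_one]; rfl)
    (fun a b v => by
      show Additive.ofMul (α (a * b) (Additive.toMul v)) = _
      rw [map_mul]; rfl)
    (fun U hU => by
      let U' : Subgroup W :=
        { carrier := {w | Additive.ofMul w ∈ U}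
          one_mem' := U.zero_mem
          mul_mem' := fun {a b} ha hb => U.add_mem ha hb
          inv_mem' := fun {a} ha => U.neg_mem ha }
      rcases hirr U' (fun g w hw => hU g _ hw) with h | h
      · refine Or.inl ((AddSubgroup.eq_bot_iff_forall U).mpr fun m hm => ?_)
        have : Additive.toMul m ∈ U' := hm
        rw [h, Subgroup.mem_bot] at this
        exact this
      · exact Or.inr (eq_top_iff.mpr fun m _ => h.ge (Subgroup.mem_top (Additive.toMul m))))
    hxp hgen (by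
      by_contra! h
      exact hx (MulEquiv.ext fun w => Additive.ofMul.injective (h (Additive.ofMul w))))

/-- The conjugates of `x` inside `⟨x, x^a⟩`, `a` in it, generate it. -/
theorem normalClosure_eq_top {x : G} (A : Subgroup G) (hxA : x ∈ A) {a : G} (ha : a ∈ A)
    (hA : A = Subgroup.zpowers x ⊔ (Subgroup.zpowers x).map (MulAut.conj a).toMonoidHom) :
    Subgroup.normalClosure ({(⟨x, hxA⟩ : A)} : Set A) = ⊤ := by
  set N := Subgroup.normalClosure ({(⟨x, hxA⟩ : A)} : Set A) with hN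
  have hxN : (⟨x, hxA⟩ : A) ∈ N := Subgroup.subset_normalClosure rfl
  have h2 : (⟨a, ha⟩ : A) * ⟨x, hxA⟩ * (⟨a, ha⟩ : A)⁻¹ ∈ N :=
    Subgroup.normalClosure_normal.conj_mem _ hxN _
  have hle : A ≤ N.map A.subtype := by
    refine hA.le.trans (sup_le (Subgroup.zpowers_le.mpr ⟨_, hxN, rfl⟩) ?_)
    rw [MonoidHom.map_zpowers, Subgroup.zpowers_le]
    exact ⟨_, h2, rfl⟩
  refine eq_top_iff.mpr fun b _ => ?_
  obtain ⟨b', hb', hbb⟩ := hle b.2
  obtain rfl : b' = b := Subtype.ext hbb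
  exact hb'

set_option maxHeartbeats 1600000 in
theorem pCore_le_centralizer (hp5 : 5 ≤ p) {x : G} (hxp : x ^ p = 1) (A : Subgroup G)
    [Group.IsSolvable A] {a : G} (ha : a ∈ A)
    (hA : A = Subgroup.zpowers x ⊔ (Subgroup.zpowers x).map (MulAut.conj a).toMonoidHom)
    (hmax : ∀ B : Subgroup G, A ≤ B → Group.IsSolvable B → (∃ b ∈ B,
      B = Subgroup.zpowers x ⊔ (Subgroup.zpowers x).map (MulAut.conj b).toMonoidHom) → B = A)
    {q r : ℕ} [Fact q.Prime] [Fact r.Prime] (hqr : r ≠ q) :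
    ∀ V : Subgroup G, IsPGroup q V → A ≤ Subgroup.normalizer (V : Set G) →
      (Cfsg.pCore r A).map A.subtype ≤ Subgroup.centralizer (V : Set G) := by
  intro V
  induction hn : Nat.card V using Nat.strong_induction_on generalizing V with
  | _ n ih =>
  intro hV hAV
  subst hn
  set R := (Cfsg.pCore r A).map A.subtype with hR
  have hxA : x ∈ A := hA.ge (Subgroup.mem_sup_left (Subgroup.mem_zpowers x))
  have hRA : R ≤ A := Subgroup.map_subtype_le _
  haveI : (Cfsg.pCore r A).Normal := Cfsg.pCore_normal r _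
  have hRr : IsPGroup r R := (Cores.pCore_isPGroup r A).map _
  have hRn : ∀ g ∈ A, ∀ u ∈ R, g * u * g⁻¹ ∈ R := by
    rintro g hg _ ⟨u, hu, rfl⟩
    exact ⟨⟨g, hg⟩ * u * ⟨g, hg⟩⁻¹, Subgroup.Normal.conj_mem inferInstance u hu _, rfl⟩
  have hcop : (Nat.card R).Coprime (Nat.card V) := by
    obtain ⟨i, hi⟩ := IsPGroup.iff_card.mp hRr
    obtain ⟨j, hj⟩ := IsPGroup.iff_card.mp hV
    rw [hi, hj]
    exact Nat.Coprime.pow _ _ ((Nat.coprime_primes Fact.out Fact.out).mpr hqr)
  by_contra hbad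
  have hproper : ∀ U : Subgroup G, U ≤ V → A ≤ Subgroup.normalizer (U : Set G) → U ≠ V →
      R ≤ Subgroup.centralizer (U : Set G) := fun U hUV hAU hne =>
    ih _ (lt_of_le_of_ne (Subgroup.card_le_of_le hUV)
      fun h => hne (Subgroup.eq_of_le_of_card_ge hUV h.ge)) U rfl (hV.to_le hUV) hAU
  have hVR : ⁅V, R⁆ = V := by
    have hle : ⁅V, R⁆ ≤ V := Coprime.commutator_le_of_le_normalizer (hRA.trans hAV)
    by_contra hne
    have hN : A ≤ Subgroup.normalizer ((⁅V, R⁆ : Subgroup G) : Set G) := by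
      intro g hg
      rw [Subgroup.mem_normalizer_iff_map_conj_eq, Subgroup.map_commutator,
        Subgroup.mem_normalizer_iff_map_conj_eq.mp (hAV hg),
        Subgroup.mem_normalizer_iff_map_conj_eq.mp (Subgroup.mem_normalizer_iff.mpr fun u => ⟨hRn g hg u,
          fun h => by simpa [mul_assoc] using hRn g⁻¹ (inv_mem hg) _ h⟩ : g ∈ Subgroup.normalizer (R : Set G))]
    exact hbad (Coprime.le_centralizer_of_commutator_commutator_eq_bot (hRA.trans hAV) hcop
      (Subgroup.commutator_eq_bot_iff_le_centralizer.mpr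
        (Subgroup.le_centralizer_iff.mp (hproper _ hle hN hne))))
  have hVne : V ≠ ⊥ := fun h => hbad fun u _ v hv => by
    have : v = 1 := by simpa [h] using hv
    simp [this]
  haveI : Nontrivial V := (Subgroup.nontrivial_iff_ne_bot V).mpr hVne
  set U := (frattini V).map V.subtype with hU
  have hUV : U ≤ V := Subgroup.map_subtype_le _
  have hUne : U ≠ V := fun h => Cores.frattini_ne_top (G := V)
    (Subgroup.map_injective V.subtype_injective (by
      rw [← hU, h, ← MonoidHom.range_eq_map, Subgroup.range_subtype]))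
  have hNU : Subgroup.normalizer (V : Set G) ≤ Subgroup.normalizer (U : Set G) := by
    intro g hg
    have hn : (V.subgroupOf (Subgroup.normalizer (V : Set G))).Normal := inferInstance
    rw [Subgroup.mem_normalizer_iff_map_conj_eq]
    let θ : V ≃* V :=
      { toFun := fun v => ⟨g * v * g⁻¹, (Subgroup.mem_normalizer_iff.mp hg _).mp v.2⟩
        invFun := fun v => ⟨g⁻¹ * v * g, (Subgroup.mem_normalizer_iff''.mp hg _).mp v.2⟩
        left_inv := fun v => Subtype.ext (by simp [mul_assoc])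
        right_inv := fun v => Subtype.ext (by simp [mul_assoc])
        map_mul' := fun v w => Subtype.ext (by simp [mul_assoc]) }
    rw [hU, Subgroup.map_map, show ((MulAut.conj g : G ≃* G) : G →* G).comp V.subtype =
      V.subtype.comp θ.toMonoidHom from MonoidHom.ext fun v => rfl, ← Subgroup.map_map,
      (Subgroup.characteristic_iff_map_eq.mp inferInstance θ)]
  have hAU : A ≤ Subgroup.normalizer (U : Set G) := hAV.trans hNU
  -- the semidirect frame
  set H := A ⊔ V with hH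
  have hAH : A ≤ H := le_sup_left
  have hVH : V ≤ H := le_sup_right
  have hHV : H ≤ Subgroup.normalizer (V : Set G) := sup_le hAV Subgroup.le_normalizer
  haveI : (U.subgroupOf H).Normal :=
    (Subgroup.normal_subgroupOf_iff_le_normalizer (hUV.trans hVH)).mpr (hHV.trans hNU)
  haveI : (V.subgroupOf H).Normal := (Subgroup.normal_subgroupOf_iff_le_normalizer hVH).mpr hHV
  set π := QuotientGroup.mk' (U.subgroupOf H) with hπ
  have hπs : Function.Surjective π := QuotientGroup.mk'_surjective _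
  have hπ1 : ∀ g : H, π g = 1 ↔ (g : G) ∈ U := fun g => QuotientGroup.eq_one_iff g
  set Wq := (V.subgroupOf H).map π with hW
  haveI : Wq.Normal := Subgroup.Normal.map inferInstance π hπs
  set Ab := (A.subgroupOf H).map π with hAb
  set Rb := (R.subgroupOf H).map π with hRb
  haveI : Finite H := inferInstance
  have hmemW : ∀ g : H, π g ∈ Wq → (g : G) ∈ V := by
    rintro g ⟨v, hv, hvg⟩
    have h1 : ((g⁻¹ * v : H) : G) ∈ U := (hπ1 _).mp (by rw [map_mul, map_inv, hvg, inv_mul_cancel])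
    have h2 := mul_mem (show (v : G) ∈ V from hv) (inv_mem (hUV h1))
    simpa using h2
  -- invariant subgroups of the top quotient
  have hsub : ∀ X : Subgroup (H ⧸ U.subgroupOf H), X ≤ Wq → (∀ g ∈ Ab, ∀ w ∈ X, g * w * g⁻¹ ∈ X) →
      X ≠ Wq → ∀ g : H, π g ∈ X → R ≤ Subgroup.centralizer ({(g : G)} : Set G) := by
    intro X hXW hXA hne g hg
    set Y := (X.comap π).map H.subtype with hY
    have hYV : Y ≤ V := by
      rintro _ ⟨y, hy, rfl⟩
      exact hmemW y (hXW hy)
    have hYA : A ≤ Subgroup.normalizer (Y : Set G) := fun b hb => by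
      have key : ∀ c ∈ A, ∀ y ∈ Y, c * y * c⁻¹ ∈ Y := by
        rintro c hc _ ⟨y, hy, rfl⟩
        refine ⟨⟨c, hAH hc⟩ * y * ⟨c, hAH hc⟩⁻¹, ?_, rfl⟩
        show π _ ∈ X
        rw [map_mul, map_mul, map_inv]
        exact hXA _ ⟨⟨c, hAH hc⟩, hc, rfl⟩ _ hy
      exact Subgroup.mem_normalizer_iff.mpr fun y => ⟨key b hb y, fun h => by
        simpa [mul_assoc] using key b⁻¹ (inv_mem hb) _ h⟩
    have hYne : Y ≠ V := fun h => hne (le_antisymm hXW (by
      rintro _ ⟨v, hv, rfl⟩
      obtain ⟨y, hy, hyv⟩ := h.ge (show (v : G) ∈ V from hv)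
      obtain rfl : y = v := Subtype.ext hyv
      exact hy))
    refine (hproper Y hYV hYA hYne).trans ?_
    exact Subgroup.centralizer_le (Set.singleton_subset_iff.mpr ⟨g, hg, rfl⟩)
  have hWne : Wq ≠ ⊥ := fun h => hUne (le_antisymm hUV fun v hv => by
    have h1 : π ⟨v, hVH hv⟩ ∈ Wq := ⟨_, hv, rfl⟩
    rw [h, Subgroup.mem_bot, hπ1] at h1
    exact h1)
  have hWab : ∀ u ∈ Wq, ∀ w ∈ Wq, u * w = w * u := by
    rintro _ ⟨u, hu, rfl⟩ _ ⟨w, hw, rfl⟩
    rw [← commutatorElement_eq_one_iff_mul_comm, ← map_commutatorElement, hπ1]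
    refine ⟨⁅(⟨u, hu⟩ : V), (⟨w, hw⟩ : V)⁆, Coprime.commutator_le_frattini_of_isPGroup hV
      (Subgroup.commutator_mem_commutator (Subgroup.mem_top _) (Subgroup.mem_top _)), rfl⟩
  have hWq : ∀ w ∈ Wq, w ^ q = 1 := by
    rintro _ ⟨w, hw, rfl⟩
    rw [← map_pow, hπ1]
    exact ⟨(⟨w, hw⟩ : V) ^ q, Cores.pow_mem_frattini hV _, rfl⟩
  have hWR : ∀ w ∈ Wq, (∀ u ∈ Rb, u * w = w * u) → w = 1 := by
    let X : Subgroup (H ⧸ U.subgroupOf H) := Wq ⊓ Subgroup.centralizer (Rb : Set (H ⧸ U.subgroupOf H))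
    have hXA : ∀ g ∈ Ab, ∀ w ∈ X, g * w * g⁻¹ ∈ X := by
      rintro _ ⟨g, hg, rfl⟩ w ⟨hw1, hw2⟩
      refine ⟨Subgroup.Normal.conj_mem inferInstance w hw1 _, ?_⟩
      rintro _ ⟨u, hu, rfl⟩
      have h1 : π (g⁻¹ * u * g) * w = w * π (g⁻¹ * u * g) := hw2 _ ⟨_, by
        show (g : G)⁻¹ * u * g ∈ R
        simpa using hRn _ (inv_mem hg) _ hu, rfl⟩
      rw [map_mul, map_mul, map_inv] at h1
      calc π u * (π g * w * (π g)⁻¹) = π g * ((π g)⁻¹ * π u * π g * w) * (π g)⁻¹ := by group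
        _ = π g * (w * ((π g)⁻¹ * π u * π g)) * (π g)⁻¹ := by rw [h1]
        _ = _ := by group
    by_cases hX : X = Wq
    · exfalso
      refine hUne (le_antisymm hUV ?_)
      rw [← hVR]
      refine Subgroup.commutator_le.mpr fun v hv u hu => ?_
      have h1 := (hX.ge ⟨⟨v, hVH hv⟩, hv, rfl⟩).2 _ ⟨⟨u, hAH (hRA hu)⟩, hu, rfl⟩
      have h2 : π ⁅(⟨v, hVH hv⟩ : H), (⟨u, hAH (hRA hu)⟩ : H)⁆ = 1 := by
        rw [map_commutatorElement, commutatorElement_eq_one_iff_mul_comm]
        exact h1.symm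
      exact (hπ1 _).mp h2
    intro w hw hwR
    by_contra hw1
    obtain ⟨g, rfl⟩ := hπs w
    have hcen := hsub X inf_le_left hXA hX
    -- the centralized part lies in `U`
    set Y := (X.comap π).map H.subtype
    have hYV : Y ≤ V := by
      rintro _ ⟨y, hy, rfl⟩
      exact hmemW y hy.1
    have hgY : (g : G) ∈ V ⊓ Subgroup.centralizer (R : Set G) :=
      ⟨hmemW g hw, fun u hu => (Subgroup.mem_centralizer_iff.mp
        (hcen g ⟨hw, hwR⟩ hu) (g : G) rfl).symm⟩
    -- `V / U` is `[V, R]`, so the centralizer is trivial there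
    haveI : Fintype Rb := Fintype.ofFinite _
    letI : CommGroup Wq :=
      { (inferInstance : Group Wq) with mul_comm := fun a b => Subtype.ext (hWab a a.2 b b.2) }
    let N : Wq →* Wq := ∏ u : Rb, (MulAut.conjNormal (u : H ⧸ U.subgroupOf H) : MulAut Wq).toMonoidHom
    have hNap : ∀ z, N z = ∏ u : Rb, (MulAut.conjNormal (u : H ⧸ U.subgroupOf H) : MulAut Wq) z :=
      fun z => by simp [N, MonoidHom.finsetProd_apply]
    have hker : ∀ v (hv : v ∈ V), N ⟨π ⟨v, hVH hv⟩, _, hv, rfl⟩ = 1 := by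
      intro v hv
      let K : Subgroup G :=
        ((N.ker.map Wq.subtype).comap π).map H.subtype
      have : v ∈ K := by
        rw [← hVR] at hv
        refine (Subgroup.commutator_le.mpr ?_) hv
        intro b hb u hu
        refine ⟨⁅(⟨b, hVH hb⟩ : H), (⟨u, hAH (hRA hu)⟩ : H)⁆, ?_, rfl⟩
        let uq : Rb := ⟨π ⟨u, hAH (hRA hu)⟩, _, hu, rfl⟩
        let bq : Wq := ⟨π ⟨b, hVH hb⟩, _, hb, rfl⟩
        refine ⟨bq * ((MulAut.conjNormal (uq : H ⧸ U.subgroupOf H) : MulAut Wq) bq)⁻¹, ?_, ?_⟩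
        · show N _ = 1
          rw [map_mul, map_inv, mul_inv_eq_one, hNap, hNap]
          refine (Fintype.prod_equiv (Equiv.mulRight uq) _ _ fun c => ?_).symm
          rw [← MulAut.mul_apply, ← map_mul]
          rfl
        · rw [map_commutatorElement, commutatorElement_def]
          show (bq : H ⧸ U.subgroupOf H) * (((MulAut.conjNormal (uq : H ⧸ U.subgroupOf H) : MulAut Wq) bq :
            Wq) : H ⧸ U.subgroupOf H)⁻¹ = _
          rw [MulAut.conjNormal_apply]
          show π _ * (π _ * π _ * (π _)⁻¹)⁻¹ = _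
          group
      obtain ⟨y, ⟨z, hz, hzy⟩, hyv⟩ := this
      obtain rfl : y = ⟨v, hVH hv⟩ := Subtype.ext hyv
      obtain rfl : z = ⟨π ⟨v, hVH hv⟩, _, hv, rfl⟩ := Subtype.ext hzy
      exact hz
    have h1 := hker g hgY.1
    rw [hNap, Finset.prod_congr rfl (g := fun _ => (⟨π g, hw⟩ : Wq)) fun u _ => by
      refine Subtype.ext ?_
      rw [MulAut.conjNormal_apply]
      show (u : H ⧸ U.subgroupOf H) * π g * (u : H ⧸ U.subgroupOf H)⁻¹ = π g
      rw [hwR u u.2, mul_inv_cancel_right], Finset.prod_const, Finset.card_univ] at h1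
    have hd : orderOf (⟨π g, hw⟩ : Wq) ∣ Nat.card Rb := by
      rw [Nat.card_eq_fintype_card]; exact orderOf_dvd_of_pow_eq_one h1
    have hd2 : orderOf (⟨π g, hw⟩ : Wq) ∣ q :=
      orderOf_dvd_of_pow_eq_one (Subtype.ext (hWq _ hw))
    obtain ⟨i, hi⟩ : ∃ i, Nat.card Rb = r ^ i := IsPGroup.iff_card.mp
      ((hRr.comap_of_injective H.subtype H.subtype_injective).map π)
    rw [hi] at hd
    refine hw1 (congrArg Subtype.val (orderOf_eq_one_iff.mp (Nat.eq_one_of_dvd_coprimes
      (((Nat.coprime_primes Fact.out Fact.out).mpr hqr).pow_left i) hd hd2)))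
  have hirrW : ∀ X : Subgroup (H ⧸ U.subgroupOf H), X ≤ Wq → (∀ g ∈ Ab, ∀ w ∈ X, g * w * g⁻¹ ∈ X) →
      X = ⊥ ∨ X = Wq := by
    intro X hXW hXA
    by_contra! h
    refine h.1 ((Subgroup.eq_bot_iff_forall X).mpr fun w hw => ?_)
    obtain ⟨g, rfl⟩ := hπs w
    refine hWR _ (hXW hw) ?_
    rintro _ ⟨u, hu, rfl⟩
    rw [← map_mul, ← map_mul]
    congr 1
    exact Subtype.ext (Subgroup.mem_centralizer_iff.mp (hsub X hXW hXA h.2 g hw hu) (g : G) rfl).symm
  have hVA : ¬ V ≤ A := fun hle => by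
    refine hbad fun u hu v hv => ?_
    have hn1 : (V.subgroupOf A).Normal := (Subgroup.normal_subgroupOf_iff_le_normalizer hle).mpr hAV
    have hn2 : (R.subgroupOf A).Normal := by
      rw [hR, Subgroup.subgroupOf, Subgroup.comap_map_eq_self_of_injective A.subtype_injective]
      infer_instance
    have h1 := Subgroup.commute_of_normal_of_disjoint (V.subgroupOf A) (R.subgroupOf A) hn1 hn2
      (by
        rw [disjoint_iff, Subgroup.eq_bot_iff_forall]
        intro w hw
        exact Subtype.ext (Coprime.eq_one_of_mem_of_mem hcop hw.2 hw.1))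
      ⟨v, hle hv⟩ ⟨u, hRA hu⟩ hv hu
    exact congrArg Subtype.val h1
  have hsplit : ∀ g : H ⧸ U.subgroupOf H, ∃ b ∈ Ab, ∃ w ∈ Wq, b * w = g := by
    intro g
    obtain ⟨⟨g, hg⟩, rfl⟩ := hπs g
    obtain ⟨b, hb, v, hv, rfl⟩ := Coprime.exists_mul_of_mem_sup hAV (show g ∈ V ⊔ A by rwa [sup_comm])
      |> fun ⟨v, hv, b, hb, e⟩ => (⟨b, hb, b⁻¹ * v * b,
        (Subgroup.mem_normalizer_iff''.mp (hAV hb) v).mp hv, by rw [e]; group⟩ :
          ∃ b ∈ A, ∃ v ∈ V, b * v = g)
    exact ⟨_, ⟨⟨b, hAH hb⟩, hb, rfl⟩, _, ⟨⟨v, hVH hv⟩, hv, rfl⟩, (map_mul π _ _).symm⟩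
  -- complements
  have hcompl : ∀ L : Subgroup (H ⧸ U.subgroupOf H), (∀ g, ∃ b ∈ L, ∃ w ∈ Wq, b * w = g) → L ≠ ⊤ →
      ∀ w ∈ Wq, w ∈ L → w = 1 := by
    intro L hL hne w hw hwL
    have hX : ∀ g ∈ Ab, ∀ u ∈ Wq ⊓ L, g * u * g⁻¹ ∈ Wq ⊓ L := by
      intro g _ u ⟨hu1, hu2⟩
      obtain ⟨b, hb, v, hv, rfl⟩ := hL g
      rw [show b * v * u * (b * v)⁻¹ = b * (v * u * v⁻¹) * b⁻¹ by group, hWab v hv u hu1,
        mul_inv_cancel_right]
      exact ⟨Subgroup.Normal.conj_mem inferInstance u hu1 b, L.mul_mem (L.mul_mem hb hu2) (L.inv_mem hb)⟩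
    rcases hirrW _ inf_le_left hX with h | h
    · exact Subgroup.mem_bot.mp (h ▸ ⟨hw, hwL⟩)
    · refine absurd (eq_top_iff.mpr fun g _ => ?_) hne
      obtain ⟨b, hb, v, hv, rfl⟩ := hL g
      exact L.mul_mem hb (h.ge hv).2
  have hAbne : Ab ≠ ⊤ := fun h => hVA fun v hv => by
    by_contra
    -- `V = (V ⊓ A) U`
    have key : (V ⊓ A).subgroupOf V ⊔ frattini V = ⊤ := by
      refine eq_top_iff.mpr fun w _ => ?_
      obtain ⟨b, hb, hbw⟩ := h.ge (Subgroup.mem_top (π ⟨w, hVH w.2⟩))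
      have h1 : ((b⁻¹ * ⟨w, hVH w.2⟩ : H) : G) ∈ U :=
        (hπ1 _).mp (by rw [map_mul, map_inv, hbw, inv_mul_cancel])
      obtain ⟨t, ht, htb⟩ := h1
      have hbV : (b : G) ∈ V := by
        have := mul_mem w.2 (inv_mem (hUV ⟨t, ht, htb⟩))
        simpa using this
      have e : w = ⟨b, hbV⟩ * t := Subtype.ext (by
        show (w : G) = (b : G) * V.subtype t
        rw [htb]; simp)
      rw [e]
      exact mul_mem (Subgroup.mem_sup_left ⟨hbV, hb⟩) (Subgroup.mem_sup_right ht)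
    have h2 := frattini_nongenerating key
    exact this ((h2.ge (Subgroup.mem_top (⟨v, hv⟩ : V))).2)
  have hcard : ∀ L : Subgroup (H ⧸ U.subgroupOf H), (∀ g, ∃ b ∈ L, ∃ w ∈ Wq, b * w = g) → L ≠ ⊤ →
      Nat.card L * Nat.card Wq = Nat.card (H ⧸ U.subgroupOf H) := fun L hL hne =>
    (Subgroup.isComplement'_of_disjoint_and_mul_eq_univ
      (Subgroup.disjoint_def.mpr fun {w} h1 h2 => hcompl L hL hne w h2 h1)
      (Set.eq_univ_of_forall fun g => by
        obtain ⟨b, hb, w, hw, rfl⟩ := hL g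
        exact Set.mul_mem_mul hb hw)).card_mul
  have hRAb : Rb ≤ Ab := Subgroup.map_mono fun g hg => hRA hg
  -- the two generators
  let xh : H := ⟨x, hAH hxA⟩
  let ah : H := ⟨a, hAH ha⟩
  set xb := π xh with hxb
  set yb := π ah * xb * (π ah)⁻¹ with hyb
  have hxAb : xb ∈ Ab := ⟨xh, hxA, rfl⟩
  have haAb : π ah ∈ Ab := ⟨ah, ha, rfl⟩
  letI : CommGroup Wq :=
    { (inferInstance : Group Wq) with mul_comm := fun a b => Subtype.ext (hWab a a.2 b b.2) }
  haveI : Nontrivial Wq := (Subgroup.nontrivial_iff_ne_bot Wq).mpr hWne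
  let α : A →* MulAut Wq := MulAut.conjNormal.comp (π.comp (Subgroup.inclusion hAH))
  have hgen := normalClosure_eq_top A hxA ha hA
  have hαx : α ⟨x, hxA⟩ ≠ 1 := by
    intro h1
    have hker : ∀ b : A, α b = 1 := fun b =>
      MonoidHom.mem_ker.mp (Subgroup.normalClosure_le_normal (N := α.ker)
        (Set.singleton_subset_iff.mpr h1) (hgen ▸ Subgroup.mem_top b))
    refine hWne ((Subgroup.eq_bot_iff_forall Wq).mpr fun w hw => hWR w hw ?_)
    rintro _ ⟨u, hu, rfl⟩
    have := congrArg Subtype.val (DFunLike.congr_fun (hker ⟨u, hRA hu⟩) ⟨w, hw⟩)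
    rw [MulAut.one_apply] at this
    change π u * w * (π u)⁻¹ = w at this
    rwa [mul_inv_eq_iff_eq_mul] at this
  have hbound := card_fixed_sq_lt (p := p) (q := q) hp5 (fun w => Subtype.ext (hWq _ w.2)) α
    (fun X hX => by
      rcases hirrW (X.map Wq.subtype) (Subgroup.map_subtype_le _) (by
          rintro _ ⟨b, hb, rfl⟩ _ ⟨w, hw, rfl⟩
          exact ⟨α ⟨b, hb⟩ w, hX _ w hw, rfl⟩) with h | h
      · exact Or.inl ((Subgroup.map_eq_bot_iff_of_injective X Wq.subtype_injective).mp h)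
      · refine Or.inr (eq_top_iff.mpr fun w _ => ?_)
        obtain ⟨u, hu, huw⟩ := h.ge w.2
        exact Subtype.ext huw ▸ hu)
    (x := (⟨x, hxA⟩ : A)) (Subtype.ext hxp) hgen hαx
  refine absurd hbound (not_lt.mpr ?_)
  set F := {w : Wq // α ⟨x, hxA⟩ w = w}
  have hFiff : ∀ w : Wq, α ⟨x, hxA⟩ w = w ↔ xb * (w : H ⧸ U.subgroupOf H) = w * xb := by
    intro w
    rw [Subtype.ext_iff]
    show xb * (w : H ⧸ U.subgroupOf H) * xb⁻¹ = w ↔ _
    exact mul_inv_eq_iff_eq_mul
  have hsur : ∀ w : Wq, ∃ u v : F, (u.1 : H ⧸ U.subgroupOf H) *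
      (π ah * (v.1 : H ⧸ U.subgroupOf H) * (π ah)⁻¹) = w := by
    intro w
    obtain ⟨vh, hvh, hvw⟩ := w.2
    have hvw' : π vh = (w : H ⧸ U.subgroupOf H) := hvw
    set L := Subgroup.zpowers x ⊔
      (Subgroup.zpowers x).map (MulAut.conj ((vh : G) * a)).toMonoidHom with hLd
    have hvaH : (vh : G) * a ∈ H := mul_mem vh.2 (hAH ha)
    have hLH : L ≤ H := by
      refine sup_le (Subgroup.zpowers_le.mpr (hAH hxA)) ?_
      rw [MonoidHom.map_zpowers, Subgroup.zpowers_le]
      exact H.mul_mem (H.mul_mem hvaH (hAH hxA)) (H.inv_mem hvaH)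
    set Lb := (L.subgroupOf H).map π with hLb
    have hxL : xb ∈ Lb := ⟨xh, Subgroup.mem_sup_left (Subgroup.mem_zpowers x), rfl⟩
    have hwL : (w : H ⧸ U.subgroupOf H) * yb * (w : H ⧸ U.subgroupOf H)⁻¹ ∈ Lb := by
      refine ⟨vh * (ah * xh * ah⁻¹) * vh⁻¹, ?_, by
        rw [map_mul, map_mul, map_mul, map_mul, map_inv, map_inv, hvw']⟩
      refine Subgroup.mem_sup_right ⟨x, Subgroup.mem_zpowers x, ?_⟩
      show (vh : G) * a * x * ((vh : G) * a)⁻¹ = _
      simp [xh, ah, mul_assoc]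
    have hLW : ∀ g, ∃ b ∈ Lb, ∃ u ∈ Wq, b * u = g := by
      have hAbL : Ab ≤ Lb ⊔ Wq := by
        let K := ((Lb ⊔ Wq).comap π).map H.subtype
        have hAK : A ≤ K := by
          refine hA.le.trans (sup_le (Subgroup.zpowers_le.mpr
            ⟨xh, Subgroup.mem_sup_left hxL, rfl⟩) ?_)
          rw [MonoidHom.map_zpowers, Subgroup.zpowers_le]
          refine ⟨ah * xh * ah⁻¹, ?_, rfl⟩
          show π _ ∈ Lb ⊔ Wq
          rw [map_mul, map_mul, map_inv,
            show π ah * π xh * (π ah)⁻¹ = (w : H ⧸ U.subgroupOf H)⁻¹ *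
              ((w : H ⧸ U.subgroupOf H) * yb * (w : H ⧸ U.subgroupOf H)⁻¹) * w by rw [hyb, hxb]; group]
          exact mul_mem (mul_mem (inv_mem (Subgroup.mem_sup_right w.2)) (Subgroup.mem_sup_left hwL))
            (Subgroup.mem_sup_right w.2)
        rintro _ ⟨b, hb, rfl⟩
        obtain ⟨b', hb', hbb⟩ := hAK hb
        obtain rfl : b' = b := Subtype.ext hbb
        exact hb'
      intro g
      obtain ⟨b, hb, u, hu, rfl⟩ := hsplit g
      exact Subgroup.mem_sup_of_normal_right.mp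
        (mul_mem (hAbL hb) (Subgroup.mem_sup_right hu))
    have hLne : Lb ≠ ⊤ := fun htop => hVA (by
      have key : (V ⊓ L).subgroupOf V ⊔ frattini V = ⊤ := by
        refine eq_top_iff.mpr fun v _ => ?_
        obtain ⟨b, hb, hbw⟩ := htop.ge (Subgroup.mem_top (π ⟨v, hVH v.2⟩))
        obtain ⟨t, ht, htb⟩ := (hπ1 (b⁻¹ * ⟨v, hVH v.2⟩)).mp
          (by rw [map_mul, map_inv, hbw, inv_mul_cancel])
        have hbV : (b : G) ∈ V := by
          have := mul_mem v.2 (inv_mem (hUV ⟨t, ht, htb⟩))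
          simpa using this
        have e : v = ⟨b, hbV⟩ * t := Subtype.ext (by
          show (v : G) = (b : G) * V.subtype t
          rw [htb]; simp)
        rw [e]
        exact mul_mem (Subgroup.mem_sup_left ⟨hbV, hb⟩) (Subgroup.mem_sup_right ht)
      have h2 := frattini_nongenerating key
      have hVL : V ≤ L := fun v hv => (h2.ge (Subgroup.mem_top (⟨v, hv⟩ : V))).2
      have hAL : A ≤ L := fun b hb => by
        obtain ⟨l, hl, hlb⟩ := htop.ge (Subgroup.mem_top (π ⟨b, hAH hb⟩))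
        have h3 : ((l⁻¹ * ⟨b, hAH hb⟩ : H) : G) ∈ U :=
          (hπ1 _).mp (by rw [map_mul, map_inv, hlb, inv_mul_cancel])
        have h4 := mul_mem (show (l : G) ∈ L from hl) (hVL (hUV h3))
        simpa using h4
      haveI : Group.IsSolvable V := by
        haveI := hV.isNilpotent
        infer_instance
      have hsolH : Group.IsSolvable H := by
        refine solvable_of_ker_le_range (Subgroup.inclusion hVH) (QuotientGroup.mk' (V.subgroupOf H))
          ?_ (hG' := inferInstance) (hG'' := ?_)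
        · rw [QuotientGroup.ker_mk', Subgroup.inclusion_range]
        · refine solvable_of_surjective (f := (QuotientGroup.mk' (V.subgroupOf H)).comp
            (Subgroup.inclusion hAH)) ?_
          intro g
          obtain ⟨⟨g, hg⟩, rfl⟩ := QuotientGroup.mk'_surjective _ g
          obtain ⟨v, hv, b, hb, rfl⟩ := Coprime.exists_mul_of_mem_sup hAV
            (show g ∈ V ⊔ A by rwa [sup_comm])
          refine ⟨⟨b, hb⟩, ?_⟩
          rw [MonoidHom.comp_apply, QuotientGroup.mk'_apply, QuotientGroup.mk'_apply,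
            QuotientGroup.eq, Subgroup.mem_subgroupOf]
          show b⁻¹ * (v * b) ∈ V
          rw [← mul_assoc]
          exact (Subgroup.mem_normalizer_iff''.mp (hAV hb) v).mp hv
      have hLsol : Group.IsSolvable L :=
        solvable_of_solvable_injective (f := Subgroup.inclusion hLH) (Subgroup.inclusion_injective hLH)
      have hLA := hmax L hAL hLsol ⟨(vh : G) * a, mul_mem (hVL (show (vh : G) ∈ V from hvh)) (hAL ha), rfl⟩
      exact hVL.trans hLA.le)
    -- Sylow's theorem in `Rb Wq`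
    have hAbW : ∀ w ∈ Wq, w ∈ Ab → w = 1 := hcompl Ab hsplit hAbne
    have hRbr : IsPGroup r Rb := (hRr.comap_of_injective H.subtype H.subtype_injective).map π
    have hRn' : ∀ g ∈ Ab, ∀ u ∈ Rb, g * u * g⁻¹ ∈ Rb := by
      rintro _ ⟨g, hg, rfl⟩ _ ⟨u, hu, rfl⟩
      exact ⟨g * u * g⁻¹, hRn g hg u hu, by rw [map_mul, map_mul, map_inv]⟩
    set M := Rb ⊔ Wq with hM
    have hMn : M.Normal := ⟨fun m hm g => by
      obtain ⟨u, hu, v, hv, rfl⟩ := Subgroup.mem_sup_of_normal_right.mp hm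
      obtain ⟨b, hb, z, hz, rfl⟩ := hsplit g
      have hb' : b * z * u * (b * z)⁻¹ ∈ M := by
        rw [show b * z * u * (b * z)⁻¹ = (b * z * b⁻¹) * (b * u * b⁻¹) * (b * z * b⁻¹)⁻¹ by group]
        exact M.mul_mem (M.mul_mem (Subgroup.mem_sup_right (Subgroup.Normal.conj_mem inferInstance z hz b))
          (Subgroup.mem_sup_left (hRn' b hb u hu)))
          (M.inv_mem (Subgroup.mem_sup_right (Subgroup.Normal.conj_mem inferInstance z hz b)))
      rw [show b * z * (u * v) * (b * z)⁻¹ = (b * z * u * (b * z)⁻¹) * (b * z * v * (b * z)⁻¹) by group]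
      exact mul_mem hb' (Subgroup.mem_sup_right (Subgroup.Normal.conj_mem inferInstance v hv _))⟩
    have hWp : IsPGroup q Wq := fun w => ⟨1, Subtype.ext (by
      rw [pow_one, Subgroup.coe_pow, OneMemClass.coe_one]; exact hWq _ w.2)⟩
    obtain ⟨i, hi⟩ := IsPGroup.iff_card.mp hRbr
    obtain ⟨j, hj⟩ := IsPGroup.iff_card.mp hWp
    have hqr' : (r ^ i).Coprime (q ^ j) :=
      Nat.Coprime.pow _ _ ((Nat.coprime_primes Fact.out Fact.out).mpr hqr)
    have hnd : ¬ r ∣ q ^ j := fun hd => hqr ((Nat.prime_dvd_prime_iff_eq Fact.out Fact.out).mp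
      ((Fact.out : r.Prime).dvd_of_dvd_pow hd))
    have hMc : Nat.card Rb * Nat.card Wq = Nat.card M := by
      have hd : Disjoint (Rb.subgroupOf M) (Wq.subgroupOf M) := by
        rw [disjoint_iff, Subgroup.eq_bot_iff_forall]
        exact fun m hm => Subtype.ext (hAbW _ hm.2 (hRAb hm.1))
      have h1 := (Subgroup.isComplement'_of_disjoint_and_mul_eq_univ hd (Set.eq_univ_of_forall
        fun m => by
          obtain ⟨u, hu, v, hv, huv⟩ := Subgroup.mem_sup_of_normal_right.mp m.2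
          exact Set.mem_mul.mpr ⟨⟨u, Subgroup.mem_sup_left hu⟩, hu, ⟨v, Subgroup.mem_sup_right hv⟩, hv,
            Subtype.ext huv⟩)).card_mul
      rwa [Nat.card_congr (Subgroup.subgroupOfEquivOfLe (show Rb ≤ M from le_sup_left)).toEquiv,
        Nat.card_congr (Subgroup.subgroupOfEquivOfLe (show Wq ≤ M from le_sup_right)).toEquiv] at h1
    have hLc := hcard Lb hLW hLne
    have hAc := hcard Ab hsplit hAbne
    set S := Lb ⊓ M with hS
    have hSc : Nat.card S = r ^ i := by
      have hd : Disjoint (S.subgroupOf M) (Wq.subgroupOf M) := by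
        rw [disjoint_iff, Subgroup.eq_bot_iff_forall]
        exact fun m hm => Subtype.ext (hcompl Lb hLW hLne _ hm.2 hm.1.1)
      have h1 := (Subgroup.isComplement'_of_disjoint_and_mul_eq_univ hd (Set.eq_univ_of_forall
        fun m => by
          obtain ⟨l, hl, u, hu, hlu⟩ := hLW (m : H ⧸ U.subgroupOf H)
          have hlM : l ∈ M := by
            rw [eq_mul_inv_of_mul_eq hlu]
            exact M.mul_mem m.2 (M.inv_mem (Subgroup.mem_sup_right hu))
          exact Set.mem_mul.mpr ⟨⟨l, hlM⟩, ⟨hl, hlM⟩, ⟨u, Subgroup.mem_sup_right hu⟩, hu,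
            Subtype.ext hlu⟩)).card_mul
      rw [Nat.card_congr (Subgroup.subgroupOfEquivOfLe (show S ≤ M from inf_le_right)).toEquiv,
        Nat.card_congr (Subgroup.subgroupOfEquivOfLe (show Wq ≤ M from le_sup_right)).toEquiv,
        ← hMc, hi] at h1
      exact Nat.eq_of_mul_eq_mul_right Nat.card_pos h1
    have hidx : ∀ T : Subgroup (H ⧸ U.subgroupOf H), T ≤ M → Nat.card T = r ^ i →
        ¬ r ∣ (T.subgroupOf M).index := by
      intro T hT hTc
      have h1 := Subgroup.card_mul_index (T.subgroupOf M)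
      rw [Nat.card_congr (Subgroup.subgroupOfEquivOfLe hT).toEquiv, hTc, ← hMc, hi, hj] at h1
      rw [Nat.eq_of_mul_eq_mul_left (pow_pos (Fact.out : r.Prime).pos i) h1]
      exact hnd
    have hRM : IsPGroup r (Rb.subgroupOf M) :=
      hRbr.comap_of_injective M.subtype M.subtype_injective
    have hSM : IsPGroup r (S.subgroupOf M) :=
      (IsPGroup.of_card hSc).comap_of_injective M.subtype M.subtype_injective
    obtain ⟨m, hm⟩ := MulAction.exists_smul_eq M (hRM.toSylow (hidx Rb le_sup_left (hi)))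
      (hSM.toSylow (hidx S inf_le_right hSc))
    obtain ⟨z, hz, u, hu, hzu⟩ := Subgroup.mem_sup_of_normal_left.mp
      (show (m : H ⧸ U.subgroupOf H) ∈ Wq ⊔ Rb by rw [sup_comm]; exact m.2)
    have hSz : ∀ b, b ∈ S ↔ z⁻¹ * b * z ∈ Rb := by
      intro b
      have hsub := congrArg (fun T : Sylow r M => (T : Subgroup M)) hm
      constructor
      · intro hb
        obtain ⟨c, hc, hce⟩ := hsub.ge (show (⟨b, hb.2⟩ : M) ∈ S.subgroupOf M from hb)
        have e : b = z * (u * (c : H ⧸ U.subgroupOf H) * u⁻¹) * z⁻¹ := by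
          have h2 : (m : H ⧸ U.subgroupOf H) * c * (m : H ⧸ U.subgroupOf H)⁻¹ = b :=
            congrArg Subtype.val hce
          rw [← h2, ← hzu]
          group
        rw [e, show z⁻¹ * (z * (u * (c : H ⧸ U.subgroupOf H) * u⁻¹) * z⁻¹) * z =
          u * (c : H ⧸ U.subgroupOf H) * u⁻¹ by group]
        exact mul_mem (mul_mem hu hc) (inv_mem hu)
      · intro hb
        set t := z⁻¹ * b * z
        have hc : u⁻¹ * t * u ∈ Rb := mul_mem (mul_mem (inv_mem hu) hb) hu
        have h3 : (m * ⟨_, Subgroup.mem_sup_left hc⟩ * m⁻¹ : M) ∈ S.subgroupOf M :=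
          hsub.le ⟨⟨_, Subgroup.mem_sup_left hc⟩, hc, rfl⟩
        have e : ((m * ⟨_, Subgroup.mem_sup_left hc⟩ * m⁻¹ : M) : H ⧸ U.subgroupOf H) = b := by
          show (m : H ⧸ U.subgroupOf H) * (u⁻¹ * t * u) * (m : H ⧸ U.subgroupOf H)⁻¹ = b
          rw [← hzu]
          simp [t, mul_assoc]
        rwa [Subgroup.mem_subgroupOf, e] at h3
    have hLA : ∀ l ∈ Lb, z⁻¹ * l * z ∈ Ab := by
      intro l hl
      obtain ⟨b, hb, v, hv, he⟩ := hsplit (z⁻¹ * l * z)
      have hnorm : ∀ t ∈ Rb, (z⁻¹ * l * z) * t * (z⁻¹ * l * z)⁻¹ ∈ Rb := by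
        intro t ht
        have h1 : z * t * z⁻¹ ∈ S := (hSz _).mpr (by simpa [mul_assoc] using ht)
        have h2 : l * (z * t * z⁻¹) * l⁻¹ ∈ S :=
          ⟨Lb.mul_mem (Lb.mul_mem hl h1.1) (Lb.inv_mem hl), hMn.conj_mem _ h1.2 l⟩
        have h3 := (hSz _).mp h2
        simpa [mul_assoc] using h3
      have hv1 : v = 1 := hWR v hv fun t ht => by
        have h1 : v * t * v⁻¹ ∈ Rb := by
          have h0 := hnorm t ht
          rw [← he] at h0
          have h0' := hRn' b⁻¹ (inv_mem hb) _ h0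
          simpa [mul_assoc] using h0'
        have h2 : v * t * v⁻¹ * t⁻¹ ∈ Rb := mul_mem h1 (inv_mem ht)
        have h3 : v * t * v⁻¹ * t⁻¹ ∈ Wq := by
          rw [show v * t * v⁻¹ * t⁻¹ = v * (t * v⁻¹ * t⁻¹) by group]
          exact mul_mem hv (Subgroup.Normal.conj_mem inferInstance _ (inv_mem hv) t)
        have h4 := hAbW _ h3 (hRAb h2)
        rw [mul_inv_eq_one, mul_inv_eq_iff_eq_mul] at h4
        exact h4.symm
      rw [hv1, mul_one] at he
      rwa [← he]
    have hzx : xb * z = z * xb := by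
      have h2 : z⁻¹ * (xb * z * xb⁻¹) ∈ Ab := by
        rw [show z⁻¹ * (xb * z * xb⁻¹) = z⁻¹ * xb * z * xb⁻¹ by group]
        exact mul_mem (hLA xb hxL) (inv_mem hxAb)
      have h3 := hAbW _ (mul_mem (inv_mem hz) (Subgroup.Normal.conj_mem inferInstance z hz xb)) h2
      rw [inv_mul_eq_one, eq_comm, mul_inv_eq_iff_eq_mul] at h3
      exact h3
    -- the conjugating element can be replaced by `z`
    set s := z⁻¹ * (w : H ⧸ U.subgroupOf H) with hs_def
    have hsW : s ∈ Wq := mul_mem (inv_mem hz) w.2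
    have hsy : yb * s = s * yb := by
      have h1 := hLA _ hwL
      have hyA : yb ∈ Ab := mul_mem (mul_mem haAb hxAb) (inv_mem haAb)
      have h2 : s * yb * s⁻¹ * yb⁻¹ ∈ Ab := by
        refine mul_mem ?_ (inv_mem hyA)
        rw [show s * yb * s⁻¹ = z⁻¹ * ((w : H ⧸ U.subgroupOf H) * yb *
          (w : H ⧸ U.subgroupOf H)⁻¹) * z by rw [hs_def]; group]
        exact h1
      have h3 : s * yb * s⁻¹ * yb⁻¹ ∈ Wq := by
        rw [show s * yb * s⁻¹ * yb⁻¹ = s * (yb * s⁻¹ * yb⁻¹) by group]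
        exact mul_mem hsW (Subgroup.Normal.conj_mem inferInstance _ (inv_mem hsW) yb)
      have h4 := hAbW _ h3 h2
      rw [mul_inv_eq_one, mul_inv_eq_iff_eq_mul] at h4
      exact h4.symm
    refine ⟨⟨⟨z, hz⟩, (hFiff _).mpr hzx⟩, ⟨⟨(π ah)⁻¹ * s * π ah, by
      simpa using Subgroup.Normal.conj_mem (inferInstance : Wq.Normal) s hsW (π ah)⁻¹⟩,
      (hFiff _).mpr ?_⟩, ?_⟩
    · show xb * ((π ah)⁻¹ * s * π ah) = (π ah)⁻¹ * s * π ah * xb
      calc xb * ((π ah)⁻¹ * s * π ah) = (π ah)⁻¹ * (yb * s) * π ah := by rw [hyb]; group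
        _ = (π ah)⁻¹ * (s * yb) * π ah := by rw [hsy]
        _ = _ := by rw [hyb]; group
    · show z * (π ah * ((π ah)⁻¹ * s * π ah) * (π ah)⁻¹) = w
      rw [hs_def]
      group
  rw [← Nat.card_prod]
  refine Nat.card_le_card_of_surjective (fun uv : F × F => uv.1.1 *
    ⟨π ah * (uv.2.1 : H ⧸ U.subgroupOf H) * (π ah)⁻¹,
      Subgroup.Normal.conj_mem inferInstance _ uv.2.1.2 _⟩) fun w => ?_
  obtain ⟨u, v, h⟩ := hsur w
  exact ⟨(u, v), Subtype.ext h⟩

end Cfsg.Agent.Lib.PLocal.FixHalf
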