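import Cfsg.Agent.Lib.PLocal.TwoMetacyclic
import Cfsg.Agent.Lib.PGroups.MaximalClass
import Cfsg.Agent.Lib.RankTwo.MaxClass
import Cfsg.Agent.Lib.RankTwo.TwoMaxClass
import Cfsg.Prelude.Def_CaseTheorems

/-!
Homocyclic, four- and quaternion subgroups of metacyclic `2`-groups.
-/

set_option autoImplicit false
set_option linter.unusedSectionVars false
set_option linter.style.haveILetI false

namespace Cfsg.Agent.Lib.PLocal.TwoMetacyclicGroup

open TwoMetacyclic
open scoped commutatorElement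

/-- dihedral, semidihedral or generalized quaternion -/
def SmallList (P : Type*) [Group P] : Prop :=
  (∃ m : ℕ, Nonempty (P ≃* DihedralGroup m)) ∨ (∃ m : ℕ, Nonempty (P ≃* QuaternionGroup m)) ∨
    Cfsg.IsQuasiDihedral P

theorem isMetacyclic_of_injective {A B : Type*} [Group A] [Group B] (f : A →* B) (hf : Function.Injective f)
    (h : Cfsg.IsMetacyclic B) : Cfsg.IsMetacyclic A := by
  obtain ⟨N, hN, hNc, hQc⟩ := h
  refine ⟨N.comap f, inferInstance, ?_, ?_⟩
  · let g : N.comap f →* N := (f.comp (N.comap f).subtype).codRestrict N fun x => x.2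
    exact isCyclic_of_injective g fun x y h => Subtype.ext (hf (congrArg Subtype.val h))
  · let g : A ⧸ N.comap f →* B ⧸ N := QuotientGroup.map (N.comap f) N f le_rfl
    refine isCyclic_of_injective g ((MonoidHom.ker_eq_bot_iff g).1 ?_)
    refine eq_bot_iff.2 fun x hx => ?_
    obtain ⟨u, rfl⟩ := QuotientGroup.mk_surjective x
    have h1 : f u ∈ N := (QuotientGroup.eq_one_iff _).1 hx
    exact (QuotientGroup.eq_one_iff u).2 h1

variable {P : Type*} [Group P] [Finite P]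

theorem smallList_of_centralizer (hP : IsPGroup 2 P) {x : P}
    (hx : Nat.card (Subgroup.centralizer ({x} : Set P)) = 4) (hna : ∃ u : P, ¬ Commute u x) : SmallList P := by
  have := hP.isNilpotent
  obtain ⟨n, hn⟩ := IsPGroup.iff_card.1 hP
  have h3 : 3 ≤ n := by
    by_contra hlt
    have h1 : Nat.card P ≤ 4 := by rw [hn]; exact (Nat.pow_le_pow_right two_pos (show n ≤ 2 by omega))
    have htop : Subgroup.centralizer ({x} : Set P) = ⊤ :=
      Subgroup.eq_top_of_card_eq _ (le_antisymm (Subgroup.card_le_card_group _) (hx ▸ h1))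
    obtain ⟨u, hu⟩ := hna
    exact hu (Subgroup.mem_centralizer_singleton_iff.1 (htop ▸ Subgroup.mem_top u))
  haveI : Fact (Nat.Prime 2) := ⟨Nat.prime_two⟩
  have hne := RankTwo.lowerCentralSeries_ne_bot_of_centralizer n hn x (by rw [hx]; norm_num)
  have hc : Group.nilpotencyClass P = n - 1 := by
    refine le_antisymm (Subgroup.lowerCentralSeries_eq_bot_iff_nilpotencyClass_le.1
      (RankTwo.lowerCentralSeries_eq_bot (p := 2) (by omega) hn)) ?_
    by_contra hlt
    exact hne (Subgroup.lowerCentralSeries_eq_bot_iff_nilpotencyClass_le.2 (by omega))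
  rcases PGroups.classify_maximal_class hP n hn h3 hc with ⟨k, e⟩ | ⟨k, hk, a, b, ha, hb, hab⟩ | ⟨k, e⟩
  · exact Or.inl ⟨_, e⟩
  · exact Or.inr (Or.inr ⟨k + 3, by omega, hk, a, b, ha, hb, by simpa using hab⟩)
  · exact Or.inr (Or.inl ⟨_, e⟩)

/-- a self-centralizing four-subgroup -/
theorem smallList_of_four (hP : IsPGroup 2 P) {Q : Subgroup P} (hQc : Nat.card Q = 4)
    (hab : ∀ u ∈ Q, ∀ v ∈ Q, Commute u v) (hC : Subgroup.centralizer (Q : Set P) ≤ Q)
    {g q : P} (hq : q ∈ Q) (hgq : ¬ Commute g q) : SmallList P := by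
  refine smallList_of_centralizer hP (x := q) ?_ ⟨g, hgq⟩
  haveI : Nontrivial P := ⟨⟨g, 1, fun e => hgq (e ▸ Commute.one_left q)⟩⟩
  haveI : Fact (Nat.Prime 2) := ⟨Nat.prime_two⟩
  haveI := hP.center_nontrivial
  obtain ⟨z₀, hz₀⟩ := exists_ne (1 : Subgroup.center P)
  set z : P := (z₀ : P) with hz
  have hzc : ∀ u, Commute u z := fun u => Subgroup.mem_center_iff.1 z₀.2 u
  have hzQ : z ∈ Q := hC (Subgroup.mem_centralizer_iff.2 fun u _ => (hzc u).eq)
  have hle : Subgroup.centralizer ({q} : Set P) ≤ Q := fun u hu => hC (Subgroup.mem_centralizer_iff.2 fun v hv => by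
    have hgen : Q ≤ Subgroup.centralizer ({u} : Set P) := by
      have hqu : q ∈ Subgroup.centralizer ({u} : Set P) :=
        Subgroup.mem_centralizer_singleton_iff.2 (Subgroup.mem_centralizer_singleton_iff.1 hu).symm
      have hzu : z ∈ Subgroup.centralizer ({u} : Set P) := Subgroup.mem_centralizer_singleton_iff.2 (hzc u).eq.symm
      have hT : Subgroup.zpowers z ⊔ Subgroup.zpowers q = Q := by
        have hle' : Subgroup.zpowers z ⊔ Subgroup.zpowers q ≤ Q :=
          sup_le (Subgroup.zpowers_le.2 hzQ) (Subgroup.zpowers_le.2 hq)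
        refine Subgroup.eq_of_le_of_card_ge hle' ?_
        obtain ⟨i, hi, hi'⟩ := (Nat.dvd_prime_pow Nat.prime_two).1
          (show Nat.card _ ∣ 2 ^ 2 from hQc ▸ Subgroup.card_dvd_of_le hle')
        rw [hi', hQc]
        refine le_trans (by norm_num) (Nat.pow_le_pow_right two_pos (show 2 ≤ i from ?_))
        by_contra hlt
        set T := Subgroup.zpowers z ⊔ Subgroup.zpowers q with hT'
        have h1 : Subgroup.zpowers z = T := Subgroup.eq_of_le_of_card_ge le_sup_left (by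
          rw [hi']
          refine le_trans (Nat.pow_le_pow_right two_pos (show i ≤ 1 by omega)) ?_
          rw [pow_one]
          exact Finite.one_lt_card_iff_nontrivial.2 ((Subgroup.nontrivial_iff_ne_bot _).2
            (Subgroup.zpowers_ne_bot.2 fun e => hz₀ (Subtype.ext e))))
        obtain ⟨j, hj⟩ := Subgroup.mem_zpowers_iff.1
          (h1 ▸ Subgroup.mem_sup_right (Subgroup.mem_zpowers q) : q ∈ Subgroup.zpowers z)
        exact hgq (hj ▸ (hzc g).zpow_right j)
      rw [← hT]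
      exact sup_le (Subgroup.zpowers_le.2 hzu) (Subgroup.zpowers_le.2 hqu)
    exact Subgroup.mem_centralizer_singleton_iff.1 (hgen hv))
  rw [le_antisymm hle fun u hu => Subgroup.mem_centralizer_singleton_iff.2 (hab u hu q hq).eq, hQc]

theorem mem_zpowers_of_pow_eq_one {N : Subgroup P} [IsCyclic N] {c u : P} (hc : c ∈ N) (hu : u ∈ N)
    (h : u ^ orderOf c = 1) : u ∈ Subgroup.zpowers c := by
  letI : CommGroup N := IsCyclic.commGroup
  set T := Subgroup.zpowers (⟨c, hc⟩ : N) ⊔ Subgroup.zpowers (⟨u, hu⟩ : N) with hT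
  haveI : IsCyclic T := Subgroup.isCyclic T
  obtain ⟨t, ht⟩ := IsCyclic.exists_generator (α := T)
  have hTle : T ≤ (powMonoidHom (α := N) (orderOf c)).ker := by
    rw [hT]
    refine sup_le (Subgroup.zpowers_le.2 ?_) (Subgroup.zpowers_le.2 ?_) <;> rw [MonoidHom.mem_ker] <;>
      refine Subtype.ext ?_
    · exact pow_orderOf_eq_one c
    · exact h
  have e : Subgroup.zpowers (⟨c, hc⟩ : N) = T := by
    refine Subgroup.eq_of_le_of_card_ge le_sup_left ?_
    rw [Nat.card_zpowers, ← Subgroup.orderOf_coe (a := (⟨c, hc⟩ : N)),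
      ← orderOf_eq_card_of_forall_mem_zpowers ht]
    refine Nat.le_of_dvd (orderOf_pos c) (orderOf_dvd_of_pow_eq_one (Subtype.ext ?_))
    exact (MonoidHom.mem_ker.1 (hTle t.2) :)
  obtain ⟨i, hi⟩ := Subgroup.mem_zpowers_iff.1
    (e ▸ Subgroup.mem_sup_right (Subgroup.mem_zpowers _) : (⟨u, hu⟩ : N) ∈ Subgroup.zpowers (⟨c, hc⟩ : N))
  exact ⟨i, congrArg Subtype.val hi⟩

theorem pow_four_inverse {v j : P} (hv : orderOf v = 4) (hmem : j * v * j⁻¹ ∈ Subgroup.zpowers v)
    (hne : j * v * j⁻¹ ≠ v) : j * v * j⁻¹ = v⁻¹ := by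
  obtain ⟨k, hk⟩ := (isOfFinOrder_of_finite v).mem_powers_iff_mem_zpowers.2 hmem
  simp only at hk
  rw [← pow_mod_orderOf, hv] at hk
  have hord : orderOf (j * v * j⁻¹) = 4 := by
    rw [← hv]; exact (MulAut.conj j).orderOf_eq v
  have hlt : k % 4 < 4 := Nat.mod_lt _ (by norm_num)
  interval_cases hr : k % 4
  · rw [← hk, pow_zero, orderOf_one] at hord; norm_num at hord
  · exact absurd (by rw [← hk, pow_one]) hne
  · rw [← hk, orderOf_pow, hv] at hord; norm_num at hord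
  · rw [← hk]
    exact eq_inv_of_mul_eq_one_left (by rw [← pow_succ, show 3 + 1 = orderOf v by omega]; exact pow_orderOf_eq_one v)

/-- a quaternion subgroup of order eight -/
theorem smallList_of_quaternion (hP : IsPGroup 2 P) (hm : Cfsg.IsMetacyclic P) {Q : Subgroup P}
    (hQ8 : Nat.card Q = 8) (hna : ∃ a b : Q, ¬ Commute a b)
    (hinv : ∀ q w : Q, q ^ 2 = 1 → Commute q w) : SmallList P := by
  obtain ⟨N, hN, hNc, hPc⟩ := hm
  obtain ⟨h₀, hh₀⟩ := hPc.exists_generator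
  obtain ⟨h, rfl⟩ := QuotientGroup.mk_surjective h₀
  set M := N.subgroupOf Q with hM
  have hMc : IsCyclic M := isCyclic_of_injective
    ((Q.subtype.comp M.subtype).codRestrict N fun x => x.2)
    fun x y e => Subtype.ext (Subtype.ext (congrArg (fun v : N => (v : P)) e))
  have hQMc : IsCyclic (Q ⧸ M) := by
    let f : Q ⧸ M →* P ⧸ N := QuotientGroup.map M N Q.subtype le_rfl
    refine isCyclic_of_injective f ((MonoidHom.ker_eq_bot_iff f).1 (eq_bot_iff.2 fun x hx => ?_))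
    obtain ⟨u, rfl⟩ := QuotientGroup.mk_surjective x
    have h1 : (u : P) ∈ N := (QuotientGroup.eq_one_iff _).1 hx
    exact (QuotientGroup.eq_one_iff u).2 h1
  obtain ⟨a₁, b₁, hab₁⟩ := hna
  have hcard : Nat.card M = 4 := by
    obtain ⟨i, hi, hi'⟩ := (Nat.dvd_prime_pow Nat.prime_two).1
      (show Nat.card M ∣ 2 ^ 3 by rw [show (2 : ℕ) ^ 3 = Nat.card Q by rw [hQ8]; norm_num]; exact Subgroup.card_subgroup_dvd_card M)
    rcases (show i ≤ 1 ∨ i = 2 ∨ i = 3 by omega) with h1 | h1 | h1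
    · exfalso
      refine hab₁ (commutative_of_cyclic_center_quotient (QuotientGroup.mk' M) (fun u hu => ?_) a₁ b₁)
      rw [QuotientGroup.ker_mk'] at hu
      refine Subgroup.mem_center_iff.2 fun w => ((hinv u w ?_).eq).symm
      have h2 : (⟨u, hu⟩ : M) ^ 2 = 1 := orderOf_dvd_iff_pow_eq_one.1
        ((orderOf_dvd_natCard _).trans (hi' ▸ (pow_dvd_pow 2 h1).trans (by rw [pow_one])))
      exact congrArg Subtype.val h2
    · rw [hi', h1]; norm_num
    · exfalso
      refine hab₁ ?_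
      have htop : M = ⊤ := Subgroup.eq_top_of_card_eq _ (by rw [hi', h1, hQ8]; norm_num)
      haveI := hMc
      exact congrArg Subtype.val (IsCyclic.isMulCommutative.is_comm.comm
        (⟨a₁, htop ▸ Subgroup.mem_top a₁⟩ : M) ⟨b₁, htop ▸ Subgroup.mem_top b₁⟩)
  obtain ⟨v₀, hv₀⟩ := hMc.exists_generator
  set v : P := ((v₀ : Q) : P) with hv
  have hvo : orderOf v = 4 := by
    rw [hv, Subgroup.orderOf_coe, Subgroup.orderOf_coe, orderOf_eq_card_of_forall_mem_zpowers hv₀, hcard]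
  have hMv : ∀ u : Q, (u : P) ∈ N → (u : P) ∈ Subgroup.zpowers v := fun u hu => by
    obtain ⟨i, hi⟩ := Subgroup.mem_zpowers_iff.1 (hv₀ ⟨u, hu⟩)
    exact ⟨i, congrArg (fun w : M => ((w : Q) : P)) hi⟩
  have hMne : M ≠ ⊤ := fun e => by
    rw [e, Subgroup.card_top, hQ8] at hcard; norm_num at hcard
  obtain ⟨j₀, -, hj₀⟩ := SetLike.exists_of_lt (lt_top_iff_ne_top.2 hMne)
  set j : P := (j₀ : P) with hj
  have hjN : j ∉ N := hj₀
  have hMn : M.Normal := inferInstance
  have hjv : j * v * j⁻¹ = v⁻¹ := by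
    refine pow_four_inverse hvo (hMv ((j₀ * v₀ * j₀⁻¹ : Q)) (hMn.conj_mem _ v₀.2 j₀)) fun e => ?_
    refine hab₁ ?_
    have hcom : Commute j₀ (v₀ : Q) := Subtype.ext (mul_inv_eq_iff_eq_mul.1 e)
    have hgen : ∀ u : Q, u ∈ Subgroup.zpowers (v₀ : Q) ⊔ Subgroup.zpowers j₀ := by
      intro u
      have htop : Subgroup.zpowers (v₀ : Q) ⊔ Subgroup.zpowers j₀ = ⊤ := by
        refine Subgroup.eq_top_of_card_eq _ ?_
        have hlt : M < Subgroup.zpowers (v₀ : Q) ⊔ Subgroup.zpowers j₀ := by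
          refine lt_of_le_of_ne (fun w hw => Subgroup.mem_sup_left ?_) fun e' =>
            hj₀ (e' ▸ Subgroup.mem_sup_right (Subgroup.mem_zpowers j₀))
          obtain ⟨i, hi⟩ := Subgroup.mem_zpowers_iff.1 (hv₀ ⟨w, hw⟩)
          exact ⟨i, congrArg Subtype.val hi⟩
        obtain ⟨i, hi, hi'⟩ := (Nat.dvd_prime_pow Nat.prime_two).1
          (show Nat.card _ ∣ 2 ^ 3 from hQ8 ▸ Subgroup.card_subgroup_dvd_card
            (Subgroup.zpowers (v₀ : Q) ⊔ Subgroup.zpowers j₀))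
        rw [hi', hQ8]
        by_contra hne
        refine hlt.ne (Subgroup.eq_of_le_of_card_ge hlt.le ?_)
        rw [hi', hcard]
        exact (Nat.pow_le_pow_right two_pos (show i ≤ 2 by
          by_contra hi2; exact hne (by rw [show i = 3 by omega]; norm_num))).trans_eq (by norm_num)
      rw [htop]; trivial
    have hcl : ∀ u : Q, Commute (v₀ : Q) u ∧ Commute j₀ u := by
      intro u
      have h1 : Subgroup.zpowers (v₀ : Q) ⊔ Subgroup.zpowers j₀ ≤
          Subgroup.centralizer ({(v₀ : Q)} : Set Q) ⊓ Subgroup.centralizer ({j₀} : Set Q) := by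
        refine sup_le (Subgroup.zpowers_le.2 ⟨?_, ?_⟩) (Subgroup.zpowers_le.2 ⟨?_, ?_⟩) <;>
          refine Subgroup.mem_centralizer_singleton_iff.2 ?_
        · rfl
        · exact hcom.symm.eq
        · exact hcom.eq
        · rfl
      exact ⟨(Subgroup.mem_centralizer_singleton_iff.1 (h1 (hgen u)).1).symm,
        (Subgroup.mem_centralizer_singleton_iff.1 (h1 (hgen u)).2).symm⟩
    have h2 : Subgroup.zpowers (v₀ : Q) ⊔ Subgroup.zpowers j₀ ≤ Subgroup.center Q :=
      sup_le (Subgroup.zpowers_le.2 (Subgroup.mem_center_iff.2 fun w => (hcl w).1.eq.symm))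
        (Subgroup.zpowers_le.2 (Subgroup.mem_center_iff.2 fun w => (hcl w).2.eq.symm))
    exact (Subgroup.mem_center_iff.1 (h2 (hgen a₁)) b₁).symm
  have hj2 : j * j ∈ N := by
    have hidx : Nat.card (Q ⧸ M) = 2 := by
      have h1 := Subgroup.card_eq_card_quotient_mul_card_subgroup M
      rw [hQ8, hcard] at h1; omega
    have h2 : ((j₀ * j₀ : Q) : Q ⧸ M) = 1 := by
      rw [QuotientGroup.mk_mul, ← pow_two, ← hidx]; exact pow_card_eq_one'
    exact ((QuotientGroup.eq_one_iff _).1 h2 :)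
  -- the square of `j` is the involution of `⟨v⟩`
  have hz : j * j = v ^ 2 := by
    obtain ⟨k, hk⟩ := (isOfFinOrder_of_finite v).mem_powers_iff_mem_zpowers.2 (hMv (j₀ * j₀) hj2)
    simp only [Subgroup.coe_mul, ← hj] at hk
    rw [← pow_mod_orderOf, hvo] at hk
    have hfix : j * (j * j) * j⁻¹ = j * j := by group
    rw [← hk, ← conj_pow, hjv, inv_pow] at hfix
    have hne1 : j * j ≠ 1 := fun e => by
      have h1 := hinv j₀ v₀ (by rw [pow_two]; exact Subtype.ext e)
      have h2 : j * v * j⁻¹ = v := by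
        rw [show j * v = v * j from congrArg Subtype.val h1.eq, mul_inv_cancel_right]
      rw [hjv] at h2
      have h3 : v ^ 2 = 1 := by rw [pow_two]; exact inv_eq_iff_mul_eq_one.1 h2
      have := Nat.le_of_dvd two_pos (hvo ▸ orderOf_dvd_of_pow_eq_one h3)
      omega
    have h4 : v ^ (k % 4 + k % 4) = 1 := by rw [pow_add]; exact inv_eq_iff_mul_eq_one.1 hfix
    have h5 : 4 ∣ k % 4 + k % 4 := by have := orderOf_dvd_of_pow_eq_one h4; rwa [hvo] at this
    rcases (show k % 4 = 0 ∨ k % 4 = 2 by omega) with e | e <;> rw [e] at hk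
    · exact absurd (by rw [← hk, pow_zero]) hne1
    · exact hk.symm
  -- the cyclic normal subgroup
  obtain ⟨a₀, ha₀⟩ := hNc.exists_generator
  have hNcomm : ∀ u ∈ N, ∀ w ∈ N, Commute u w := fun u hu w hw =>
    congrArg Subtype.val ((IsCyclic.isMulCommutative (α := N)).is_comm.comm ⟨u, hu⟩ ⟨w, hw⟩)
  have hvN : v ∈ N := v₀.2
  haveI := hNc
  have hsub4 : ∀ u ∈ N, orderOf u = 4 → u ∈ Subgroup.zpowers v := fun u hu huo =>
    mem_zpowers_of_pow_eq_one hvN hu (by rw [hvo, ← huo]; exact pow_orderOf_eq_one u)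
  obtain ⟨k, hk⟩ := (isOfFinOrder_of_finite (h : P ⧸ N)).mem_powers_iff_mem_zpowers.2 (hh₀ (j : P ⧸ N))
  simp only [← QuotientGroup.mk_pow, QuotientGroup.eq] at hk
  have hkodd : Odd k := by
    refine Nat.not_even_iff_odd.1 fun ⟨r, hr⟩ => ?_
    have hhv : h * v * h⁻¹ = v ∨ h * v * h⁻¹ = v⁻¹ := by
      by_contra hcon
      rw [not_or] at hcon
      exact hcon.2 (pow_four_inverse hvo (hsub4 _ (hN.conj_mem v hvN h)
        ((MulAut.conj h).orderOf_eq v |>.trans hvo)) hcon.1)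
    have h2 : Commute (h * h) v := by
      refine mul_inv_eq_iff_eq_mul.1 ?_
      have e : h * h * v * (h * h)⁻¹ = h * (h * v * h⁻¹) * h⁻¹ := by group
      rw [e]
      rcases hhv with e1 | e1
      · rw [e1, e1]
      · rw [e1, ← conj_inv, e1, inv_inv]
    have hjc : Commute j v := by
      rw [show j = h ^ k * ((h ^ k)⁻¹ * j) by group]
      refine Commute.mul_left ?_ (hNcomm _ hk _ hvN)
      rw [hr, ← two_mul, pow_mul, pow_two]
      exact h2.pow_left r
    have h3 : v ^ 2 = 1 := by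
      rw [pow_two]; refine inv_eq_iff_mul_eq_one.1 ?_
      rw [← hjv, hjc.eq, mul_inv_cancel_right]
    have := Nat.le_of_dvd two_pos (hvo ▸ orderOf_dvd_of_pow_eq_one h3)
    omega
  -- index two
  have hcover : ∀ u : P, u ∈ N ∨ j⁻¹ * u ∈ N := by
    have hh2 : (h : P ⧸ N) ^ 2 = 1 := by
      have h1 : ((h : P ⧸ N) ^ k) ^ 2 = 1 := by
        rw [← QuotientGroup.mk_pow, QuotientGroup.eq.2 hk, ← QuotientGroup.mk_pow, QuotientGroup.eq_one_iff,
          pow_two]
        exact hj2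
      rw [← pow_mul] at h1
      obtain ⟨e, he⟩ := (hP.to_quotient N) (h : P ⧸ N)
      obtain ⟨t, -, ht⟩ := (Nat.dvd_prime_pow Nat.prime_two).1 (orderOf_dvd_of_pow_eq_one he)
      refine orderOf_dvd_iff_pow_eq_one.1 ?_
      have h3 := orderOf_dvd_of_pow_eq_one h1
      rw [ht] at h3 ⊢
      exact (Nat.Coprime.dvd_mul_left ((Nat.coprime_two_left.2 hkodd).pow_left t)).1 h3
    intro u
    obtain ⟨i, hi⟩ := Subgroup.mem_zpowers_iff.1 (hh₀ (u : P ⧸ N))
    have hjh : (j : P ⧸ N) = (h : P ⧸ N) := by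
      obtain ⟨r, hr⟩ := hkodd
      rw [← QuotientGroup.eq.2 hk, QuotientGroup.mk_pow, hr, pow_succ, pow_mul, hh2, one_pow, one_mul]
    rcases Int.even_or_odd i with ⟨r, rfl⟩ | ⟨r, rfl⟩
    · left
      rw [← QuotientGroup.eq_one_iff, ← hi, ← two_mul, zpow_mul, zpow_ofNat, hh2, one_zpow]
    · right
      rw [← QuotientGroup.eq, hjh, ← hi, zpow_add, zpow_mul, zpow_ofNat, hh2, one_zpow, one_mul, zpow_one]
  have hfix : ∀ u ∈ N, Commute u j → u = 1 ∨ u = v ^ 2 := by
    intro u hu huj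
    haveI : Fact (Nat.Prime 2) := ⟨Nat.prime_two⟩
    obtain ⟨e, he⟩ := hP u
    obtain ⟨t, -, ht⟩ := (Nat.dvd_prime_pow Nat.prime_two).1 (orderOf_dvd_of_pow_eq_one he)
    have ht1 : t ≤ 1 := by
      by_contra hlt
      have h4 : orderOf (u ^ 2 ^ (t - 2)) = 4 := by
        rw [orderOf_pow_of_dvd (by positivity) (ht ▸ pow_dvd_pow 2 (Nat.sub_le t 2)), ht,
          Nat.pow_div (Nat.sub_le t 2) two_pos, show t - (t - 2) = 2 by omega]
        norm_num
      have e : Subgroup.zpowers (u ^ 2 ^ (t - 2)) = Subgroup.zpowers v :=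
        Subgroup.eq_of_le_of_card_ge (Subgroup.zpowers_le.2 (hsub4 _ (pow_mem hu _) h4))
          (by rw [Nat.card_zpowers, Nat.card_zpowers, h4, hvo])
      obtain ⟨i, hi⟩ := Subgroup.mem_zpowers_iff.1 (e ▸ Subgroup.mem_zpowers v : v ∈ Subgroup.zpowers (u ^ 2 ^ (t - 2)))
      have hjc : Commute j v := hi ▸ ((huj.symm.pow_right _).zpow_right i)
      have h3 : v ^ 2 = 1 := by
        rw [pow_two]; refine inv_eq_iff_mul_eq_one.1 ?_
        rw [← hjv, hjc.eq, mul_inv_cancel_right]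
      have := Nat.le_of_dvd two_pos (hvo ▸ orderOf_dvd_of_pow_eq_one h3)
      omega
    have hu2 : u ^ 2 = 1 := orderOf_dvd_iff_pow_eq_one.1
      (ht ▸ (pow_dvd_pow 2 ht1).trans (by rw [pow_one]))
    by_cases hu1 : u = 1
    · exact Or.inl hu1
    right
    have ho : orderOf u = 2 := orderOf_eq_prime hu2 hu1
    have hvz : orderOf (v ^ 2) = 2 := by rw [orderOf_pow_of_dvd two_ne_zero (hvo ▸ ⟨2, rfl⟩), hvo]
    obtain ⟨i, hi'⟩ := (isOfFinOrder_of_finite _).mem_powers_iff_mem_zpowers.2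
      (mem_zpowers_of_pow_eq_one (pow_mem hvN 2) hu (by rw [hvz]; exact hu2))
    simp only at hi'
    rw [← pow_mod_orderOf, hvz] at hi'
    rcases Nat.mod_two_eq_zero_or_one i with e' | e' <;> rw [e'] at hi'
    · exact absurd (by rw [← hi', pow_zero]) hu1
    · rw [← hi', pow_one]
  -- conclusion
  have hjz : orderOf j = 4 := by
    refine orderOf_eq_prime_pow (p := 2) (n := 1) ?_ ?_
    · rw [pow_one, pow_two, hz]
      intro e
      have := Nat.le_of_dvd two_pos (hvo ▸ orderOf_dvd_of_pow_eq_one e)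
      omega
    · rw [show 2 ^ (1 + 1) = 2 * 2 by norm_num, pow_mul, pow_two j, hz, ← pow_mul,
        show 2 * 2 = orderOf v by omega]
      exact pow_orderOf_eq_one v
  have hC : Subgroup.centralizer ({j} : Set P) = Subgroup.zpowers j := by
    refine le_antisymm (fun u hu => ?_) (Subgroup.zpowers_le.2 (Subgroup.mem_centralizer_singleton_iff.2 rfl))
    have huj : Commute u j := Subgroup.mem_centralizer_singleton_iff.1 hu
    have hzmem : ∀ w, (w = 1 ∨ w = v ^ 2) → w ∈ Subgroup.zpowers j := by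
      rintro w (rfl | rfl)
      · exact one_mem _
      · rw [← hz]; exact mul_mem (Subgroup.mem_zpowers j) (Subgroup.mem_zpowers j)
    rcases hcover u with hu' | hu'
    · exact hzmem u (hfix u hu' huj)
    · have := mul_mem (Subgroup.mem_zpowers j)
        (hzmem _ (hfix _ hu' ((Commute.refl j).inv_left.mul_left huj)))
      rwa [mul_inv_cancel_left] at this
  refine smallList_of_centralizer hP (x := j) (by rw [hC, Nat.card_zpowers, hjz]) ⟨v, fun e => ?_⟩
  have h3 : v ^ 2 = 1 := by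
    rw [pow_two]; refine inv_eq_iff_mul_eq_one.1 ?_
    rw [← hjv, show j * v = v * j from e.eq.symm, mul_inv_cancel_right]
  have := Nat.le_of_dvd two_pos (hvo ▸ orderOf_dvd_of_pow_eq_one h3)
  omega

/-- No element squaring into a homocyclic subgroup moves it modulo squares. -/
theorem no_outer_homocyclic (hm : Cfsg.IsMetacyclic P) {Q : Subgroup P} {n : ℕ} (hn : 2 ≤ n) {a b : Q}
    (hab : Commute a b) (hform : ∀ q : Q, ∃ i j : ℕ, q = a ^ i * b ^ j)
    (hind : ∀ i j : ℕ, a ^ i * b ^ j = 1 → 2 ^ n ∣ i ∧ 2 ^ n ∣ j)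
    (hexp : a ^ 2 ^ n = 1 ∧ b ^ 2 ^ n = 1)
    {g : P} (hg : ∀ u ∈ Q, g * u * g⁻¹ ∈ Q) (hg2 : g * g ∈ Q) {q : P} (hq : q ∈ Q)
    (hmove : ∀ w ∈ Q, g * q * g⁻¹ * q⁻¹ ≠ w * w) : False := by
  obtain ⟨N, hN, hNc, hPc⟩ := hm
  have hQab : ∀ u ∈ Q, ∀ w ∈ Q, Commute u w := by
    intro u hu w hw
    obtain ⟨i, j, hij⟩ := hform ⟨u, hu⟩
    obtain ⟨i', j', hij'⟩ := hform ⟨w, hw⟩
    have h : Commute (⟨u, hu⟩ : Q) ⟨w, hw⟩ := by
      rw [hij, hij']
      exact ((((Commute.refl a).pow_pow i i').mul_right (hab.pow_pow i j'))).mul_left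
        ((hab.symm.pow_pow j i').mul_right ((Commute.refl b).pow_pow j j'))
    exact congrArg Subtype.val h.eq
  set c := g * q * g⁻¹ * q⁻¹ with hc
  have hcQ : c ∈ Q := mul_mem (hg q hq) (inv_mem hq)
  have hexpQ : ∀ u ∈ Q, u ^ 2 ^ n = 1 := by
    intro u hu
    obtain ⟨i, j, hij⟩ := hform ⟨u, hu⟩
    have h : (⟨u, hu⟩ : Q) ^ 2 ^ n = 1 := by
      rw [hij, (hab.pow_pow i j).mul_pow, ← pow_mul, ← pow_mul, mul_comm i, mul_comm j, pow_mul, pow_mul,
        hexp.1, hexp.2, one_pow, one_pow, one_mul]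
    exact congrArg Subtype.val h
  have hco : c ^ 2 ^ (n - 1) ≠ 1 := by
    intro e
    obtain ⟨i, j, hij⟩ := hform ⟨c, hcQ⟩
    have h : (a ^ i * b ^ j) ^ 2 ^ (n - 1) = 1 := by rw [← hij]; exact Subtype.ext e
    rw [(hab.pow_pow i j).mul_pow, ← pow_mul, ← pow_mul] at h
    obtain ⟨h1, h2⟩ := hind _ _ h
    rw [show 2 ^ n = 2 * 2 ^ (n - 1) by rw [← pow_succ']; congr 1; omega] at h1 h2
    obtain ⟨i', rfl⟩ := Nat.dvd_of_mul_dvd_mul_right (by positivity) h1
    obtain ⟨j', rfl⟩ := Nat.dvd_of_mul_dvd_mul_right (by positivity) h2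
    refine hmove ((a ^ i' * b ^ j' : Q) : P) (SetLike.coe_mem _) ?_
    have h3 : (⟨c, hcQ⟩ : Q) = (a ^ i' * b ^ j') * (a ^ i' * b ^ j') := by
      rw [hij, two_mul, two_mul, pow_add, pow_add, ← pow_two (a ^ i' * b ^ j'), (hab.pow_pow i' j').mul_pow,
        pow_two, pow_two]
    exact congrArg Subtype.val h3
  have hord : orderOf c = 2 ^ n := by
    obtain ⟨t, ht, ht'⟩ := (Nat.dvd_prime_pow Nat.prime_two).1 (orderOf_dvd_of_pow_eq_one (hexpQ c hcQ))
    rw [ht']
    by_contra hne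
    refine hco (orderOf_dvd_iff_pow_eq_one.1 (ht' ▸ pow_dvd_pow 2 ?_))
    rcases ht.lt_or_eq with h | h
    · omega
    · exact absurd (by rw [h]) hne
  have hginv : g * c * g⁻¹ = c⁻¹ := by
    have h2 : g * g * q * (g * g)⁻¹ = q := by rw [(hQab _ hg2 q hq).eq, mul_inv_cancel_right]
    calc g * c * g⁻¹ = (g * g * q * (g * g)⁻¹) * (g * q * g⁻¹)⁻¹ := by rw [hc]; group
      _ = q * (g * q * g⁻¹)⁻¹ := by rw [h2]
      _ = c⁻¹ := by rw [hc]; group
  have hNcomm : ∀ u ∈ N, ∀ w ∈ N, Commute u w := fun u hu w hw =>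
    congrArg Subtype.val ((IsCyclic.isMulCommutative (α := N)).is_comm.comm ⟨u, hu⟩ ⟨w, hw⟩)
  have hcN : c ∈ N := by
    have e : (c : P ⧸ N) = 1 := by
      haveI := hPc
      rw [hc, QuotientGroup.mk_mul, QuotientGroup.mk_mul, QuotientGroup.mk_mul, QuotientGroup.mk_inv,
        QuotientGroup.mk_inv, (IsCyclic.isMulCommutative (α := P ⧸ N)).is_comm.comm (g : P ⧸ N) (q : P ⧸ N),
        mul_inv_cancel_right, mul_inv_cancel]
    exact (QuotientGroup.eq_one_iff c).1 e
  have hout : ∀ w ∈ Q, g * w ∉ N := by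
    intro w hw hmem
    have h1 : Commute (g * w) c := hNcomm _ hmem _ hcN
    have h2 : g * c * g⁻¹ = c := by
      have : (g * w) * c * (g * w)⁻¹ = c := by rw [h1.eq, mul_inv_cancel_right]
      rwa [show (g * w) * c * (g * w)⁻¹ = g * (w * c * w⁻¹) * g⁻¹ by group, (hQab w hw c hcQ).eq,
        mul_inv_cancel_right] at this
    rw [hginv] at h2
    refine hco (orderOf_dvd_iff_pow_eq_one.1 ?_)
    refine (orderOf_dvd_of_pow_eq_one (by rw [pow_two]; exact inv_eq_iff_mul_eq_one.1 h2 : c ^ 2 = 1)).trans ?_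
    exact dvd_pow_self 2 (by omega)
  -- the group `Q ∪ gQ`
  let P' : Subgroup P :=
    { carrier := {u | u ∈ Q ∨ g⁻¹ * u ∈ Q}
      one_mem' := Or.inl (one_mem Q)
      mul_mem' := by
        rintro u w (hu | hu) (hw | hw)
        · exact Or.inl (mul_mem hu hw)
        · right
          have h1 := hg _ (inv_mem (hg2 : g * g ∈ Q))
          have h2 : g⁻¹ * u * g ∈ Q := by
            have := hg _ hu
            have h3 : g⁻¹ * u * g = (g * g)⁻¹ * (g * u * g⁻¹) * (g * g) := by group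
            rw [h3]; exact mul_mem (mul_mem (inv_mem hg2) this) hg2
          rw [show g⁻¹ * (u * w) = g⁻¹ * u * g * (g⁻¹ * w) by group]
          exact mul_mem h2 hw
        · right; rw [← mul_assoc]; exact mul_mem hu hw
        · left
          rw [show u * w = g * (g⁻¹ * u) * g⁻¹ * (g * g) * (g⁻¹ * w) by group]
          exact mul_mem (mul_mem (hg _ hu) hg2) hw
      inv_mem' := by
        rintro u (hu | hu)
        · exact Or.inl (inv_mem hu)
        · right
          rw [show g⁻¹ * u⁻¹ = (g * g)⁻¹ * (g * (g⁻¹ * u)⁻¹ * g⁻¹) by group]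
          exact mul_mem (inv_mem hg2) (hg _ (inv_mem hu)) }
  set f : P' →* P ⧸ N := (QuotientGroup.mk' N).comp P'.subtype
  haveI : IsCyclic f.range := isCyclic_of_injective f.range.subtype f.range.subtype_injective
  obtain ⟨⟨y, ⟨h, rfl⟩⟩, hgen⟩ := IsCyclic.exists_generator (α := f.range)
  have hrep : ∀ u ∈ P', ∃ i : ℤ, ((h : P) ^ i)⁻¹ * u ∈ N := by
    intro u hu
    obtain ⟨i, hi⟩ := Subgroup.mem_zpowers_iff.1 (hgen ⟨f ⟨u, hu⟩, ⟨_, rfl⟩⟩)
    refine ⟨i, ?_⟩
    have h1 : (((h : P) ^ i : P) : P ⧸ N) = (u : P ⧸ N) := by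
      have := congrArg Subtype.val hi
      simpa [f] using this
    exact QuotientGroup.eq.1 h1
  have hgP' : g ∈ P' := Or.inr (by rw [inv_mul_cancel]; exact one_mem Q)
  have hhQ : (h : P) ∉ Q := by
    intro hh
    obtain ⟨i, hi⟩ := hrep g hgP'
    refine hout _ (inv_mem (zpow_mem hh i)) ?_
    have := hN.conj_mem _ hi g
    simpa [mul_assoc] using this
  have hhg : g⁻¹ * (h : P) ∈ Q := h.2.resolve_left hhQ
  have hh2 : (h : P) * h ∈ Q := by
    rw [show (h : P) * h = g * (g⁻¹ * h) * g⁻¹ * (g * g) * (g⁻¹ * h) by group]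
    exact mul_mem (mul_mem (hg _ hhg) hg2) hhg
  obtain ⟨i, hi⟩ := hrep q (Or.inl hq)
  set v := ((h : P) ^ i)⁻¹ * q with hv
  have hev : Even i := by
    rcases Int.even_or_odd i with he | ⟨r, rfl⟩
    · exact he
    exfalso
    have h1 : (h : P) ^ (2 * r) ∈ Q := by rw [zpow_mul, zpow_ofNat, pow_two]; exact zpow_mem hh2 r
    have h2 : (h : P) * v ∈ Q := by
      have : (h : P) * v = ((h : P) ^ (2 * r))⁻¹ * q := by rw [hv]; group
      rw [this]; exact mul_mem (inv_mem h1) hq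
    have h3 : (g⁻¹ * h) * v ∈ P' := by
      refine mul_mem (Or.inl hhg) (mul_mem (inv_mem (zpow_mem h.2 _)) (Or.inl hq))
    rcases mul_mem (inv_mem (Or.inl hhg : g⁻¹ * (h : P) ∈ P')) h3 with hvQ | hvQ <;>
      rw [inv_mul_cancel_left] at hvQ
    · refine hhQ ?_
      have := mul_mem h2 (inv_mem hvQ)
      rwa [mul_inv_cancel_right] at this
    · exact hout (g⁻¹ * v) hvQ (by rw [mul_inv_cancel_left]; exact hi)
  obtain ⟨r, rfl⟩ := hev
  have hhr : (h : P) ^ (r + r) ∈ Q := by rw [← two_mul, zpow_mul, zpow_ofNat, pow_two]; exact zpow_mem hh2 r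
  have hvQ : v ∈ Q := mul_mem (inv_mem hhr) hq
  -- conjugation by `g`
  have hgconj : ∀ u ∈ Q, g * u * g⁻¹ = (h : P) * u * (h : P)⁻¹ := by
    intro u hu
    rw [show (h : P) * u * (h : P)⁻¹ = g * ((g⁻¹ * h) * u * (g⁻¹ * h)⁻¹) * g⁻¹ by group,
      (hQab _ hhg u hu).eq, mul_inv_cancel_right]
  have hvc : v ∈ Subgroup.zpowers c := by
    haveI := hNc
    exact mem_zpowers_of_pow_eq_one hcN hi (by rw [hord]; exact hexpQ v hvQ)
  obtain ⟨l, hl⟩ := Subgroup.mem_zpowers_iff.1 hvc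
  refine hmove (c ^ (-l)) (zpow_mem hcQ _) ?_
  have h1 : g * q * g⁻¹ = (h : P) ^ (r + r) * c ^ (-l) := by
    rw [show q = (h : P) ^ (r + r) * v by rw [hv, mul_inv_cancel_left], ← hl,
      show g * ((h : P) ^ (r + r) * c ^ l) * g⁻¹ = (g * (h : P) ^ (r + r) * g⁻¹) * (g * c ^ l * g⁻¹) by group,
      hgconj _ hhr, show g * c ^ l * g⁻¹ = (g * c * g⁻¹) ^ l from (conj_zpow).symm, hginv, inv_zpow, ← zpow_neg,
      ((Commute.refl (h : P)).zpow_right (r + r)).eq, mul_inv_cancel_right]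
  calc g * q * g⁻¹ * q⁻¹ = ((h : P) ^ (r + r) * c ^ (-l)) * ((h : P) ^ (r + r) * c ^ l)⁻¹ := by
        rw [h1, hl, hv, mul_inv_cancel_left]
    _ = (h : P) ^ (r + r) * (c ^ (-l) * c ^ (-l)) * ((h : P) ^ (r + r))⁻¹ := by group
    _ = c ^ (-l) * c ^ (-l) := by
        rw [(hQab _ hhr _ (mul_mem (zpow_mem hcQ _) (zpow_mem hcQ _))).eq, mul_inv_cancel_right]

end Cfsg.Agent.Lib.PLocal.TwoMetacyclicGroup
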