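import Cfsg.Agent.Lib.Fusion.NormalCriteria
import Cfsg.Agent.Lib.Fusion.Saturation
import Cfsg.Agent.Lib.OddLocal.PStable
import Cfsg.Agent.Lib.PLocal.TwoMetacyclicGroup

/-!
Strongly closed metacyclic subgroups of a `2`-group outside the small list are normal in a saturated fusion
system.
-/

set_option autoImplicit false
set_option linter.unusedSectionVars false
set_option linter.style.haveILetI false

namespace Cfsg.Agent.Lib.PLocal.TwoMetacyclicClosed

open Cfsg Cfsg.FusionSystem Cfsg.Agent.Lib.Fusion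
open TwoMetacyclic TwoMetacyclicGroup

variable {Ω : Type*} [Group Ω] {S : Subgroup Ω} [Finite S]

theorem exists_odd_order {A : Type*} [Group A] [Finite A] (h : ¬ IsPGroup 2 A) :
    ∃ x : A, Odd (orderOf x) ∧ x ≠ 1 := by
  haveI : Fact (Nat.Prime 2) := ⟨Nat.prime_two⟩
  by_contra hcon
  push Not at hcon
  refine h fun x => ?_
  obtain ⟨k, hk⟩ := OddLocal.exists_orderOf_pow_coprime 2 x
  exact ⟨k, hcon _ (Nat.coprime_two_right.1 hk)⟩

theorem isNormal_of_metacyclic (hS : IsPGroup 2 S) {F : FusionSystem S} (hF : F.IsSaturated 2)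
    {P : Subgroup Ω} (hP : F.StronglyClosed P) (hm : Cfsg.IsMetacyclic P) (hlist : ¬ SmallList P) :
    F.IsNormal P := by
  classical
  haveI : Fact (Nat.Prime 2) := ⟨Nat.prime_two⟩
  refine normal_of_stronglyClosed_of_le hS hF hP fun R hR => ?_
  have hPc := hR.1
  have hRS : R ≤ S := hPc.1
  have hPS : P ≤ S := hP.1
  have := finite_of_le hRS
  have := finite_of_le hPS
  have hfinA := finite_mulAut hRS
  have hPn : ∀ s ∈ S, s ∈ Subgroup.normalizer (P : Set Ω) :=
    WeaklyClosed.le_normalizer (StronglyClosed.weaklyClosed hP)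
  let Q : Subgroup R := P.subgroupOf R
  -- invariance
  have hQinv : ∀ α ∈ F.autGroup R, ∀ x ∈ Q, α x ∈ Q := fun α hα x hx =>
    hP.2 (P ⊓ R) inf_le_left _ (restr_mem F (autHom_mem F hRS hα) inf_le_right) ⟨x, hx, x.2⟩
  let res : F.autGroup R →* MulAut Q :=
    { toFun := fun α =>
        { toFun := fun x => ⟨(α : MulAut R) x, hQinv _ α.2 x x.2⟩
          invFun := fun x => ⟨((α⁻¹ : F.autGroup R) : MulAut R) x, hQinv _ (α⁻¹).2 x x.2⟩
          left_inv := fun x => Subtype.ext ((α : MulAut R).symm_apply_apply (x : R))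
          right_inv := fun x => Subtype.ext ((α : MulAut R).apply_symm_apply (x : R))
          map_mul' := fun x y => Subtype.ext (map_mul (α : MulAut R) (x : R) (y : R)) }
      map_one' := MulEquiv.ext fun x => Subtype.ext rfl
      map_mul' := fun α β => MulEquiv.ext fun x => Subtype.ext rfl }
  have hres : ∀ α x, ((res α x : Q) : R) = (α : MulAut R) x := fun α x => rfl
  let M : Subgroup (F.autGroup R) :=
    { carrier := {α | ∀ x : R, x⁻¹ * (α : MulAut R) x ∈ Q}
      one_mem' := fun x => by simp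
      mul_mem' := by
        intro a b ha hb x
        have := mul_mem (hb x) (ha ((b : MulAut R) x))
        rwa [mul_assoc, mul_inv_cancel_left] at this
      inv_mem' := by
        intro a ha x
        have h1 := inv_mem (ha ((a : MulAut R)⁻¹ x))
        rw [show (a : MulAut R) ((a : MulAut R)⁻¹ x) = x from MulEquiv.apply_symm_apply (a : MulAut R) x,
          mul_inv_rev, inv_inv] at h1
        exact h1 }
  have hMn : M.Normal := ⟨fun a ha α x => by
    have h1 := hQinv _ α.2 _ (ha ((α : MulAut R)⁻¹ x))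
    rw [map_mul, map_inv, show (α : MulAut R) ((α : MulAut R)⁻¹ x) = x from
      MulEquiv.apply_symm_apply (α : MulAut R) x] at h1
    exact h1⟩
  have hK : ∀ t ∈ M, res t = 1 → ∃ k : ℕ, t ^ 2 ^ k = 1 := by
    intro t ht hrt
    let W : ℕ → Subgroup R := fun k => if k = 0 then ⊥ else if k = 1 then Q else ⊤
    obtain ⟨u, hu, hue⟩ := stab_mem_pCore (hS.to_le hRS) (F.autGroup R) W 2 (if_pos rfl) rfl
      (fun α hα k x hx => by
        simp only [W] at hx ⊢
        split_ifs at hx ⊢
        · rw [Subgroup.mem_bot] at hx ⊢; rw [hx, map_one]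
        · exact hQinv α hα x hx
        · trivial)
      (β := (t : MulAut R)) t.2 (fun k hk x hx => by
        rcases (show k = 0 ∨ k = 1 by omega) with rfl | rfl
        · show x⁻¹ * (t : MulAut R) x ∈ (⊥ : Subgroup R)
          have h1 : (t : MulAut R) x = x := congrArg Subtype.val (DFunLike.congr_fun hrt ⟨x, hx⟩)
          rw [h1, inv_mul_cancel]; exact one_mem _
        · exact ht x)
    obtain ⟨k, hk⟩ := Cores.pCore_isPGroup 2 (F.autGroup R) ⟨u, hu⟩
    have hk' : u ^ 2 ^ k = 1 := congrArg Subtype.val hk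
    exact ⟨k, by rw [← show u = t from Subtype.ext hue]; exact hk'⟩
  have hcgM : ∀ g (hgP : g ∈ P) (hgN : g ∈ Subgroup.normalizer (R : Set Ω)),
      (⟨conjAut hgN, conjAut_mem_autGroup F hRS (hPS hgP) hgN⟩ : F.autGroup R) ∈ M := fun g hgP hgN x => by
    show (x : Ω)⁻¹ * (g * x * g⁻¹) ∈ P
    have := P.mul_mem (conj_mem_of_mem_normalizer (hPn _ (S.inv_mem (hRS x.2))) hgP) (P.inv_mem hgP)
    rw [inv_inv] at this
    simpa only [mul_assoc] using this
  have hN : ∀ N : Subgroup res.range, N.Normal → IsPGroup 2 N →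
      ∀ g (hgP : g ∈ P) (hgN : g ∈ Subgroup.normalizer (R : Set Ω)),
      res.rangeRestrict ⟨conjAut hgN, conjAut_mem_autGroup F hRS (hPS hgP) hgN⟩ ∈ N → g ∈ R := by
    intro N hNn hNp g hgP hgN hmem
    refine mem_of_conjAut_inn hPc ⟨hPS hgP, hgN⟩ ?_
    rw [← (IsEssential.radical hS hF hR).2]
    have : (M ⊓ N.comap res.rangeRestrict).Normal := inferInstance
    refine ⟨_, le_pCore_of_normal (p := 2) (N := M ⊓ N.comap res.rangeRestrict) ?_ ⟨hcgM g hgP hgN, hmem⟩, rfl⟩
    rintro ⟨t, htM, htN⟩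
    obtain ⟨i, hi⟩ := hNp ⟨_, htN⟩
    have h1 : res (t ^ 2 ^ i) = 1 := by
      rw [map_pow]
      exact congrArg (fun z => ((z : res.range) : MulAut Q)) (congrArg Subtype.val hi :)
    obtain ⟨j, hj⟩ := hK _ (pow_mem htM _) h1
    exact ⟨i + j, Subtype.ext (by rw [SubmonoidClass.coe_pow, pow_add, pow_mul]; exact hj)⟩
  refine le_of_normalizer_le hS hRS hPS (hRS.trans hPn) ?_
  intro g₀ hg₀
  by_contra hg₀R
  obtain ⟨hg₀P, hg₀N⟩ := hg₀
  -- an element squaring into `R`
  obtain ⟨g, hgP, hgN, hgR, hg2⟩ :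
      ∃ g ∈ P, g ∈ Subgroup.normalizer (R : Set Ω) ∧ g ∉ R ∧ g * g ∈ R := by
    obtain ⟨k, hk⟩ := hS ⟨g₀, hPS hg₀P⟩
    have hex : ∃ r, g₀ ^ 2 ^ r ∈ R := ⟨k, by
      rw [show g₀ ^ 2 ^ k = 1 from congrArg Subtype.val hk]; exact one_mem R⟩
    obtain ⟨r, hr⟩ : ∃ r, Nat.find hex = r + 1 := by
      refine ⟨Nat.find hex - 1, (Nat.succ_pred_eq_of_pos ?_).symm⟩
      rw [Nat.find_pos, pow_zero, pow_one]
      exact hg₀R
    refine ⟨g₀ ^ 2 ^ r, pow_mem hg₀P _, pow_mem hg₀N _, Nat.find_min hex (by omega), ?_⟩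
    have := Nat.find_spec hex
    rwa [hr, pow_succ, pow_mul, pow_two] at this
  set cg : res.range := res.rangeRestrict ⟨conjAut hgN, conjAut_mem_autGroup F hRS (hPS hgP) hgN⟩ with hcg
  -- the restriction has an automorphism of odd order
  have hnp : ¬ IsPGroup 2 res.range := fun hp =>
    hgR (hN ⊤ inferInstance (hp.to_subgroup ⊤) g hgP hgN trivial)
  obtain ⟨⟨σ, hσ⟩, hσodd, hσ1⟩ := exists_odd_order hnp
  have hσodd' : Odd (orderOf σ) := by rwa [← Subgroup.orderOf_coe] at hσodd
  let ι : Q →* P :=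
    (R.subtype.comp Q.subtype).codRestrict P fun x => x.2
  have hι : Function.Injective ι := fun x y h => Subtype.ext (Subtype.ext (congrArg (fun v : P => (v : Ω)) h :))
  have hQm : Cfsg.IsMetacyclic Q := isMetacyclic_of_injective ι hι hm
  have hQp : IsPGroup 2 Q := (hS.to_le hRS).to_subgroup Q
  have hPp : IsPGroup 2 P := hS.to_le hPS
  set Q' : Subgroup P := ι.range with hQ'
  have hQ'mem : ∀ u : P, u ∈ Q' ↔ (u : Ω) ∈ R := fun u =>
    ⟨fun ⟨x, hx⟩ => hx ▸ (x : R).2, fun hu => ⟨⟨⟨u, hu⟩, u.2⟩, Subtype.ext rfl⟩⟩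
  let e : Q ≃* Q' := MonoidHom.ofInjective hι
  have hshape := shape_of_odd_aut hQp hQm σ hσodd' (fun h => hσ1 (Subtype.ext h))
  -- some element is moved modulo the Frattini subgroup
  obtain ⟨q, hq⟩ : ∃ q : Q, q⁻¹ * ((cg : MulAut Q) q) ∉ frattini Q := by
    by_contra hcon
    push Not at hcon
    let N : Subgroup res.range :=
      { carrier := {α | ∀ x : Q, x⁻¹ * (α : MulAut Q) x ∈ frattini Q}
        one_mem' := fun x => by simp
        mul_mem' := by
          intro a b ha hb x
          have := mul_mem (hb x) (ha ((b : MulAut Q) x))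
          rwa [mul_assoc, mul_inv_cancel_left] at this
        inv_mem' := by
          intro a ha x
          have h1 := inv_mem (ha ((a : MulAut Q)⁻¹ x))
          rw [show (a : MulAut Q) ((a : MulAut Q)⁻¹ x) = x from MulEquiv.apply_symm_apply (a : MulAut Q) x,
            mul_inv_rev, inv_inv] at h1
          exact h1 }
    have hch : ∀ τ : MulAut Q, ∀ w ∈ frattini Q, τ w ∈ frattini Q := fun τ w hw => by
      rw [← Subgroup.characteristic_iff_comap_eq.1 (inferInstance : (frattini Q).Characteristic) τ] at hw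
      exact hw
    have hNn : N.Normal := ⟨fun a ha α x => by
      have h1 := hch (α : MulAut Q) _ (ha ((α : MulAut Q)⁻¹ x))
      rw [map_mul, map_inv, show (α : MulAut Q) ((α : MulAut Q)⁻¹ x) = x from
        MulEquiv.apply_symm_apply (α : MulAut Q) x] at h1
      exact h1⟩
    have hNp : IsPGroup 2 N := by
      let en := (Finite.equivFin (Q ⧸ frattini Q))
      have hd := PGroups.card_dvd_frattini_pow (fun i => en.symm i)
        (by rw [Equiv.range_eq_univ, Subgroup.closure_univ]) (N.map res.range.subtype) (by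
          rintro _ ⟨α, hα, rfl⟩ x
          have h1 := (inferInstance : (frattini Q).Normal).conj_mem _ (hα x) x
          rwa [mul_inv_cancel_left] at h1)
      rw [Subgroup.card_map_of_injective res.range.subtype_injective] at hd
      obtain ⟨k, hk⟩ := IsPGroup.iff_card.1 (hQp.to_subgroup (frattini Q))
      rw [hk, ← pow_mul] at hd
      obtain ⟨l, -, hl⟩ := (Nat.dvd_prime_pow Nat.prime_two).1 hd
      exact IsPGroup.of_card hl
    exact hgR (hN N hNn hNp g hgP hgN hcon)
  have hcgval : ∀ x : Q, (((cg : MulAut Q) x : Q) : Ω) = g * ((x : R) : Ω) * g⁻¹ := fun x => rfl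
  have hnorm : ∀ u ∈ Q', (⟨g, hgP⟩ : P) * u * (⟨g, hgP⟩ : P)⁻¹ ∈ Q' := fun u hu => by
    rw [hQ'mem] at hu ⊢
    exact conj_mem_of_mem_normalizer hgN hu
  have hg2' : (⟨g, hgP⟩ : P) * ⟨g, hgP⟩ ∈ Q' := (hQ'mem _).2 hg2
  have hmoved : ∀ w ∈ Q', (⟨g, hgP⟩ : P) * ι q * (⟨g, hgP⟩ : P)⁻¹ * (ι q)⁻¹ ≠ w * w := by
    rintro _ ⟨w, rfl⟩ hw
    refine hq ?_
    have h1 : (cg : MulAut Q) q * q⁻¹ = w * w := hι (by
      rw [map_mul, map_mul, map_inv]
      exact (show ι ((cg : MulAut Q) q) = (⟨g, hgP⟩ : P) * ι q * (⟨g, hgP⟩ : P)⁻¹ from Subtype.ext (hcgval q)) ▸ hw)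
    have h2 : (cg : MulAut Q) q * q⁻¹ ∈ frattini Q := by
      rw [h1, ← pow_two]; exact Cores.pow_mem_frattini hQp w
    have h3 := (inferInstance : (frattini Q).Normal).conj_mem _ h2 q⁻¹
    rw [inv_inv] at h3
    simpa [mul_assoc] using h3
  rcases hshape with ⟨n, a, b, hn, hab, hao, hbo, hcard, hform, hind⟩ | ⟨hcard, ⟨a, b, hna⟩, hinv⟩
  · rcases hn.lt_or_eq with hn2 | rfl
    · refine no_outer_homocyclic hm (Q := Q') hn2 (a := e a) (b := e b) (hab.map e) (fun u => ?_)
        (fun i j h => hind i j (e.injective (by rw [map_mul, map_pow, map_pow, h, map_one])))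
        ⟨by rw [← map_pow, ← hao, pow_orderOf_eq_one, map_one], by rw [← map_pow, ← hbo, pow_orderOf_eq_one, map_one]⟩
        hnorm hg2' ⟨q, rfl⟩ hmoved
      obtain ⟨i, j, hij⟩ := hform (e.symm u)
      exact ⟨i, j, by rw [← map_pow, ← map_pow, ← map_mul, ← hij, e.apply_symm_apply]⟩
    · -- a four-group
      have hQ'c : Nat.card Q' = 4 := by rw [← Nat.card_congr e.toEquiv, hcard]; norm_num
      have hQcomm : ∀ x y : Q, Commute x y := fun x y => by
        obtain ⟨i, j, rfl⟩ := hform x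
        obtain ⟨i', j', rfl⟩ := hform y
        exact ((((Commute.refl a).pow_pow i i').mul_right (hab.pow_pow i j'))).mul_left
          ((hab.symm.pow_pow j i').mul_right ((Commute.refl b).pow_pow j j'))
      -- the centralizer of `Q` in `P`
      let C : Subgroup Ω := P ⊓ Subgroup.centralizer ((P ⊓ R : Subgroup Ω) : Set Ω)
      have hCR : C ≤ R := by
        refine le_of_normalizer_le hS hRS (inf_le_left.trans hPS) ?_ ?_
        · refine fun r hr => @mem_normalizer_of_finite _ _ C (finite_of_le (inf_le_left.trans hPS)) r fun c hc => ⟨?_, ?_⟩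
          · exact conj_mem_of_mem_normalizer (hPn _ (hRS hr)) hc.1
          · show r * c * r⁻¹ ∈ Subgroup.centralizer ((P ⊓ R : Subgroup Ω) : Set Ω)
            rw [Subgroup.mem_centralizer_iff]
            intro v hv
            have hv' : r⁻¹ * v * r ∈ P ⊓ R := by
              refine ⟨?_, R.mul_mem (R.mul_mem (R.inv_mem hr) hv.2) hr⟩
              have := conj_mem_of_mem_normalizer (hPn _ (S.inv_mem (hRS hr))) hv.1
              rwa [inv_inv] at this
            have h1 := Subgroup.mem_centralizer_iff.1 hc.2 _ hv'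
            calc v * (r * c * r⁻¹) = r * (r⁻¹ * v * r * c) * r⁻¹ := by group
              _ = r * (c * (r⁻¹ * v * r)) * r⁻¹ := by rw [h1]
              _ = _ := by group
        · rintro c ⟨hc, hcN⟩
          refine hN ⊥ inferInstance (IsPGroup.of_card (n := 0) (by rw [Subgroup.card_bot, pow_zero])) c hc.1 hcN ?_
          rw [Subgroup.mem_bot]
          refine Subtype.ext (MulEquiv.ext fun x => Subtype.ext (Subtype.ext ?_))
          show c * ((x : R) : Ω) * c⁻¹ = ((x : R) : Ω)
          rw [← Subgroup.mem_centralizer_iff.1 hc.2 ((x : R) : Ω) ⟨x.2, (x : R).2⟩, mul_inv_cancel_right]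
      refine hlist (smallList_of_four hPp hQ'c ?_ ?_ (g := ⟨g, hgP⟩) (q := ι q) ⟨q, rfl⟩ ?_)
      · rintro _ ⟨u, rfl⟩ _ ⟨v, rfl⟩
        exact (hQcomm u v).map ι
      · intro u hu
        rw [hQ'mem]
        refine hCR ⟨u.2, Subgroup.mem_centralizer_iff.2 fun v hv => ?_⟩
        exact congrArg Subtype.val (Subgroup.mem_centralizer_iff.1 hu ⟨v, hv.1⟩ ((hQ'mem _).2 hv.2))
      · intro hcomm
        refine hmoved 1 (one_mem _) ?_
        rw [hcomm.eq, mul_inv_cancel_right, mul_inv_cancel, one_mul]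
  · refine hlist (smallList_of_quaternion hPp hm (Q := Q') (by rw [← Nat.card_congr e.toEquiv, hcard])
      ⟨e a, e b, fun h => hna ?_⟩ fun u w hu => ?_)
    · exact e.injective (by rw [map_mul, map_mul]; exact h.eq)
    · have h1 := (hinv (e.symm u) (e.symm w) (by rw [← map_pow, hu, map_one])).map e
      rwa [e.apply_symm_apply, e.apply_symm_apply] at h1

end Cfsg.Agent.Lib.PLocal.TwoMetacyclicClosed
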