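import Cfsg.Agent.Lib.FusionControl.KWeakClosure

/-! Weak closure of central elements from the normalizer of a functor containing the centre: the local reduction. -/

set_option autoImplicit false

universe u

namespace Cfsg.Agent.Lib.PLocal

open Cfsg.Agent.Lib.FusionControl
open scoped commutatorElement

variable {p : ℕ} [Fact p.Prime]

/-- weak closure in the centre from the normalizer of a functor containing the centre; `St` is the stabilizer meant -/
theorem weakClosure_induction_functor {W : ∀ (Q : Type u) [Group Q], Subgroup Q}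
    (hW : Cfsg.IsCharPFunctor.{u} p W)
    (hWZ : ∀ (Q : Type u) [Group Q] [Finite Q], IsPGroup p Q → Subgroup.center Q ≤ W Q)
    (Pred : ∀ (G : Type u) [Group G], Prop)
    (hPred : ∀ (G : Type u) [Group G] (M : Subgroup G), Pred G → Pred M) (k₀ : ℕ) (St : ∀ (G : Type u) [Group G], Subgroup G → Subgroup G)
    (hSt : ∀ (G : Type u) [Group G] (A : Subgroup G), St G A ≤ Subgroup.normalizer (A : Set G))
    (hres : ∀ (G : Type u) [Group G] (M A : Subgroup G), A ≤ M →
      St M (A.subgroupOf M) = (St G A).subgroupOf M)
    (top : ∀ (G : Type u) [Group G] [Finite G] (S : Sylow p G) (A : Subgroup G),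
      Pred G → A ≤ zPow k₀ (S : Subgroup G) → A ≤ Cfsg.pCore p G →
      Subgroup.normalizer ((Cfsg.inducedFunctor W (S : Subgroup G) : Subgroup G) : Set G) ≤ St G A →
      (∀ M : Subgroup G, M ≠ ⊤ → (S : Subgroup G) ≤ M → M ≤ St G A) → St G A = ⊤) :
    ∀ (n : ℕ) (G : Type u) [Group G] [Finite G], Nat.card G = n → Pred G →
    ∀ (S : Sylow p G) (A : Subgroup G), A ≤ zPow k₀ (S : Subgroup G) →
      Subgroup.normalizer ((Cfsg.inducedFunctor W (S : Subgroup G) : Subgroup G) : Set G) ≤ St G A →
      ∀ g : G, cj g A ≤ (S : Subgroup G) → g ∈ St G A := by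
  intro n
  induction n using Nat.strong_induction_on with
  | _ n ih =>
    intro G _ _ hn hP S A hA hK
    have hAZ := hA.trans (zPow_le _)
    have hAS : A ≤ (S : Subgroup G) := hAZ.trans inf_le_left
    have hNS : ∀ x ∈ Subgroup.normalizer ((S : Subgroup G) : Set G), x ∈ St G A := fun x hx =>
      hK (normalizer_le_normalizer_functor (isConjugacyFunctor_inducedFunctor hW) S.2 hx)
    have hcjA : ∀ {x : G}, x ∈ St G A → cj x A = A := fun hx => mem_normalizer_iff_cj.1 (hSt G A hx)
    -- proper subgroups
    have hsub : ∀ (M : Subgroup G), M ≠ ⊤ → ∀ T : Subgroup G, T ≤ M → T ≤ (S : Subgroup G) → ¬ p ∣ T.relIndex M →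
        (S : Subgroup G) ⊓ Subgroup.centralizer ((S : Subgroup G) : Set G) ≤ T →
        M ⊓ Subgroup.normalizer ((Cfsg.inducedFunctor W T : Subgroup G) : Set G) ≤ St G A →
        ∀ x ∈ M, cj x A ≤ T → x ∈ St G A := by
      intro M hne T hTM hTS hTi hZT hN x hx hxA
      have hTp : IsPGroup p T := S.2.to_le hTS
      let TM : Sylow p M := ((hTp.comap_of_injective M.subtype M.subtype_injective :
        IsPGroup p (T.subgroupOf M))).toSylow hTi
      have hTmap : (TM : Subgroup M).map M.subtype = T := by
        show (T.subgroupOf M).map M.subtype = T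
        rw [Subgroup.subgroupOf_map_subtype, inf_eq_left.2 hTM]
      have hAM : A ≤ M := (hAZ.trans hZT).trans hTM
      have hAmap : (A.subgroupOf M).map M.subtype = A := by
        rw [Subgroup.subgroupOf_map_subtype, inf_eq_left.2 hAM]
      have h1 := ih _ (hn ▸ card_lt_of_ne_top hne) M rfl (hPred G M hP) TM (A.subgroupOf M) ?_ ?_ ⟨x, hx⟩ ?_
      · rw [hres G M A hAM, Subgroup.mem_subgroupOf] at h1
        exact h1
      · refine (Subgroup.map_le_map_iff_of_injective M.subtype_injective).1 ?_
        rw [hAmap, MonoidHom.map_closure]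
        refine hA.trans (Subgroup.closure_mono ?_)
        rintro _ ⟨z, hz, rfl⟩
        obtain ⟨hz1, hz2⟩ := Subgroup.mem_inf.1 hz
        refine ⟨⟨z, hTM (hZT hz)⟩ ^ k₀, ⟨⟨z, hTM (hZT hz)⟩, Subgroup.mem_inf.2 ⟨Subgroup.mem_subgroupOf.2 (hZT hz), ?_⟩, rfl⟩, rfl⟩
        rw [Subgroup.mem_centralizer_iff]
        intro t ht
        exact Subtype.ext (Subgroup.mem_centralizer_iff.1 hz2 _ (hTS (Subgroup.mem_subgroupOf.1 ht)))
      · intro y hy
        have h2 : M.subtype y ∈ Subgroup.normalizer ((Cfsg.inducedFunctor W T : Subgroup G) : Set G) := by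
          rw [← hTmap]
          exact mem_normalizer_functor_map (𝓦 := {W}) (by rintro _ rfl; exact hW) _
            M.subtype_injective TM.2 rfl hy
        rw [hres G M A hAM, Subgroup.mem_subgroupOf]
        exact hN (Subgroup.mem_inf.2 ⟨y.2, h2⟩)
      · rintro _ ⟨a, ha, rfl⟩
        exact Subgroup.mem_subgroupOf.2 (hxA ⟨(a : G), Subgroup.mem_subgroupOf.1 ha, rfl⟩)
    suffices main : ∀ j k : ℕ, Nat.card (S : Subgroup G) - k = j →
        (∀ U : Subgroup G, Extr p (S : Subgroup G) U → A ≤ U → k ≤ Nat.card (nS (S : Subgroup G) U) →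
          Subgroup.normalizer (U : Set G) ≤ St G A) ∧
        ∀ B : Subgroup G, A ≤ B → B ≤ (S : Subgroup G) → k ≤ Nat.card B →
          ∀ g, cj g B ≤ (S : Subgroup G) → g ∈ St G A by
      intro g hg
      exact (main _ 0 rfl).2 A le_rfl hAS (Nat.zero_le _) g hg
    intro j
    induction j using Nat.strong_induction_on with
    | _ j ihj =>
      intro k hk
      have eqS : ∀ {B : Subgroup G}, B ≤ (S : Subgroup G) → Nat.card (S : Subgroup G) ≤ Nat.card B →
          B = (S : Subgroup G) := fun hB h => Subgroup.eq_of_le_of_card_ge hB h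
      -- what is known for larger values
      have IHU : ∀ U : Subgroup G, Extr p (S : Subgroup G) U → A ≤ U → k < Nat.card (nS (S : Subgroup G) U) →
          Subgroup.normalizer (U : Set G) ≤ St G A := by
        intro U hU hAU hlt
        have : Nat.card (nS (S : Subgroup G) U) ≤ Nat.card (S : Subgroup G) := Subgroup.card_le_of_le inf_le_left
        exact (ihj _ (show Nat.card (S : Subgroup G) - Nat.card (nS (S : Subgroup G) U) < j by omega) _ rfl).1
          U hU hAU le_rfl
      have IHB : ∀ B : Subgroup G, A ≤ B → B ≤ (S : Subgroup G) → (k < Nat.card B ∨ B = (S : Subgroup G)) →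
          ∀ g, cj g B ≤ (S : Subgroup G) → g ∈ St G A := by
        intro B hAB hB hlt g hg
        by_cases hBS : B = (S : Subgroup G)
        · subst hBS
          exact hNS g (mem_normalizer_of_cj_le hg)
        have := card_lt_of_lt (lt_of_le_of_ne hB hBS)
        exact (ihj _ (show Nat.card (S : Subgroup G) - Nat.card B < j by
          rcases hlt with h | h
          · omega
          · exact absurd h hBS) _ rfl).2 B hAB hB le_rfl g hg
      have hAnS : ∀ {B : Subgroup G}, B ≤ (S : Subgroup G) → A ≤ nS (S : Subgroup G) B := fun hB =>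
        le_inf hAS ((hAZ.trans inf_le_right).trans
          ((Subgroup.centralizer_le hB).trans (Subgroup.centralizer_le_normalizer _)))
      constructor
      · intro U hU hAU hkU
        rcases hkU.lt_or_eq with hlt | heq
        · exact IHU U hU hAU hlt
        set N := Subgroup.normalizer (U : Set G) with hNdef
        set T := nS (S : Subgroup G) U with hT
        have hZT : (S : Subgroup G) ⊓ Subgroup.centralizer ((S : Subgroup G) : Set G) ≤ T :=
          inf_le_inf le_rfl ((Subgroup.centralizer_le hU.1).trans (Subgroup.centralizer_le_normalizer _))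
        have hUT : U ≤ T := le_nS hU.1
        by_cases hNtop : N = ⊤
        · -- `U` is normal
          have hUn : U.Normal := Subgroup.normalizer_eq_top_iff.1 hNtop
          have hAn := top G S A hP hA (hAU.trans (Cfsg.Agent.Lib.Cores.le_pCore hUn (S.2.to_le hU.1))) hK
            (fun M hne hSM x hx => by
              refine hsub M hne (S : Subgroup G) hSM le_rfl (not_dvd_relIndex_of_le S hSM) inf_le_left
                (inf_le_right.trans hK) x hx ?_
              exact (cj_le_cj hAU).trans ((mem_normalizer_iff_cj.1
                (show x ∈ Subgroup.normalizer (U : Set G) by rw [← hNdef, hNtop]; trivial)).le.trans hU.1))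
          rw [hAn]; exact le_top
        intro x hx
        refine hsub N hNtop T inf_le_right inf_le_left hU.2 hZT ?_ x hx
          ((cj_le_cj hAU).trans ((mem_normalizer_iff_cj.1 hx).le.trans hUT))
        by_cases hTS : T = (S : Subgroup G)
        · rw [hTS]; exact inf_le_right.trans hK
        refine inf_le_right.trans ?_
        set KT := Cfsg.inducedFunctor W T with hKT
        have hTp : IsPGroup p T := S.2.to_le inf_le_left
        have hKTT : KT ≤ T := Subgroup.map_subtype_le _
        have hAK : A ≤ KT := by
          intro a ha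
          obtain ⟨ha1, ha2⟩ := Subgroup.mem_inf.1 (hAZ ha)
          refine ⟨⟨a, hZT (hAZ ha)⟩, hWZ _ hTp ?_, rfl⟩
          rw [Subgroup.mem_center_iff]
          intro t
          exact Subtype.ext (Subgroup.mem_centralizer_iff.1 ha2 _ ((inf_le_left : T ≤ (S : Subgroup G)) t.2))
        obtain ⟨h, hh, hext⟩ := exists_extr_cj S (hKTT.trans inf_le_left)
        have h1 : T < nS (S : Subgroup G) T := lt_nS S.2 (lt_of_le_of_ne inf_le_left hTS)
        have h2 : nS (S : Subgroup G) T ≤ nS (S : Subgroup G) KT :=
          inf_le_inf le_rfl (normalizer_le_normalizer_functor (isConjugacyFunctor_inducedFunctor hW) hTp)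
        have h3 := lt_of_lt_of_le (card_lt_of_lt h1) (Subgroup.card_le_of_le h2)
        have hh' : h ∈ St G A := IHB _ (hAnS (hKTT.trans inf_le_left)) inf_le_left (Or.inl (by omega)) h hh
        have h4 := IHU _ hext (by rw [← hcjA hh']; exact cj_le_cj hAK) (by
          have := Subgroup.card_le_of_le (show cj h (nS (S : Subgroup G) KT) ≤ nS (S : Subgroup G) (cj h KT) from
            le_inf hh ((cj_le_cj inf_le_right).trans (cj_normalizer h KT).le))
          rw [card_cj] at this
          omega)
        intro y hy
        have h5 := h4 (show h * y * h⁻¹ ∈ _ from (cj_normalizer h KT).le (conj_mem_cj hy))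
        have := mul_mem (mul_mem (inv_mem hh') h5) hh'
        simpa [mul_assoc] using this
      · intro B hAB hB hkB g hg
        rcases hkB.lt_or_eq with hlt | heq
        · exact IHB B hAB hB (Or.inl hlt) g hg
        by_cases hBS : B = (S : Subgroup G)
        · exact IHB B hAB hB (Or.inr hBS) g hg
        obtain ⟨h, hh, hext⟩ := exists_extr_cj S hg
        obtain ⟨y, hy, hyle, hyB⟩ := exists_adjust S.2 hext (show cj (h * g) B = cj h (cj g B) by rw [cj_cj])
        have hlt := card_lt_nS S.2 (lt_of_le_of_ne hB hBS)
        have h1 : y * (h * g) ∈ St G A :=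
          IHB _ (hAnS hB) inf_le_left (Or.inl (by omega)) _ (hyle.trans inf_le_left)
        have h2 : A ≤ cj h (cj g B) := by rw [← hcjA h1, ← hyB]; exact cj_le_cj hAB
        have h3 := IHU _ hext h2 (by
          have := Subgroup.card_le_of_le hyle
          rw [card_cj] at this
          omega) hy
        have h4 : h * g ∈ St G A := by simpa using mul_mem (inv_mem h3) h1
        have hne' : cj g B ≠ (S : Subgroup G) := fun e => hBS (eqS hB (by rw [← card_cj g B, e]))
        have hlt' := card_lt_nS S.2 (lt_of_le_of_ne hg hne')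
        rw [card_cj] at hlt'
        have h5 : h ∈ St G A := IHB _ (hAnS hg) inf_le_left (Or.inl (by omega)) h hh
        simpa using mul_mem (inv_mem h5) h4



end Cfsg.Agent.Lib.PLocal
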